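import Mathlib

/-!
# Derangements in finite transitive groups

Fixed point counting in cosets, the lemma of Jordan, the subgroup generated by the derangements,
and small tools for transitive and primitive groups.
-/

set_option autoImplicit false
set_option linter.style.haveILetI false

namespace CfsgLib.Derangements.Basic

open MulAction
open scoped Pointwise

variable {G Ω : Type*} [Group G] [MulAction G Ω]

/-- The fixed points of the elements of the coset `g N` of a transitive subgroup `N` are, in total,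
as many as the elements of `N`. -/
theorem sum_fixed_coset [Finite G] [Finite Ω] [Nonempty Ω] (N : Subgroup G) [Fintype N]
    (htr : IsPretransitive N Ω) (g : G) :
    ∑ d : N, Nat.card (fixedBy Ω (g * d)) = Nat.card N := by
  classical
  haveI := htr
  haveI : Fintype Ω := Fintype.ofFinite Ω
  let a : Ω := Classical.arbitrary Ω
  have key : ∀ x : Ω, Nat.card {d : N // (g * d : G) • x = x} = Nat.card (stabilizer N x) := by
    intro x
    obtain ⟨d₀, hd₀⟩ := exists_smul_eq N x (g⁻¹ • x)
    have hd₀' : (d₀ : G) • x = g⁻¹ • x := hd₀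
    refine Nat.card_congr
      { toFun := fun d => ⟨d₀⁻¹ * d.1, ?_⟩
        invFun := fun s => ⟨d₀ * s.1, ?_⟩
        left_inv := fun d => by simp
        right_inv := fun s => by simp }
    · rw [mem_stabilizer_iff, mul_smul, inv_smul_eq_iff]
      change (d.1 : G) • x = (d₀ : G) • x
      rw [hd₀', eq_inv_smul_iff, ← mul_smul]
      exact d.2
    · have hs : (s.1 : G) • x = x := s.2
      rw [Subgroup.coe_mul, mul_smul, mul_smul, hs, hd₀', smul_inv_smul]
  calc ∑ d : N, Nat.card (fixedBy Ω (g * d))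
      = Nat.card (Σ d : N, fixedBy Ω (g * d)) := by rw [Nat.card_sigma]
    _ = Nat.card (Σ x : Ω, {d : N // (g * d : G) • x = x}) := by
        refine Nat.card_congr
          { toFun := fun p => ⟨p.2.1, p.1, p.2.2⟩
            invFun := fun p => ⟨p.2.1, p.1, p.2.2⟩
            left_inv := fun p => rfl
            right_inv := fun p => rfl }
    _ = ∑ x : Ω, Nat.card (stabilizer N x) := by
        rw [Nat.card_sigma]; exact Finset.sum_congr rfl fun x _ => key x
    _ = Fintype.card Ω * Nat.card (stabilizer N a) := by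
        rw [← Finset.card_univ, ← smul_eq_mul, ← Finset.sum_const]
        refine Finset.sum_congr rfl fun x _ => ?_
        obtain ⟨d, hd⟩ := exists_smul_eq N a x
        exact (Nat.card_congr (stabilizerEquivStabilizer (g := d) hd.symm).toEquiv).symm
    _ = Nat.card N := by
        rw [← Nat.card_eq_fintype_card, ← Subgroup.index_mul_card (stabilizer N a),
          index_stabilizer_of_transitive]

/-- Jordan: a transitive group on at least two points has a derangement. -/
theorem exists_derangement [Finite G] [Finite Ω] [Nontrivial Ω] [IsPretransitive G Ω] :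
    ∃ g : G, ∀ x : Ω, g • x ≠ x := by
  classical
  haveI : Fintype G := Fintype.ofFinite G
  haveI : Fintype (⊤ : Subgroup G) := Fintype.ofFinite _
  by_contra hne
  push Not at hne
  have htr : IsPretransitive (⊤ : Subgroup G) Ω :=
    ⟨fun x y => by obtain ⟨g, hg⟩ := exists_smul_eq G x y; exact ⟨⟨g, trivial⟩, hg⟩⟩
  have hs := sum_fixed_coset (⊤ : Subgroup G) htr 1
  rw [Nat.card_eq_fintype_card (α := (⊤ : Subgroup G)), ← Finset.card_univ, Finset.card_eq_sum_ones] at hs
  have h1 : ∀ d ∈ (Finset.univ : Finset (⊤ : Subgroup G)), (1 : ℕ) ≤ Nat.card (fixedBy Ω ((1 : G) * d)) := by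
    intro d _
    obtain ⟨x, hx⟩ := hne (d : G)
    haveI : Nonempty (fixedBy Ω ((1 : G) * d)) := ⟨⟨x, by simpa using hx⟩⟩
    exact Nat.card_pos
  have := (Finset.sum_eq_sum_iff_of_le h1).1 hs.symm 1 (Finset.mem_univ _)
  obtain ⟨x, y, hxy⟩ := exists_pair_ne Ω
  have hsub : Subsingleton (fixedBy Ω ((1 : G) * (1 : (⊤ : Subgroup G)))) :=
    (Nat.card_eq_one_iff_unique.1 this.symm).1
  exact hxy (congrArg Subtype.val (hsub.elim (⟨x, by simp⟩ :
    fixedBy Ω ((1 : G) * (1 : (⊤ : Subgroup G)))) ⟨y, by simp⟩))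

/-- A finite group is not the union of the conjugates of a proper subgroup. -/
theorem exists_notMem_conj {G : Type*} [Group G] [Finite G] {H : Subgroup G} (hH : H ≠ ⊤) :
    ∃ x : G, ∀ g : G, g * x * g⁻¹ ∉ H := by
  haveI : Nontrivial (G ⧸ H) := by
    rw [← Finite.one_lt_card_iff_nontrivial]
    exact Subgroup.one_lt_index_of_ne_top hH
  obtain ⟨x, hx⟩ := exists_derangement (G := G) (Ω := G ⧸ H)
  refine ⟨x, fun g hg => hx ((g⁻¹ : G) : G ⧸ H) ?_⟩
  rw [MulAction.Quotient.smul_coe, smul_eq_mul, QuotientGroup.eq]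
  have := H.inv_mem hg
  simpa [mul_assoc] using this

/-- If `N` is a normal subgroup and every stabilizer in `G` of a point lies in `K`, then the index
of `K` divides the number of points. -/
theorem index_dvd_card [Finite Ω] (K : Subgroup G) (hK : ∀ x : Ω, stabilizer G x ≤ K) :
    K.index ∣ Nat.card Ω := by
  classical
  haveI : Fintype Ω := Fintype.ofFinite Ω
  haveI : Fintype (orbitRel.Quotient G Ω) := Fintype.ofFinite _
  rw [Nat.card_congr (selfEquivSigmaOrbitsQuotientStabilizer G Ω)]
  haveI : ∀ ω : orbitRel.Quotient G Ω, Finite (G ⧸ stabilizer G ω.out) :=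
    fun ω => Finite.of_equiv _ (orbitEquivQuotientStabilizer G ω.out)
  rw [Nat.card_sigma]
  exact Finset.dvd_sum fun ω _ => Subgroup.index_dvd_of_le (hK _)

/-- An element commuting with a transitive set of elements and fixing a point acts trivially. -/
theorem eq_one_of_fixed_of_commute [FaithfulSMul G Ω] (M : Subgroup G) (hM : IsPretransitive M Ω)
    {g : G} (hg : ∀ m ∈ M, g * m = m * g) {a : Ω} (ha : g • a = a) : g = 1 := by
  refine eq_of_smul_eq_smul (α := Ω) fun x => ?_
  obtain ⟨m, rfl⟩ := hM.exists_smul_eq a x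
  rw [one_smul]
  change g • (m : G) • a = (m : G) • a
  rw [← mul_smul, hg m m.2, mul_smul, ha]

/-- A finite nontrivial group has a minimal nontrivial normal subgroup below any such one. -/
theorem exists_minimal_normal {G : Type*} [Group G] [Finite G] {K : Subgroup G} (hK : K.Normal)
    (hK1 : K ≠ ⊥) :
    ∃ N : Subgroup G, N ≤ K ∧ N.Normal ∧ N ≠ ⊥ ∧
      ∀ M : Subgroup G, M.Normal → M ≤ N → M = ⊥ ∨ M = N := by
  obtain ⟨N, hNK, hN⟩ := exists_minimal_le_of_wellFoundedLT
    (fun N : Subgroup G => N.Normal ∧ N ≠ ⊥) K ⟨hK, hK1⟩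
  exact ⟨N, hNK, hN.prop.1, hN.prop.2, fun M hMn hMN =>
    or_iff_not_imp_left.2 fun h => le_antisymm hMN (hN.2 ⟨hMn, h⟩ hMN)⟩

/-- Nontrivial normal subgroups of faithful primitive groups are transitive. -/
theorem normal_transitive [FaithfulSMul G Ω] [IsPreprimitive G Ω] (N : Subgroup G) (hN : N.Normal)
    (hN1 : N ≠ ⊥) : IsPretransitive N Ω := by
  haveI := hN
  apply IsQuasiPreprimitive.isPretransitive_of_normal (G := G)
  intro hfix
  apply hN1
  rw [Subgroup.eq_bot_iff_forall]
  intro g hg
  refine eq_of_smul_eq_smul (α := Ω) fun x => ?_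
  rw [one_smul]
  have : x ∈ fixedPoints N Ω := by rw [hfix]; trivial
  exact this ⟨g, hg⟩

/-- Prime exponent of a minimal normal abelian subgroup. -/
theorem exists_prime_pow_eq_one {G : Type*} [Group G] [Finite G] {N : Subgroup G} (hN : N.Normal)
    (hN1 : N ≠ ⊥) (hab : IsMulCommutative N)
    (hmin : ∀ M : Subgroup G, M.Normal → M ≤ N → M = ⊥ ∨ M = N) :
    ∃ p : ℕ, p.Prime ∧ ∀ x ∈ N, x ^ p = 1 := by
  obtain ⟨p, hp, hdvd⟩ := Nat.exists_prime_and_dvd
    (n := Nat.card N) (fun h => hN1 ((Subgroup.card_eq_one).1 h))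
  haveI := Fact.mk hp
  obtain ⟨⟨x, hx⟩, hxp⟩ := exists_prime_orderOf_dvd_card' (G := N) p hdvd
  haveI := hab
  let P : Subgroup G :=
    { carrier := {y | y ∈ N ∧ y ^ p = 1}
      one_mem' := ⟨N.one_mem, one_pow p⟩
      mul_mem' := by
        rintro y z ⟨hy, hy'⟩ ⟨hz, hz'⟩
        refine ⟨N.mul_mem hy hz, ?_⟩
        have hc : Commute y z := congrArg Subtype.val (mul_comm' (⟨y, hy⟩ : N) ⟨z, hz⟩)
        rw [hc.mul_pow, hy', hz', one_mul]
      inv_mem' := by
        rintro y ⟨hy, hy'⟩
        exact ⟨N.inv_mem hy, by rw [inv_pow, hy', inv_one]⟩ }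
  have hPn : P.Normal := ⟨fun y hy g => ⟨hN.conj_mem y hy.1 g, by rw [conj_pow, hy.2, mul_one, mul_inv_cancel]⟩⟩
  refine ⟨p, hp, ?_⟩
  rcases hmin P hPn fun y hy => hy.1 with h | h
  · exfalso
    have : x ∈ P := ⟨hx, by
      have := pow_orderOf_eq_one (⟨x, hx⟩ : N)
      rw [hxp] at this
      exact congrArg Subtype.val this⟩
    rw [h, Subgroup.mem_bot] at this
    subst this
    have h1 : orderOf (⟨1, hx⟩ : N) = 1 := orderOf_one
    rw [h1] at hxp
    exact hp.one_lt.ne hxp
  · intro y hy
    rw [← h] at hy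
    exact hy.2

section DerangementSubgroup

variable (G Ω) in
/-- The subgroup generated by the derangements. -/
abbrev derSubgroup : Subgroup G := Subgroup.closure {g : G | ∀ ω : Ω, g • ω ≠ ω}

theorem derSubgroup_normal : (derSubgroup G Ω).Normal := by
  refine ⟨fun x hx g => ?_⟩
  induction hx using Subgroup.closure_induction with
  | mem x hx =>
    refine Subgroup.subset_closure fun ω h => hx (g⁻¹ • ω) ?_
    rw [mul_smul, mul_smul, smul_eq_iff_eq_inv_smul] at h
    exact h
  | one => simp
  | mul x y _ _ hx hy => rw [show g * (x * y) * g⁻¹ = g * x * g⁻¹ * (g * y * g⁻¹) by group]; exact mul_mem hx hy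
  | inv x _ hx => rw [show g * x⁻¹ * g⁻¹ = (g * x * g⁻¹)⁻¹ by group]; exact inv_mem hx

theorem derSubgroup_transitive [Finite G] [Finite Ω] [IsPretransitive G Ω] :
    IsPretransitive (derSubgroup G Ω) Ω := by
  classical
  haveI := derSubgroup_normal (G := G) (Ω := Ω)
  set D := derSubgroup G Ω
  refine ⟨fun x y => ?_⟩
  by_contra hne
  set B := orbit D x with hB
  have hblock : IsBlock G B := IsBlock.orbit_of_normal x
  -- the action of `G` on the translates of `B`
  have hy : y ∉ B := fun ⟨d, hd⟩ => hne ⟨d, hd⟩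
  let S := orbit G B
  haveI : Nontrivial S := by
    obtain ⟨g, hg⟩ := exists_smul_eq G x y
    refine ⟨⟨B, mem_orbit_self _⟩, ⟨g • B, mem_orbit _ _⟩, fun h => hy ?_⟩
    rw [show B = g • B from congrArg Subtype.val h, ← hg]
    exact Set.smul_mem_smul_set (mem_orbit_self x)
  haveI : Finite S := Finite.of_surjective (fun g : G => (⟨g • B, mem_orbit B g⟩ : S))
    (fun ⟨_, g, hg⟩ => ⟨g, Subtype.ext hg⟩)
  obtain ⟨g, hg⟩ := exists_derangement (G := G) (Ω := S)
  have hgD : g ∈ D := Subgroup.subset_closure fun ω hω => by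
    obtain ⟨h, rfl⟩ := exists_smul_eq G x ω
    apply hg ⟨h • B, mem_orbit B h⟩
    apply Subtype.ext
    change g • h • B = h • B
    rcases hblock.smul_eq_smul_or_disjoint (g₁ := g * h) (g₂ := h) with h1 | h1
    · rwa [mul_smul] at h1
    · exfalso
      refine Set.disjoint_left.1 h1 (Set.smul_mem_smul_set (mem_orbit_self x)) ?_
      rw [mul_smul, hω]
      exact Set.smul_mem_smul_set (mem_orbit_self x)
  apply hg ⟨B, mem_orbit_self _⟩
  apply Subtype.ext
  change g • B = B
  rw [hB]
  exact MulAction.smul_orbit (⟨g, hgD⟩ : D) x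

/-- Outside the subgroup generated by the derangements every element fixes exactly one point. -/
theorem card_fixedBy_eq_one [Finite G] [Finite Ω] [IsPretransitive G Ω] [Nonempty Ω]
    (N : Subgroup G) [N.Normal] (hN : derSubgroup G Ω ≤ N) {g : G} (hg : g ∉ N) :
    Nat.card (fixedBy Ω g) = 1 := by
  classical
  haveI : Fintype N := Fintype.ofFinite N
  have htrD := derSubgroup_transitive (G := G) (Ω := Ω)
  have htr : IsPretransitive N Ω := ⟨fun x y => by
    obtain ⟨d, hd⟩ := htrD.exists_smul_eq x y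
    exact ⟨⟨d, hN d.2⟩, hd⟩⟩
  have hs := sum_fixed_coset N htr g
  rw [Nat.card_eq_fintype_card (α := N), ← Finset.card_univ, Finset.card_eq_sum_ones] at hs
  have h1 : ∀ d ∈ (Finset.univ : Finset N), (1 : ℕ) ≤ Nat.card (fixedBy Ω (g * d)) := by
    intro d _
    by_contra h0
    have h0' : ∀ ω : Ω, (g * d) • ω ≠ ω := fun ω hω => by
      haveI : Nonempty (fixedBy Ω (g * d)) := ⟨⟨ω, hω⟩⟩
      exact h0 Nat.card_pos
    exact hg ((Subgroup.mul_mem_cancel_right N d.2).1 (hN (Subgroup.subset_closure h0')))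
  have := (Finset.sum_eq_sum_iff_of_le h1).1 hs.symm 1 (Finset.mem_univ _)
  rw [Subgroup.coe_one, mul_one] at this
  exact this.symm

theorem index_subgroupOf_stabilizer (N : Subgroup G) [N.Normal] (hN : IsPretransitive N Ω) (a : Ω) :
    (N.subgroupOf (stabilizer G a)).index = N.index := by
  have htop : stabilizer G a ⊔ N = ⊤ := by
    rw [eq_top_iff]
    intro g _
    obtain ⟨d, hd⟩ := hN.exists_smul_eq a (g • a)
    have hd' : (d : G) • a = g • a := hd
    have h1 : (d : G)⁻¹ * g ∈ stabilizer G a := by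
      rw [mem_stabilizer_iff, mul_smul, ← hd', inv_smul_smul]
    have := mul_mem (Subgroup.mem_sup_right (S := stabilizer G a) d.2)
      (Subgroup.mem_sup_left (T := N) h1)
    rwa [mul_inv_cancel_left] at this
  rw [← Subgroup.relIndex_top_right N, ← htop, Subgroup.relIndex_sup_right]
  rfl

/-- The index of the subgroup generated by the derangements divides the size of every finite set on
which a point stabilizer acts with all stabilizers inside that subgroup. -/
theorem index_derSubgroup_dvd [Finite G] [Finite Ω] [IsPretransitive G Ω] (a : Ω)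
    {X : Type*} [Finite X] [MulAction (stabilizer G a) X]
    (hX : ∀ (x : X) (g : stabilizer G a), g • x = x → (g : G) ∈ derSubgroup G Ω) :
    (derSubgroup G Ω).index ∣ Nat.card X := by
  haveI := derSubgroup_normal (G := G) (Ω := Ω)
  rw [← index_subgroupOf_stabilizer (derSubgroup G Ω) derSubgroup_transitive a]
  exact index_dvd_card _ fun x g hg => hX x g hg

theorem mem_derSubgroup_of_fixed_two [Finite G] [Finite Ω] [IsPretransitive G Ω] {a b : Ω}
    (hab : a ≠ b) {g : G} (ha : g • a = a) (hb : g • b = b) : g ∈ derSubgroup G Ω := by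
  by_contra hg
  haveI := derSubgroup_normal (G := G) (Ω := Ω)
  haveI : Nonempty Ω := ⟨a⟩
  haveI := (Nat.card_eq_one_iff_unique.1 (card_fixedBy_eq_one (derSubgroup G Ω) le_rfl hg)).1
  exact hab (congrArg Subtype.val (Subsingleton.elim (⟨a, ha⟩ : fixedBy Ω g) ⟨b, hb⟩))

theorem index_derSubgroup_dvd_card_sub_one [Finite G] [Finite Ω] [IsPretransitive G Ω] [Nonempty Ω] :
    (derSubgroup G Ω).index ∣ Nat.card Ω - 1 := by
  classical
  let a : Ω := Classical.arbitrary Ω
  have hdvd := index_derSubgroup_dvd (G := G) a (X := SubMulAction.ofStabilizer G a) fun x g hg =>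
    mem_derSubgroup_of_fixed_two (b := (x : Ω)) (Ne.symm x.2) g.2 (by
      have h1 := congrArg Subtype.val hg
      exact h1)
  have h : Nat.card (SubMulAction.ofStabilizer G a) = Nat.card Ω - 1 :=
    (SubMulAction.nat_card_ofStabilizer_eq G a).trans rfl
  rwa [h] at hdvd

end DerangementSubgroup

end CfsgLib.Derangements.Basic
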