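import Mathlib

/-!
The plane configurations behind the exceptional characters for an elementary subgroup of
order nine.
-/

set_option autoImplicit false

namespace CfsgLib.NineArith

/-- A constituent: degree and the two character sums. -/
structure Pt where
  d : ℝ
  k : ℝ
  l : ℝ

/-- Difference of the normalised first sums. -/
noncomputable def dK (p q : Pt) : ℝ := p.k / p.d - q.k / q.d

/-- Difference of the normalised second sums. -/
noncomputable def dL (p q : Pt) : ℝ := p.l / p.d - q.l / q.d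

/-- The equations given by one function with four constituents. -/
structure Row (A B C g : ℝ) (p q r s : Pt) : Prop where
  hp : p.d ≠ 0
  hq : q.d ≠ 0
  hr : r.d ≠ 0
  hs : s.d ≠ 0
  sd : p.d + q.d + r.d + s.d = 0
  sk : p.k + q.k + r.k + s.k = 0
  sl : p.l + q.l + r.l + s.l = 0
  kk : p.k ^ 2 / p.d + q.k ^ 2 / q.d + r.k ^ 2 / r.d + s.k ^ 2 / s.d = A * g
  kl : p.k * p.l / p.d + q.k * q.l / q.d + r.k * r.l / r.d + s.k * s.l / s.d = B * g
  ll : p.l ^ 2 / p.d + q.l ^ 2 / q.d + r.l ^ 2 / r.d + s.l ^ 2 / s.d = C * g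

variable {A B C g : ℝ} {p q r s : Pt}

theorem Row.swap12 (h : Row A B C g p q r s) : Row A B C g q p r s := by
  obtain ⟨hp, hq, hr, hs, sd, sk, sl, kk, kl, ll⟩ := h
  exact ⟨hq, hp, hr, hs, by linarith, by linarith, by linarith, by linarith, by linarith,
    by linarith⟩

theorem Row.swap23 (h : Row A B C g p q r s) : Row A B C g p r q s := by
  obtain ⟨hp, hq, hr, hs, sd, sk, sl, kk, kl, ll⟩ := h
  exact ⟨hp, hr, hq, hs, by linarith, by linarith, by linarith, by linarith, by linarith,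
    by linarith⟩

theorem Row.swap34 (h : Row A B C g p q r s) : Row A B C g p q s r := by
  obtain ⟨hp, hq, hr, hs, sd, sk, sl, kk, kl, ll⟩ := h
  exact ⟨hp, hq, hs, hr, by linarith, by linarith, by linarith, by linarith, by linarith,
    by linarith⟩

theorem plane (h : Row A B C g p q r s) (hg : g ≠ 0) :
    (C * dK p q ^ 2 - 2 * B * (dK p q * dL p q) + A * dL p q ^ 2 =
        (A * C - B ^ 2) * g * (1 / p.d + 1 / q.d)) ∧
      (C * (dK p q * dK r s) - B * (dK p q * dL r s + dK r s * dL p q) + A * (dL p q * dL r s) =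
        0) ∧
      (C * (dK p s * dK q s) - B * (dK p s * dL q s + dK q s * dL p s) + A * (dL p s * dL q s) =
        (A * C - B ^ 2) * g * (1 / s.d)) := by
  obtain ⟨hp, hq, hr, hs, sd, sk, sl, kk, kl, ll⟩ := h
  obtain ⟨dp, kp, lp⟩ := p
  obtain ⟨dq, kq, lq⟩ := q
  obtain ⟨dr, kr, lr⟩ := r
  obtain ⟨ds, ks, ls⟩ := s
  simp only [dK, dL] at hp hq hr hs sd sk sl kk kl ll ⊢
  obtain rfl : ds = -(dp + dq + dr) := by linarith
  obtain rfl : ks = -(kp + kq + kr) := by linarith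
  obtain rfl : ls = -(lp + lq + lr) := by linarith
  have hsum : dp + dq + dr ≠ 0 := fun h => hs (by rw [h, neg_zero])
  refine ⟨?_, ?_, ?_⟩ <;> apply mul_left_cancel₀ hg
  · calc g * (C * (kp / dp - kq / dq) ^ 2 - 2 * B * ((kp / dp - kq / dq) * (lp / dp - lq / dq)) +
          A * (lp / dp - lq / dq) ^ 2)
        = C * g * (kp / dp - kq / dq) ^ 2 - 2 * (B * g) * ((kp / dp - kq / dq) * (lp / dp - lq / dq)) +
          A * g * (lp / dp - lq / dq) ^ 2 := by ring
      _ = (A * g * (C * g) - (B * g) ^ 2) * (1 / dp + 1 / dq) := by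
        rw [← kk, ← kl, ← ll]; field_simp; ring
      _ = _ := by ring
  · calc g * (C * ((kp / dp - kq / dq) * (kr / dr - -(kp + kq + kr) / -(dp + dq + dr))) -
          B * ((kp / dp - kq / dq) * (lr / dr - -(lp + lq + lr) / -(dp + dq + dr)) +
            (kr / dr - -(kp + kq + kr) / -(dp + dq + dr)) * (lp / dp - lq / dq)) +
          A * ((lp / dp - lq / dq) * (lr / dr - -(lp + lq + lr) / -(dp + dq + dr))))
        = C * g * ((kp / dp - kq / dq) * (kr / dr - -(kp + kq + kr) / -(dp + dq + dr))) -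
          B * g * ((kp / dp - kq / dq) * (lr / dr - -(lp + lq + lr) / -(dp + dq + dr)) +
            (kr / dr - -(kp + kq + kr) / -(dp + dq + dr)) * (lp / dp - lq / dq)) +
          A * g * ((lp / dp - lq / dq) * (lr / dr - -(lp + lq + lr) / -(dp + dq + dr))) := by ring
      _ = g * 0 := by
        rw [← kk, ← kl, ← ll]; field_simp; ring
  · calc g * (C * ((kp / dp - -(kp + kq + kr) / -(dp + dq + dr)) *
            (kq / dq - -(kp + kq + kr) / -(dp + dq + dr))) -
          B * ((kp / dp - -(kp + kq + kr) / -(dp + dq + dr)) *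
              (lq / dq - -(lp + lq + lr) / -(dp + dq + dr)) +
            (kq / dq - -(kp + kq + kr) / -(dp + dq + dr)) *
              (lp / dp - -(lp + lq + lr) / -(dp + dq + dr))) +
          A * ((lp / dp - -(lp + lq + lr) / -(dp + dq + dr)) *
            (lq / dq - -(lp + lq + lr) / -(dp + dq + dr))))
        = C * g * ((kp / dp - -(kp + kq + kr) / -(dp + dq + dr)) *
            (kq / dq - -(kp + kq + kr) / -(dp + dq + dr))) -
          B * g * ((kp / dp - -(kp + kq + kr) / -(dp + dq + dr)) *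
              (lq / dq - -(lp + lq + lr) / -(dp + dq + dr)) +
            (kq / dq - -(kp + kq + kr) / -(dp + dq + dr)) *
              (lp / dp - -(lp + lq + lr) / -(dp + dq + dr))) +
          A * g * ((lp / dp - -(lp + lq + lr) / -(dp + dq + dr)) *
            (lq / dq - -(lp + lq + lr) / -(dp + dq + dr))) := by ring
      _ = (A * g * (C * g) - (B * g) ^ 2) * (1 / -(dp + dq + dr)) := by
        rw [← kk, ← kl, ← ll]; field_simp; ring
      _ = _ := by ring

/-- The four rows. -/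
abbrev R1 (g : ℝ) := Row 8 0 1 g
abbrev R2 (g : ℝ) := Row (11 / 2) (3 / 2) (1 / 2) g
abbrev R3 (g : ℝ) := Row 2 0 1 g
abbrev R4 (g : ℝ) := Row (11 / 2) (-(3 / 2)) (1 / 2) g

variable {r' s' r'' s'' : Pt}

theorem ne_zero_of_pair {K L X a c : ℝ} (hX : X ≠ 0) (ha : a ≠ 0) (hc : c ≠ 0)
    (h : K ^ 2 + a * L ^ 2 = c * X) (h0 : L = 0 → K = 0) : L ≠ 0 := by
  intro hL
  rw [hL, h0 hL] at h
  exact mul_ne_zero hc hX (by linear_combination -h)

theorem pair12 (h1 : R1 g p q r s) (h2 : R2 g p q r' s') (hg : g ≠ 0)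
    (hX : 1 / p.d + 1 / q.d ≠ 0) :
    dL p q ≠ 0 ∧ (dK p q = 4 * dL p q ∨ dK p q = 20 / 7 * dL p q) := by
  have a1 := (plane h1 hg).1
  have a2 := (plane h2 hg).1
  have h : (dK p q - 4 * dL p q) * (7 * dK p q - 20 * dL p q) = 0 := by
    linear_combination -a1 + 16 * a2
  have hor : dK p q = 4 * dL p q ∨ dK p q = 20 / 7 * dL p q := by
    rcases mul_eq_zero.mp h with h | h
    · exact Or.inl (by linarith)
    · exact Or.inr (by linarith)
  refine ⟨ne_zero_of_pair (c := 8 * g) hX (by norm_num : (8 : ℝ) ≠ 0) (mul_ne_zero (by norm_num) hg)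
    (K := dK p q) (by linear_combination a1) fun hL => ?_, hor⟩
  rw [hL] at hor
  simpa using hor

theorem pair14 (h1 : R1 g p q r s) (h4 : R4 g p q r' s') (hg : g ≠ 0)
    (hX : 1 / p.d + 1 / q.d ≠ 0) :
    dL p q ≠ 0 ∧ (dK p q = -4 * dL p q ∨ dK p q = -20 / 7 * dL p q) := by
  have a1 := (plane h1 hg).1
  have a2 := (plane h4 hg).1
  have h : (dK p q + 4 * dL p q) * (7 * dK p q + 20 * dL p q) = 0 := by
    linear_combination -a1 + 16 * a2
  have hor : dK p q = -4 * dL p q ∨ dK p q = -20 / 7 * dL p q := by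
    rcases mul_eq_zero.mp h with h | h
    · exact Or.inl (by linarith)
    · exact Or.inr (by linarith)
  refine ⟨ne_zero_of_pair (c := 8 * g) hX (by norm_num : (8 : ℝ) ≠ 0) (mul_ne_zero (by norm_num) hg)
    (K := dK p q) (by linear_combination a1) fun hL => ?_, hor⟩
  rw [hL] at hor
  simpa using hor

theorem pair23 (h2 : R2 g p q r s) (h3 : R3 g p q r' s') (hg : g ≠ 0)
    (hX : 1 / p.d + 1 / q.d ≠ 0) :
    dL p q ≠ 0 ∧ (dK p q = 2 * dL p q ∨ dK p q = 10 * dL p q) := by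
  have a1 := (plane h2 hg).1
  have a2 := (plane h3 hg).1
  have h : (dK p q - 2 * dL p q) * (dK p q - 10 * dL p q) = 0 := by
    linear_combination 4 * a1 - a2
  have hor : dK p q = 2 * dL p q ∨ dK p q = 10 * dL p q := by
    rcases mul_eq_zero.mp h with h | h
    · exact Or.inl (by linarith)
    · exact Or.inr (by linarith)
  refine ⟨ne_zero_of_pair (c := 2 * g) hX (by norm_num : (2 : ℝ) ≠ 0) (mul_ne_zero (by norm_num) hg)
    (K := dK p q) (by linear_combination a2) fun hL => ?_, hor⟩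
  rw [hL] at hor
  simpa using hor

theorem pair34 (h3 : R3 g p q r s) (h4 : R4 g p q r' s') (hg : g ≠ 0)
    (hX : 1 / p.d + 1 / q.d ≠ 0) :
    dL p q ≠ 0 ∧ (dK p q = -2 * dL p q ∨ dK p q = -10 * dL p q) := by
  have a1 := (plane h4 hg).1
  have a2 := (plane h3 hg).1
  have h : (dK p q + 2 * dL p q) * (dK p q + 10 * dL p q) = 0 := by
    linear_combination 4 * a1 - a2
  have hor : dK p q = -2 * dL p q ∨ dK p q = -10 * dL p q := by
    rcases mul_eq_zero.mp h with h | h
    · exact Or.inl (by linarith)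
    · exact Or.inr (by linarith)
  refine ⟨ne_zero_of_pair (c := 2 * g) hX (by norm_num : (2 : ℝ) ≠ 0) (mul_ne_zero (by norm_num) hg)
    (K := dK p q) (by linear_combination a2) fun hL => ?_, hor⟩
  rw [hL] at hor
  simpa using hor

theorem not_disjoint1 (h1 : R1 g p q r s) (h2 : R2 g p q r' s') (h4 : R4 g r s r'' s'')
    (hg : g ≠ 0) (hX : 1 / p.d + 1 / q.d ≠ 0) (hY : 1 / r.d + 1 / s.d ≠ 0) : False := by
  obtain ⟨l1, o1⟩ := pair12 h1 h2 hg hX
  have h1' : R1 g r s p q := h1.swap23.swap12.swap34.swap23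
  obtain ⟨l2, o2⟩ := pair14 h1' h4 hg hY
  have e := (plane h1 hg).2.1
  rcases o1 with a | a <;> rcases o2 with b | b <;> rw [a, b] at e <;>
    exact mul_ne_zero l1 l2 (by linarith)

theorem not_disjoint3 (h2 : R2 g p q r' s') (h3 : R3 g p q r s) (h4 : R4 g r s r'' s'')
    (hg : g ≠ 0) (hX : 1 / p.d + 1 / q.d ≠ 0) (hY : 1 / r.d + 1 / s.d ≠ 0) : False := by
  obtain ⟨l1, o1⟩ := pair23 h2 h3 hg hX
  have h3' : R3 g r s p q := h3.swap23.swap12.swap34.swap23
  obtain ⟨l2, o2⟩ := pair34 h3' h4 hg hY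
  have e := (plane h3 hg).2.1
  rcases o1 with a | a <;> rcases o2 with b | b <;> rw [a, b] at e <;>
    exact mul_ne_zero l1 l2 (by linarith)

theorem not_common134 {a b c d : Pt} (h1 : R1 g p q r s) (h3 : R3 g p q r' s')
    (h4 : R4 g p q a b) (hg : g ≠ 0) (hX : 1 / p.d + 1 / q.d ≠ 0) : False := by
  obtain ⟨l1, o1⟩ := pair14 h1 h4 hg hX
  obtain ⟨-, o2⟩ := pair34 h3 h4 hg hX
  rcases o1 with u | u <;> rcases o2 with v | v <;> exact l1 (by linarith)

theorem not_common234 {a b : Pt} (h2 : R2 g p q r s) (h3 : R3 g p q r' s')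
    (h4 : R4 g p q a b) (hg : g ≠ 0) (hX : 1 / p.d + 1 / q.d ≠ 0) : False := by
  obtain ⟨l1, o1⟩ := pair23 h2 h3 hg hX
  obtain ⟨-, o2⟩ := pair34 h3 h4 hg hX
  rcases o1 with u | u <;> rcases o2 with v | v <;> exact l1 (by linarith)

theorem adj_ratio {a c e K L M N : ℝ} (hg : g ≠ 0) (hKL : L ≠ 0) (hMN : N ≠ 0) (he : e ≠ 0)
    (ha : a ≠ 0) (hc : c ≠ 0) (hA : A * C - B ^ 2 ≠ 0) (x y : ℝ) (hK : K = x * L) (hM : M = y * N)
    (n1 : C * K ^ 2 - 2 * B * (K * L) + A * L ^ 2 = (A * C - B ^ 2) * g * (1 / a + 1 / e))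
    (n2 : C * M ^ 2 - 2 * B * (M * N) + A * N ^ 2 = (A * C - B ^ 2) * g * (1 / c + 1 / e))
    (n3 : C * (K * M) - B * (K * N + M * L) + A * (L * N) = (A * C - B ^ 2) * g * (1 / e)) :
    (C * (x * y) - B * (x + y) + A) ^ 2 * ((a + e) * (c + e)) =
      (C * x ^ 2 - 2 * B * x + A) * (C * y ^ 2 - 2 * B * y + A) * (a * c) := by
  subst hK hM
  obtain ⟨D, hD⟩ : ∃ D, D = (A * C - B ^ 2) * g := ⟨_, rfl⟩
  rw [← hD] at n1 n2 n3
  have hD0 : D ≠ 0 := hD ▸ mul_ne_zero hA hg
  have m1 : (C * x ^ 2 - 2 * B * x + A) * L ^ 2 * (a * e) = D * (a + e) := by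
    calc _ = (C * (x * L) ^ 2 - 2 * B * (x * L * L) + A * L ^ 2) * (a * e) := by ring
      _ = _ := by rw [n1]; field_simp; ring
  have m2 : (C * y ^ 2 - 2 * B * y + A) * N ^ 2 * (c * e) = D * (c + e) := by
    calc _ = (C * (y * N) ^ 2 - 2 * B * (y * N * N) + A * N ^ 2) * (c * e) := by ring
      _ = _ := by rw [n2]; field_simp; ring
  have m3 : (C * (x * y) - B * (x + y) + A) * (L * N) * e = D := by
    calc _ = (C * (x * L * (y * N)) - B * (x * L * N + y * N * L) + A * (L * N)) * e := by ring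
      _ = _ := by rw [n3]; field_simp
  apply mul_left_cancel₀ (show D * D * (L * N * e) ^ 2 ≠ 0 by positivity)
  calc D * D * (L * N * e) ^ 2 * ((C * (x * y) - B * (x + y) + A) ^ 2 * ((a + e) * (c + e)))
      = ((C * (x * y) - B * (x + y) + A) * (L * N) * e) ^ 2 * ((D * (a + e)) * (D * (c + e))) := by
        ring
    _ = D ^ 2 * ((D * (a + e)) * (D * (c + e))) := by rw [m3]
    _ = D ^ 2 * (((C * x ^ 2 - 2 * B * x + A) * L ^ 2 * (a * e)) *
        ((C * y ^ 2 - 2 * B * y + A) * N ^ 2 * (c * e))) := by rw [m1, m2]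
    _ = _ := by ring

theorem three_adic {a b e : ℤ} (ha : a % 9 = 1) (hb : b % 9 = 1) (he : e % 9 = 2) :
    ∃ u v : ℤ, a + e = 3 * u ∧ b + e = 3 * v ∧ u % 3 = 1 ∧ v % 3 = 1 ∧
      (a + e) * (b + e) = 9 * (u * v) ∧ (u * v) % 3 = 1 ∧ (a * b) % 3 = 1 := by
  refine ⟨(a + e) / 3, (b + e) / 3, by omega, by omega, by omega, by omega, ?_, ?_, ?_⟩
  · rw [show (9 : ℤ) * ((a + e) / 3 * ((b + e) / 3)) = (3 * ((a + e) / 3)) * (3 * ((b + e) / 3)) by
      ring, show 3 * ((a + e) / 3) = a + e by omega, show 3 * ((b + e) / 3) = b + e by omega]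
  · rw [Int.mul_emod, show (a + e) / 3 % 3 = 1 by omega, show (b + e) / 3 % 3 = 1 by omega]; rfl
  · rw [Int.mul_emod, show a % 3 = 1 by omega, show b % 3 = 1 by omega]; rfl

/-- The main case. -/
theorem last_degree {b c e : ℤ} {o E b' c' r1 r2 r3 r4' r5 r6 r7 : Pt} (hb : b % 9 = 1)
    (hc : c % 9 = 1) (he : e % 9 = 2) (ho : o.d = 1) (hE : E.d = (e : ℝ)) (hbd : b'.d = (b : ℝ))
    (hcd : c'.d = (c : ℝ)) (hg : g ≠ 0) (h1 : R1 g o E b' r1) (h2 : R2 g o E r2 r3)
    (h3 : R3 g c' E r4' r5) (h4 : R4 g c' E b' r6) (h4' : R4 g b' E r7 c') : c = 1 := by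
  have e0 : (e : ℝ) ≠ 0 := by exact_mod_cast (show e ≠ 0 by omega)
  have b0 : (b : ℝ) ≠ 0 := by exact_mod_cast (show b ≠ 0 by omega)
  have c0 : (c : ℝ) ≠ 0 := by exact_mod_cast (show c ≠ 0 by omega)
  have nz : ∀ a : ℤ, a % 9 = 1 → 1 / (a : ℝ) + 1 / (e : ℝ) ≠ 0 := by
    intro a ha
    have a0 : (a : ℝ) ≠ 0 := by exact_mod_cast (show a ≠ 0 by omega)
    rw [div_add_div _ _ a0 e0]
    refine div_ne_zero ?_ (mul_ne_zero a0 e0)
    exact_mod_cast (show 1 * e + a * 1 ≠ 0 by omega)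
  have hXo : 1 / o.d + 1 / E.d ≠ 0 := by rw [ho, hE]; simpa using nz 1 rfl
  have hXb : 1 / b'.d + 1 / E.d ≠ 0 := by rw [hbd, hE]; exact nz b hb
  have hXc : 1 / c'.d + 1 / E.d ≠ 0 := by rw [hcd, hE]; exact nz c hc
  obtain ⟨l1, o1⟩ := pair12 h1 h2 hg hXo
  have h1b : R1 g b' E o r1 := h1.swap23.swap12.swap23
  obtain ⟨l2, o2⟩ := pair14 h1b h4' hg hXb
  obtain ⟨l3, o3⟩ := pair34 h3 h4 hg hXc
  have q1 := plane h1 hg
  have q1' := (plane h1b hg).1
  have hadj : R1 g o b' r1 E := h1.swap23.swap34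
  have q1x := (plane hadj hg).2.2
  have q4 := (plane h4 hg).1
  have q4' := (plane h4' hg).1
  have hadj4 : R4 g c' b' r6 E := h4.swap23.swap34
  have q4x := (plane hadj4 hg).2.2
  rw [ho, hE] at q1
  rw [hbd, hE] at q1' q4'
  rw [hcd, hE] at q4
  rw [hE] at q1x q4x
  -- the first ratio
  have first : ∀ x y : ℝ, dK o E = x * dL o E → dK b' E = y * dL b' E →
      (x * y + 8) ^ 2 * ((1 + e) * (b + e)) = (x ^ 2 + 8) * (y ^ 2 + 8) * (b : ℝ) := by
    intro x y hx hy
    have := adj_ratio (A := 8) (B := 0) (C := 1) hg l1 l2 e0 one_ne_zero b0 (by norm_num) x y hx hy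
      q1.1 q1' q1x
    linear_combination this
  have second : ∀ x y : ℝ, dK b' E = x * dL b' E → dK c' E = y * dL c' E →
      (1 / 2 * (y * x) + 3 / 2 * (y + x) + 11 / 2) ^ 2 * ((c + e) * (b + e)) =
        (1 / 2 * y ^ 2 + 3 * y + 11 / 2) * (1 / 2 * x ^ 2 + 3 * x + 11 / 2) * ((c : ℝ) * b) := by
    intro x y hx hy
    have := adj_ratio (A := 11 / 2) (B := -(3 / 2)) (C := 1 / 2) hg l3 l2 e0 c0 b0 (by norm_num)
      y x hy hx q4 q4' q4x
    linear_combination this
  obtain ⟨u, v, hu, hv, -, -, huv, huv3, -⟩ := three_adic (a := 1) rfl hb he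
  obtain ⟨u', v', hu', hv', -, -, huv', huv3', hcb⟩ := three_adic hc hb he
  -- the choice of the slopes
  have key : dK o E = 4 * dL o E ∧ dK b' E = -4 * dL b' E := by
    rcases o1 with a1 | a1 <;> rcases o2 with a2 | a2
    · exact ⟨a1, a2⟩
    all_goals exfalso; have h := first _ _ a1 a2; norm_num at h
    · have : 9 * (u * v) = 33 * b := by
        rw [← huv]
        exact_mod_cast (show ((1 : ℝ) + e) * (b + e) = 33 * b by linarith)
      omega
    · have : 9 * (u * v) = 33 * b := by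
        rw [← huv]
        exact_mod_cast (show ((1 : ℝ) + e) * (b + e) = 33 * b by linarith)
      omega
    · have : 9 * (u * v) = 9801 * b := by
        rw [← huv]
        exact_mod_cast (show ((1 : ℝ) + e) * (b + e) = 9801 * b by linarith)
      omega
  have h91 : (1 + e) * (b + e) = 9 * b := by
    have h := first _ _ key.1 key.2
    norm_num at h
    exact_mod_cast (show ((1 : ℝ) + e) * (b + e) = 9 * b by linarith)
  have h94 : (c + e) * (b + e) = 9 * (c * b) := by
    rcases o3 with a3 | a3 <;> have h := second _ _ key.2 a3 <;> norm_num at h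
    · exact_mod_cast (show ((c : ℝ) + e) * (b + e) = 9 * (c * b) by linarith)
    · exfalso
      have : 9 * (9 * (u' * v')) = 17 * (c * b) := by
        rw [← huv']
        exact_mod_cast (show 9 * (((c : ℝ) + e) * (b + e)) = 17 * (c * b) by linarith)
      omega
  have h : (b + e) * ((c + e) - c * (1 + e)) = 0 := by linear_combination h94 - c * h91
  have h' : e * (1 - c) = 0 := by
    have := (mul_eq_zero.mp h).resolve_left (by omega)
    linarith
  have := (mul_eq_zero.mp h').resolve_left (by omega)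
  omega

end CfsgLib.NineArith
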