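import Mathlib

/-!
A verified enumeration of the integral families with prescribed inner products and
prescribed signed sums.
-/

set_option autoImplicit false

namespace CfsgLib.ColEnum

/-- Sum of the absolute values in each row. -/
def colAbs : ℕ → List (List ℤ) → List ℕ
  | k, [] => List.replicate k 0
  | k, c :: cs => List.zipWith (fun x r => x.natAbs + r) c (colAbs k cs)

/-- Columns with bounds for the columns from here on. -/
def plan (k : ℕ) : List (List ℤ) → List (List ℤ × List ℕ)
  | [] => []
  | c :: cs => (c, colAbs k (c :: cs)) :: plan k cs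

/-- Test of a bound. -/
def within (m : ℕ) : List ℤ → List ℕ → Bool
  | x :: xs, r :: rs => decide (x.natAbs ≤ m * r) && within m xs rs
  | _, _ => true

/-- Positive parts outside the old support. -/
def tails : ℕ → List (List ℤ)
  | 0 => [[]]
  | 1 => [[1]]
  | 2 => [[1, 1]]
  | 3 => [[1, 1, 1]]
  | 4 => [[1, 1, 1, 1], [2]]
  | _ => []

/-- The entries considered. -/
def small : List ℤ := [0, 1, -1, 2, -2]

/-- New rows. -/
def ext : List (List ℤ × List ℕ) → ℕ → List ℤ → List (List ℤ × List ℤ)
  | [], b, need => if need.all (· == 0) then (tails b).map fun t => ([], t) else []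
  | p :: ps, b, need =>
    if within 2 need p.2 then
      small.flatMap fun a =>
        if a.natAbs * a.natAbs ≤ b then
          (ext ps (b - a.natAbs * a.natAbs) (List.zipWith (fun x y => x - a * y) need p.1)).map
            fun vt => (a :: vt.1, vt.2)
        else []
    else []

/-- Lexicographic comparison. -/
def geq : List ℤ → List ℤ → Bool
  | x :: xs, y :: ys => if x = y then geq xs ys else decide (y < x)
  | _, _ => true

/-- Insertion. -/
def ins (c : List ℤ) : List (List ℤ) → List (List ℤ)
  | [] => [c]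
  | d :: ds => if geq c d then c :: d :: ds else d :: ins c ds

/-- Sorting. -/
def canon : List (List ℤ) → List (List ℤ)
  | [] => []
  | c :: cs => ins c (canon cs)

/-- The new columns. -/
def assemble (k : ℕ) (cs : List (List ℤ)) (vt : List ℤ × List ℤ) : List (List ℤ) :=
  List.zipWith (fun c a => c ++ [a]) cs vt.1 ++
    vt.2.map fun x => List.replicate k 0 ++ [x]

/-- Whether a column can belong to a pair. -/
def paired (s : List (List ℤ)) (c : List ℤ) : Bool :=
  decide (2 ≤ (s.filter fun d => d == c || d == c.map Neg.neg).length)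

/-- Search for signs. -/
def signs : List ((List ℤ × List ℕ) × Bool) → List ℤ → Bool
  | [], need => need.all (· == 0)
  | (p, z) :: ps, need =>
    within 1 need p.2 &&
      (if z then ([1, -1, 0] : List ℤ) else [1, -1]).any fun a =>
        signs ps (List.zipWith (fun x y => x - a * y) need p.1)

/-- The test on signed sums. -/
def feas (k : ℕ) (s : List (List ℤ)) (rs : List ℤ) : Bool :=
  signs ((plan k s).map fun p => (p, paired s p.1)) rs

/-- Removal of repetitions. -/
def dedup' : List (List (List ℤ)) → List (List (List ℤ))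
  | [] => []
  | s :: ss => let r := dedup' ss; if r.contains s then r else s :: r

/-- One step. -/
def step (k : ℕ) (nrm : ℕ) (need rs : List ℤ) (st : List (List (List ℤ))) :
    List (List (List ℤ)) :=
  (dedup' (st.flatMap fun s => (ext (plan k s) nrm need).map fun vt =>
    canon (assemble k s vt))).filter fun s => feas (k + 1) s rs

/-- All the steps. -/
def run (G : ℕ → ℕ → ℤ) (r : ℕ → ℤ) : ℕ → List (List (List ℤ))
  | 0 => [[]]
  | k + 1 => step k (G k k).toNat ((List.range k).map (G k)) ((List.range (k + 1)).map r) (run G r k)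

/-! ### Correctness -/

theorem mem_dedup' {s : List (List ℤ)} : ∀ ss, s ∈ dedup' ss ↔ s ∈ ss
  | [] => Iff.rfl
  | t :: ss => by
    have ih := mem_dedup' (s := s) ss
    simp only [dedup']
    split_ifs with h
    · rw [ih, List.mem_cons]
      refine ⟨Or.inr, ?_⟩
      rintro (rfl | h')
      · exact ih.mp (List.contains_iff_mem.mp h)
      · exact h'
    · simp [ih]

theorem ins_perm (c : List ℤ) : ∀ ds, List.Perm (ins c ds) (c :: ds)
  | [] => List.Perm.refl _
  | d :: ds => by
    simp only [ins]
    split_ifs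
    · exact List.Perm.refl _
    · exact ((ins_perm c ds).cons d).trans (List.Perm.swap c d ds)

theorem canon_perm : ∀ cs, List.Perm (canon cs) cs
  | [] => List.Perm.refl _
  | c :: cs => (ins_perm c _).trans ((canon_perm cs).cons c)

theorem exists_map_eq_of_perm {α β : Type*} (f : α → β) {l l' : List β} (h : List.Perm l l') :
    ∀ L, L.map f = l → ∃ L', List.Perm L L' ∧ L'.map f = l' := by
  induction h with
  | nil => intro L hL; exact ⟨L, List.Perm.refl _, hL⟩
  | cons x h ih =>
    intro L hL
    obtain ⟨a, L0, rfl, rfl, hL0⟩ := List.map_eq_cons_iff.mp hL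
    obtain ⟨L', hp, rfl⟩ := ih L0 hL0
    exact ⟨a :: L', hp.cons a, rfl⟩
  | swap x y l =>
    intro L hL
    obtain ⟨a, L0, rfl, rfl, hL0⟩ := List.map_eq_cons_iff.mp hL
    obtain ⟨b, L1, rfl, rfl, rfl⟩ := List.map_eq_cons_iff.mp hL0
    exact ⟨b :: a :: L1, List.Perm.swap _ _ _, rfl⟩
  | trans h h' ih ih' =>
    intro L hL
    obtain ⟨L', hp, hL'⟩ := ih L hL
    obtain ⟨L'', hp', hL''⟩ := ih' L' hL'
    exact ⟨L'', hp.trans hp', hL''⟩

section Sound

variable {ι : Type*} [Fintype ι] [DecidableEq ι] (C : ℕ → ι → ℤ)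

/-- A column. -/
def colOf (k : ℕ) (x : ι × ℤ) : List ℤ := (List.range k).map fun j => x.2 * C j x.1

/-- A state represents the first rows. -/
def Rep (k : ℕ) (s : List (List ℤ)) : Prop :=
  ∃ L : List (ι × ℤ), (L.map Prod.fst).Nodup ∧ (∀ x ∈ L, x.2 = 1 ∨ x.2 = -1) ∧
    (∀ i, i ∉ L.map Prod.fst → ∀ j < k, C j i = 0) ∧ L.map (colOf C k) = s

theorem colAbs_eq (k : ℕ) : ∀ L : List (ι × ℤ), colAbs k (L.map (colOf C k)) =
    (List.range k).map fun j => (L.map fun x => (x.2 * C j x.1).natAbs).sum
  | [] => by simp [colAbs, List.map_const']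
  | x :: L => by
    simp [colAbs, colAbs_eq k L, colOf, List.zipWith_map, List.zipWith_self]

theorem within_map {m : ℕ} {f : ℕ → ℤ} {g : ℕ → ℕ} : ∀ l : List ℕ,
    (∀ j ∈ l, (f j).natAbs ≤ m * g j) → within m (l.map f) (l.map g) = true
  | [], _ => rfl
  | j :: l, h => by
    simp only [List.map_cons, within, Bool.and_eq_true, decide_eq_true_eq]
    exact ⟨h j List.mem_cons_self, within_map l fun i hi => h i (List.mem_cons_of_mem _ hi)⟩

theorem natAbs_sum_le (m : ℕ) (w : ι × ℤ → ℤ) (g : ι × ℤ → ℤ) :
    ∀ L : List (ι × ℤ), (∀ x ∈ L, (w x).natAbs ≤ m) →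
      ((L.map fun x => w x * g x).sum).natAbs ≤ m * (L.map fun x => (g x).natAbs).sum
  | [], _ => by simp
  | x :: L, h => by
    simp only [List.map_cons, List.sum_cons, Nat.mul_add]
    refine le_trans (Int.natAbs_add_le _ _) (Nat.add_le_add ?_
      (natAbs_sum_le m w g L fun y hy => h y (List.mem_cons_of_mem _ hy)))
    rw [Int.natAbs_mul]
    exact Nat.mul_le_mul_right _ (h x List.mem_cons_self)

theorem within_sum (k m : ℕ) (w : ι × ℤ → ℤ) (L : List (ι × ℤ))
    (h : ∀ x ∈ L, (w x).natAbs ≤ m) :
    within m ((List.range k).map fun j => (L.map fun x => w x * (x.2 * C j x.1)).sum)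
      (colAbs k (L.map (colOf C k))) = true := by
  rw [colAbs_eq]
  exact within_map _ fun j _ => natAbs_sum_le m w (fun x => x.2 * C j x.1) L h

theorem zipWith_sub (k : ℕ) (a : ℤ) (w : ι × ℤ → ℤ) (x : ι × ℤ) (L : List (ι × ℤ))
    (ha : a = w x) :
    List.zipWith (fun u y => u - a * y)
      ((List.range k).map fun j => ((x :: L).map fun x => w x * (x.2 * C j x.1)).sum)
      (colOf C k x) = (List.range k).map fun j => (L.map fun x => w x * (x.2 * C j x.1)).sum := by
  simp [colOf, List.zipWith_map, List.zipWith_self, ha]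

theorem ext_sound (k : ℕ) (w : ι × ℤ → ℤ) (t : List ℤ) : ∀ (L : List (ι × ℤ)) (b : ℕ),
    (∀ x ∈ L, (w x).natAbs ≤ 2) →
    (L.map fun x => (w x).natAbs * (w x).natAbs).sum ≤ b →
    t ∈ tails (b - (L.map fun x => (w x).natAbs * (w x).natAbs).sum) →
    (L.map w, t) ∈ ext (plan k (L.map (colOf C k))) b
      ((List.range k).map fun j => (L.map fun x => w x * (x.2 * C j x.1)).sum)
  | [], b, _, _, ht => by
    simp only [List.map_nil, plan, ext, List.sum_nil]
    rw [if_pos (by simp)]
    simp only [List.map_nil, List.sum_nil, Nat.sub_zero] at ht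
    exact List.mem_map.mpr ⟨t, ht, rfl⟩
  | x :: L, b, hw, hb, ht => by
    have hwx := hw x List.mem_cons_self
    have hsm : w x ∈ small := by
      have h : w x = 0 ∨ w x = 1 ∨ w x = -1 ∨ w x = 2 ∨ w x = -2 := by omega
      rcases h with e | e | e | e | e <;> simp [small, e]
    simp only [List.map_cons, List.sum_cons] at hb ht
    have hwi := within_sum C k 2 w (x :: L) hw
    rw [List.map_cons] at hwi
    simp only [List.map_cons (f := colOf C k), List.map_cons (f := w), plan, ext]
    rw [if_pos hwi, List.mem_flatMap]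
    refine ⟨w x, hsm, ?_⟩
    rw [if_pos (by omega), zipWith_sub C k _ w x L rfl]
    refine List.mem_map.mpr ⟨(L.map w, t), ext_sound k w t L _
      (fun y hy => hw y (List.mem_cons_of_mem _ hy)) (by omega) ?_, rfl⟩
    rwa [Nat.sub_sub]

theorem signs_sound (k : ℕ) (w : ι × ℤ → ℤ) (z : List ℤ → Bool) : ∀ L : List (ι × ℤ),
    (∀ x ∈ L, w x = 1 ∨ w x = -1 ∨ (w x = 0 ∧ z (colOf C k x) = true)) →
    signs ((plan k (L.map (colOf C k))).map fun p => (p, z p.1))
      ((List.range k).map fun j => (L.map fun x => w x * (x.2 * C j x.1)).sum) = true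
  | [], _ => by simp [plan, signs]
  | x :: L, h => by
    have hwi := within_sum C k 1 w (x :: L) fun y hy => by
      rcases h y hy with e | e | ⟨e, -⟩ <;> simp [e]
    rw [List.map_cons] at hwi
    simp only [List.map_cons (f := colOf C k), plan, List.map_cons (f := fun p : List ℤ × List ℕ => (p, z p.1)),
      signs, Bool.and_eq_true, List.any_eq_true]
    refine ⟨hwi, w x, ?_, ?_⟩
    · rcases h x List.mem_cons_self with e | e | ⟨e, hz⟩
      · split_ifs <;> simp [e]
      · split_ifs <;> simp [e]
      · simp [e, hz]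
    · rw [zipWith_sub C k _ w x L rfl]
      exact signs_sound k w z L fun y hy => h y (List.mem_cons_of_mem _ hy)

theorem sum_eq_list {L : List (ι × ℤ)} (hL : (L.map Prod.fst).Nodup) (g : ι → ℤ)
    (hg : ∀ i, i ∉ L.map Prod.fst → g i = 0) :
    (L.map fun x => g x.1).sum = ∑ i, g i := by
  rw [← Finset.sum_subset (Finset.subset_univ (L.map Prod.fst).toFinset)
    (fun i _ hi => hg i (by simpa using hi)), List.sum_toFinset _ hL, List.map_map]
  rfl

theorem sgn_mul_self {e : ℤ} (h : e = 1 ∨ e = -1) (a b : ℤ) : e * a * (e * b) = a * b := by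
  rcases h with rfl | rfl <;> ring

variable (ν : ι → ℤ) (K : ℕ)

/-- The condition on the signs. -/
def Signed : Prop :=
  ∀ i, ν i = 1 ∨ ν i = -1 ∨ (ν i = 0 ∧ ∃ i', i' ≠ i ∧ ∀ j < K, C j i' = C j i)

theorem colOf_succ (k : ℕ) (x : ι × ℤ) : colOf C (k + 1) x = colOf C k x ++ [x.2 * C k x.1] := by
  simp [colOf, List.range_succ]

theorem feas_sound {k : ℕ} (hk : k ≤ K) (hν : Signed C ν K) {s : List (List ℤ)} (hs : Rep C k s)
    {r : ℕ → ℤ} (hr : ∀ j < k, ∑ i, ν i * C j i = r j) :
    feas k s ((List.range k).map r) = true := by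
  obtain ⟨L, hnd, hsg, hout, rfl⟩ := hs
  -- a pair
  have hw : ∀ x ∈ L, ν x.1 = 1 ∨ ν x.1 = -1 ∨
      (ν x.1 = 0 ∧ paired (L.map (colOf C k)) (colOf C k x) = true) ∨
      (ν x.1 = 0 ∧ ∀ j < k, C j x.1 = 0) := by
    intro x hx
    rcases hν x.1 with e | e | ⟨e, i', hne, hsame⟩
    · exact Or.inl e
    · exact Or.inr (Or.inl e)
    by_cases hi' : i' ∈ L.map Prod.fst
    · refine Or.inr (Or.inr (Or.inl ⟨e, ?_⟩))
      obtain ⟨y, hy, rfl⟩ := List.mem_map.mp hi'
      have hxy : x ≠ y := fun h => hne (by rw [h])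
      simp only [paired, decide_eq_true_eq, List.filter_map, List.length_map]
      have hsub : ([x, y] : List (ι × ℤ)) ⊆ L.filter
          ((fun d => d == colOf C k x || d == (colOf C k x).map Neg.neg) ∘ colOf C k) := by
        intro z hz
        simp only [List.mem_cons, List.not_mem_nil, or_false] at hz
        rw [List.mem_filter]
        rcases hz with rfl | rfl
        · exact ⟨hx, by simp⟩
        · refine ⟨hy, ?_⟩
          simp only [Function.comp_apply, Bool.or_eq_true, beq_iff_eq]
          rcases eq_or_ne z.2 x.2 with he | he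
          · refine Or.inl (List.map_congr_left fun j hj => ?_)
            rw [he, hsame j (lt_of_lt_of_le (List.mem_range.mp hj) hk)]
          · refine Or.inr ?_
            have he' : z.2 = -x.2 := by
              rcases hsg z hy with a | a <;> rcases hsg x hx with b | b <;> omega
            simp only [colOf, List.map_map]
            refine List.map_congr_left fun j hj => ?_
            rw [Function.comp_apply, he', hsame j (lt_of_lt_of_le (List.mem_range.mp hj) hk)]
            ring
      exact (List.Nodup.subperm (by simpa using hxy) hsub).length_le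
    · refine Or.inr (Or.inr (Or.inr ⟨e, fun j hj => ?_⟩))
      rw [← hsame j (lt_of_lt_of_le hj hk)]
      exact hout i' hi' j hj
  classical
  let w : ι × ℤ → ℤ := fun x =>
    if ν x.1 = 0 ∧ ∀ j < k, C j x.1 = 0 then 1 else x.2 * ν x.1
  have h1 := signs_sound C k w (paired (L.map (colOf C k))) L fun x hx => by
    simp only [w]
    split_ifs with h
    · exact Or.inl rfl
    · rcases hw x hx with e | e | ⟨e, hp⟩ | ⟨e, hz⟩
      · rcases hsg x hx with a | a <;> simp [e, a]
      · rcases hsg x hx with a | a <;> simp [e, a]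
      · exact Or.inr (Or.inr ⟨by simp [e], hp⟩)
      · exact absurd ⟨e, hz⟩ h
  rw [feas]
  convert h1 using 2
  refine List.map_congr_left fun j hj => ?_
  rw [← hr j (List.mem_range.mp hj), ← sum_eq_list hnd _ fun i hi => by
    rw [hout i hi j (List.mem_range.mp hj), mul_zero]]
  refine congrArg List.sum (List.map_congr_left fun x hx => ?_)
  simp only [w]
  split_ifs with h
  · rw [h.2 j (List.mem_range.mp hj)]; ring
  · rw [sgn_mul_self (hsg x hx)]

theorem tails_complete (f : ι → ℤ) : ∀ (R : Finset ι) (b : ℕ), b ≤ 4 →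
    ∑ i ∈ R, f i * f i = (b : ℤ) → (∀ i ∈ R, f i ≠ 0) →
    ∃ l : List ι, l.Nodup ∧ l.toFinset = R ∧ l.map (fun i => |f i|) ∈ tails b := by
  intro R b hb hsum hne
  have hge : ∀ i ∈ R, (1 : ℤ) ≤ f i * f i := fun i hi => by
    have := mul_self_pos.mpr (hne i hi); omega
  by_cases hbig : ∀ i ∈ R, |f i| = 1
  · have hsq : ∀ i ∈ R, f i * f i = 1 := fun i hi => by
      rw [← abs_mul_abs_self, hbig i hi]; norm_num
    rw [Finset.sum_congr rfl hsq, Finset.sum_const, nsmul_eq_mul, mul_one, Nat.cast_inj] at hsum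
    refine ⟨R.toList, R.nodup_toList, R.toList_toFinset, ?_⟩
    have : R.toList.map (fun i => |f i|) = List.replicate b 1 := by
      rw [← hsum, ← Finset.length_toList]
      exact List.eq_replicate_iff.mpr ⟨by simp, fun x hx => by
        obtain ⟨i, hi, rfl⟩ := List.mem_map.mp hx
        exact hbig i (Finset.mem_toList.mp hi)⟩
    rw [this]
    interval_cases b <;> simp [tails, List.replicate]
  · push Not at hbig
    obtain ⟨i, hi, hne1⟩ := hbig
    rw [← Finset.add_sum_erase _ _ hi] at hsum
    have h4 : 4 ≤ f i * f i := by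
      have h2 : 2 ≤ |f i| := by
        have := abs_pos.mpr (hne i hi); omega
      rw [← abs_mul_abs_self]; nlinarith
    have hrest : ∀ j ∈ R.erase i, (1 : ℤ) ≤ f j * f j := fun j hj => hge j (Finset.mem_of_mem_erase hj)
    have hcard : ((R.erase i).card : ℤ) ≤ ∑ j ∈ R.erase i, f j * f j := by
      simpa using Finset.sum_le_sum hrest
    have hb' : (b : ℤ) ≤ 4 := by exact_mod_cast hb
    have h0 : R.erase i = ∅ := Finset.card_eq_zero.mp (by omega)
    have hR : R = {i} := by
      rw [← Finset.insert_erase hi, h0, insert_empty_eq]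
    rw [h0, Finset.sum_empty, add_zero] at hsum
    have hb4 : b = 4 := by omega
    have habs : |f i| = 2 := by
      have hh : |f i| * |f i| = 4 := by rw [abs_mul_abs_self]; omega
      nlinarith [abs_nonneg (f i)]
    exact ⟨[i], List.nodup_singleton i, by simp [hR], by simp [hb4, tails, habs]⟩

theorem step_sound {k : ℕ} (hk : k + 1 ≤ K) (hν : Signed C ν K) {st : List (List (List ℤ))}
    {s : List (List ℤ)} (hs : Rep C k s) (hmem : s ∈ st) {G : ℕ → ℕ → ℤ}
    (hG : ∀ j ≤ k, ∑ i, C k i * C j i = G k j) (hn : G k k ≤ 4) {r : ℕ → ℤ}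
    (hr : ∀ j < k + 1, ∑ i, ν i * C j i = r j) :
    ∃ s' ∈ step k (G k k).toNat ((List.range k).map (G k)) ((List.range (k + 1)).map r) st,
      Rep C (k + 1) s' := by
  classical
  obtain ⟨L, hnd, hsg, hout, rfl⟩ := hs
  let R : Finset ι := Finset.univ.filter fun i => i ∉ L.map Prod.fst ∧ C k i ≠ 0
  let w : ι × ℤ → ℤ := fun x => x.2 * C k x.1
  have hsumw : ((L.map fun x => (w x).natAbs * (w x).natAbs).sum : ℤ) +
      ∑ i ∈ R, C k i * C k i = G k k := by
    rw [← hG k le_rfl, Nat.cast_list_sum, List.map_map]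
    have : (L.map (Nat.cast ∘ fun x => (w x).natAbs * (w x).natAbs) : List ℤ) =
        L.map fun x => C k x.1 * C k x.1 := List.map_congr_left fun x hx => by
      rw [Function.comp_apply, Nat.cast_mul, Int.natCast_natAbs, abs_mul_abs_self]
      exact sgn_mul_self (hsg x hx) _ _
    have h2 : (L.map fun x => C k x.1 * C k x.1) =
        (L.map Prod.fst).map fun i => C k i * C k i := by
      rw [List.map_map]; rfl
    rw [this, h2, ← List.sum_toFinset _ hnd, ← Finset.sum_union]
    · refine Finset.sum_subset (Finset.subset_univ _) fun i _ hi => ?_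
      simp only [R, Finset.mem_union, List.mem_toFinset, Finset.mem_filter, Finset.mem_univ,
        true_and, not_or, not_and, not_not] at hi
      rw [hi.2 hi.1, mul_zero]
    · rw [Finset.disjoint_left]
      intro i hi hiR
      exact (Finset.mem_filter.mp hiR).2.1 (List.mem_toFinset.mp hi)
  set b : ℕ := (L.map fun x => (w x).natAbs * (w x).natAbs).sum with hb
  have hRnn : 0 ≤ ∑ i ∈ R, C k i * C k i := Finset.sum_nonneg fun i _ => mul_self_nonneg _
  obtain ⟨l, hlnd, hlR, hlt⟩ := tails_complete (C k) R ((G k k).toNat - b) (by omega) (by omega)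
    fun i hi => (Finset.mem_filter.mp hi).2.2
  have hlmem : ∀ i, i ∈ l ↔ i ∉ L.map Prod.fst ∧ C k i ≠ 0 := fun i => by
    rw [← List.mem_toFinset, hlR]; simp [R]
  have hwb : ∀ x ∈ L, (w x).natAbs ≤ 2 := by
    intro x hx
    have h1 : (w x).natAbs * (w x).natAbs ≤ b :=
      List.le_sum_of_mem (List.mem_map.mpr ⟨x, hx, rfl⟩)
    by_contra hlt'
    have : 3 * 3 ≤ (w x).natAbs * (w x).natAbs := Nat.mul_le_mul (by omega) (by omega)
    omega
  have hext := ext_sound C k w (l.map fun i => |C k i|) L (G k k).toNat hwb (by omega) hlt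
  have hneed : ((List.range k).map fun j => (L.map fun x => w x * (x.2 * C j x.1)).sum) =
      (List.range k).map (G k) := by
    refine List.map_congr_left fun j hj => ?_
    rw [← hG j (le_of_lt (List.mem_range.mp hj)), ← sum_eq_list hnd _ fun i hi => by
      rw [hout i hi j (List.mem_range.mp hj), mul_zero]]
    exact congrArg List.sum (List.map_congr_left fun x hx => sgn_mul_self (hsg x hx) _ _)
  rw [hneed] at hext
  let L1 : List (ι × ℤ) := L ++ l.map fun i => (i, if 0 ≤ C k i then (1 : ℤ) else -1)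
  have hfst : L1.map Prod.fst = L.map Prod.fst ++ l := by
    simp [L1, Function.comp_def]
  have hcols : L1.map (colOf C (k + 1)) =
      assemble k (L.map (colOf C k)) (L.map w, l.map fun i => |C k i|) := by
    simp only [L1, List.map_append, assemble, List.zipWith_map, List.zipWith_self, List.map_map]
    congr 1
    · exact List.map_congr_left fun x _ => colOf_succ C k x
    · refine List.map_congr_left fun i hi => ?_
      rw [Function.comp_apply, Function.comp_apply, colOf_succ]
      congr 1
      · rw [colOf, List.eq_replicate_iff]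
        refine ⟨by simp, fun a ha => ?_⟩
        obtain ⟨j, hj, rfl⟩ := List.mem_map.mp ha
        rw [hout i ((hlmem i).mp hi).1 j (List.mem_range.mp hj), mul_zero]
      · split_ifs with h
        · rw [one_mul, abs_of_nonneg h]
        · rw [abs_of_neg (not_le.mp h), neg_one_mul]
  obtain ⟨L2, hp, hL2⟩ := exists_map_eq_of_perm (colOf C (k + 1))
    (canon_perm (L1.map (colOf C (k + 1)))).symm L1 rfl
  have hrep : Rep C (k + 1) (canon (L1.map (colOf C (k + 1)))) := by
    refine ⟨L2, ?_, ?_, ?_, hL2⟩
    · rw [← (hp.map Prod.fst).nodup_iff, hfst, List.nodup_append']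
      exact ⟨hnd, hlnd, fun i hi hi' => ((hlmem i).mp hi').1 hi⟩
    · intro x hx
      rw [← hp.mem_iff, List.mem_append] at hx
      rcases hx with hx | hx
      · exact hsg x hx
      · obtain ⟨i, -, rfl⟩ := List.mem_map.mp hx
        dsimp only
        split_ifs <;> simp
    · intro i hi j hj
      rw [← (hp.map Prod.fst).mem_iff, hfst, List.mem_append, not_or] at hi
      rcases Nat.lt_succ_iff_lt_or_eq.mp hj with hj | rfl
      · exact hout i hi.1 j hj
      · by_contra hne
        exact hi.2 ((hlmem i).mpr ⟨hi.1, hne⟩)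
  refine ⟨_, ?_, hrep⟩
  rw [step, List.mem_filter]
  refine ⟨(mem_dedup' _).mpr ?_, feas_sound C ν K hk hν hrep hr⟩
  rw [hcols]
  exact List.mem_flatMap.mpr ⟨_, hmem, List.mem_map.mpr ⟨_, hext, rfl⟩⟩

/-- The enumeration is complete. -/
theorem run_sound (hν : Signed C ν K) {G : ℕ → ℕ → ℤ} {r : ℕ → ℤ}
    (hG : ∀ k < K, ∀ j ≤ k, ∑ i, C k i * C j i = G k j) (hn : ∀ k < K, G k k ≤ 4)
    (hr : ∀ j < K, ∑ i, ν i * C j i = r j) :
    ∀ k ≤ K, ∃ s ∈ run G r k, Rep C k s
  | 0, _ => ⟨[], by simp [run], [], by simp, by simp, fun _ _ j hj => absurd hj (Nat.not_lt_zero j), rfl⟩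
  | k + 1, hk => by
    obtain ⟨s, hs, hrep⟩ := run_sound hν hG hn hr k (by omega)
    exact step_sound C ν K hk hν hrep hs (hG k (by omega)) (hn k (by omega))
      fun j hj => hr j (by omega)

end Sound

end CfsgLib.ColEnum
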