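import Cfsg.Agent.Lib.Derangements.TIReal
import Cfsg.Agent.Lib.Derangements.ColEnum

/-!
The wreath product of the symmetric group of degree three by a group of order two.
-/

set_option autoImplicit false
set_option linter.constructorNameAsVariable false

namespace CfsgLib.NineModel

open scoped ComplexConjugate
open CfsgLib

abbrev D := DihedralGroup 3

def isR : D → Bool
  | .r _ => true
  | .sr _ => false

def sg : D →* ℤˣ where
  toFun d := if isR d then 1 else -1
  map_one' := rfl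
  map_mul' := by decide

def act : D → Fin 3 → Fin 3
  | .r i, x => x + (show Fin 3 from i)
  | .sr i, x => -(x + (show Fin 3 from i))

theorem act_mul : ∀ d d' x, act (d * d') x = act d (act d' x) := by decide +kernel
theorem act_one : ∀ x, act 1 x = x := by decide

/-- Exchange of the two coordinates. -/
def sw : Bool → D × D → D × D
  | false, x => x
  | true, x => (x.2, x.1)

theorem sw_hom : ∀ w (x y : D × D), sw w (x * y) = sw w x * sw w y
  | false, _, _ => rfl
  | true, _, _ => rfl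

theorem sw_sw : ∀ v w (x : D × D), sw v (sw w x) = sw (xor v w) x
  | false, false, _ => rfl
  | false, true, _ => rfl
  | true, false, _ => rfl
  | true, true, _ => rfl

theorem sw_one : ∀ w, sw w (1 : D × D) = 1
  | false => rfl
  | true => rfl

/-- The model of the group of order 72. -/
@[ext] structure W where
  d : D × D
  w : Bool
deriving DecidableEq

def equivProd : W ≃ (D × D) × Bool where
  toFun x := (x.d, x.w)
  invFun x := ⟨x.1, x.2⟩

instance : Fintype W := Fintype.ofEquiv _ equivProd.symm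

instance : Group W where
  mul x y := ⟨x.d * sw x.w y.d, xor x.w y.w⟩
  one := ⟨1, false⟩
  inv x := ⟨sw x.w x.d⁻¹, x.w⟩
  mul_assoc x y z := by
    refine W.ext ?_ (Bool.xor_assoc _ _ _)
    show x.d * sw x.w y.d * sw (xor x.w y.w) z.d = x.d * sw x.w (y.d * sw y.w z.d)
    rw [sw_hom, sw_sw, mul_assoc]
  one_mul x := W.ext (one_mul _) (Bool.false_xor _)
  mul_one x := by
    refine W.ext ?_ (Bool.xor_false _)
    show x.d * sw x.w 1 = x.d
    rw [sw_one, mul_one]
  inv_mul_cancel x := by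
    refine W.ext ?_ (Bool.xor_self _)
    show sw x.w x.d⁻¹ * sw x.w x.d = 1
    rw [← sw_hom, inv_mul_cancel, sw_one]

theorem mul_d (x y : W) : (x * y).d = x.d * sw x.w y.d := rfl
theorem mul_w (x y : W) : (x * y).w = xor x.w y.w := rfl

/-- Selection of a coordinate. -/
def pick : Bool → D × D → D
  | false, x => x.1
  | true, x => x.2

def img6 (g : W) (z : Bool × Fin 3) : Bool × Fin 3 :=
  (xor g.w z.1, act (pick (xor g.w z.1) g.d) z.2)

def img4 (g : W) (z : Bool × Bool) : Bool × Bool :=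
  (xor g.w z.1, xor (isR (pick (xor g.w z.1) g.d)) (!z.2))

def img9 (g : W) (z : Fin 3 × Fin 3) : Fin 3 × Fin 3 :=
  match g.w with
  | false => (act g.d.1 z.1, act g.d.2 z.2)
  | true => (act g.d.1 z.2, act g.d.2 z.1)

theorem isR_mul : ∀ (x y : D), isR (x * y) = (isR x == isR y) := by decide

theorem img6_mul (g h : W) (z : Bool × Fin 3) : img6 (g * h) z = img6 g (img6 h z) := by
  obtain ⟨i, x⟩ := z
  obtain ⟨⟨a, b⟩, v⟩ := g
  obtain ⟨⟨c, d⟩, w⟩ := h
  cases v <;> cases w <;> cases i <;> simp [img6, mul_d, mul_w, sw, pick, act_mul]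

theorem img4_mul (g h : W) (z : Bool × Bool) : img4 (g * h) z = img4 g (img4 h z) := by
  obtain ⟨i, x⟩ := z
  obtain ⟨⟨a, b⟩, v⟩ := g
  obtain ⟨⟨c, d⟩, w⟩ := h
  cases v <;> cases w <;> cases i <;> simp [img4, mul_d, mul_w, sw, pick, isR_mul] <;>
    cases isR a <;> cases isR b <;> cases isR c <;> cases isR d <;> cases x <;> rfl

theorem img9_mul (g h : W) (z : Fin 3 × Fin 3) : img9 (g * h) z = img9 g (img9 h z) := by
  obtain ⟨⟨a, b⟩, v⟩ := g
  obtain ⟨⟨c, d⟩, w⟩ := h
  cases v <;> cases w <;> simp [img9, mul_d, mul_w, sw, act_mul]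

/-- The number of fixed points of an action. -/
def fixN {X : Type} [Fintype X] [DecidableEq X] (f : W → X → X) (g : W) : ℤ :=
  ((Finset.univ.filter fun x => f g x = x).card : ℤ)

theorem gen_fixN {X : Type} [Fintype X] [DecidableEq X] (f : W → X → X) (h1 : ∀ x, f 1 x = x)
    (hm : ∀ g h x, f (g * h) x = f g (f h x)) :
    Cfsg.IsGeneralizedCharacter W (fun g => (fixN f g : ℂ)) := by
  classical
  let P : W →* Matrix X X ℂ :=
    { toFun := fun g => Matrix.of fun i j => if f g j = i then 1 else 0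
      map_one' := by
        ext i j
        simp [h1, Matrix.one_apply, eq_comm]
      map_mul' := fun g h => by
        ext i j
        simp [Matrix.mul_apply, hm] }
  let ρ : Representation ℂ W (X → ℂ) :=
    (Matrix.toLinAlgEquiv'.toRingEquiv.toMonoidHom).comp P
  have hc := Char.isCharacter_of_rep ρ
  have : ρ.character = fun g => (fixN f g : ℂ) := by
    funext g
    show LinearMap.trace ℂ _ (Matrix.toLin' (P g)) = _
    rw [Matrix.trace_toLin'_eq, fixN, Finset.card_filter]
    simp [P, Matrix.trace]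
  rw [this] at hc
  exact Char.IsCharacter.isGeneralizedCharacter hc

/-- The sign on the coordinates. -/
def chA : W →* ℤˣ where
  toFun g := sg g.d.1 * sg g.d.2
  map_one' := rfl
  map_mul' g h := by
    obtain ⟨⟨a, b⟩, v⟩ := g
    obtain ⟨⟨c, d⟩, w⟩ := h
    cases v <;> simp only [mul_d, sw, Prod.fst_mul, Prod.snd_mul, map_mul] <;> ac_rfl

/-- The sign of the exchange. -/
def chB : W →* ℤˣ where
  toFun g := if g.w then -1 else 1
  map_one' := rfl
  map_mul' g h := by
    obtain ⟨⟨a, b⟩, v⟩ := g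
    obtain ⟨⟨c, d⟩, w⟩ := h
    cases v <;> cases w <;> rfl

def vA (g : W) : ℤ := (chA g : ℤ)
def vB (g : W) : ℤ := (chB g : ℤ)
def vC (g : W) : ℤ := vA g * vB g
def vE (g : W) : ℤ := fixN img4 g - 1 - vB g
def vX (g : W) : ℤ := fixN img6 g - 1 - vB g
def vP (g : W) : ℤ := fixN img9 g - 1 - vX g
def vY (g : W) : ℤ := vA g * vX g
def vR (g : W) : ℤ := vB g * vP g

/-- The four functions supported on the special set. -/
def Fz : Fin 4 → W → ℤ
  | 0 => fun g => 1 + vB g + vE g - vX g
  | 1 => fun g => 1 + vA g + vE g - vP g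
  | 2 => fun g => vA g + vC g + vE g - vY g
  | 3 => fun g => vB g + vC g + vE g - vR g

theorem img6_one : ∀ z, img6 1 z = z := by decide +kernel
theorem img4_one : ∀ z, img4 1 z = z := by decide +kernel
theorem img9_one : ∀ z, img9 1 z = z := by decide +kernel

theorem gen_Fz (i : Fin 4) : Cfsg.IsGeneralizedCharacter W (fun g => (Fz i g : ℂ)) := by
  have h1 : Cfsg.IsGeneralizedCharacter W (fun _ => (1 : ℂ)) :=
    Char.IsCharacter.isGeneralizedCharacter Char.isCharacter_one
  have hA : Cfsg.IsGeneralizedCharacter W (fun g => (vA g : ℂ)) := TIPairs.gen_hom chA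
  have hB : Cfsg.IsGeneralizedCharacter W (fun g => (vB g : ℂ)) := TIPairs.gen_hom chB
  have hC : Cfsg.IsGeneralizedCharacter W (fun g => (vC g : ℂ)) := by
    convert TIPairs.gen_mul hA hB using 1
    funext g; simp [vC]
  have hE : Cfsg.IsGeneralizedCharacter W (fun g => (vE g : ℂ)) := by
    convert TIPairs.gen_sub (TIPairs.gen_sub (gen_fixN img4 img4_one img4_mul) h1) hB using 1
    funext g; simp [vE]
  have hX : Cfsg.IsGeneralizedCharacter W (fun g => (vX g : ℂ)) := by
    convert TIPairs.gen_sub (TIPairs.gen_sub (gen_fixN img6 img6_one img6_mul) h1) hB using 1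
    funext g; simp [vX]
  have hP : Cfsg.IsGeneralizedCharacter W (fun g => (vP g : ℂ)) := by
    convert TIPairs.gen_sub (TIPairs.gen_sub (gen_fixN img9 img9_one img9_mul) h1) hX using 1
    funext g; simp [vP]
  fin_cases i
  · convert TIPairs.gen_sub (TIPairs.gen_add (TIPairs.gen_add h1 hB) hE) hX using 1
    funext g; simp [Fz]
  · convert TIPairs.gen_sub (TIPairs.gen_add (TIPairs.gen_add h1 hA) hE) hP using 1
    funext g; simp [Fz]
  · convert TIPairs.gen_sub (TIPairs.gen_add (TIPairs.gen_add hA hC) hE)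
      (TIPairs.gen_mul hA hX) using 1
    funext g; simp [Fz, vY]
  · convert TIPairs.gen_sub (TIPairs.gen_add (TIPairs.gen_add hB hC) hE)
      (TIPairs.gen_mul hB hP) using 1
    funext g; simp [Fz, vR]

/-- A translation. -/
def isTr (g : W) : Bool := !g.w && isR g.d.1 && isR g.d.2

/-- The set with a non-trivial translation as a power. -/
def inA (g : W) : Bool := [1, 2, 3, 4].any fun k => isTr (g ^ k) && g ^ k != 1

theorem inA_sq : ∀ m, inA m = true → m * m ≠ 1 := by decide +kernel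
theorem inA_pow : ∀ m, inA m = true → ∃ k : Fin 5, isTr (m ^ k.val) = true ∧ m ^ k.val ≠ 1 := by
  decide +kernel
theorem Fz_supp : ∀ m i, inA m = false → Fz i m = 0 := by decide +kernel

/-- The multiplicities of the trivial character. -/
def oneTab : List ℤ := [1, 1, 0, 0]
/-- The inner products on the non-trivial characters. -/
def gramTab : List (List ℤ) := [[3, 1, 1, 2], [1, 3, 2, 1], [1, 2, 4, 2], [2, 1, 2, 4]]
/-- The signed sums on the non-trivial characters. -/
def fsTab : List ℤ := [1, 1, 2, 2]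

def gramN (i j : ℕ) : ℤ := (gramTab.getD i []).getD j 0
def fsN (i : ℕ) : ℤ := fsTab.getD i 0

/-- The involutions in the first set. -/
def KM : Finset W := Finset.univ.filter fun x => x * x = 1 ∧ x ≠ 1 ∧ x.w = false
/-- The involutions in the second set. -/
def LM : Finset W := Finset.univ.filter fun x => x * x = 1 ∧ x ≠ 1 ∧ x.w = true

/-- Twice the counts, for two invariant sets. -/
def qTab : List (List ℤ) := [[16, 0, 2], [11, 3, 1], [4, 0, 2], [11, -3, 1]]

theorem tab_sum : ∀ i : Fin 4, ∑ m, Fz i m = 72 * oneTab.getD i.val 0 := by decide +kernel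
theorem tab_gram : ∀ i j : Fin 4, ∑ m, Fz i m * Fz j m =
    72 * (gramN i.val j.val + oneTab.getD i.val 0 * oneTab.getD j.val 0) := by decide +kernel
theorem tab_sq : ∀ i : Fin 4, ∑ m, Fz i (m * m) = 72 * (fsN i.val + oneTab.getD i.val 0) := by
  decide +kernel
theorem tab_KK : ∀ i : Fin 4, 2 * ∑ x ∈ KM, ∑ y ∈ KM, Fz i (x * y) =
    72 * (qTab.getD i.val []).getD 0 0 := by decide +kernel
theorem tab_KL : ∀ i : Fin 4, 2 * ∑ x ∈ KM, ∑ y ∈ LM, Fz i (x * y) =
    72 * (qTab.getD i.val []).getD 1 0 := by decide +kernel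
theorem tab_LL : ∀ i : Fin 4, 2 * ∑ x ∈ LM, ∑ y ∈ LM, Fz i (x * y) =
    72 * (qTab.getD i.val []).getD 2 0 := by decide +kernel

def t1 : W := ⟨(.sr 0, 1), false⟩
def t2 : W := ⟨(.sr 0, .sr 0), false⟩
def ts : W := ⟨1, true⟩

theorem invol_class : ∀ x : W, x * x = 1 → x ≠ 1 →
    (∃ g, g * t1 * g⁻¹ = x ∧ x.w = false) ∨ (∃ g, g * t2 * g⁻¹ = x ∧ x.w = false) ∨
      (∃ g, g * ts * g⁻¹ = x ∧ x.w = true) := by decide +kernel

theorem t_facts : (t1 * t1 = 1 ∧ t1 ≠ 1 ∧ t1.w = false) ∧ (t2 * t2 = 1 ∧ t2 ≠ 1 ∧ t2.w = false) ∧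
    (ts * ts = 1 ∧ ts ≠ 1 ∧ ts.w = true) := by decide +kernel

/-- Generators of the two cyclic subgroups of order six. -/
def zA : W := ⟨(.sr 0, .r 1), false⟩
def zB : W := ⟨(.r 2, .r 2), true⟩

theorem z_facts : zA ^ 6 = 1 ∧ zA ^ 3 = t1 ∧ zB ^ 6 = 1 ∧ zB ^ 3 = ts := by decide +kernel

theorem tab_zA : ∀ m, Fz 0 m - Fz 2 m =
    if ∃ g, g * zA * g⁻¹ = m then 6 else 0 := by decide +kernel
theorem tab_zB : ∀ m, Fz 1 m - Fz 3 m =
    if ∃ g, g * zB * g⁻¹ = m then 6 else 0 := by decide +kernel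
theorem card_zA : (Finset.univ.filter fun m : W => ∃ g, g * zA * g⁻¹ = m).card = 12 := by
  decide +kernel
theorem card_zB : (Finset.univ.filter fun m : W => ∃ g, g * zB * g⁻¹ = m).card = 12 := by
  decide +kernel

/-- The combination giving the indicator of the non-trivial translations. -/
theorem tab_comb : ∀ m, 4 * (Fz 0 m + Fz 1 m + Fz 2 m + Fz 3 m) =
    if isTr m = true ∧ m ≠ 1 then 72 else 0 := by decide +kernel

theorem tr_card : (Finset.univ.filter fun m : W => isTr m = true).card = 9 := by decide +kernel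
theorem card_W : Nat.card W = 72 := by
  rw [Nat.card_eq_fintype_card]
  decide +kernel

theorem tr_mul : ∀ a, isTr a = true → ∀ b, isTr b = true → isTr (a * b) = true := by decide +kernel
theorem tr_one : isTr 1 = true := by decide +kernel
theorem tr_inv : ∀ a, isTr a = true → isTr a⁻¹ = true := by decide +kernel

/-- The possible column sets. -/
def candTab : List (List (List ℤ)) := [
  [[1, 1, 1, 0], [1, 0, 0, 1], [1, 0, 0, 1], [0, 1, 1, 1], [0, 1, 0, 0], [0, 0, 1, 1], [0, 0, 1, 0]],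
  [[1, 1, 0, 0], [1, 0, 1, 1], [1, 0, 0, 1], [0, 1, 1, 1], [0, 1, 1, 0], [0, 0, 1, 0], [0, 0, 0, 1]],
  [[1, 1, 1, 1], [1, 0, 0, 1], [1, 0, 0, 0], [0, 1, 1, 0], [0, 1, 0, 0], [0, 0, 1, 1], [0, 0, 1, 0], [0, 0, 0, 1]],
  [[1, 1, 1, 1], [1, 0, 1, 1], [1, 0, -1, 0], [0, 1, 1, 0], [0, 1, 0, 0], [0, 0, 0, 1], [0, 0, 0, 1]],
  [[1, 1, 0, 1], [1, 0, 1, 1], [1, 0, 0, 0], [0, 1, 1, 0], [0, 1, 1, 0], [0, 0, 1, 1], [0, 0, 0, 1]],
  [[1, 1, 1, 1], [1, 0, 0, 1], [1, 0, 0, 0], [0, 1, 1, 1], [0, 1, 0, -1], [0, 0, 1, 0], [0, 0, 1, 0]]]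

theorem run_mem : ∀ s ∈ ColEnum.run gramN fsN 4, s ∈ candTab := by decide +kernel

end CfsgLib.NineModel
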