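import Cfsg.Agent.Lib.Derangements.TIReal

/-!
Counting of products from two invariant sets of involutions over a subgroup with trivial
intersection set.
-/

set_option autoImplicit false
set_option linter.style.haveILetI false

namespace CfsgLib.TISets

open scoped ComplexConjugate
open CfsgLib

universe u v

variable {G : Type u} [Group G] [Fintype G]

/-- An invariant set of involutions. -/
structure InvSet (K : Finset G) : Prop where
  invol : ∀ x ∈ K, x * x = 1
  conj_mem : ∀ x ∈ K, ∀ h : G, h * x * h⁻¹ ∈ K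

/-- The number of expressions as a product from two sets. -/
noncomputable def setPairs (K L : Finset G) (g : G) : ℂ :=
  haveI := Classical.decEq G
  ((K.filter fun x => x * g ∈ L).card : ℂ)

/-- The real part of the sum over a set. -/
noncomputable def setSum (K : Finset G) (χ : Cfsg.IrrCharacter G) : ℝ :=
  (∑ x ∈ K, (χ : G → ℂ) x).re

variable {K L : Finset G}

theorem sum_setPairs_mul (hK : InvSet K) (f : G → ℂ) :
    ∑ g, setPairs K L g * f g = ∑ x ∈ K, ∑ y ∈ L, f (x * y) := by
  classical
  simp only [setPairs, Finset.card_filter, Nat.cast_sum, Nat.cast_ite, Nat.cast_one, Nat.cast_zero,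
    Finset.sum_mul, ite_mul, one_mul, zero_mul]
  rw [Finset.sum_comm]
  refine Finset.sum_congr rfl fun x hx => ?_
  have hxx : x * x = 1 := hK.invol x hx
  rw [← Finset.sum_filter]
  refine Finset.sum_nbij' (fun g => x * g) (fun y => x * y) ?_ ?_ ?_ ?_ ?_
  · intro g hg
    simpa using hg
  · intro y hy
    simp [← mul_assoc, hxx]
    simpa using hy
  · intro g _
    simp [← mul_assoc, hxx]
  · intro y _
    simp [← mul_assoc, hxx]
  · intro g _
    simp [← mul_assoc, hxx]

theorem coe_setSum (hK : InvSet K) (χ : Cfsg.IrrCharacter G) :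
    (setSum K χ : ℂ) = ∑ x ∈ K, (χ : G → ℂ) x := by
  refine Complex.conj_eq_iff_re.mp ?_
  rw [map_sum]
  refine Finset.sum_congr rfl fun x hx => ?_
  rw [← Char.IsIrrCharacter.apply_inv χ.2, inv_eq_of_mul_eq_one_right (hK.invol x hx)]

theorem sum_mul_set (hK : InvSet K) (χ : Cfsg.IrrCharacter G) (y : G) :
    ∑ x ∈ K, (χ : G → ℂ) (y * x) =
      (χ : G → ℂ) y * (∑ x ∈ K, (χ : G → ℂ) x) / (χ : G → ℂ) 1 := by
  classical
  apply mul_left_cancel₀ (Char.card_ne_zero (G := G))
  have h1 : ∀ h : G, ∑ x ∈ K, (χ : G → ℂ) (y * (h * x * h⁻¹)) = ∑ x ∈ K, (χ : G → ℂ) (y * x) := by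
    intro h
    refine Finset.sum_nbij' (fun x => h * x * h⁻¹) (fun x => h⁻¹ * x * h) ?_ ?_ ?_ ?_ ?_
    · exact fun x hx => hK.conj_mem x hx h
    · intro x hx
      have := hK.conj_mem x hx h⁻¹
      rwa [inv_inv] at this
    · intro x _; group
    · intro x _; group
    · intro x _; rfl
  calc (Nat.card G : ℂ) * ∑ x ∈ K, (χ : G → ℂ) (y * x)
      = ∑ _h : G, ∑ x ∈ K, (χ : G → ℂ) (y * x) := by
        rw [Finset.sum_const, Finset.card_univ, nsmul_eq_mul, Nat.card_eq_fintype_card]
    _ = ∑ h : G, ∑ x ∈ K, (χ : G → ℂ) (y * (h * x * h⁻¹)) :=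
        Finset.sum_congr rfl fun h _ => (h1 h).symm
    _ = _ := by
        rw [Finset.sum_comm]
        simp only [Char.IsIrrCharacter.sum_mul_conjugate χ.2, Finset.mul_sum, Finset.sum_div]
        exact Finset.sum_congr rfl fun x _ => by ring

theorem classInner_setPairs (hK : InvSet K) (hL : InvSet L) (χ : Cfsg.IrrCharacter G) :
    Cfsg.classInner (setPairs K L) (χ : G → ℂ) =
      (setSum K χ : ℂ) * (setSum L χ : ℂ) / ((Nat.card G : ℂ) * (χ : G → ℂ) 1) := by
  rw [Cfsg.classInner, sum_setPairs_mul hK]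
  have h2 : ∀ x ∈ K, ∀ y ∈ L, conj ((χ : G → ℂ) (x * y)) = (χ : G → ℂ) (y * x) := by
    intro x hx y hy
    rw [← Char.IsIrrCharacter.apply_inv χ.2, mul_inv_rev,
      inv_eq_of_mul_eq_one_right (hK.invol x hx), inv_eq_of_mul_eq_one_right (hL.invol y hy)]
  rw [Finset.sum_congr rfl fun x hx => Finset.sum_congr rfl (h2 x hx), Finset.sum_comm,
    Finset.sum_congr rfl fun y _ => sum_mul_set hK χ y, ← Finset.sum_div, ← Finset.sum_mul,
    coe_setSum hK, coe_setSum hL]
  have hc := Char.card_ne_zero (G := G)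
  have h1 := Char.IsIrrCharacter.apply_one_ne_zero χ.2
  field_simp

theorem setPairs_class (hK : InvSet K) (hL : InvSet L) :
    Cfsg.IsClassFunction G (setPairs K L) := by
  classical
  intro g h
  unfold setPairs
  norm_cast
  refine Finset.card_nbij' (fun x => h⁻¹ * x * h) (fun x => h * x * h⁻¹) ?_ ?_ ?_ ?_
  · intro x hx
    simp only [Finset.coe_filter, Set.mem_ofPred_eq] at hx ⊢
    refine ⟨by have := hK.conj_mem x hx.1 h⁻¹; rwa [inv_inv] at this, ?_⟩
    have := hL.conj_mem _ hx.2 h⁻¹
    rw [show h⁻¹ * x * h * g = h⁻¹ * (x * (h * g * h⁻¹)) * h⁻¹⁻¹ by group]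
    exact this
  · intro x hx
    simp only [Finset.coe_filter, Set.mem_ofPred_eq] at hx ⊢
    refine ⟨hK.conj_mem x hx.1 h, ?_⟩
    rw [show h * x * h⁻¹ * (h * g * h⁻¹) = h * (x * g) * h⁻¹ by group]
    exact hL.conj_mem _ hx.2 h
  · intro x _
    simp [mul_assoc]
  · intro x _
    simp [mul_assoc]

variable {M : Type v} [Group M] [Fintype M] {H : Subgroup G} {e : M ≃* H} {A : G → Prop}

theorem sum_coef_setSum (hK : InvSet K) (hTI : TIPairs.IsTI H A) {F : M → ℂ}
    (hF : TIReal.Adm H e A F) :
    ∑ χ : Cfsg.IrrCharacter G, (TIReal.coef H e F χ : ℝ) * setSum K χ = 0 := by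
  apply Complex.ofReal_injective
  push_cast
  simp only [coe_setSum hK, Finset.mul_sum]
  rw [Finset.sum_comm, Finset.sum_eq_zero]
  intro x hx
  rw [← TIReal.ind_eq_sum hF, TIReal.ind_invol hTI hF (hK.invol x hx)]

/-- The bilinear counting identity. -/
theorem sum_coef_sets (hK : InvSet K) (hL : InvSet L) (hTI : TIPairs.IsTI H A) {F : M → ℂ}
    (hF : TIReal.Adm H e A F) {KM LM : Finset M} (hKM : ∀ m, m ∈ KM ↔ (e m : G) ∈ K)
    (hLM : ∀ m, m ∈ LM ↔ (e m : G) ∈ L) :
    (Nat.card M : ℂ) * ((∑ χ : Cfsg.IrrCharacter G,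
        (TIReal.coef H e F χ : ℝ) * (setSum K χ * setSum L χ) / TIPairs.deg χ : ℝ) : ℂ) =
      (Nat.card G : ℂ) * ∑ x ∈ KM, ∑ y ∈ LM, F (x * y) := by
  classical
  cases nonempty_fintype H
  have hsum : ∀ m, A (e m : G) → setPairs K L (e m : G) =
      ((KM.filter fun x => x * m ∈ LM).card : ℂ) := by
    intro m hm
    unfold setPairs
    norm_cast
    symm
    refine Finset.card_bij (fun x _ => (e x : G)) ?_ ?_ ?_
    · intro x hx
      simp only [Finset.mem_filter] at hx ⊢
      refine ⟨(hKM x).mp hx.1, ?_⟩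
      rw [← Subgroup.coe_mul, ← map_mul]
      exact (hLM _).mp hx.2
    · intro x _ y _ h
      exact e.injective (Subtype.ext h)
    · intro x hx
      simp only [Finset.mem_filter] at hx
      have hxx := hK.invol x hx.1
      have hy := hL.invol _ hx.2
      have hxi : x⁻¹ = x := inv_eq_of_mul_eq_one_right hxx
      have hconj : x⁻¹ * (e m : G) * x = ((e m)⁻¹ : H) := by
        rw [Subgroup.coe_inv, hxi, eq_inv_iff_mul_eq_one]
        rw [show x * (e m : G) * x * (e m : G) = x * e m * (x * e m) by group, hy]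
      have hxH : x ∈ H := hTI.mem_of_conj _ (e m).2 hm x (hconj ▸ SetLike.coe_mem _)
      refine ⟨e.symm ⟨x, hxH⟩, ?_, by simp⟩
      simp only [Finset.mem_filter]
      refine ⟨(hKM _).mpr (by simpa using hx.1), (hLM _).mpr ?_⟩
      simpa using hx.2
  have hloc : Cfsg.classInner (setPairs K L) (TIReal.ind H e F) =
      (Nat.card M : ℂ)⁻¹ * ∑ x ∈ KM, ∑ y ∈ LM, F (x * y) := by
    rw [← Char.classInner_conj_symm (TIReal.ind H e F) (setPairs K L),
      TIReal.classInner_ind (setPairs_class hK hL), Char.classInner_conj_symm, Cfsg.classInner]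
    congr 1
    calc ∑ m, setPairs K L (e m : G) * conj (F m)
        = ∑ m, ((KM.filter fun x => x * m ∈ LM).card : ℂ) * F m := by
          refine Finset.sum_congr rfl fun m _ => ?_
          rw [hF.real]
          by_cases hm : F m = 0
          · simp [hm]
          · rw [hsum m (hF.supp m hm)]
      _ = ∑ x ∈ KM, ∑ y ∈ LM, F (x * y) := by
          simp only [Finset.card_filter, Nat.cast_sum, Nat.cast_ite, Nat.cast_one, Nat.cast_zero,
            Finset.sum_mul, ite_mul, one_mul, zero_mul]
          rw [Finset.sum_comm]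
          refine Finset.sum_congr rfl fun x hx => ?_
          have hxx : x * x = 1 := by
            apply e.injective
            rw [map_mul, map_one]
            exact Subtype.ext (hK.invol _ ((hKM x).mp hx))
          rw [← Finset.sum_filter]
          refine Finset.sum_nbij' (fun g => x * g) (fun y => x * y) ?_ ?_ ?_ ?_ ?_
          · intro g hg
            simpa using hg
          · intro y hy
            simp [← mul_assoc, hxx]
            simpa using hy
          · intro g _
            simp [← mul_assoc, hxx]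
          · intro y _
            simp [← mul_assoc, hxx]
          · intro g _
            simp [← mul_assoc, hxx]
  have hexp : Cfsg.classInner (setPairs K L) (TIReal.ind H e F) =
      ∑ χ : Cfsg.IrrCharacter G, (TIReal.coef H e F χ : ℂ) *
        ((setSum K χ : ℂ) * (setSum L χ : ℂ) / ((Nat.card G : ℂ) * (χ : G → ℂ) 1)) := by
    rw [Char.IsClassFunction.eq_sum_irr
      (Char.IsGeneralizedCharacter.isClassFunction (TIReal.gen_ind hF)), Char.classInner_sum_right]
    refine Finset.sum_congr rfl fun χ _ => ?_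
    rw [Char.classInner_smul_right, classInner_setPairs hK hL, ← TIReal.coe_coef hF, map_intCast]
  have hG := Char.card_ne_zero (G := G)
  have hM := Char.card_ne_zero (G := M)
  push_cast
  simp only [TIPairs.coe_deg]
  have key := hexp.symm.trans hloc
  calc (Nat.card M : ℂ) * ∑ χ : Cfsg.IrrCharacter G, (TIReal.coef H e F χ : ℂ) *
        ((setSum K χ : ℂ) * (setSum L χ : ℂ)) / (χ : G → ℂ) 1
      = (Nat.card M : ℂ) * ((Nat.card G : ℂ) * ∑ χ : Cfsg.IrrCharacter G,
        (TIReal.coef H e F χ : ℂ) *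
          ((setSum K χ : ℂ) * (setSum L χ : ℂ) / ((Nat.card G : ℂ) * (χ : G → ℂ) 1))) := by
        congr 1
        rw [Finset.mul_sum]
        refine Finset.sum_congr rfl fun χ _ => ?_
        field_simp
    _ = _ := by rw [key]; field_simp

end CfsgLib.TISets
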