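import Mathlib

/-!
# The universal property of finite dihedral groups
-/

set_option autoImplicit false

namespace CfsgLib.Derangements.DihedralHom

variable {G : Type*} [Group G] {n : ℕ} [NeZero n]

theorem pow_val_add {c : G} (hc : c ^ n = 1) (i j : ZMod n) :
    c ^ (i + j).val = c ^ i.val * c ^ j.val := by
  rw [ZMod.val_add, ← pow_add]
  conv_rhs => rw [← Nat.mod_add_div (i.val + j.val) n, pow_add, pow_mul, hc, one_pow, mul_one]

theorem pow_val_sub {c : G} (hc : c ^ n = 1) (i j : ZMod n) :
    c ^ (i - j).val = c ^ i.val * (c ^ j.val)⁻¹ := by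
  rw [eq_mul_inv_iff_mul_eq, ← pow_val_add hc, sub_add_cancel]

theorem mul_pow_val {c x : G} (hx : x * x = 1) (hxc : x * c * x = c⁻¹) (k : ℕ) :
    c ^ k * x = x * (c ^ k)⁻¹ := by
  have hinv : x⁻¹ = x := inv_eq_of_mul_eq_one_right hx
  have : x * c ^ k * x⁻¹ = (c ^ k)⁻¹ := by
    rw [← conj_pow, hinv, hxc, inv_pow]
  rw [← this, hinv, ← mul_assoc, ← mul_assoc, hx, one_mul]

/-- The homomorphism from the dihedral group sending `r i` to `c ^ i` and `sr i` to `x * c ^ i`. -/
def lift (c x : G) (hc : c ^ n = 1) (hx : x * x = 1) (hxc : x * c * x = c⁻¹) :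
    DihedralGroup n →* G where
  toFun d := match d with
    | .r i => c ^ i.val
    | .sr i => x * c ^ i.val
  map_one' := by
    show c ^ (0 : ZMod n).val = 1
    rw [ZMod.val_zero, pow_zero]
  map_mul' := by
    rintro (i | i) (j | j)
    · simp only [DihedralGroup.r_mul_r]
      exact pow_val_add hc i j
    · simp only [DihedralGroup.r_mul_sr]
      rw [pow_val_sub hc, ← mul_assoc (c ^ i.val) x, mul_pow_val hx hxc, mul_assoc x]
      congr 1
      exact (((Commute.refl c).pow_pow j.val i.val).inv_right).eq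
    · simp only [DihedralGroup.sr_mul_r]
      rw [pow_val_add hc, mul_assoc]
    · simp only [DihedralGroup.sr_mul_sr]
      rw [pow_val_sub hc, mul_assoc, ← mul_assoc (c ^ i.val), mul_pow_val hx hxc,
        ← mul_assoc, ← mul_assoc, hx, one_mul]
      exact (((Commute.refl c).pow_pow j.val i.val).inv_right).eq

@[simp] theorem lift_r (c x : G) (hc : c ^ n = 1) (hx : x * x = 1) (hxc : x * c * x = c⁻¹) (i : ZMod n) :
    lift c x hc hx hxc (DihedralGroup.r i) = c ^ i.val := rfl

@[simp] theorem lift_sr (c x : G) (hc : c ^ n = 1) (hx : x * x = 1) (hxc : x * c * x = c⁻¹) (i : ZMod n) :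
    lift c x hc hx hxc (DihedralGroup.sr i) = x * c ^ i.val := rfl

end CfsgLib.Derangements.DihedralHom
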