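import Cfsg.Agent.Lib.Derangements.OrthInvariant
import Cfsg.Agent.Lib.Classical.Discriminant
import Cfsg.Agent.Lib.Orth.Spinor
import Cfsg.Agent.Lib.Orth.Bridge
import Cfsg.Prelude.Def_GeometricClasses

/-!
# Involutive isometries: the spinor norm and the type of the negated space
-/

set_option autoImplicit false
set_option linter.unusedSectionVars false

namespace CfsgLib.Derangements.OrthInv

open Module QuadraticMap CfsgLib.Classical CfsgLib.Derangements.LinElusive CfsgLib.Derangements.NullInv CfsgLib.Orth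

variable {F : Type*} [Field F] [Fintype F] {V : Type*} [AddCommGroup V] [Module F V] [FiniteDimensional F V]
  {Q : QuadraticForm F V}

theorem prod_refl_apply : ∀ {k : ℕ} (b : Fin k → V), (∀ i, Q (b i) ≠ 0) → (∀ i j, i ≠ j → polar Q (b i) (b j) = 0) →
    (∀ i, (((List.ofFn b).map (refl Q)).prod).1 (b i) = -b i) ∧
      ∀ v, (∀ i, polar Q (b i) v = 0) → (((List.ofFn b).map (refl Q)).prod).1 v = v
  | 0, _, _, _ => ⟨fun i => i.elim0, fun v _ => rfl⟩
  | k + 1, b, h0, hp => by
    obtain ⟨hneg, hfix⟩ := prod_refl_apply (fun i => b i.succ) (fun i => h0 _)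
      (fun i j h => hp _ _ fun h' => h (Fin.succ_injective _ h'))
    rw [List.ofFn_succ, List.map_cons, List.prod_cons]
    refine ⟨fun i => ?_, fun v hv => ?_⟩
    · show (refl Q (b 0)).1 ((((List.ofFn fun i => b i.succ).map (refl Q)).prod).1 (b i)) = _
      refine Fin.cases ?_ (fun j => ?_) i
      · rw [hfix _ fun j => hp _ _ (Fin.succ_ne_zero j), refl_self Q (h0 0)]
      · rw [hneg, map_neg, refl_fix Q (hp _ _ (Fin.succ_ne_zero j).symm)]
    · show (refl Q (b 0)).1 ((((List.ofFn fun i => b i.succ).map (refl Q)).prod).1 v) = _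
      rw [hfix v fun j => hv _, refl_fix Q (hv 0)]

/-- Minus one on a non-degenerate subspace, and when it lies in the commutator subgroup. -/
theorem exists_negation (hN : (polarBilin Q).Nondegenerate) (h2 : (2 : F) ≠ 0) {X : Submodule F V}
    (hX : NondegOn (polarBilin Q) X) :
    ∃ g : orthGroup Q, (∀ x ∈ X, g.1 x = -x) ∧ (∀ v ∈ perp (polarBilin Q) X, g.1 v = v) ∧
      (g ∈ commutator (orthGroup Q) → Even (finrank F X)) ∧
      ∀ e, finrank F X = 2 * e → (g ∈ commutator (orthGroup Q) ↔ (PlusOn Q X ↔ IsSquare ((-1 : F) ^ e))) := by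
  classical
  haveI : Finite V := Module.finite_of_finite F
  haveI : Invertible (2 : F) := invertibleOfNonzero h2
  set BX : LinearMap.BilinForm F X := polarBilin (Q.comp X.subtype)
  have hBn : BX.Nondegenerate := comp_nondeg hX
  have hBS : BX.IsSymm := ⟨fun x y => by simp only [BX, polarBilin_apply_apply]; exact polar_comm _ x y⟩
  obtain ⟨b, hb⟩ := LinearMap.BilinForm.exists_orthogonal_basis (B := BX) ⟨fun x y => by simpa using hBS.eq x y⟩
  have hbd : ∀ i, BX (b i) (b i) ≠ 0 := fun i =>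
    LinearMap.BilinForm.iIsOrtho.not_isOrtho_basis_self_of_nondegenerate hb hBn i
  have hBd : ∀ x : X, BX x x = 2 * Q (x : V) := fun x => by simp [BX, polar_self]
  have hb0 : ∀ i, Q (b i : V) ≠ 0 := fun i h => hbd i (by rw [hBd, h, mul_zero])
  have hbp : ∀ i j, i ≠ j → polar Q (b i : V) (b j) = 0 := fun i j h => by
    have h1 := hb h
    simp only [Function.onFun, BX, polar_comp] at h1
    exact h1
  obtain ⟨hneg, hfix⟩ := prod_refl_apply (fun i => (b i : V)) hb0 hbp
  set g := ((List.ofFn fun i => (b i : V)).map (refl Q)).prod with hg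
  have hiff := prod_refl_mem_commutator_iff hN h2 (List.ofFn fun i => (b i : V))
    (by simpa [List.mem_ofFn] using hb0)
  rw [← hg, List.length_ofFn, List.map_ofFn, List.prod_ofFn] at hiff
  refine ⟨g, fun x hx => ?_, fun v hv => hfix v fun i => mem_perp.1 hv _ (b i).2, fun h => (hiff.1 h).1, fun e he => ?_⟩
  · have : (g.1 : V →ₗ[F] V).comp X.subtype = -X.subtype := b.ext fun i => by simpa using hneg i
    simpa using LinearMap.congr_fun this ⟨x, hx⟩
  rw [hiff]
  simp only [show Even (finrank F X) from ⟨e, by omega⟩, true_and, Function.comp_apply]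
  set P := ∏ i, Q (b i : V) with hP
  have hP0 : P ≠ 0 := Finset.prod_ne_zero_iff.2 fun i _ => hb0 i
  have hdet : (LinearMap.BilinForm.toMatrix b BX).det = ((2 : F) ^ e * (2 : F) ^ e) * P := by
    have hd : LinearMap.BilinForm.toMatrix b BX = Matrix.diagonal fun i => 2 * Q (b i : V) := by
      ext i j
      rw [LinearMap.BilinForm.toMatrix_apply]
      rcases eq_or_ne i j with rfl | h
      · rw [Matrix.diagonal_apply_eq, hBd]
      · rw [Matrix.diagonal_apply_ne _ h]; exact hb h
    rw [hd, Matrix.det_diagonal, Finset.prod_mul_distrib, Finset.prod_const, Finset.card_univ, Fintype.card_fin,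
      ← pow_add, show e + e = finrank F X by omega, ← hP]
  have hplus : PlusOn Q X ↔ IsSquare ((-1 : F) ^ e * P) := by
    have h1 : IsSquare ((-1 : F) ^ e * P) ↔ IsSquare ((-1 : F) ^ e * (LinearMap.BilinForm.toMatrix b BX).det) := by
      rw [hdet]
      have h2e : (2 : F) ^ e ≠ 0 := pow_ne_zero _ h2
      constructor
      · rintro ⟨s, hs⟩; exact ⟨s * 2 ^ e, by linear_combination ((2 : F) ^ e * 2 ^ e) * hs⟩
      · rintro ⟨s, hs⟩; exact ⟨s / 2 ^ e, by field_simp; linear_combination hs⟩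
    rw [h1, plusOn_iff he]
    constructor
    · rintro ⟨U, hU, hUd⟩
      exact Discriminant.isSquare_of_lagrangian BX hBS he U hUd (Sing.null (Q := Q.comp X.subtype) hU) b
    · intro hsq
      obtain ⟨U, hUd, hU⟩ := Discriminant.exists_lagrangian_of_isSquare h2 BX hBn hBS he b hsq
      refine ⟨U, fun u hu => ?_, hUd⟩
      have h1 := hU u hu u hu
      rw [hBd, mul_eq_zero] at h1
      exact h1.resolve_left h2
  rw [hplus]
  have hm : ((-1 : F) ^ e) ≠ 0 := pow_ne_zero _ (neg_ne_zero.2 one_ne_zero)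
  rw [← quadraticChar_one_iff_isSquare hP0, ← quadraticChar_one_iff_isSquare hm,
    ← quadraticChar_one_iff_isSquare (mul_ne_zero hm hP0), map_mul (quadraticChar F)]
  rcases quadraticChar_dichotomy hm with h | h <;> rcases quadraticChar_dichotomy hP0 with h' | h' <;> simp [h, h']

/-- The eigenspaces of an involutive isometry. -/
theorem involution_facts (hN : (polarBilin Q).Nondegenerate) (h2 : (2 : F) ≠ 0) {L : Module.End F V}
    (hQL : ∀ v, Q (L v) = Q v) (hL : ∀ v, L (L v) = v) :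
    IsCompl (L.eigenspace (-1 : F)) (L.eigenspace 1) ∧
      (∀ e ∈ L.eigenspace (-1 : F), ∀ c ∈ L.eigenspace 1, polarBilin Q e c = 0) ∧
      NondegOn (polarBilin Q) (L.eigenspace (-1 : F)) ∧ NondegOn (polarBilin Q) (L.eigenspace 1) := by
  have hE : ∀ v, v ∈ L.eigenspace (-1 : F) ↔ L v = -v := fun v => by simp [Module.End.mem_eigenspace_iff]
  have hC : ∀ v, v ∈ L.eigenspace (1 : F) ↔ L v = v := fun v => by simp [Module.End.mem_eigenspace_iff]
  have hsup : L.eigenspace (-1 : F) ⊔ L.eigenspace 1 = ⊤ := eq_top_iff.2 fun v _ => by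
    have : v = (2 : F)⁻¹ • (v - L v) + (2 : F)⁻¹ • (v + L v) := by
      rw [← smul_add, show v - L v + (v + L v) = (2 : F) • v by rw [two_smul]; abel, smul_smul, inv_mul_cancel₀ h2,
        one_smul]
    rw [this]
    refine Submodule.add_mem_sup ((hE _).2 ?_) ((hC _).2 ?_)
    · rw [map_smul, map_sub, hL, ← smul_neg, neg_sub]
    · rw [map_smul, map_add, hL, add_comm]
  have horth : ∀ e ∈ L.eigenspace (-1 : F), ∀ c ∈ L.eigenspace 1, polarBilin Q e c = 0 := fun e he c hc => by
    have h := polar_map hQL e c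
    rw [(hE e).1 he, (hC c).1 hc, map_neg, LinearMap.neg_apply, neg_eq_iff_add_eq_zero, ← two_mul] at h
    exact (mul_eq_zero.1 h).resolve_left h2
  refine ⟨⟨Submodule.disjoint_def.2 fun v hv hv' => ?_, codisjoint_iff.2 hsup⟩, horth,
    nondegOn_iff.2 fun x hx hx' => hN.2 x fun v => ?_, nondegOn_iff.2 fun x hx hx' => hN.2 x fun v => ?_⟩
  · have h := ((hE v).1 hv).symm.trans ((hC v).1 hv')
    rw [neg_eq_iff_add_eq_zero, ← two_smul F] at h
    exact (smul_eq_zero.1 h).resolve_left h2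
  all_goals
    obtain ⟨e, he, c, hc, rfl⟩ := Submodule.mem_sup.1 (hsup ▸ Submodule.mem_top (x := v))
    rw [map_add, LinearMap.add_apply]
  · rw [hx' e he, polar_refl Q _ _ (horth x hx c hc), add_zero]
  · rw [horth e he x hx, hx' c hc, add_zero]

variable {ι : Type} [Fintype ι] [DecidableEq ι] {Qf : (ι → F) → F}

theorem isometry_omega (P : QuadraticForm F (ι → F)) (hQf : ∀ v, Qf v = P v) {x : GL ι F}
    (hx : x ∈ Cfsg.Geo.omegaGL Qf) (v : ι → F) : P (Matrix.toLin' (x : Matrix ι ι F) v) = P v := by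
  obtain ⟨g, -, rfl⟩ := hx
  rw [← hQf, ← hQf]
  exact g.2 v v

/-- An involution in `Ω`: the type of its negated space. -/
theorem omega_involution (P : QuadraticForm F (ι → F)) (hQf : ∀ v, Qf v = P v) (hP : (polarBilin P).Nondegenerate)
    (h2 : (2 : F) ≠ 0) {x : GL ι F} (hx : x ∈ Cfsg.Geo.omegaGL Qf)
    (hinv : ∀ v, Matrix.toLin' (x : Matrix ι ι F) (Matrix.toLin' (x : Matrix ι ι F) v) = v) :
    ∃ e, finrank F (Module.End.eigenspace (Matrix.toLin' (x : Matrix ι ι F)) (-1 : F)) = 2 * e ∧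
      (PlusOn P (Module.End.eigenspace (Matrix.toLin' (x : Matrix ι ι F)) (-1 : F)) ↔ IsSquare ((-1 : F) ^ e)) := by
  obtain ⟨hc, horth, hEn, -⟩ := involution_facts hP h2 (isometry_omega P hQf hx) hinv
  obtain ⟨g, hgE, hgC, heven, hiff⟩ := exists_negation hP h2 hEn
  obtain ⟨g₀, hg₀, rfl⟩ := hx
  have hg : toOrth P hQf g₀ = g := Subtype.ext <| LinearEquiv.ext fun v => by
    obtain ⟨a, ha, c, hc', rfl⟩ := Submodule.mem_sup.1 (hc.sup_eq_top ▸ Submodule.mem_top (x := v))
    rw [toOrth_apply, map_add, hgE a ha, hgC c (mem_perp.2 fun w hw => horth w hw c hc'), Matrix.mulVec_add]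
    rw [Module.End.mem_eigenspace_iff, neg_one_smul] at ha
    rw [Module.End.mem_eigenspace_iff, one_smul] at hc'
    exact congrArg₂ (· + ·) ha hc'
  have hmem : g ∈ commutator (orthGroup P) := hg ▸ (mem_Omega_iff P hQf g₀).1 hg₀
  obtain ⟨e, he⟩ := heven hmem
  exact ⟨e, he.trans (two_mul e).symm, (hiff e (he.trans (two_mul e).symm)).1 hmem⟩

/-- An involution of `Ω` negating a given subspace. -/
theorem exists_omega_involution (P : QuadraticForm F (ι → F)) (hQf : ∀ v, Qf v = P v)
    (hP : (polarBilin P).Nondegenerate) (h2 : (2 : F) ≠ 0) {X : Submodule F (ι → F)}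
    (hX : NondegOn (polarBilin P) X) {e : ℕ} (he : finrank F X = 2 * e)
    (htype : PlusOn P X ↔ IsSquare ((-1 : F) ^ e)) :
    ∃ x : GL ι F, x ∈ Cfsg.Geo.omegaGL Qf ∧
      (∀ v, Matrix.toLin' (x : Matrix ι ι F) (Matrix.toLin' (x : Matrix ι ι F) v) = v) ∧
      (∀ v ∈ X, Matrix.toLin' (x : Matrix ι ι F) v = -v) ∧
      ∀ v ∈ perp (polarBilin P) X, Matrix.toLin' (x : Matrix ι ι F) v = v := by
  obtain ⟨g, hgX, hgC, -, hiff⟩ := exists_negation hP h2 hX
  refine ⟨((toOrth P hQf).symm g : GL ι F), ⟨(toOrth P hQf).symm g, ?_, rfl⟩, ?_, ?_, ?_⟩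
  · rw [SetLike.mem_coe, mem_Omega_iff P hQf, MulEquiv.apply_symm_apply]
    exact (hiff e he).2 htype
  · intro v
    simp only [toOrth_symm_coe, Matrix.toLin'_apply, matOf_mulVec]
    obtain ⟨a, ha, c, hc, rfl⟩ := Submodule.mem_sup.1 (hX.isCompl.sup_eq_top ▸ Submodule.mem_top (x := v))
    rw [map_add g.1, map_add g.1, hgX a ha, hgC c hc, map_neg g.1, hgX a ha, hgC c hc, neg_neg]
  · intro v hv
    rw [toOrth_symm_coe, Matrix.toLin'_apply, matOf_mulVec, hgX v hv]
  · intro v hv
    rw [toOrth_symm_coe, Matrix.toLin'_apply, matOf_mulVec, hgC v hv]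

end CfsgLib.Derangements.OrthInv
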