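import Mathlib

/-!
# Divisibility of numbers of subspaces, flags and complementary pairs by a prime
-/

set_option autoImplicit false

namespace CfsgLib.Derangements.LinElusive

open Module

variable {F : Type*} [Field F] [Fintype F] {V : Type*} [AddCommGroup V] [Module F V] [Finite V]

/-- The number of linearly independent `k`-tuples. -/
noncomputable def liCount (F : Type*) [Field F] (V : Type*) [AddCommGroup V] [Module F V] (k : ℕ) : ℕ :=
  Nat.card {s : Fin k → V // LinearIndependent F s}

theorem liCount_eq {k : ℕ} (hk : k ≤ finrank F V) :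
    liCount F V k = ∏ i : Fin k, Fintype.card F ^ i.1 * (Fintype.card F ^ (finrank F V - i.1) - 1) := by
  rw [liCount, card_linearIndependent hk]
  refine Finset.prod_congr rfl fun i _ => ?_
  rw [Nat.mul_sub_one, ← pow_add, Nat.add_sub_cancel' (by omega)]

/-- `r` does not divide a number of independent tuples when none of the relevant exponents is a multiple of the
order of `q` modulo `r`. -/
theorem not_dvd_liCount {k : ℕ} (hk : k ≤ finrank F V) {r : ℕ} [Fact r.Prime] (hrq : ¬ r ∣ Fintype.card F)
    (h : ∀ t < k, ¬ orderOf (Fintype.card F : ZMod r) ∣ finrank F V - t) : ¬ r ∣ liCount F V k := by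
  rw [liCount_eq hk, (Fact.out : r.Prime).prime.dvd_finset_prod_iff]
  rintro ⟨i, -, hi⟩
  rcases (Fact.out : r.Prime).dvd_mul.1 hi with h1 | h1
  · exact hrq ((Fact.out : r.Prime).dvd_of_dvd_pow h1)
  · refine h i.1 i.2 (orderOf_dvd_of_pow_eq_one ?_)
    have h2 : ((Fintype.card F ^ (finrank F V - i.1) - 1 : ℕ) : ZMod r) = 0 :=
      (ZMod.natCast_eq_zero_iff _ _).2 h1
    rw [Nat.cast_sub (Nat.one_le_pow _ _ Fintype.card_pos), sub_eq_zero] at h2
    simpa using h2

/-- Tuples counted through the subspace they span. -/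
theorem card_subspace_mul {m : ℕ} :
    Nat.card {W : Submodule F V // finrank F W = m} * liCount F (Fin m → F) m = liCount F V m := by
  classical
  haveI : Fintype {W : Submodule F V // finrank F W = m} := Fintype.ofFinite _
  let f : {s : Fin m → V // LinearIndependent F s} → {W : Submodule F V // finrank F W = m} :=
    fun s => ⟨Submodule.span F (Set.range s.1), by rw [finrank_span_eq_card s.2, Fintype.card_fin]⟩
  rw [liCount, liCount, ← Nat.card_congr (Equiv.sigmaFiberEquiv f), Nat.card_sigma]
  rw [Finset.sum_const_nat (m := Nat.card {s : Fin m → Fin m → F // LinearIndependent F s}) fun W _ => ?_,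
    Finset.card_univ, Nat.card_eq_fintype_card (α := {W : Submodule F V // finrank F W = m})]
  have e : (Fin m → F) ≃ₗ[F] W.1 := LinearEquiv.ofFinrankEq _ _ (by rw [finrank_fin_fun, W.2])
  refine Nat.card_congr
    { toFun := fun s => ⟨fun i => e.symm ⟨s.1.1 i, congrArg Subtype.val s.2 ▸ Submodule.subset_span ⟨i, rfl⟩⟩, ?_⟩
      invFun := fun t => ⟨⟨fun i => (e (t.1 i) : V), ?_⟩, ?_⟩
      left_inv := fun s => by ext; simp
      right_inv := fun t => by ext; simp }
  · refine LinearIndependent.map' ?_ e.symm.toLinearMap e.symm.ker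
    exact LinearIndependent.of_comp W.1.subtype s.1.2
  · exact (t.2.map' e.toLinearMap e.ker).map' W.1.subtype W.1.ker_subtype
  · refine Subtype.ext (Submodule.eq_of_le_of_finrank_eq ?_ ?_)
    · rw [Submodule.span_le]; rintro _ ⟨i, rfl⟩; exact (e (t.1 i)).2
    · rw [W.2]
      exact (finrank_span_eq_card ((t.2.map' e.toLinearMap e.ker).map' W.1.subtype W.1.ker_subtype)).trans
        (Fintype.card_fin m)

/-- `p` does not divide a number of subspaces. -/
theorem not_dvd_card_subspace_char {p : ℕ} [Fact p.Prime] [CharP F p] {m : ℕ} (hm : m ≤ finrank F V) :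
    ¬ p ∣ Nat.card {W : Submodule F V // finrank F W = m} := by
  have h := card_subspace_mul (F := F) (V := V) (m := m)
  rw [liCount_eq hm, liCount_eq (by simp), Finset.prod_mul_distrib, Finset.prod_mul_distrib,
    mul_left_comm] at h
  have h' := Nat.eq_of_mul_eq_mul_left (Finset.prod_pos fun i _ => pow_pos Fintype.card_pos _) h
  intro hd
  have h2 := (dvd_mul_of_dvd_left hd _).trans h'.dvd
  obtain ⟨k, -, hk⟩ := FiniteField.card F p
  obtain ⟨i, -, hi⟩ := ((Fact.out : p.Prime).prime.dvd_finset_prod_iff _).1 h2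
  have h3 : p ∣ Fintype.card F ^ (finrank F V - i.1) := by
    rw [hk, ← pow_mul]
    exact dvd_pow_self p (Nat.mul_ne_zero k.ne_zero (by omega))
  have h4 := Nat.dvd_sub h3 hi
  rw [Nat.sub_sub_self (Nat.one_le_pow _ _ Fintype.card_pos)] at h4
  exact (Fact.out : p.Prime).not_dvd_one h4

/-- `r` does not divide the number of subspaces of dimension `m`. -/
theorem not_dvd_card_subspace {r : ℕ} [Fact r.Prime] (hrq : ¬ r ∣ Fintype.card F) {m : ℕ}
    (hm : m ≤ finrank F V) (h : ∀ t < m, ¬ orderOf (Fintype.card F : ZMod r) ∣ finrank F V - t) :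
    ¬ r ∣ Nat.card {W : Submodule F V // finrank F W = m} := fun hd => by
  refine not_dvd_liCount hm hrq h ?_
  rw [← card_subspace_mul]
  exact dvd_mul_of_dvd_left hd _

theorem card_sigma_const {α : Type*} [Finite α] {β : α → Type*} [∀ a, Finite (β a)] {c : ℕ}
    (h : ∀ a, Nat.card (β a) = c) : Nat.card (Σ a, β a) = Nat.card α * c := by
  haveI := Fintype.ofFinite α
  rw [Nat.card_sigma, Finset.sum_const_nat fun a _ => h a, Finset.card_univ, Nat.card_eq_fintype_card]

/-- Flags `U ≤ W` with `dim U = m`, `dim W = n - m` correspond to pairs of an `m`-space and an `m`-space of an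
`n - m`-dimensional space. -/
theorem card_flags {m : ℕ} (hm : 2 * m ≤ finrank F V) :
    Nat.card {P : Submodule F V × Submodule F V // P.1 ≤ P.2 ∧ finrank F P.1 = m ∧
        finrank F P.2 = finrank F V - m} =
      Nat.card {W : Submodule F V // finrank F W = m} *
        Nat.card {X : Submodule F (Fin (finrank F V - m) → F) // finrank F X = m} := by
  classical
  haveI : FiniteDimensional F V := Module.Finite.of_finite
  let e₀ : {P : Submodule F V × Submodule F V // P.1 ≤ P.2 ∧ finrank F P.1 = m ∧
      finrank F P.2 = finrank F V - m} ≃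
      Σ U : {U : Submodule F V // finrank F U = m},
        {W : Submodule F V // U.1 ≤ W ∧ finrank F W = finrank F V - m} :=
    { toFun := fun P => ⟨⟨P.1.1, P.2.2.1⟩, ⟨P.1.2, P.2.1, P.2.2.2⟩⟩
      invFun := fun x => ⟨(x.1.1, x.2.1), x.2.2.1, x.1.2, x.2.2.2⟩
      left_inv := fun P => rfl
      right_inv := fun x => rfl }
  rw [Nat.card_congr e₀]
  refine card_sigma_const fun U => ?_
  let A : Submodule F (Dual F V) := U.1.dualAnnihilator
  have hA : finrank F A = finrank F V - m := by
    have := Subspace.finrank_add_finrank_dualAnnihilator_eq U.1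
    rw [U.2] at this
    show finrank F U.1.dualAnnihilator = _
    omega
  haveI : Module.Free F A := Module.Free.of_divisionRing F A
  let g : A ≃ₗ[F] (Fin (finrank F V - m) → F) := LinearEquiv.ofFinrankEq _ _ (by rw [hA, finrank_fin_fun])
  let ι : A →ₗ[F] Dual F V := A.subtype
  refine Nat.card_congr
    { toFun := fun W => ⟨((W.1.dualAnnihilator).comap ι).map g.toLinearMap, ?_⟩
      invFun := fun X => ⟨((X.1.map g.symm.toLinearMap).map ι).dualCoannihilator, ?_, ?_⟩
      left_inv := fun W => ?_
      right_inv := fun X => ?_ }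
  · rw [LinearEquiv.finrank_map_eq, (Submodule.comapSubtypeEquivOfLe
      (Submodule.dualAnnihilator_anti W.2.1)).finrank_eq]
    have := Subspace.finrank_add_finrank_dualAnnihilator_eq W.1
    rw [W.2.2] at this
    omega
  · intro v hv
    rw [Submodule.mem_dualCoannihilator]
    intro φ hφ
    obtain ⟨a, -, rfl⟩ := Submodule.mem_map.1 hφ
    exact (Submodule.mem_dualAnnihilator _).1 a.2 v hv
  · have h1 : finrank F ((X.1.map g.symm.toLinearMap).map ι : Submodule F (Dual F V)) = m := by
      rw [(Submodule.equivMapOfInjective ι A.injective_subtype _).symm.finrank_eq, LinearEquiv.finrank_map_eq,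
        X.2]
    have h2 := Subspace.finrank_add_finrank_dualCoannihilator_eq
      ((X.1.map g.symm.toLinearMap).map ι : Submodule F (Dual F V))
    omega
  · refine Subtype.ext ?_
    have hcomp : g.symm.toLinearMap ∘ₗ g.toLinearMap = LinearMap.id := LinearMap.ext fun x => g.symm_apply_apply x
    show Submodule.dualCoannihilator _ = W.1
    rw [← Submodule.map_comp (f := g.toLinearMap), hcomp, Submodule.map_id,
      Submodule.map_comap_eq_self (le_of_le_of_eq (Submodule.dualAnnihilator_anti W.2.1)
        (Submodule.range_subtype A).symm),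
      Subspace.dualAnnihilator_dualCoannihilator_eq]
  · refine Subtype.ext ?_
    show Submodule.map _ (Submodule.comap ι (Submodule.dualAnnihilator _)) = X.1
    have hcomp : g.toLinearMap ∘ₗ g.symm.toLinearMap = LinearMap.id := LinearMap.ext fun x => g.apply_symm_apply x
    rw [Subspace.dualCoannihilator_dualAnnihilator_eq, Submodule.comap_map_eq_of_injective A.injective_subtype,
      ← Submodule.map_comp, hcomp, Submodule.map_id]

/-- `r` does not divide the number of flags. -/
theorem not_dvd_card_flags {r : ℕ} [Fact r.Prime] (hrq : ¬ r ∣ Fintype.card F) {m : ℕ}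
    (hm : 2 * m ≤ finrank F V) (h : ∀ t < 2 * m, ¬ orderOf (Fintype.card F : ZMod r) ∣ finrank F V - t) :
    ¬ r ∣ Nat.card {P : Submodule F V × Submodule F V // P.1 ≤ P.2 ∧ finrank F P.1 = m ∧
        finrank F P.2 = finrank F V - m} := by
  rw [card_flags hm, (Fact.out : r.Prime).dvd_mul]
  rintro (h1 | h1)
  · exact not_dvd_card_subspace hrq (by omega) (fun t ht => h t (by omega)) h1
  · refine not_dvd_card_subspace hrq (by rw [finrank_fin_fun]; omega) (fun t ht => ?_) h1
    rw [finrank_fin_fun, Nat.sub_sub]
    exact h (m + t) (by omega)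

/-- `p` does not divide the number of flags. -/
theorem not_dvd_card_flags_char {p : ℕ} [Fact p.Prime] [CharP F p] {m : ℕ} (hm : 2 * m ≤ finrank F V) :
    ¬ p ∣ Nat.card {P : Submodule F V × Submodule F V // P.1 ≤ P.2 ∧ finrank F P.1 = m ∧
        finrank F P.2 = finrank F V - m} := by
  rw [card_flags hm, (Fact.out : p.Prime).dvd_mul]
  rintro (h1 | h1)
  · exact not_dvd_card_subspace_char (F := F) (p := p) (by omega : m ≤ finrank F V) h1
  · exact not_dvd_card_subspace_char (F := F) (p := p)
      (by rw [finrank_fin_fun]; omega : m ≤ finrank F (Fin (finrank F V - m) → F)) h1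

/-- `r` does not divide the number of complementary pairs. -/
theorem not_dvd_card_pairs {r : ℕ} [Fact r.Prime] (hrq : ¬ r ∣ Fintype.card F) {m : ℕ}
    (hm : m ≤ finrank F V) (h : ∀ t < m, ¬ orderOf (Fintype.card F : ZMod r) ∣ finrank F V - t) :
    ¬ r ∣ Nat.card {P : Submodule F V × Submodule F V // IsCompl P.1 P.2 ∧ finrank F P.1 = m} := by
  classical
  let e₀ : {P : Submodule F V × Submodule F V // IsCompl P.1 P.2 ∧ finrank F P.1 = m} ≃
      Σ U : {U : Submodule F V // finrank F U = m}, {W : Submodule F V // IsCompl U.1 W} :=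
    { toFun := fun P => ⟨⟨P.1.1, P.2.2⟩, ⟨P.1.2, P.2.1⟩⟩
      invFun := fun x => ⟨(x.1.1, x.2.1), x.2.2, x.1.2⟩
      left_inv := fun P => rfl
      right_inv := fun x => rfl }
  rw [Nat.card_congr e₀]
  rw [card_sigma_const (c := Fintype.card F ^ (finrank F V * m - m * m)) fun U => ?_, (Fact.out : r.Prime).dvd_mul]
  · rintro (h1 | h1)
    · exact not_dvd_card_subspace hrq hm h h1
    · exact hrq ((Fact.out : r.Prime).dvd_of_dvd_pow h1)
  · obtain ⟨W₀, hW₀⟩ := exists_isCompl U.1
    let f₀ := U.1.isComplEquivProj ⟨W₀, hW₀⟩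
    haveI : FiniteDimensional F V := Module.Finite.of_finite
    let φ : (V →ₗ[F] U.1) →ₗ[F] (U.1 →ₗ[F] U.1) := LinearMap.lcomp F U.1 U.1.subtype
    have hφ : LinearMap.range φ = ⊤ := LinearMap.range_eq_top.2 fun g => ⟨g ∘ₗ f₀.1, by
      ext x; simp [φ, f₀.2 x]⟩
    let S : Submodule F (V →ₗ[F] U.1) := LinearMap.ker φ
    have hd := φ.finrank_range_add_finrank_ker
    rw [hφ, finrank_top, finrank_linearMap, finrank_linearMap, U.2] at hd
    rw [show finrank F V * m - m * m = finrank F S by show _ = finrank F (LinearMap.ker φ); omega,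
      ← Nat.card_eq_fintype_card, ← Module.natCard_eq_pow_finrank (K := F) (V := S)]
    refine Nat.card_congr (U.1.isComplEquivProj.trans
      { toFun := fun f => ⟨f.1 - f₀.1, ?_⟩
        invFun := fun g => ⟨g.1 + f₀.1, fun x => ?_⟩
        left_inv := fun f => by ext; simp
        right_inv := fun g => by ext; simp })
    · ext x
      simp [φ, f.2 x, f₀.2 x]
    · have := LinearMap.congr_fun (LinearMap.mem_ker.1 g.2) x
      simp only [φ, LinearMap.lcomp_apply, Submodule.coe_subtype, LinearMap.zero_apply] at this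
      simp [this, f₀.2 x]

end CfsgLib.Derangements.LinElusive
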