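import Mathlib

/-!
# Invariant subspaces of linear maps of prime order modulo scalars over finite fields
-/

set_option autoImplicit false

namespace CfsgLib.Derangements.LinElusive

open Module Polynomial

section

variable {F : Type*} [Field F] {V : Type*} [AddCommGroup V] [Module F V] [FiniteDimensional F V]

/-- Invariant subspaces. -/
def Inv (L : Module.End F V) (U : Submodule F V) : Prop := U.map L ≤ U

theorem Inv.mem {L : Module.End F V} {U : Submodule F V} (h : Inv L U) {u : V} (hu : u ∈ U) : L u ∈ U :=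
  h (Submodule.mem_map_of_mem hu)

theorem Inv.of_mem {L : Module.End F V} {U : Submodule F V} (h : ∀ u ∈ U, L u ∈ U) : Inv L U := by
  rintro _ ⟨u, hu, rfl⟩
  exact h u hu

theorem Inv.inf {L : Module.End F V} {U W : Submodule F V} (hU : Inv L U) (hW : Inv L W) : Inv L (U ⊓ W) :=
  Inv.of_mem fun _ hu => ⟨hU.mem hu.1, hW.mem hu.2⟩

theorem Inv.sup {L : Module.End F V} {U W : Submodule F V} (hU : Inv L U) (hW : Inv L W) : Inv L (U ⊔ W) := by
  unfold Inv at *
  rw [Submodule.map_sup]
  exact sup_le_sup hU hW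

theorem Inv.aeval_mem {L : Module.End F V} {U : Submodule F V} (h : Inv L U) (f : F[X]) {u : V} (hu : u ∈ U) :
    aeval L f u ∈ U := by
  induction f using Polynomial.induction_on' with
  | add f g hf hg => rw [map_add, LinearMap.add_apply]; exact U.add_mem hf hg
  | monomial k c =>
    rw [aeval_monomial, Module.End.mul_apply, Module.algebraMap_end_apply]
    refine U.smul_mem _ ?_
    induction k with
    | zero => simpa
    | succ k ih => rw [pow_succ', Module.End.mul_apply]; exact h.mem ih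

/-- Every invariant subspace has an invariant complement. -/
def Split (L : Module.End F V) : Prop := ∀ U, Inv L U → ∃ W, Inv L W ∧ IsCompl U W

theorem split_of_pow {L : Module.End F V} {r : ℕ} (hr : (r : F) ≠ 0) {c : F} (hc : c ≠ 0)
    (hL : L ^ r = algebraMap F (Module.End F V) c) : Split L := by
  have hss : L.IsSemisimple :=
    Module.End.isSemisimple_of_squarefree_aeval_eq_zero
      (Polynomial.separable_X_pow_sub_C c hr hc).squarefree (by simp [hL])
  intro U hU
  obtain ⟨W, hW, hcompl⟩ := Module.End.isSemisimple_iff.1 hss U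
    ((Module.End.mem_invtSubmodule L).2 (Submodule.map_le_iff_le_comap.1 hU))
  exact ⟨W, Submodule.map_le_iff_le_comap.2 ((Module.End.mem_invtSubmodule L).1 hW), hcompl⟩

theorem finrank_sup_of_disjoint {U W : Submodule F V} (h : Disjoint U W) :
    finrank F (U ⊔ W : Submodule F V) = finrank F U + finrank F W := by
  have := Submodule.finrank_sup_add_finrank_inf_eq U W
  rw [h.eq_bot, finrank_bot, add_zero] at this
  exact this

/-- An invariant subspace of `E` splits any larger invariant subspace. -/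
theorem Split.exists_rel {L : Module.End F V} (hs : Split L) {U W : Submodule F V} (hU : Inv L U) (hW : Inv L W)
    (hle : U ≤ W) :
    ∃ U', U' ≤ W ∧ Inv L U' ∧ Disjoint U U' ∧ U ⊔ U' = W ∧ finrank F U + finrank F U' = finrank F W := by
  obtain ⟨C, hC, hc⟩ := hs U hU
  have hd : Disjoint U (C ⊓ W) := hc.disjoint.mono_right inf_le_left
  have hsup : U ⊔ C ⊓ W = W := by rw [← sup_inf_assoc_of_le C hle, hc.sup_eq_top, top_inf_eq]
  exact ⟨C ⊓ W, inf_le_right, hC.inf hW, hd, hsup, by rw [← finrank_sup_of_disjoint hd, hsup]⟩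

/-- On `E` all irreducible invariant subspaces have dimension `i`. -/
structure Uniform (L : Module.End F V) (E : Submodule F V) (i : ℕ) : Prop where
  pos : 0 < i
  inv : Inv L E
  dvd : ∀ U ≤ E, Inv L U → i ∣ finrank F U
  exists_le : ∀ U ≤ E, Inv L U → U ≠ ⊥ → ∃ U', U' ≤ U ∧ Inv L U' ∧ finrank F U' = i

theorem Uniform.exists_sub {L : Module.End F V} {E : Submodule F V} {i : ℕ} (h : Uniform L E i) (hs : Split L)
    {k : ℕ} {W : Submodule F V} (hWE : W ≤ E) (hW : Inv L W) (hk : k * i ≤ finrank F W) :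
    ∃ U, U ≤ W ∧ Inv L U ∧ finrank F U = k * i := by
  induction k with
  | zero => exact ⟨⊥, bot_le, Inv.of_mem (by simp), by simp⟩
  | succ k ih =>
    rw [add_mul, one_mul] at hk
    obtain ⟨U, hUW, hU, hUd⟩ := ih (by omega)
    obtain ⟨U', hU'W, hU', hd, -, hfin⟩ := hs.exists_rel hU hW hUW
    have hne : U' ≠ ⊥ := fun h0 => by
      rw [h0, finrank_bot, hUd] at hfin
      have := h.pos
      omega
    obtain ⟨U₁, hU₁le, hU₁, hU₁d⟩ := h.exists_le U' (hU'W.trans hWE) hU' hne
    refine ⟨U ⊔ U₁, sup_le hUW (hU₁le.trans hU'W), hU.sup hU₁, ?_⟩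
    rw [finrank_sup_of_disjoint (hd.mono_right hU₁le), hUd, hU₁d, add_mul, one_mul]

/-- Two disjoint invariant subspaces with prescribed fixed and moved parts. -/
theorem exists_inv_two {L : Module.End F V} {C E : Submodule F V} {i : ℕ} (h : Uniform L E i) (hs : Split L)
    (hC : ∀ u ∈ C, L u = u) (hd : Disjoint C E) {a₁ a₂ k₁ k₂ : ℕ} (ha : a₁ + a₂ ≤ finrank F C)
    (hk : (k₁ + k₂) * i ≤ finrank F E) :
    ∃ U X : Submodule F V, Inv L U ∧ Inv L X ∧ Disjoint U X ∧ finrank F U = a₁ + k₁ * i ∧
      finrank F X = a₂ + k₂ * i := by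
  have hfix : ∀ S ≤ C, Inv L S := fun S hS => Inv.of_mem fun u hu => by rwa [hC u (hS hu)]
  have sub : ∀ (W : Submodule F V) (d : ℕ), d ≤ finrank F W → ∃ S ≤ W, finrank F S = d := fun W d hd => by
    obtain ⟨g, hg⟩ := exists_linearIndependent_of_le_finrank hd
    refine ⟨Submodule.span F (Set.range fun k => (g k : V)), ?_, ?_⟩
    · rw [Submodule.span_le]
      rintro _ ⟨k, rfl⟩
      exact (g k).2
    · exact (finrank_span_eq_card (hg.map' W.subtype W.ker_subtype)).trans (Fintype.card_fin d)
  obtain ⟨C₀, hC₀, hC₀d⟩ := sub C (a₁ + a₂) ha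
  obtain ⟨C₁, hC₁, hC₁d⟩ := sub C₀ a₁ (by omega)
  obtain ⟨K, hK⟩ := exists_isCompl C₁
  have hC₂d : finrank F (K ⊓ C₀ : Submodule F V) = a₂ := by
    have h1 : C₁ ⊔ K ⊓ C₀ = C₀ := by rw [← sup_inf_assoc_of_le K hC₁, hK.sup_eq_top, top_inf_eq]
    have h2 := finrank_sup_of_disjoint (hK.disjoint.mono_right (inf_le_left : K ⊓ C₀ ≤ K))
    rw [h1, hC₀d, hC₁d] at h2
    omega
  rw [add_mul] at hk
  obtain ⟨U₁, hU₁, hU₁i, hU₁d⟩ := h.exists_sub hs le_rfl h.inv (k := k₁) (by omega)
  obtain ⟨E', hE', hE'i, hE'dis, -, hE'd⟩ := hs.exists_rel hU₁i h.inv hU₁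
  obtain ⟨U₂, hU₂, hU₂i, hU₂d⟩ := h.exists_sub hs hE' hE'i (k := k₂) (by omega)
  have hC₂C : K ⊓ C₀ ≤ C := inf_le_right.trans hC₀
  refine ⟨C₁ ⊔ U₁, K ⊓ C₀ ⊔ U₂, (hfix _ (hC₁.trans hC₀)).sup hU₁i, (hfix _ hC₂C).sup hU₂i, ?_, ?_, ?_⟩
  · rw [Submodule.disjoint_def]
    intro v hv hv'
    obtain ⟨c₁, hc₁, e₁, he₁, rfl⟩ := Submodule.mem_sup.1 hv
    obtain ⟨c₂, hc₂, e₂, he₂, he⟩ := Submodule.mem_sup.1 hv'
    have h1 : c₂ - c₁ = e₁ - e₂ := by rw [sub_eq_sub_iff_add_eq_add, he, add_comm]
    have h2 : c₂ - c₁ = 0 := Submodule.disjoint_def.1 hd _ (C.sub_mem (hC₂C hc₂) (hC₁.trans hC₀ hc₁))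
      (h1 ▸ E.sub_mem (hU₁ he₁) (hE' (hU₂ he₂)))
    have h3 : e₁ = e₂ := sub_eq_zero.1 (h1.symm.trans h2)
    rw [sub_eq_zero] at h2
    subst h2 h3
    rw [Submodule.disjoint_def.1 hK.disjoint _ hc₁ hc₂.1, Submodule.disjoint_def.1 hE'dis _ he₁ (hU₂ he₂),
      add_zero]
  · rw [finrank_sup_of_disjoint (hd.mono (hC₁.trans hC₀) hU₁), hC₁d, hU₁d]
  · rw [finrank_sup_of_disjoint (hd.mono hC₂C (hU₂.trans hE')), hC₂d, hU₂d]

theorem finrank_le_of_irreducible {L : Module.End F V} [Fintype F] {U : Submodule F V} (hU : Inv L U)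
    (hne : U ≠ ⊥) (hmin : ∀ W ≤ U, Inv L W → W = ⊥ ∨ W = U) {i : ℕ} (hi : 0 < i)
    (hL : ∀ u ∈ U, (L ^ (Fintype.card F ^ i)) u = L u) : finrank F U ≤ i := by
  let y : Module.End F U := L.restrict fun u hu => hU.mem hu
  have hy : ∀ (f : F[X]) (u : U), ((aeval y f u : U) : V) = aeval L f u := fun f u => by
    induction f using Polynomial.induction_on' with
    | add f g hf hg => simp [hf, hg]
    | monomial k c =>
      simp only [aeval_monomial, Module.End.mul_apply, Module.algebraMap_end_apply, Submodule.coe_smul]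
      congr 1
      induction k with
      | zero => simp
      | succ k ih => rw [pow_succ', pow_succ', Module.End.mul_apply, Module.End.mul_apply, ← ih]; rfl
  have hker : ∀ f : F[X], aeval y f = 0 ∨ Function.Injective (aeval y f) := fun f => by
    have hinv : Inv L ((LinearMap.ker (aeval y f)).map U.subtype) := Inv.of_mem fun u hu => by
      obtain ⟨w, hw, rfl⟩ := Submodule.mem_map.1 hu
      refine Submodule.mem_map.2 ⟨y w, ?_, rfl⟩
      rw [LinearMap.mem_ker] at hw ⊢
      have h1 : aeval y (f * X) w = aeval y (X * f) w := by rw [mul_comm]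
      simpa [hw] using h1
    rcases hmin _ (Submodule.map_subtype_le _ _) hinv with h | h
    · right
      rw [← LinearMap.ker_eq_bot]
      exact Submodule.map_injective_of_injective U.injective_subtype (h.trans (Submodule.map_bot _).symm)
    · left
      exact LinearMap.ker_eq_top.1 (Submodule.map_injective_of_injective U.injective_subtype
        (h.trans (Submodule.map_subtype_top U).symm))
  haveI : Nontrivial U := Submodule.nontrivial_iff_ne_bot.2 hne
  have hint : IsIntegral F y := Algebra.IsIntegral.isIntegral y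
  have hirr : Irreducible (minpoly F y) := by
    have hm := minpoly.monic hint
    have hne1 : minpoly F y ≠ 1 := minpoly.ne_one F y
    refine (hm.irreducible_iff_natDegree).2 ⟨hne1, fun f g hf hg hfg => ?_⟩
    by_contra hcon
    push Not at hcon
    have h0 : aeval y f * aeval y g = 0 := by rw [← map_mul, hfg, minpoly.aeval]
    rcases hker f with h | h
    · have h2 := minpoly.min F y hf h
      rw [← hfg, degree_eq_natDegree (hf.mul hg).ne_zero, degree_eq_natDegree hf.ne_zero, Nat.cast_le,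
        natDegree_mul hf.ne_zero hg.ne_zero] at h2
      omega
    · have h1 : aeval y g = 0 := LinearMap.ext fun u => h (by
        rw [LinearMap.zero_apply, map_zero, ← Module.End.mul_apply, h0]; rfl)
      have h2 := minpoly.min F y hg h1
      rw [← hfg, degree_eq_natDegree (hf.mul hg).ne_zero, degree_eq_natDegree hg.ne_zero, Nat.cast_le,
        natDegree_mul hf.ne_zero hg.ne_zero] at h2
      omega
  have hdvd : minpoly F y ∣ X ^ (Nat.card F) ^ i - X := minpoly.dvd F y (LinearMap.ext fun u => Subtype.ext (by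
    rw [hy, Nat.card_eq_fintype_card]
    simp [hL u u.2]))
  have hdeg : (minpoly F y).natDegree ≤ i :=
    Nat.le_of_dvd hi (hirr.natDegree_dvd_of_dvd_X_pow_card_pow_sub_X hdvd)
  obtain ⟨v, hv⟩ := exists_ne (0 : U)
  let ev : degreeLT F (minpoly F y).natDegree →ₗ[F] U :=
    (LinearMap.applyₗ (R := F) v).comp ((aeval y).toLinearMap.comp (degreeLT F (minpoly F y).natDegree).subtype)
  have hall : ∀ f : F[X], aeval y f v ∈ LinearMap.range ev := fun f => by
    refine ⟨⟨f %ₘ minpoly F y, ?_⟩, ?_⟩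
    · rw [mem_degreeLT]
      exact (degree_modByMonic_lt f (minpoly.monic hint)).trans_le degree_le_natDegree
    · show aeval y (f %ₘ minpoly F y) v = aeval y f v
      conv_rhs => rw [← modByMonic_add_div f (minpoly F y)]
      rw [map_add, map_mul, minpoly.aeval, zero_mul, add_zero]
  have hsurj : Function.Surjective ev := by
    have hinv : Inv L ((LinearMap.range ev).map U.subtype) := Inv.of_mem fun u hu => by
      obtain ⟨w, ⟨a, rfl⟩, rfl⟩ := Submodule.mem_map.1 hu
      refine Submodule.mem_map.2 ⟨aeval y (X * (a : F[X])) v, hall _, ?_⟩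
      rw [map_mul, aeval_X, Module.End.mul_apply]
      rfl
    rcases hmin _ (Submodule.map_subtype_le _ _) hinv with h | h
    · exfalso
      have h1 : LinearMap.range ev = ⊥ :=
        Submodule.map_injective_of_injective U.injective_subtype (h.trans (Submodule.map_bot _).symm)
      have h2 := hall 1
      rw [map_one, Module.End.one_apply, h1, Submodule.mem_bot] at h2
      exact hv h2
    · exact LinearMap.range_eq_top.1 (Submodule.map_injective_of_injective U.injective_subtype
        (h.trans (Submodule.map_subtype_top U).symm))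
  refine le_trans (LinearMap.finrank_le_finrank_of_surjective hsurj) (le_of_eq ?_ |>.trans hdeg)
  rw [(degreeLTEquiv F _).finrank_eq, finrank_fin_fun]

theorem exists_irreducible {L : Module.End F V} {U : Submodule F V} (hU : Inv L U) (hne : U ≠ ⊥) :
    ∃ U₀, U₀ ≤ U ∧ Inv L U₀ ∧ U₀ ≠ ⊥ ∧ ∀ W ≤ U₀, Inv L W → W = ⊥ ∨ W = U₀ := by
  obtain ⟨U₀, hU₀, hmin⟩ := exists_minimal_of_wellFoundedLT (P := fun W => W ≤ U ∧ Inv L W ∧ W ≠ ⊥)
    ⟨U, le_rfl, hU, hne⟩
  refine ⟨U₀, hU₀.1, hU₀.2.1, hU₀.2.2, fun W hW hWi => or_iff_not_imp_left.2 fun hWne => ?_⟩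
  exact le_antisymm hW (hmin ⟨hW.trans hU₀.1, hWi, hWne⟩ hW)

end

section

variable {F : Type*} [Field F] [Fintype F] {V : Type*} [AddCommGroup V] [Module F V] [FiniteDimensional F V]

/-- Structure of a linear map of prime order `r` different from the characteristic. -/
theorem exists_structure {r : ℕ} [Fact r.Prime] (hr : (r : F) ≠ 0) {L : Module.End F V} (hL : L ^ r = 1) :
    ∃ E : Submodule F V, IsCompl (L.eigenspace 1) E ∧ Split L ∧
      Uniform L E (orderOf (Fintype.card F : ZMod r)) ∧
      ∀ W, Inv L W → finrank F W = finrank F (W ⊓ L.eigenspace 1 : Submodule F V) +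
        finrank F (W ⊓ E : Submodule F V) := by
  classical
  have hs : Split L := split_of_pow (c := 1) hr one_ne_zero (by rw [hL, map_one])
  let P : Module.End F V := (r : F)⁻¹ • ∑ j ∈ Finset.range r, L ^ j
  have hLP : L * P = P := by
    have h1 : (L - 1) * ∑ j ∈ Finset.range r, L ^ j = 0 := by rw [mul_geom_sum, hL, sub_self]
    rw [sub_mul, one_mul, sub_eq_zero] at h1
    simp only [P, mul_smul_comm, h1]
  have hPmem : ∀ v, P v ∈ L.eigenspace 1 := fun v => by
    rw [Module.End.mem_eigenspace_iff, one_smul, ← Module.End.mul_apply, hLP]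
  have hfixpow : ∀ v ∈ L.eigenspace 1, ∀ j : ℕ, (L ^ j) v = v := fun v hv j => by
    rw [Module.End.mem_eigenspace_iff, one_smul] at hv
    induction j with
    | zero => rfl
    | succ j ih => rw [pow_succ, Module.End.mul_apply, hv, ih]
  have hPfix : ∀ v ∈ L.eigenspace 1, P v = v := fun v hv => by
    simp only [P, LinearMap.smul_apply, LinearMap.sum_apply, hfixpow v hv, Finset.sum_const, Finset.card_range]
    rw [← Nat.cast_smul_eq_nsmul F, smul_smul, inv_mul_cancel₀ hr, one_smul]
  let E := LinearMap.ker P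
  have hPcomm : ∀ v, P (L v) = L (P v) := fun v => by
    rw [← Module.End.mul_apply, ← Module.End.mul_apply]
    congr 1
    simp only [P, smul_mul_assoc, mul_smul_comm, Finset.sum_mul, Finset.mul_sum, ← pow_succ, ← pow_succ']
  have hdisj : ∀ v ∈ L.eigenspace 1, v ∈ E → v = 0 := fun v hv hv' => by
    rw [← hPfix v hv]; exact hv'
  have hPinv : ∀ W, Inv L W → ∀ w ∈ W, P w ∈ W := fun W hW w hw => by
    simp only [P, LinearMap.smul_apply, LinearMap.sum_apply]
    refine W.smul_mem _ (W.sum_mem fun j _ => ?_)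
    have := hW.aeval_mem (X ^ j) hw
    simpa using this
  have hdecomp : ∀ v, P v + (v - P v) = v ∧ v - P v ∈ E := fun v =>
    ⟨by abel, by simp [E, hPfix _ (hPmem v)]⟩
  have hcompl : IsCompl (L.eigenspace 1) E := by
    refine ⟨Submodule.disjoint_def.2 hdisj, codisjoint_iff.2 (eq_top_iff.2 fun v _ => ?_)⟩
    rw [← (hdecomp v).1]
    exact Submodule.add_mem_sup (hPmem v) (hdecomp v).2
  have hE : Inv L E := Inv.of_mem fun v hv => by
    simp only [E, LinearMap.mem_ker] at hv ⊢
    rw [hPcomm, hv, map_zero]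
  refine ⟨E, hcompl, hs, ?_, fun W hW => ?_⟩
  · have hrp : (r : ℕ).Prime := Fact.out
    have hq0 : (Fintype.card F : ZMod r) ≠ 0 := fun h0 => by
      rw [ZMod.natCast_eq_zero_iff] at h0
      obtain ⟨p, hpc⟩ := CharP.exists F
      haveI := hpc
      obtain ⟨k, hp, hk⟩ := FiniteField.card F p
      rw [hk] at h0
      exact hr ((CharP.cast_eq_zero_iff F p r).2
        ((Nat.prime_dvd_prime_iff_eq hrp hp).1 (hrp.dvd_of_dvd_pow h0) ▸ dvd_rfl))
    have hi : 0 < orderOf (Fintype.card F : ZMod r) :=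
      orderOf_pos_iff.2 (isOfFinOrder_iff_pow_eq_one.2 ⟨r - 1, by have := hrp.two_le; omega,
        ZMod.pow_card_sub_one_eq_one hq0⟩)
    have hdvd : ∀ U ≤ E, Inv L U → orderOf (Fintype.card F : ZMod r) ∣ finrank F U := fun U hUE hU => by
      let y : Module.End F U := L.restrict fun u hu => hU.mem hu
      have hy : y ^ r = 1 := LinearMap.ext fun u => Subtype.ext (by
        rw [Module.End.pow_restrict]
        simp [hL])
      haveI : Finite U := Module.finite_of_finite F
      haveI : Fintype U := Fintype.ofFinite _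
      let e : Equiv.Perm U := ⟨y, (y ^ (r - 1) : Module.End F U),
        fun u => by rw [← Module.End.mul_apply, ← pow_succ, Nat.sub_add_cancel hrp.one_le, hy]; rfl,
        fun u => by rw [← Module.End.mul_apply, ← pow_succ', Nat.sub_add_cancel hrp.one_le, hy]; rfl⟩
      have he : e ^ r ^ 1 = 1 := by
        rw [pow_one]
        ext1 u
        have h1 : ⇑(e ^ r) = ⇑(y ^ r) := by
          rw [Equiv.Perm.coe_pow, Module.End.coe_pow]
          rfl
        rw [h1, hy]; rfl
      have hcard := Equiv.Perm.card_compl_support_modEq (σ := e) he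
      have h1 : e.supportᶜ = {0} := by
        ext u
        simp only [Finset.mem_compl, Equiv.Perm.mem_support, not_not, Finset.mem_singleton]
        refine ⟨fun h => Subtype.ext ?_, fun h => by subst h; simp [e]⟩
        refine hdisj u ?_ (hUE u.2)
        rw [Module.End.mem_eigenspace_iff, one_smul]
        exact congrArg Subtype.val h
      rw [h1, Finset.card_singleton, ← Nat.card_eq_fintype_card, Module.natCard_eq_pow_finrank (K := F),
        Nat.card_eq_fintype_card, ← ZMod.natCast_eq_natCast_iff, Nat.cast_one, Nat.cast_pow] at hcard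
      exact orderOf_dvd_of_pow_eq_one hcard.symm
    refine ⟨hi, hE, hdvd, fun U hUE hU hne => ?_⟩
    obtain ⟨U₀, h1, h2, h3, h4⟩ := exists_irreducible hU hne
    refine ⟨U₀, h1, h2, le_antisymm (finrank_le_of_irreducible h2 h3 h4 hi fun u _ => ?_)
      (Nat.le_of_dvd (Nat.pos_of_ne_zero fun h0 => h3 (Submodule.finrank_eq_zero.1 h0))
        (hdvd U₀ (h1.trans hUE) h2))⟩
    have h5 : (Fintype.card F ^ orderOf (Fintype.card F : ZMod r)) % r = 1 := by
      have h6 := pow_orderOf_eq_one (Fintype.card F : ZMod r)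
      rw [← Nat.cast_pow, ← Nat.cast_one, ZMod.natCast_eq_natCast_iff'] at h6
      rw [h6, Nat.mod_eq_of_lt hrp.one_lt]
    rw [← Nat.mod_add_div (Fintype.card F ^ orderOf (Fintype.card F : ZMod r)) r, h5, pow_add, pow_mul, hL,
      one_pow, mul_one, pow_one]
  · have h1 : W ⊓ L.eigenspace 1 ⊔ W ⊓ E = W := le_antisymm (sup_le inf_le_left inf_le_left) fun v hv => by
      rw [← (hdecomp v).1]
      exact Submodule.add_mem_sup ⟨hPinv W hW v hv, hPmem v⟩
        ⟨W.sub_mem hv (hPinv W hW v hv), (hdecomp v).2⟩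
    rw [← finrank_sup_of_disjoint (hcompl.disjoint.mono inf_le_right inf_le_right), h1]

end

end CfsgLib.Derangements.LinElusive
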