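import Cfsg.Agent.Lib.Classical.SympMatrix
import Cfsg.Agent.Lib.Classical.SympBasic
import Cfsg.Agent.Lib.Derangements.LinearElusive

/-!
# Elements of prime order of symplectic groups with few fixed vectors
-/

set_option autoImplicit false
set_option linter.unusedSectionVars false

namespace CfsgLib.Derangements.SympFpf

open Module Matrix CfsgLib.Classical CfsgLib.Derangements.LinElusive

variable {F : Type*} [Field F] [Fintype F] {r : ℕ} [Fact r.Prime]

/-- The moved part of an isometry of prime order of an alternating form. -/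
theorem exists_moved {V : Type*} [AddCommGroup V] [Module F V] [FiniteDimensional F V] {B : V →ₗ[F] V →ₗ[F] F}
    (hA : B.IsAlt) (hN : B.Nondegenerate) (hr : (r : F) ≠ 0) {L : Module.End F V} (hL : L ^ r = 1)
    (hB : ∀ x y, B (L x) (L y) = B x y) :
    ∃ E : Submodule F V, IsCompl (L.eigenspace 1) E ∧ Inv L E ∧ NondegOn B E ∧ Even (finrank F E) ∧
      (∀ e ∈ E, ∀ z ∈ L.eigenspace 1, B e z = 0) ∧
      (∀ U ≤ E, Inv L U → orderOf (Fintype.card F : ZMod r) ∣ finrank F U) := by
  obtain ⟨E, hc, -, hu, -⟩ := exists_structure hr hL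
  have horth : ∀ e ∈ E, ∀ z ∈ L.eigenspace 1, B e z = 0 := fun e he z hz => by
    let T : E →ₗ[F] E := (L.restrict fun u hu' => hu.inv.mem hu') - LinearMap.id
    have hTa : ∀ y : E, (T y : V) = L y - y := fun y => rfl
    have hT : Function.Injective T := (injective_iff_map_eq_zero _).2 fun y hy => Subtype.ext <| by
      refine Submodule.disjoint_def.1 hc.disjoint _ ?_ y.2
      rw [Module.End.mem_eigenspace_iff, one_smul, ← sub_eq_zero, ← hTa, hy]
      rfl
    obtain ⟨y, hy⟩ := LinearMap.injective_iff_surjective.1 hT ⟨e, he⟩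
    have h1 : L (y : V) - y = e := congrArg Subtype.val hy
    rw [Module.End.mem_eigenspace_iff, one_smul] at hz
    rw [← h1, map_sub, LinearMap.sub_apply]
    conv_lhs => arg 1; rw [← hz]
    rw [hB, sub_self]
  have hnd : NondegOn B E := by
    rw [NondegOn, Submodule.disjoint_def]
    intro x hx hx'
    refine hN.2 x fun v => ?_
    obtain ⟨z, hz, e, he, rfl⟩ := Submodule.mem_sup.1 (hc.sup_eq_top ▸ Submodule.mem_top (x := v))
    rw [map_add, LinearMap.add_apply, (mem_perp.1 hx') e he, add_zero, alt_swap hA, horth x hx z hz, neg_zero]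
  obtain ⟨m, b, -⟩ := exists_sympBasis (restrictForm_isAlt hA E) (restrictForm_nondegenerate hA.isRefl hnd)
  exact ⟨E, hc, hu.inv, hnd, ⟨m, by rw [Module.finrank_eq_card_basis b]; simp⟩, horth, hu.dvd⟩

/-- An element of order `r` of `Sp_{2m}(q)` without fixed vectors, for the least even multiple `2m` of the order of
`q` modulo `r`. -/
theorem exists_small (hr : (r : F) ≠ 0) {m : ℕ} (hm : 0 < m)
    (hcm : orderOf (Fintype.card F : ZMod r) ∣ 2 * m)
    (hmin : ∀ e, e ≤ 2 * m → Even e → orderOf (Fintype.card F : ZMod r) ∣ e → e = 0 ∨ e = 2 * m) :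
    ∃ X : Matrix (Fin m ⊕ Fin m) (Fin m ⊕ Fin m) F, X ^ r = 1 ∧
      (∀ u v, Cfsg.sympForm m F (X *ᵥ u) (X *ᵥ v) = Cfsg.sympForm m F u v) ∧ ∀ v, X *ᵥ v = v → v = 0 := by
  have hdvd : r ∣ Nat.card (symplecticGroup (Fin m) F) := by
    rw [card_symplecticGroup]
    refine dvd_mul_of_dvd_right (dvd_trans ?_ (Finset.dvd_prod_of_mem _ (Finset.mem_range.2
      (show m - 1 < m by omega)))) _
    rw [Nat.sub_add_cancel hm, ← ZMod.natCast_eq_zero_iff, Nat.cast_sub (Nat.one_le_pow _ _ Fintype.card_pos),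
      Nat.cast_pow, Nat.cast_one, sub_eq_zero]
    exact orderOf_dvd_iff_pow_eq_one.1 hcm
  haveI : Fintype (symplecticGroup (Fin m) F) := Fintype.ofFinite _
  obtain ⟨X, hX⟩ := exists_prime_orderOf_dvd_card' r hdvd
  have hXr : X.1 ^ r = 1 := by rw [← SubmonoidClass.coe_pow, ← hX, pow_orderOf_eq_one]; rfl
  have hpres := (mem_symplecticGroup_iff_preserves m).1 X.2
  have hpres' : ∀ u v, Cfsg.sympForm m F (X.1 *ᵥ u) (X.1 *ᵥ v) = Cfsg.sympForm m F u v := hpres
  refine ⟨X.1, hXr, hpres', ?_⟩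
  let L : Module.End F (Fin m ⊕ Fin m → F) := Matrix.toLinAlgEquiv' X.1
  have hLa : ∀ v, L v = X.1 *ᵥ v := fun v => rfl
  obtain ⟨E, hc, hinv, -, hev, -, hd⟩ := exists_moved (sympBil_isAlt m) (sympBil_nondegenerate (F := F) m) hr
    (L := L) (by simp only [L, ← map_pow, hXr, map_one])
    (fun u v => by rw [sympBil_apply, sympBil_apply, hLa, hLa, hpres'])
  have hle : finrank F E ≤ 2 * m := (Submodule.finrank_le E).trans (by simp [two_mul])
  rcases hmin _ hle hev (hd E le_rfl hinv) with h | h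
  · exfalso
    have hE : E = ⊥ := Submodule.finrank_eq_zero.1 h
    rw [hE] at hc
    have htop : L.eigenspace 1 = ⊤ := by simpa using hc.sup_eq_top
    have h1 : X = 1 := Subtype.ext <| Matrix.ext_of_mulVec_single fun i => by
      have h2 : Pi.single i (1 : F) ∈ L.eigenspace 1 := htop ▸ Submodule.mem_top
      rw [Module.End.mem_eigenspace_iff, one_smul, hLa] at h2
      rw [h2, OneMemClass.coe_one, Matrix.one_mulVec]
    rw [h1, orderOf_one] at hX
    exact (Fact.out : r.Prime).one_lt.ne hX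
  · intro v hv
    have h1 := Submodule.finrank_add_eq_of_isCompl hc
    have h2 : finrank F (Fin m ⊕ Fin m → F) = 2 * m := by simp [two_mul]
    have h3 : L.eigenspace 1 = ⊥ := Submodule.finrank_eq_zero.1 (by omega)
    rw [← Submodule.mem_bot (R := F), ← h3, Module.End.mem_eigenspace_iff, one_smul]
    exact hv

/-- Block diagonal copies of an isometry, completed by the identity. -/
theorem exists_blocks {m k l d : ℕ} (e : Fin d ≃ (Fin k × Fin m) ⊕ Fin l)
    {X : Matrix (Fin m ⊕ Fin m) (Fin m ⊕ Fin m) F} (hX : X ^ r = 1)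
    (hpres : ∀ u v, Cfsg.sympForm m F (X *ᵥ u) (X *ᵥ v) = Cfsg.sympForm m F u v)
    (hfix : ∀ v, X *ᵥ v = v → v = 0) :
    ∃ Y : Matrix (Fin d ⊕ Fin d) (Fin d ⊕ Fin d) F, Y ^ r = 1 ∧
      (∀ u v, Cfsg.sympForm d F (Y *ᵥ u) (Y *ᵥ v) = Cfsg.sympForm d F u v) ∧
      finrank F (Module.End.eigenspace (Matrix.toLinAlgEquiv' Y) (1 : F)) = 2 * l := by
  let M := (Fin k → Fin m ⊕ Fin m → F) × (Fin l ⊕ Fin l → F)
  let Ψ : (Fin d ⊕ Fin d → F) ≃ₗ[F] M :=
    { toFun := fun v => (fun a s => v (Sum.map (fun j => e.symm (Sum.inl (a, j)))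
          (fun j => e.symm (Sum.inl (a, j))) s),
        fun s => v (Sum.map (fun j => e.symm (Sum.inr j)) (fun j => e.symm (Sum.inr j)) s))
      map_add' := fun u v => rfl
      map_smul' := fun c v => rfl
      invFun := fun w => Sum.elim
        (fun i => Sum.elim (fun p => w.1 p.1 (Sum.inl p.2)) (fun j => w.2 (Sum.inl j)) (e i))
        (fun i => Sum.elim (fun p => w.1 p.1 (Sum.inr p.2)) (fun j => w.2 (Sum.inr j)) (e i))
      left_inv := fun v => funext fun s => by
        rcases s with i | i <;>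
          · obtain ⟨x, rfl⟩ := e.symm.surjective i
            rcases x with p | j <;> simp
      right_inv := fun w => by
        refine Prod.ext (funext fun a => funext fun s => ?_) (funext fun s => ?_) <;>
          rcases s with i | i <;> simp }
  have hform : ∀ u v, Cfsg.sympForm d F u v = (∑ a, Cfsg.sympForm m F ((Ψ u).1 a) ((Ψ v).1 a)) +
      Cfsg.sympForm l F (Ψ u).2 (Ψ v).2 := fun u v => by
    simp only [sympForm_eq]
    rw [← e.symm.sum_comp, Fintype.sum_sum_type, Fintype.sum_prod_type]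
    rfl
  let T₀ : Module.End F M :=
    LinearMap.prodMap (LinearMap.pi fun a => (Matrix.toLinAlgEquiv' X : Module.End F _).comp (LinearMap.proj a))
      LinearMap.id
  have hT₀ : ∀ w : M, T₀ w = (fun a => X *ᵥ w.1 a, w.2) := fun w => rfl
  have hT₀r : T₀ ^ r = 1 := by
    have h : ∀ (j : ℕ) (w : M), (T₀ ^ j) w = (fun a => (X ^ j) *ᵥ w.1 a, w.2) := fun j => by
      induction j with
      | zero => intro w; simp
      | succ j ih =>
        intro w
        rw [pow_succ', Module.End.mul_apply, ih, hT₀, pow_succ']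
        simp only [Matrix.mulVec_mulVec]
    refine LinearMap.ext fun w => ?_
    rw [h, hX]
    simp
  let T : Module.End F (Fin d ⊕ Fin d → F) := Ψ.symm.conjAlgEquiv F T₀
  have hTa : ∀ v, T v = Ψ.symm (T₀ (Ψ v)) := fun v => by simp [T, LinearEquiv.conjAlgEquiv_apply]
  let Y := (Matrix.toLinAlgEquiv' (R := F) (n := Fin d ⊕ Fin d)).symm T
  have hY : (Matrix.toLinAlgEquiv' Y : Module.End F _) = T := AlgEquiv.apply_symm_apply _ _
  have hYa : ∀ v, Y *ᵥ v = T v := fun v => by rw [← hY]; rfl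
  refine ⟨Y, ?_, fun u v => ?_, ?_⟩
  · rw [← map_pow, ← map_pow, hT₀r, map_one, map_one]
  · rw [hform, hform u v, hYa, hYa, hTa, hTa, Ψ.apply_symm_apply, Ψ.apply_symm_apply, hT₀, hT₀]
    simp only [hpres]
  · rw [hY]
    have hE : T.eigenspace 1 = LinearMap.range (Ψ.symm.toLinearMap.comp (LinearMap.inr F _ _)) := by
      ext v
      rw [Module.End.mem_eigenspace_iff, one_smul, hTa, LinearEquiv.symm_apply_eq, hT₀]
      constructor
      · intro h
        refine ⟨(Ψ v).2, ?_⟩
        have h1 : (Ψ v).1 = 0 := funext fun a => hfix _ (congrFun (congrArg Prod.fst h) a)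
        show Ψ.symm (0, (Ψ v).2) = v
        rw [← h1]
        exact Ψ.symm_apply_apply v
      · rintro ⟨w, rfl⟩
        simp only [LinearMap.comp_apply, LinearEquiv.coe_coe, Ψ.apply_symm_apply]
        exact Prod.ext (funext fun a => Matrix.mulVec_zero X) rfl
    rw [hE, LinearMap.finrank_range_of_inj (f := Ψ.symm.toLinearMap.comp (LinearMap.inr F _ _))
      (fun a b h => LinearMap.inr_injective (Ψ.symm.injective h))]
    simp [two_mul]

/-- An element of order `r` of `Sp_{2d}(q)` without fixed vectors. -/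
theorem exists_fixedPointFree (hr : (r : F) ≠ 0) {d : ℕ} (hd : 0 < d)
    (hc : orderOf (Fintype.card F : ZMod r) ∣ 2 * d) :
    ∃ Y : Matrix (Fin d ⊕ Fin d) (Fin d ⊕ Fin d) F, Y ^ r = 1 ∧
      (∀ u v, Cfsg.sympForm d F (Y *ᵥ u) (Y *ᵥ v) = Cfsg.sympForm d F u v) ∧ ∀ v, Y *ᵥ v = v → v = 0 := by
  set c := orderOf (Fintype.card F : ZMod r)
  obtain ⟨m, hmc, hmd, hmin⟩ : ∃ m, c ∣ 2 * m ∧ m ∣ d ∧
      ∀ e, e ≤ 2 * m → Even e → c ∣ e → e = 0 ∨ e = 2 * m := by
    rcases Nat.even_or_odd c with ⟨t, ht⟩ | hodd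
    · refine ⟨t, ⟨1, by omega⟩, ?_, fun e he _ hce => ?_⟩
      · obtain ⟨u, hu⟩ := hc
        exact ⟨u, Nat.eq_of_mul_eq_mul_left two_pos (by rw [hu, ht]; ring)⟩
      · obtain ⟨u, rfl⟩ := hce
        rcases Nat.lt_or_ge u 2 with h | h
        · interval_cases u
          · simp
          · right; omega
        · left
          have := Nat.mul_le_mul_left c h
          rw [Nat.mul_eq_zero]
          omega
    · refine ⟨c, dvd_mul_left c 2, (Nat.Coprime.dvd_of_dvd_mul_left (Nat.coprime_two_right.2 hodd) hc),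
        fun e he hev hce => ?_⟩
      obtain ⟨u, rfl⟩ := hce
      rcases Nat.lt_or_ge u 3 with h | h
      · interval_cases u
        · simp
        · exact absurd hev (by simpa [Nat.not_even_iff_odd] using hodd)
        · right; ring
      · left
        have := Nat.mul_le_mul_left c h
        rw [Nat.mul_eq_zero]
        omega
  obtain ⟨k, rfl⟩ := hmd
  have hm : 0 < m := Nat.pos_of_ne_zero fun h => by simp [h] at hd
  obtain ⟨X, hX, hpres, hfix⟩ := exists_small hr hm hmc hmin
  obtain ⟨Y, hY, hYp, hYf⟩ := exists_blocks (l := 0)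
    ((finCongr (mul_comm m k)).trans (finProdFinEquiv.symm.trans (Equiv.sumEmpty _ _).symm)) hX hpres hfix
  refine ⟨Y, hY, hYp, fun v hv => ?_⟩
  rw [mul_zero, Submodule.finrank_eq_zero] at hYf
  rw [← Submodule.mem_bot (R := F), ← hYf, Module.End.mem_eigenspace_iff, one_smul]
  exact hv

/-- An element of order `r` of `Sp_{2d}(q)` moving a space of dimension the order of `q` modulo `r`. -/
theorem exists_moved_block (hr : (r : F) ≠ 0) {d t : ℕ} (ht : 0 < t) (htd : t ≤ d)
    (hc : orderOf (Fintype.card F : ZMod r) = 2 * t) :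
    ∃ Y : Matrix (Fin d ⊕ Fin d) (Fin d ⊕ Fin d) F, Y ^ r = 1 ∧
      (∀ u v, Cfsg.sympForm d F (Y *ᵥ u) (Y *ᵥ v) = Cfsg.sympForm d F u v) ∧
      finrank F (Module.End.eigenspace (Matrix.toLinAlgEquiv' Y) (1 : F)) + 2 * t = 2 * d := by
  obtain ⟨X, hX, hpres, hfix⟩ := exists_small hr ht (hc ▸ dvd_rfl) fun e he _ hce => by
    rcases Nat.eq_zero_or_pos e with h | h
    · exact Or.inl h
    · exact Or.inr (le_antisymm he (hc ▸ Nat.le_of_dvd h hce))
  obtain ⟨l, rfl⟩ : ∃ l, d = t + l := ⟨d - t, by omega⟩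
  obtain ⟨Y, hY, hYp, hYf⟩ := exists_blocks (k := 1) (l := l)
    (finSumFinEquiv.symm.trans (Equiv.sumCongr (Equiv.uniqueProd _ _).symm (Equiv.refl _))) hX hpres hfix
  exact ⟨Y, hY, hYp, by omega⟩

/-- The element of `GL` with a given matrix of finite order. -/
theorem exists_gl {ι : Type} [Fintype ι] [DecidableEq ι] {Y : Matrix ι ι F} (hY : Y ^ r = 1) :
    ∃ g : GL ι F, (g : Matrix ι ι F) = Y ∧ g ^ r = 1 := by
  have h := Nat.sub_add_cancel (Fact.out : r.Prime).one_le
  refine ⟨⟨Y, Y ^ (r - 1), ?_, ?_⟩, rfl, ?_⟩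
  · rw [← pow_succ', h, hY]
  · rw [← pow_succ, h, hY]
  · exact Units.ext (by rw [Units.val_pow_eq_pow_val]; exact hY)

end CfsgLib.Derangements.SympFpf
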