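import Cfsg.Agent.Lib.Derangements.NullInvariant
import Cfsg.Agent.Lib.Derangements.SympFpf
import Cfsg.Agent.Lib.Derangements.LinearElusiveCount

/-!
# Isometries with small null invariant subspaces and the number of null subspaces
-/

set_option autoImplicit false
set_option linter.unusedSectionVars false

namespace CfsgLib.Derangements.NullInv

open Module Polynomial Matrix CfsgLib.Classical CfsgLib.Derangements.LinElusive

variable {F : Type*} [Field F] [Fintype F] {r : ℕ} [Fact r.Prime]

/-- Every irreducible factor of the cyclotomic polynomial annihilates a power of a map annihilated by another. -/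
theorem exists_pow_root (hr : (r : F) ≠ 0) {g₀ g : F[X]} (h₀ : Irreducible g₀) (h₀d : g₀ ∣ cyclotomic r F)
    (hgi : Irreducible g) (hgd : g ∣ cyclotomic r F) {A : Type*} [Ring A] [Algebra F A] {x : A}
    (hx : aeval x g₀ = 0) : ∃ j, ¬ r ∣ j ∧ aeval (x ^ j) g = 0 := by
  haveI := Fact.mk h₀
  haveI : NeZero (r : AdjoinRoot g₀) := ⟨fun h => hr ((algebraMap F (AdjoinRoot g₀)).injective (by simpa using h))⟩
  have hdvd : g₀.map (algebraMap F (AdjoinRoot g₀)) ∣ cyclotomic r (AdjoinRoot g₀) := by
    rw [← map_cyclotomic r (algebraMap F (AdjoinRoot g₀))]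
    exact Polynomial.map_dvd _ h₀d
  have hζ : IsPrimitiveRoot (AdjoinRoot.root g₀) r :=
    isRoot_cyclotomic_iff.1 ((AdjoinRoot.isRoot_root g₀).dvd hdvd)
  have hsplit : (g.map (algebraMap F (AdjoinRoot g₀))).Splits := by
    refine Splits.of_dvd (X_pow_sub_one_splits hζ)
      (fun h => X_pow_sub_C_ne_zero (Fact.out : r.Prime).pos (1 : AdjoinRoot g₀) (by simpa using h)) ?_
    refine (Polynomial.map_dvd _ hgd).trans ?_
    rw [map_cyclotomic]
    exact ⟨X - 1, (cyclotomic_prime_mul_X_sub_one _ r).symm⟩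
  obtain ⟨ρ, hρ⟩ := hsplit.exists_eval_eq_zero (by rw [degree_map]; exact (Irreducible.degree_pos hgi).ne')
  have hρp : IsPrimitiveRoot ρ r := by
    refine isRoot_cyclotomic_iff.1 (IsRoot.dvd hρ ?_)
    rw [← map_cyclotomic r (algebraMap F (AdjoinRoot g₀))]
    exact Polynomial.map_dvd _ hgd
  haveI : NeZero r := ⟨(Fact.out : r.Prime).ne_zero⟩
  obtain ⟨j, hj, rfl⟩ := hζ.eq_pow_of_pow_eq_one hρp.pow_eq_one
  refine ⟨j, fun hdj => hρp.ne_one (Fact.out : r.Prime).one_lt ((hζ.pow_eq_one_iff_dvd j).2 hdj), ?_⟩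
  have h : g₀ ∣ g.comp (X ^ j) := by
    rw [← AdjoinRoot.mk_eq_zero, ← AdjoinRoot.aeval_eq, aeval_comp, map_pow, aeval_X]
    rwa [eval_map, ← aeval_def] at hρ
  obtain ⟨c, hc⟩ := h
  have h2 := congrArg (aeval x) hc
  rw [aeval_comp, map_pow, aeval_X, map_mul, hx, zero_mul] at h2
  exact h2

/-- Fixed-point-free isometries of order `r` annihilated by each irreducible factor. -/
theorem exists_typed (hr : (r : F) ≠ 0) {h : ℕ} (hh : 0 < h) (hi : orderOf (Fintype.card F : ZMod r) = 2 * h)
    {g : F[X]} (hgi : Irreducible g) (hgd : g ∣ cyclotomic r F) :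
    ∃ X : Matrix (Fin h ⊕ Fin h) (Fin h ⊕ Fin h) F, X ^ r = 1 ∧
      (∀ u v, Cfsg.sympForm h F (X *ᵥ u) (X *ᵥ v) = Cfsg.sympForm h F u v) ∧ (∀ v, X *ᵥ v = v → v = 0) ∧
      aeval (Matrix.toLinAlgEquiv' X : Module.End F (Fin h ⊕ Fin h → F)) g = 0 := by
  obtain ⟨X₀, hX₀, hpres, hfix⟩ := SympFpf.exists_small hr hh (hi ▸ dvd_rfl) fun e he _ hce => by
    rcases Nat.eq_zero_or_pos e with h0 | h0
    · exact Or.inl h0
    · exact Or.inr (le_antisymm he (hi ▸ Nat.le_of_dvd h0 hce))
  let L : Module.End F (Fin h ⊕ Fin h → F) := Matrix.toLinAlgEquiv' X₀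
  have hLr : L ^ r = 1 := by simp only [L, ← map_pow, hX₀, map_one]
  obtain ⟨E, hc, hs, hu, -⟩ := exists_structure hr hLr
  have hC : L.eigenspace 1 = ⊥ := eq_bot_iff.2 fun v hv => by
    rw [Module.End.mem_eigenspace_iff, one_smul] at hv
    exact hfix v hv
  have hE : E = ⊤ := by simpa [hC] using hc.sup_eq_top
  obtain ⟨S, hScard, hSprod, hS⟩ := exists_factors (F := F) (r := r) hr
  have hdim : finrank F (Fin h ⊕ Fin h → F) = 2 * h := by simp [two_mul]
  obtain ⟨g₀, hg₀, hne⟩ : ∃ g₀ ∈ S, E ⊓ LinearMap.ker (aeval L g₀) ≠ ⊥ := by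
    by_contra hcon
    push Not at hcon
    have h1 := finrank_ker_prod_le hu.inv S
    rw [hSprod, inf_eq_left.2 (le_ker_cyclotomic hLr hu.inv hc.disjoint),
      Finset.sum_eq_zero fun g hg => Submodule.finrank_eq_zero.2 (hcon g hg), hE, finrank_top, hdim] at h1
    omega
  have htop : LinearMap.ker (aeval L g₀) = ⊤ := by
    rw [hE, top_inf_eq] at hne
    refine Submodule.eq_top_of_finrank_eq (le_antisymm (Submodule.finrank_le _) ?_)
    have h2 := hu.dvd _ (hE ▸ le_top) (inv_ker (L := L) g₀)
    rw [hdim, ← hi]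
    exact Nat.le_of_dvd (Nat.pos_of_ne_zero fun h0 => hne (Submodule.finrank_eq_zero.1 h0)) h2
  obtain ⟨j, hj, hjg⟩ := exists_pow_root hr (hS g₀ hg₀).1 (hS g₀ hg₀).2.2.2 hgi hgd
    (x := L) (LinearMap.ker_eq_top.1 htop)
  refine ⟨X₀ ^ j, by rw [← pow_mul, mul_comm, pow_mul, hX₀, one_pow], fun u v => ?_, fun v hv => ?_, ?_⟩
  · clear hjg hj
    induction j with
    | zero => simp
    | succ j ih => rw [pow_succ', ← Matrix.mulVec_mulVec, ← Matrix.mulVec_mulVec, hpres, ih]
  · obtain ⟨k, hk⟩ := Nat.exists_mul_mod_eq_one_of_coprime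
      (Nat.coprime_comm.1 ((Fact.out : r.Prime).coprime_iff_not_dvd.2 hj)) (Fact.out : r.Prime).one_lt
    have h2 : ∀ n, (X₀ ^ j) ^ n *ᵥ v = v := fun n => by
      induction n with
      | zero => simp
      | succ n ih => rw [pow_succ', ← Matrix.mulVec_mulVec, ih, hv]
    have h3 := h2 k
    rw [← pow_mul, ← Nat.mod_add_div (j * k) r, hk.2, pow_add, pow_mul, hX₀, one_pow, mul_one, pow_one] at h3
    exact hfix v h3
  · rw [map_pow]
    exact hjg

theorem coprime_of_ne {g g' : F[X]} (hg : Irreducible g) (hgm : g.Monic) (hg' : Irreducible g') (hgm' : g'.Monic)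
    (hne : g ≠ g') : IsCoprime g g' :=
  hg.coprime_iff_not_dvd.2 fun hd => hne (eq_of_monic_of_associated hgm hgm' (hg.associated_of_dvd hg' hd))

/-- An isometry of order `r` whose null invariant subspaces are small: blocks of types `f a`. -/
theorem exists_typed_witness (hr : (r : F) ≠ 0) {d h k l T : ℕ} (hh : 0 < h)
    (hi : orderOf (Fintype.card F : ZMod r) = 2 * h) (e : Fin d ≃ (Fin k × Fin h) ⊕ Fin l)
    (f : Fin k → F[X]) (hfi : ∀ a, Irreducible (f a)) (hfm : ∀ a, (f a).Monic)
    (hfd : ∀ a, f a ∣ cyclotomic r F)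
    (hT : ∀ S : Finset F[X], ∑ g ∈ S, Nat.card {a // f a = g} / 2 ≤ T) :
    ∃ Y : Matrix (Fin d ⊕ Fin d) (Fin d ⊕ Fin d) F, Y ^ r = 1 ∧
      (∀ u v, Cfsg.sympForm d F (Y *ᵥ u) (Y *ᵥ v) = Cfsg.sympForm d F u v) ∧
      finrank F (Module.End.eigenspace (Matrix.toLinAlgEquiv' Y) (1 : F)) = 2 * l ∧
      ∀ W : Submodule F (Fin d ⊕ Fin d → F), Inv (Matrix.toLinAlgEquiv' Y) W → Null (sympBil F d) W →
        finrank F W ≤ T * (2 * h) + l := by
  classical
  choose X hX hpres hfix hXg using fun a => exists_typed hr hh hi (hfi a) (hfd a)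
  let Ψ : (Fin d ⊕ Fin d → F) ≃ₗ[F] (Fin k → Fin h ⊕ Fin h → F) × (Fin l ⊕ Fin l → F) :=
    { toFun := fun v => (fun a s => v (Sum.map (fun j => e.symm (Sum.inl (a, j)))
          (fun j => e.symm (Sum.inl (a, j))) s),
        fun s => v (Sum.map (fun j => e.symm (Sum.inr j)) (fun j => e.symm (Sum.inr j)) s))
      map_add' := fun u v => rfl
      map_smul' := fun c v => rfl
      invFun := fun w => Sum.elim
        (fun i => Sum.elim (fun p => w.1 p.1 (Sum.inl p.2)) (fun j => w.2 (Sum.inl j)) (e i))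
        (fun i => Sum.elim (fun p => w.1 p.1 (Sum.inr p.2)) (fun j => w.2 (Sum.inr j)) (e i))
      left_inv := fun v => funext fun s => by
        rcases s with i | i <;>
          · obtain ⟨x, rfl⟩ := e.symm.surjective i
            rcases x with p | j <;> simp
      right_inv := fun w => by
        refine Prod.ext (funext fun a => funext fun s => ?_) (funext fun s => ?_) <;>
          rcases s with i | i <;> simp }
  have hform : ∀ u v, Cfsg.sympForm d F u v = (∑ a, Cfsg.sympForm h F ((Ψ u).1 a) ((Ψ v).1 a)) +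
      Cfsg.sympForm l F (Ψ u).2 (Ψ v).2 := fun u v => by
    simp only [sympForm_eq]
    rw [← e.symm.sum_comp, Fintype.sum_sum_type, Fintype.sum_prod_type]
    rfl
  let A : Fin k → Module.End F (Fin h ⊕ Fin h → F) := fun a => Matrix.toLinAlgEquiv' (X a)
  let T₀ : Module.End F ((Fin k → Fin h ⊕ Fin h → F) × (Fin l ⊕ Fin l → F)) := LinearMap.prodMap (LinearMap.pi fun a => (A a).comp (LinearMap.proj a)) LinearMap.id
  have hT₀ : ∀ w, T₀ w = (fun a => X a *ᵥ w.1 a, w.2) := fun w => rfl
  have hT₀r : T₀ ^ r = 1 := by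
    have hp : ∀ (j : ℕ) w, (T₀ ^ j) w = (fun a => (X a ^ j) *ᵥ w.1 a, w.2) := fun j => by
      induction j with
      | zero => intro w; simp
      | succ j ih =>
        intro w
        rw [pow_succ', Module.End.mul_apply, ih, hT₀]
        simp only [pow_succ', Matrix.mulVec_mulVec]
    refine LinearMap.ext fun w => ?_
    rw [hp]
    simp [hX]
  let Ty : Module.End F (Fin d ⊕ Fin d → F) := Ψ.symm.conjAlgEquiv F T₀
  have hTa : ∀ v, Ty v = Ψ.symm (T₀ (Ψ v)) := fun v => by simp [Ty, LinearEquiv.conjAlgEquiv_apply]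
  let Y := (Matrix.toLinAlgEquiv' (R := F) (n := Fin d ⊕ Fin d)).symm Ty
  have hY : (Matrix.toLinAlgEquiv' Y : Module.End F _) = Ty := AlgEquiv.apply_symm_apply _ _
  have hYa : ∀ v, Y *ᵥ v = Ty v := fun v => by rw [← hY]; rfl
  have hTyr : Ty ^ r = 1 := by simp only [Ty, ← map_pow, hT₀r, map_one]
  have hpresY : ∀ u v, Cfsg.sympForm d F (Y *ᵥ u) (Y *ᵥ v) = Cfsg.sympForm d F u v := fun u v => by
    rw [hform, hform u v, hYa, hYa, hTa, hTa, Ψ.apply_symm_apply, Ψ.apply_symm_apply, hT₀, hT₀]
    simp only [hpres]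
  have hC : Ty.eigenspace 1 = LinearMap.range (Ψ.symm.toLinearMap.comp (LinearMap.inr F _ _)) := by
    ext v
    rw [Module.End.mem_eigenspace_iff, one_smul, hTa, LinearEquiv.symm_apply_eq, hT₀]
    constructor
    · intro h
      refine ⟨(Ψ v).2, ?_⟩
      have h1 : (Ψ v).1 = 0 := funext fun a => hfix a _ (congrFun (congrArg Prod.fst h) a)
      show Ψ.symm (0, (Ψ v).2) = v
      rw [← h1]
      exact Ψ.symm_apply_apply v
    · rintro ⟨w, rfl⟩
      simp only [LinearMap.comp_apply, LinearEquiv.coe_coe, Ψ.apply_symm_apply]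
      exact Prod.ext (funext fun a => Matrix.mulVec_zero (X a)) rfl
  have hCd : finrank F (Ty.eigenspace (1 : F)) = 2 * l := by
    rw [hC, LinearMap.finrank_range_of_inj (f := Ψ.symm.toLinearMap.comp (LinearMap.inr F _ _))
      (fun a b h => LinearMap.inr_injective (Ψ.symm.injective h))]
    simp [two_mul]
  refine ⟨Y, by rw [← map_pow, hTyr, map_one], hpresY, by rw [hY]; exact hCd, fun W hWi hWn => ?_⟩
  rw [hY] at hWi
  have hB : ∀ u v, sympBil F d (Ty u) (Ty v) = sympBil F d u v := fun u v => by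
    rw [← hYa, ← hYa, sympBil_apply, sympBil_apply, hpresY]
  obtain ⟨E, hc, hs, hu, hsum⟩ := exists_structure hr hTyr
  rw [hi] at hu
  obtain ⟨-, -, hCn⟩ := moved_facts (sympBil_isAlt d) (sympBil_nondegenerate (F := F) d) hB hc hu.inv
  have hfixed := (hWn.mono (inf_le_left : W ⊓ Ty.eigenspace 1 ≤ W)).two_mul_le_on (sympBil_isAlt d).isRefl hCn
    inf_le_right
  rw [hCd] at hfixed
  obtain ⟨S, -, hSprod, hS⟩ := exists_factors (F := F) (r := r) hr
  have hWE := hWi.inf hu.inv
  have hbound : ∀ g ∈ S, finrank F (W ⊓ E ⊓ LinearMap.ker (aeval Ty g) : Submodule F (Fin d ⊕ Fin d → F)) ≤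
      Nat.card {a // f a = g} / 2 * (2 * h) := by
    intro g hg
    obtain ⟨hgi, hgm, hgdeg, -⟩ := hS g hg
    set K := W ⊓ E ⊓ LinearMap.ker (aeval Ty g)
    obtain ⟨b, hb⟩ := hu.dvd K (inf_le_left.trans inf_le_right) (hWE.inf (inv_ker g))
    have hcomp : ∀ (p : F[X]) v, (Ψ (aeval Ty p v)).1 = (fun a => aeval (A a) p ((Ψ v).1 a)) ∧
        (Ψ (aeval Ty p v)).2 = p.eval 1 • (Ψ v).2 := fun p v => by
      induction p using Polynomial.induction_on' with
      | add p p' hp hp' =>
        simp only [map_add, LinearMap.add_apply, Prod.fst_add, Prod.snd_add, hp.1, hp.2, hp'.1, hp'.2,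
          eval_add, add_smul]
        exact ⟨rfl, trivial⟩
      | monomial n c =>
        have hp : ∀ v, Ψ ((Ty ^ n) v) = (fun a => ((A a) ^ n) ((Ψ v).1 a), (Ψ v).2) := by
          clear hb
          induction n with
          | zero => intro v; simp
          | succ n ih =>
            intro v
            rw [pow_succ', Module.End.mul_apply, hTa, Ψ.apply_symm_apply, ih, hT₀]
            simp only [pow_succ', Module.End.mul_apply]
            rfl
        simp only [aeval_monomial, Module.End.mul_apply, Module.algebraMap_end_apply, map_smul, hp, Prod.smul_fst,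
          Prod.smul_snd, eval_monomial, one_pow, mul_one]
        exact ⟨rfl, trivial⟩
    have hg1 : g.eval 1 ≠ 0 := fun h0 => by
      have h1 : g.natDegree = 1 := Polynomial.natDegree_eq_of_degree_eq_some
        (degree_eq_one_of_irreducible_of_root hgi (show g.IsRoot 1 from h0))
      rw [hgdeg, hi] at h1
      omega
    have hsupp : ∀ v ∈ K, (Ψ v).2 = 0 ∧ ∀ a, f a ≠ g → (Ψ v).1 a = 0 := fun v hv => by
      have h0 : aeval Ty g v = 0 := hv.2
      obtain ⟨h1, h2⟩ := hcomp g v
      rw [h0, map_zero] at h1 h2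
      refine ⟨(smul_eq_zero.1 h2.symm).resolve_left hg1, fun a ha => ?_⟩
      obtain ⟨p, p', hpp⟩ := coprime_of_ne (hfi a) (hfm a) hgi hgm ha
      have h3 := congrArg (fun q => aeval (A a) q ((Ψ v).1 a)) hpp
      have h4 : aeval (A a) g ((Ψ v).1 a) = 0 := (congrFun h1 a).symm
      simp only [map_add, map_mul, LinearMap.add_apply, Module.End.mul_apply, h4, map_one, A, hXg,
        LinearMap.zero_apply, map_zero, add_zero, Module.End.one_apply] at h3
      exact h3.symm
    let J := {a // f a = g}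
    let ρ : K →ₗ[F] (J → Fin h ⊕ Fin h → F) :=
      LinearMap.pi fun a => (LinearMap.proj a.1).comp ((LinearMap.fst F _ _).comp (Ψ.toLinearMap.comp K.subtype))
    have hρa : ∀ (v : K) (a : J), ρ v a = (Ψ v.1).1 a.1 := fun v a => rfl
    have hρi : Function.Injective ρ := (injective_iff_map_eq_zero _).2 fun v hv => Subtype.ext <| Ψ.injective <| by
      rw [Submodule.coe_zero, map_zero]
      refine Prod.ext (funext fun a => ?_) (hsupp v v.2).1
      by_cases ha : f a = g
      · exact (hρa v ⟨a, ha⟩).symm.trans (congrFun hv ⟨a, ha⟩)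
      · exact (hsupp v v.2).2 a ha
    let B' : (J → Fin h ⊕ Fin h → F) →ₗ[F] (J → Fin h ⊕ Fin h → F) →ₗ[F] F :=
      ∑ a : J, (sympBil F h).compl₁₂ (LinearMap.proj a) (LinearMap.proj a)
    have hB' : ∀ u w, B' u w = ∑ a : J, sympBil F h (u a) (w a) := fun u w => by simp [B']
    have hB'A : B'.IsAlt := fun u => by simp [hB', sympBil_isAlt h _]
    have hB'N : B'.Nondegenerate := by
      have hL' : B'.SeparatingLeft := fun u hu' => funext fun a => (sympBil_nondegenerate (F := F) h).1 _ fun w => by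
        have := hu' (Pi.single a w)
        rwa [hB', Finset.sum_eq_single a (fun b _ hb => by rw [Pi.single_eq_of_ne hb]; simp) (by simp),
          Pi.single_eq_same] at this
      exact ⟨hL', fun w hw => hL' w fun u => hB'A.isRefl _ _ (hw u)⟩
    have hnull : ∀ x ∈ LinearMap.range ρ, ∀ y ∈ LinearMap.range ρ, B' x y = 0 := by
      rintro _ ⟨u, rfl⟩ _ ⟨v, rfl⟩
      have h0 := hWn u u.2.1.1 v v.2.1.1
      rw [sympBil_apply, hform, (hsupp u u.2).1, (hsupp v v.2).1, ← sympBil_apply, map_zero, add_zero] at h0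
      rw [hB', ← h0]
      simp only [hρa, sympBil_apply]
      exact Fintype.sum_of_injective Subtype.val Subtype.val_injective _ _
        (fun a ha => by
          have hne : f a ≠ g := fun he => ha ⟨⟨a, he⟩, rfl⟩
          rw [(hsupp u u.2).2 a hne, ← sympBil_apply, map_zero, LinearMap.zero_apply])
        fun a => rfl
    have h2 := Null.two_mul_le hB'A.isRefl hB'N hnull
    rw [LinearMap.finrank_range_of_inj hρi, Module.finrank_pi_fintype, Finset.sum_const, Finset.card_univ,
      Module.finrank_pi, Fintype.card_sum, Fintype.card_fin, smul_eq_mul, ← Nat.card_eq_fintype_card, hb] at h2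
    rw [hb, mul_comm (2 * h) b]
    refine Nat.mul_le_mul_right _ ((Nat.le_div_iff_mul_le two_pos).2 ?_)
    refine Nat.le_of_mul_le_mul_right ?_ (show 0 < 2 * h by omega)
    calc b * 2 * (2 * h) = 2 * (2 * h * b) := by ring
      _ ≤ Nat.card J * (h + h) := h2
      _ = _ := by rw [two_mul h]
  have hE := finrank_ker_prod_le hWE S
  rw [hSprod, inf_eq_left.2 (inf_le_right.trans (le_ker_cyclotomic hTyr hu.inv hc.disjoint))] at hE
  have h3 := hE.trans (Finset.sum_le_sum hbound)
  rw [← Finset.sum_mul] at h3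
  have h4 := h3.trans (Nat.mul_le_mul_right _ (hT S))
  rw [hsum W hWi]
  omega

/-- The number of null subspaces, through ordered bases. -/
theorem card_null_mul {V : Type*} [AddCommGroup V] [Module F V] [FiniteDimensional F V]
    {B : V →ₗ[F] V →ₗ[F] F} (hA : B.IsAlt) (hN : B.Nondegenerate) {d : ℕ} (hd : finrank F V = 2 * d) {m : ℕ} (hm : m ≤ d) :
    Nat.card {W : Submodule F V // finrank F W = m ∧ ∀ u ∈ W, ∀ v ∈ W, B u v = 0} *
        ∏ i : Fin m, (Fintype.card F ^ (m - i.1) - 1) =
      ∏ i : Fin m, (Fintype.card F ^ (2 * (d - i.1)) - 1) := by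
  classical
  haveI : Finite V := Module.finite_of_finite F
  let Fr : ℕ → Type _ := fun k => {s : Fin k → V // LinearIndependent F s ∧ ∀ a b, B (s a) (s b) = 0}
  have hframes : ∀ k, k ≤ d → Nat.card (Fr k) =
      ∏ i : Fin k, (Fintype.card F ^ i.1 * (Fintype.card F ^ (2 * (d - i.1)) - 1)) := fun k => by
    induction k with
    | zero =>
      intro _
      rw [Fin.prod_univ_zero]
      exact Nat.card_eq_one_iff_unique.2 ⟨⟨fun a b => Subtype.ext (Subsingleton.elim _ _)⟩,
        ⟨⟨Fin.elim0, linearIndependent_empty_type, fun a => a.elim0⟩⟩⟩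
    | succ k ih =>
      intro hk
      have hnull : ∀ (s : Fr k), ∀ u ∈ Submodule.span F (Set.range s.1),
          u ∈ perp B (Submodule.span F (Set.range s.1)) := fun s u hu => by
        rw [mem_perp_span]
        rintro _ ⟨a, rfl⟩
        refine Submodule.span_induction (p := fun u _ => B (s.1 a) u = 0) ?_ (map_zero _) ?_ ?_ hu
        · rintro _ ⟨b, rfl⟩; exact s.2.2 a b
        · intro x y _ _ hx hy; rw [map_add, hx, hy, add_zero]
        · intro c x _ hx; rw [map_smul, hx, smul_zero]
      let e : Fr (k + 1) ≃ Σ s : Fr k, {v : V // v ∈ (perp B (Submodule.span F (Set.range s.1)) : Set V) \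
          (Submodule.span F (Set.range s.1) : Set V)} :=
        { toFun := fun t => ⟨⟨Fin.init t.1, (linearIndependent_finSnoc.1
            (by rw [Fin.snoc_init_self]; exact t.2.1)).1, fun a b => t.2.2 _ _⟩, t.1 (Fin.last k),
            mem_perp_span.2 (by rintro _ ⟨a, rfl⟩; exact t.2.2 _ _),
            (linearIndependent_finSnoc.1 (by rw [Fin.snoc_init_self]; exact t.2.1)).2⟩
          invFun := fun x => ⟨Fin.snoc x.1.1 x.2.1, linearIndependent_finSnoc.2 ⟨x.1.2.1, x.2.2.2⟩, fun a b => by
            have hv : ∀ a, B (x.1.1 a) x.2.1 = 0 := fun a => mem_perp.1 x.2.2.1 _ (Submodule.subset_span ⟨a, rfl⟩)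
            induction a using Fin.lastCases with
            | last =>
              induction b using Fin.lastCases with
              | last => simp [hA x.2.1]
              | cast b => rw [Fin.snoc_last, Fin.snoc_castSucc, alt_swap hA, hv, neg_zero]
            | cast a =>
              induction b using Fin.lastCases with
              | last => rw [Fin.snoc_last, Fin.snoc_castSucc, hv]
              | cast b => rw [Fin.snoc_castSucc, Fin.snoc_castSucc, x.1.2.2]⟩
          left_inv := fun t => Subtype.ext (Fin.snoc_init_self t.1)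
          right_inv := fun x => Sigma.subtype_ext (Subtype.ext (Fin.init_snoc (α := fun _ => V) _ _))
            (Fin.snoc_last (α := fun _ => V) _ _) }
      rw [Nat.card_congr e, card_sigma_const (c := Fintype.card F ^ k * (Fintype.card F ^ (2 * (d - k)) - 1))
        fun s => ?_, ih (by omega), Fin.prod_univ_castSucc]
      · simp only [Fin.val_castSucc, Fin.val_last]
      · have hspan : finrank F (Submodule.span F (Set.range s.1)) = k :=
          (finrank_span_eq_card s.2.1).trans (Fintype.card_fin k)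
        have hperp : finrank F (perp B (Submodule.span F (Set.range s.1))) = 2 * d - k := by
          have h1 : perp B (Submodule.span F (Set.range s.1)) =
              LinearMap.BilinForm.orthogonal B (Submodule.span F (Set.range s.1)) := by
            ext x; rw [mem_perp]; rfl
          rw [h1, LinearMap.BilinForm.finrank_orthogonal hN, hspan, hd]
        rw [Nat.card_coe_set_eq, Set.ncard_diff (hnull s), ← Nat.card_coe_set_eq, ← Nat.card_coe_set_eq,
          SetLike.coe_sort_coe, SetLike.coe_sort_coe,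
          Module.natCard_eq_pow_finrank (K := F) (V := ↥(perp B (Submodule.span F (Set.range s.1)))),
          Module.natCard_eq_pow_finrank (K := F) (V := ↥(Submodule.span F (Set.range s.1))), hspan, hperp, Nat.card_eq_fintype_card, Nat.mul_sub, mul_one,
          ← pow_add]
        congr 2
        omega
  have h1 : Nat.card {W : Submodule F V // finrank F W = m ∧ ∀ u ∈ W, ∀ v ∈ W, B u v = 0} *
      liCount F (Fin m → F) m = Nat.card (Fr m) := by
    haveI : Fintype {W : Submodule F V // finrank F W = m ∧ ∀ u ∈ W, ∀ v ∈ W, B u v = 0} := Fintype.ofFinite _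
    let φ : Fr m → {W : Submodule F V // finrank F W = m ∧ ∀ u ∈ W, ∀ v ∈ W, B u v = 0} := fun s =>
      ⟨Submodule.span F (Set.range s.1), (finrank_span_eq_card s.2.1).trans (Fintype.card_fin m), fun u hu v hv => by
        refine Submodule.span_induction (p := fun u _ => B u v = 0) ?_ (by simp) ?_ ?_ hu
        · rintro _ ⟨a, rfl⟩
          refine Submodule.span_induction (p := fun v _ => B (s.1 a) v = 0) ?_ (map_zero _) ?_ ?_ hv
          · rintro _ ⟨b, rfl⟩; exact s.2.2 a b
          · intro x y _ _ hx hy; rw [map_add, hx, hy, add_zero]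
          · intro c x _ hx; rw [map_smul, hx, smul_zero]
        · intro x y _ _ hx hy; rw [map_add, LinearMap.add_apply, hx, hy, add_zero]
        · intro c x _ hx; rw [map_smul, LinearMap.smul_apply, hx, smul_zero]⟩
    rw [← Nat.card_congr (Equiv.sigmaFiberEquiv φ), Nat.card_sigma, liCount]
    rw [Finset.sum_const_nat (m := Nat.card {s : Fin m → Fin m → F // LinearIndependent F s}) fun W _ => ?_,
      Finset.card_univ, ← Nat.card_eq_fintype_card]
    have e : (Fin m → F) ≃ₗ[F] W.1 := LinearEquiv.ofFinrankEq _ _ (by rw [finrank_fin_fun, W.2.1])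
    refine Nat.card_congr
      { toFun := fun s => ⟨fun i => e.symm ⟨s.1.1 i, congrArg Subtype.val s.2 ▸ Submodule.subset_span ⟨i, rfl⟩⟩, ?_⟩
        invFun := fun t => ⟨⟨fun i => (e (t.1 i) : V), ?_, ?_⟩, ?_⟩
        left_inv := fun s => Subtype.ext (Subtype.ext (funext fun i => by simp))
        right_inv := fun t => Subtype.ext (funext fun i => by simp) }
    · refine LinearIndependent.map' ?_ e.symm.toLinearMap e.symm.ker
      exact LinearIndependent.of_comp W.1.subtype s.1.2.1
    · exact (t.2.map' e.toLinearMap e.ker).map' W.1.subtype W.1.ker_subtype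
    · exact fun a b => W.2.2 _ (e (t.1 a)).2 _ (e (t.1 b)).2
    · refine Subtype.ext (Submodule.eq_of_le_of_finrank_eq ?_ ?_)
      · rw [Submodule.span_le]; rintro _ ⟨i, rfl⟩; exact (e (t.1 i)).2
      · exact ((finrank_span_eq_card ((t.2.map' e.toLinearMap e.ker).map' W.1.subtype W.1.ker_subtype)).trans
          (Fintype.card_fin m)).trans W.2.1.symm
  rw [hframes m hm, liCount_eq (by simp), Module.finrank_fin_fun, Finset.prod_mul_distrib, Finset.prod_mul_distrib,
    mul_left_comm] at h1
  exact Nat.eq_of_mul_eq_mul_left (Finset.prod_pos fun i _ => pow_pos Fintype.card_pos _) h1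

end CfsgLib.Derangements.NullInv
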