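import Cfsg.Agent.Lib.Derangements.OrthInvariant
import Cfsg.Agent.Lib.Derangements.NullInvariantWitness
import Cfsg.Agent.Lib.Orth.Similitude
import Cfsg.Prelude.Def_GeometricClasses

/-!
# Isometries of quadratic forms with prescribed behaviour on a non-degenerate subspace
-/

set_option autoImplicit false
set_option linter.unusedSectionVars false

namespace CfsgLib.Derangements.OrthInv

open Module QuadraticMap CfsgLib.Classical CfsgLib.Derangements.LinElusive CfsgLib.Derangements.NullInv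
open scoped Matrix

variable {F : Type*} [Field F] [Fintype F] {V : Type*} [AddCommGroup V] [Module F V] [FiniteDimensional F V]
  {W : Type*} [AddCommGroup W] [Module F W] [FiniteDimensional F W]
  {Q : QuadraticForm F V} {R : QuadraticForm F W} {r : ℕ} [Fact r.Prime]

/-- A quadratic form preserved by a fixed point free isometry of an alternating form. -/
theorem exists_form_of_symp {A : W →ₗ[F] W →ₗ[F] F} (hA : A.IsAlt) (hN : A.Nondegenerate) (hr2 : Odd r)
    {Y : Module.End F W} (hY : Y ^ r = 1) (hfix : ∀ w, Y w = w → w = 0)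
    (hYA : ∀ u v, A (Y u) (Y v) = A u v) :
    ∃ R : QuadraticForm F W, (polarBilin R).Nondegenerate ∧ (∀ w, R (Y w) = R w) ∧
      ∀ U, Inv Y U → Sing R U → Null A U := by
  have hd : Disjoint (Y.eigenspace 1) ⊤ := Submodule.disjoint_def.2 fun w hw _ => hfix w (by
    rwa [Module.End.mem_eigenspace_iff, one_smul] at hw)
  have htop : Inv Y (⊤ : Submodule F W) := Inv.of_mem fun _ _ => trivial
  obtain ⟨hinj, hsurj⟩ := exists_twist_preimage hr2 hY htop hd
  let R : QuadraticForm F W := LinearMap.BilinMap.toQuadraticMap (A.compl₂ Y)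
  have hRa : ∀ w, R w = A w (Y w) := fun w => rfl
  have hp : ∀ u v, polarBilin R u v = A u ((Y - Y ^ (r - 1)) v) := fun u v => by
    rw [polarBilin_apply_apply]
    show polar (LinearMap.BilinMap.toQuadraticMap (A.compl₂ Y)) u v = _
    rw [LinearMap.BilinMap.polar_toQuadraticMap, LinearMap.compl₂_apply, LinearMap.compl₂_apply, LinearMap.sub_apply,
      map_sub]
    have h1 : A (Y u) v = A u ((Y ^ (r - 1)) v) := by
      rw [← hYA u ((Y ^ (r - 1)) v), ← Module.End.mul_apply, ← pow_succ',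
        Nat.sub_add_cancel (Fact.out : r.Prime).one_le, hY, Module.End.one_apply]
    rw [← h1, alt_swap hA v (Y u), sub_eq_add_neg]
  refine ⟨R, ⟨fun u hu => hN.1 u fun v => ?_, fun v hv => ?_⟩, fun w => ?_, fun U hU hUs u hu v hv => ?_⟩
  · obtain ⟨v', -, rfl⟩ := hsurj v trivial
    rw [← hp]; exact hu v'
  · exact hinj trivial trivial (by rw [map_zero]; exact hN.2 _ fun u => by rw [← hp]; exact hv u)
  · rw [hRa, hRa, hYA]
  · obtain ⟨v', hv', rfl⟩ := (exists_twist_preimage hr2 hY hU (hd.mono_right le_top)).2 v hv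
    rw [← hp]
    exact hUs.null u hu v' hv'

/-- Fixed point free isometries of quadratic forms. -/
theorem exists_fpf_form (hr : (r : F) ≠ 0) (hr2 : Odd r) {d : ℕ} (hd : 0 < d)
    (hc : orderOf (Fintype.card F : ZMod r) ∣ 2 * d) :
    ∃ (R : QuadraticForm F (Fin d ⊕ Fin d → F)) (Y : Module.End F (Fin d ⊕ Fin d → F)),
      (polarBilin R).Nondegenerate ∧ Y ^ r = 1 ∧ (∀ w, Y w = w → w = 0) ∧ ∀ w, R (Y w) = R w := by
  obtain ⟨Y, hY, hYp, hYf⟩ := SympFpf.exists_fixedPointFree hr hd hc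
  obtain ⟨R, hR, hRY, -⟩ := exists_form_of_symp (sympBil_isAlt d) (sympBil_nondegenerate (F := F) d) hr2
    (Y := Matrix.toLinAlgEquiv' Y) (by rw [← map_pow, hY, map_one]) hYf
    (fun u v => by rw [sympBil_apply, sympBil_apply]; exact hYp u v)
  exact ⟨R, _, hR, by rw [← map_pow, hY, map_one], hYf, hRY⟩

/-- Sums of blocks of given types. -/
theorem exists_typed_form (hr : (r : F) ≠ 0) (hr2 : Odd r) {h k T : ℕ} (hh : 0 < h)
    (hi : orderOf (Fintype.card F : ZMod r) = 2 * h) (f : Fin k → Polynomial F) (hfi : ∀ a, Irreducible (f a))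
    (hfm : ∀ a, (f a).Monic) (hfd : ∀ a, f a ∣ Polynomial.cyclotomic r F)
    (hT : ∀ S : Finset (Polynomial F), ∑ g ∈ S, Nat.card {a // f a = g} / 2 ≤ T) :
    ∃ (R : QuadraticForm F (Fin (k * h) ⊕ Fin (k * h) → F)) (Y : Module.End F (Fin (k * h) ⊕ Fin (k * h) → F)),
      (polarBilin R).Nondegenerate ∧ Y ^ r = 1 ∧ (∀ w, Y w = w → w = 0) ∧ (∀ w, R (Y w) = R w) ∧
      ∀ U, Inv Y U → Sing R U → finrank F U ≤ T * (2 * h) := by
  obtain ⟨Y, hY, hYp, hYf, hYW⟩ := exists_typed_witness (d := k * h) (l := 0) (T := T) hr hh hi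
    (finProdFinEquiv.symm.trans (Equiv.sumEmpty _ _).symm) f hfi hfm hfd hT
  have hfix : ∀ w, Matrix.toLinAlgEquiv' Y w = w → w = 0 := fun w hw => by
    rw [mul_zero, Submodule.finrank_eq_zero] at hYf
    rw [← Submodule.mem_bot (R := F), ← hYf, Module.End.mem_eigenspace_iff, one_smul]
    exact hw
  obtain ⟨R, hR, hRY, hRU⟩ := exists_form_of_symp (sympBil_isAlt _) (sympBil_nondegenerate (F := F) _) hr2
    (Y := Matrix.toLinAlgEquiv' Y) (by rw [← map_pow, hY, map_one]) hfix
    (fun u v => by rw [sympBil_apply, sympBil_apply]; exact hYp u v)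
  exact ⟨R, _, hR, by rw [← map_pow, hY, map_one], hfix, hRY,
    fun U hU hUs => by simpa using hYW U hU (hRU U hU hUs)⟩

/-- The type of a form with a fixed point free isometry. -/
theorem plus_fpf_iff (hr : (r : F) ≠ 0) (hr2 : Odd r) (hR : (polarBilin R).Nondegenerate) {Y : Module.End F W}
    (hY : Y ^ r = 1) (hfix : ∀ w, Y w = w → w = 0) (hRY : ∀ w, R (Y w) = R w) {N : ℕ}
    (hN : finrank F W = N * orderOf (Fintype.card F : ZMod r)) :
    PlusOn R ⊤ ↔ (Odd (orderOf (Fintype.card F : ZMod r)) ∨ Even N) := by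
  obtain ⟨E, hc, hs, hu, -⟩ := exists_structure hr hY
  have hbot : Y.eigenspace 1 = ⊥ := eq_bot_iff.2 fun w hw => by
    rw [Module.End.mem_eigenspace_iff, one_smul] at hw
    exact hfix w hw
  have hE : E = ⊤ := by simpa [hbot] using hc.sup_eq_top
  subst hE
  exact plus_moved_iff hr hr2 hRY hY hs hc.disjoint hu (nondegOn_iff.2 fun x _ hx => hR.2 x fun v => hx v trivial)
    (by rw [finrank_top, hN])

theorem plusOn_top_iff {d : ℕ} (hd : finrank F V = 2 * d) : PlusOn Q ⊤ ↔ EvenForms.Plus Q d := by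
  constructor
  · rintro ⟨U, -, hU, hUd⟩
    rw [finrank_top] at hUd
    exact ⟨U, hU, by omega⟩
  · rintro ⟨U, hU, hUd⟩
    exact ⟨U, le_top, hU, by rw [finrank_top]; omega⟩

/-- Padding by zeros. -/
def pad {a m : ℕ} (h : a ≤ m) : (Fin a ⊕ Fin a → F) →ₗ[F] (Fin m ⊕ Fin m → F) where
  toFun v := Sum.elim (fun j => if hj : j.1 < a then v (Sum.inl ⟨j.1, hj⟩) else 0)
    (fun j => if hj : j.1 < a then v (Sum.inr ⟨j.1, hj⟩) else 0)
  map_add' u v := funext fun s => by rcases s with j | j <;> by_cases hj : j.1 < a <;> simp [hj]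
  map_smul' c v := funext fun s => by rcases s with j | j <;> by_cases hj : j.1 < a <;> simp [hj]

theorem plusForm_pad {a m : ℕ} (h : a ≤ m) (v : Fin a ⊕ Fin a → F) :
    Orth.plusForm F m (pad h v) = Orth.plusForm F a v := by
  rw [← Orth.plusForm_apply, ← Orth.plusForm_apply]
  simp only [Cfsg.quadFormPlus]
  refine (Fintype.sum_of_injective (Fin.castLE h) (Fin.castLE_injective h) _ _ (fun j hj => ?_) fun i => ?_).symm
  · have hja : ¬ j.1 < a := fun h' => hj ⟨⟨j.1, h'⟩, rfl⟩
    simp [pad, hja]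
  · simp [pad, i.2]

theorem pad_eq_zero {a m : ℕ} (h : a ≤ m) (v : Fin a ⊕ Fin a → F) (j : Fin m) (hj : a ≤ j.1) :
    pad h v (Sum.inl j) = 0 ∧ pad h v (Sum.inr j) = 0 := by
  simp [pad, Nat.not_lt.2 hj]

/-- A form of even dimension embeds into any larger space. -/
theorem exists_embed (hN : (polarBilin Q).Nondegenerate) (hR : (polarBilin R).Nondegenerate) {e : ℕ}
    (hW : finrank F W = 2 * e)
    (h : (2 * e + 2 ≤ finrank F V) ∨ (2 * e + 1 = finrank F V ∧ (2 : F) ≠ 0) ∨
      (2 * e = finrank F V ∧ (PlusOn R ⊤ ↔ PlusOn Q ⊤))) :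
    ∃ T : W →ₗ[F] V, ∀ w, Q (T w) = R w := by
  by_cases heq : 2 * e = finrank F V
  · obtain ⟨-, hiff⟩ : _ ∧ (PlusOn R ⊤ ↔ PlusOn Q ⊤) := by
      rcases h with h | ⟨h, -⟩ | h
      · omega
      · omega
      · exact h
    rw [plusOn_top_iff hW, plusOn_top_iff heq.symm] at hiff
    obtain ⟨φ, hφ⟩ := EvenForms.exists_equiv hR hN hW heq.symm hiff
    exact ⟨φ.toLinearMap, hφ⟩
  obtain ⟨m, A, T₀, hT₀, hTA, hdim, hA2, hanis, hAn⟩ := Orth.exists_decomposition hN
  have hem : e ≤ m ∧ (e + 1 ≤ m ∨ (finrank F A = 2) ∨ (finrank F A = 1 ∧ (2 : F) ≠ 0)) := by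
    rcases h with h | ⟨h, h2⟩ | ⟨h, -⟩
    · refine ⟨by omega, ?_⟩
      rcases Nat.lt_or_ge (finrank F A) 2 with hA | hA
      · left; omega
      · right; left; omega
    · refine ⟨by omega, Or.inr (Or.inr ⟨by omega, h2⟩)⟩
    · exact absurd h heq
  obtain ⟨hem, hA'⟩ := hem
  rcases EvenForms.dichotomy hR hW with ⟨-, g, hg⟩ | ⟨-, he1, g, ζ, hζ, hg⟩
  · refine ⟨T₀.comp ((pad hem).comp g.symm.toLinearMap), fun w => ?_⟩
    simp only [LinearMap.comp_apply, LinearEquiv.coe_coe]
    rw [hT₀, plusForm_pad, ← hg, g.apply_symm_apply]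
  have hle : e - 1 ≤ m := by omega
  have hj : e - 1 < m := by omega
  -- the last pair
  let u₀ : Fin m ⊕ Fin m → F := Pi.single (Sum.inl ⟨e - 1, hj⟩) 1
  let w₀ : Fin m ⊕ Fin m → F := Pi.single (Sum.inr ⟨e - 1, hj⟩) 1
  have hQu : Q (T₀ u₀) = 0 := by rw [hT₀, ← Orth.plusForm_apply]; simp [Cfsg.quadFormPlus, u₀]
  have hQw : Q (T₀ w₀) = 0 := by rw [hT₀, ← Orth.plusForm_apply]; simp [Cfsg.quadFormPlus, w₀]
  have hpp : ∀ v v', polar Q (T₀ v) (T₀ v') = polar (Orth.plusForm F m) v v' :=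
    Orth.polar_of_preserving T₀ hT₀
  have huw : polar Q (T₀ u₀) (T₀ w₀) = 1 := by
    rw [hpp, Orth.plusForm_polar]; simp [u₀, w₀, Pi.single_apply]
  have hpu : ∀ v, polar Q (T₀ (pad hle v)) (T₀ u₀) = 0 ∧ polar Q (T₀ (pad hle v)) (T₀ w₀) = 0 := fun v => by
    constructor <;>
    · rw [hpp, Orth.plusForm_polar]
      refine Finset.sum_eq_zero fun j _ => ?_
      by_cases hje : j = ⟨e - 1, hj⟩
      · subst hje
        obtain ⟨h1, h2⟩ := pad_eq_zero hle v ⟨e - 1, hj⟩ le_rfl
        rw [h1, h2]; ring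
      · simp [u₀, w₀, Pi.single_apply, hje]
  -- the vector completing the plane
  obtain ⟨z, hzx, hzQ, hzp⟩ : ∃ z, polar Q (T₀ u₀ + T₀ w₀) z = 0 ∧ Q z + polar Q (T₀ w₀) z = ζ ∧
      ∀ v, polar Q (T₀ (pad hle v)) z = 0 := by
    rcases hA' with hm | hA | ⟨hA, h2⟩
    · have hj' : e < m := by omega
      let u₁ : Fin m ⊕ Fin m → F := Pi.single (Sum.inl ⟨e, hj'⟩) 1
      let w₁ : Fin m ⊕ Fin m → F := Pi.single (Sum.inr ⟨e, hj'⟩) 1
      have hne : (⟨e, hj'⟩ : Fin m) ≠ ⟨e - 1, hj⟩ := fun h => by simp [Fin.ext_iff] at h; omega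
      have h0 : ∀ v', v' = u₁ ∨ v' = w₁ → polar Q (T₀ u₀) (T₀ v') = 0 ∧ polar Q (T₀ w₀) (T₀ v') = 0 ∧
          ∀ v, polar Q (T₀ (pad hle v)) (T₀ v') = 0 := fun v' hv' => by
        refine ⟨?_, ?_, fun v => ?_⟩ <;>
        · rw [hpp, Orth.plusForm_polar]
          refine Finset.sum_eq_zero fun j _ => ?_
          by_cases hje : j = ⟨e, hj'⟩
          · subst hje
            obtain ⟨h1, h2⟩ := pad_eq_zero hle (F := F) 0 ⟨e, hj'⟩ (by simp)
            rcases hv' with rfl | rfl <;>
              simp [u₀, w₀, Pi.single_apply, hne, pad, show ¬ e < e - 1 by omega]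
          · rcases hv' with rfl | rfl <;> simp [u₁, w₁, Pi.single_apply, hje]
      obtain ⟨a1, b1, c1⟩ := h0 u₁ (Or.inl rfl)
      obtain ⟨a2, b2, c2⟩ := h0 w₁ (Or.inr rfl)
      refine ⟨T₀ u₁ + ζ • T₀ w₁, ?_, ?_, fun v => ?_⟩
      · simp [polar_add_left, polar_add_right, Orth.polar_smul_r', a1, a2, b1, b2]
      · rw [QuadraticMap.map_add Q, QuadraticMap.map_smul, Orth.polar_smul_r', polar_add_right, Orth.polar_smul_r',
          b1, b2, hpp u₁ w₁, hT₀, hT₀, Orth.plusForm_polar, ← Orth.plusForm_apply, ← Orth.plusForm_apply]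
        simp [Cfsg.quadFormPlus, u₁, w₁, Pi.single_apply]
      · rw [polar_add_right, Orth.polar_smul_r', c1, c2]; ring
    · have hAn' : NondegOn (polarBilin Q) A := nondegOn_iff.2 fun a ha h => congrArg Subtype.val
        (hAn.2 ⟨a, ha⟩ fun b => by
          rw [polar_comp]; exact h b b.2)
      have hbot : A ⊓ LinearMap.BilinForm.orthogonal (polarBilin Q) A = ⊥ := by
        rw [Submodule.eq_bot_iff]
        rintro x ⟨hx, hx'⟩
        exact nondegOn_iff.1 hAn' x hx fun w hw => hx' w hw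
      obtain ⟨a, ha, hQa⟩ := Orth.exists_value (Q := Q) A (by rw [hbot, finrank_bot, hA]) ζ
      refine ⟨a, ?_, ?_, fun v => hTA _ a ha⟩
      · rw [polar_add_left, hTA _ a ha, hTA _ a ha, add_zero]
      · rw [hQa, hTA _ a ha, add_zero]
    · obtain ⟨a, ha, ha0⟩ := Submodule.exists_mem_ne_zero_of_ne_bot (p := A) fun h0 => by
        rw [h0, finrank_bot] at hA; omega
      have hα : Q a ≠ 0 := fun h0 => ha0 (hanis a ha h0)
      have hq : Fintype.card F % 2 = 1 := FiniteField.odd_card_of_char_ne_two fun hc => h2 (by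
        haveI : CharP F 2 := ringChar.of_eq hc
        exact CharP.cast_eq_zero F 2)
      obtain ⟨s, p, hsp⟩ := FiniteField.exists_root_sum_quadratic
        (f := Polynomial.C (Q a) * Polynomial.X ^ 2)
        (g := Polynomial.C (-1) * Polynomial.X ^ 2 + Polynomial.C (1 : F) * Polynomial.X + Polynomial.C (-ζ))
        (Polynomial.degree_C_mul_X_pow 2 hα) (Polynomial.degree_quadratic (by simp)) hq
      simp only [Polynomial.eval_add, Polynomial.eval_mul, Polynomial.eval_C, Polynomial.eval_pow,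
        Polynomial.eval_X] at hsp
      refine ⟨p • (T₀ u₀ - T₀ w₀) + s • a, ?_, ?_, fun v => ?_⟩
      · simp only [polar_add_left, polar_add_right, Orth.polar_smul_r', polar_sub_right, Orth.polar_self', hQu, hQw,
          huw, polar_comm _ (T₀ w₀) (T₀ u₀), hTA _ a ha]
        ring
      · simp only [QuadraticMap.map_add Q, QuadraticMap.map_smul, sub_eq_add_neg, QuadraticMap.map_neg, polar_neg_right,
          polar_add_left, polar_add_right, polar_neg_left, Orth.polar_smul_r', Orth.polar_smul_l', Orth.polar_self',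
          hQu, hQw, huw, polar_comm _ (T₀ w₀) (T₀ u₀), hTA _ a ha, smul_eq_mul]
        linear_combination hsp
      · simp only [polar_add_right, Orth.polar_smul_r', polar_sub_right, (hpu v).1, (hpu v).2, hTA _ a ha]
        ring
  set x := T₀ u₀ + T₀ w₀ with hx
  set y := T₀ w₀ + z with hy
  have hQx : Q x = 1 := by rw [hx, QuadraticMap.map_add Q, hQu, hQw, huw]; ring
  have hxy : polar Q x y = 1 := by
    rw [hy, polar_add_right, hzx, hx, polar_add_left, huw, Orth.polar_self', hQw]; ring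
  have hQy : Q y = ζ := by rw [hy, QuadraticMap.map_add Q, hQw, zero_add, hzQ]
  have hTx : ∀ v, polar Q (T₀ (pad hle v)) x = 0 := fun v => by
    rw [hx, polar_add_right, (hpu v).1, (hpu v).2, add_zero]
  have hTy : ∀ v, polar Q (T₀ (pad hle v)) y = 0 := fun v => by
    rw [hy, polar_add_right, (hpu v).2, hzp, add_zero]
  refine ⟨(T₀.comp ((pad hle).comp (LinearMap.funLeft F F Sum.inl)) + (LinearMap.proj (Sum.inr (0 : Fin 2))).smulRight x +
      (LinearMap.proj (Sum.inr (1 : Fin 2))).smulRight y).comp g.symm.toLinearMap, fun w => ?_⟩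
  obtain ⟨v, rfl⟩ := g.surjective w
  simp only [LinearMap.comp_apply, LinearEquiv.coe_coe, g.symm_apply_apply, LinearMap.add_apply,
    LinearMap.smulRight_apply, LinearMap.proj_apply]
  rw [hg, Orth.quad_add', Orth.quad_add', QuadraticMap.map_smul, QuadraticMap.map_smul, polar_add_left,
    Orth.polar_smul_r', Orth.polar_smul_r', Orth.polar_smul_l', Orth.polar_smul_r', hQx, hQy, hxy, hTx, hTy, hT₀,
    plusForm_pad, ← Orth.plusForm_apply, ← Orth.minusForm_apply]
  simp only [Cfsg.quadFormPlus, Cfsg.quadFormMinus, LinearMap.funLeft_apply, smul_eq_mul]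
  ring

/-- Extend an isometry of an embedded space by the identity on the orthogonal space. -/
theorem exists_extend (hN : (polarBilin Q).Nondegenerate) (hR : (polarBilin R).Nondegenerate) (T : W →ₗ[F] V)
    (hT : ∀ w, Q (T w) = R w) {Y : Module.End F W} (hY : Y ^ r = 1) (hfix : ∀ w, Y w = w → w = 0)
    (hRY : ∀ w, R (Y w) = R w) :
    ∃ L : Module.End F V, L ^ r = 1 ∧ (∀ v, Q (L v) = Q v) ∧ (∀ w, L (T w) = T (Y w)) ∧
      NondegOn (polarBilin Q) (LinearMap.range T) ∧ L.eigenspace 1 = perp (polarBilin Q) (LinearMap.range T) := by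
  let π : V →ₗ[F] W := ((LinearMap.BilinForm.toDual (polarBilin R) hR).symm.toLinearMap.comp
    (T.dualMap.comp (polarBilin Q).flip))
  have hπ : ∀ v w, polarBilin R (π v) w = polarBilin Q (T w) v := fun v w => by
    simp only [π, LinearMap.comp_apply, LinearEquiv.coe_coe, LinearMap.BilinForm.apply_toDual_symm_apply,
      LinearMap.dualMap_apply, LinearMap.flip_apply]
  have hpp : ∀ a b, polar Q (T a) (T b) = polar R a b := Orth.polar_of_preserving T hT
  have hπT : ∀ a, π (T a) = a := fun a => by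
    rw [← sub_eq_zero]
    refine hR.1 _ fun w => ?_
    rw [map_sub, LinearMap.sub_apply, hπ, sub_eq_zero, polarBilin_apply_apply, polarBilin_apply_apply, hpp, polar_comm]
  let D : Module.End F V := T.comp ((Y - 1).comp π)
  have hDT : ∀ w, (1 + D) (T w) = T (Y w) := fun w => by
    simp [D, hπT]
  have hperp : ∀ v, v - T (π v) ∈ perp (polarBilin Q) (LinearMap.range T) := fun v => mem_perp.2 <| by
    rintro _ ⟨w, rfl⟩
    rw [map_sub, sub_eq_zero, ← hπ, polarBilin_apply_apply, polarBilin_apply_apply, hpp, polar_comm]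
  have hπ0 : ∀ v ∈ perp (polarBilin Q) (LinearMap.range T), π v = 0 := fun v hv => hR.1 _ fun w => by
    rw [hπ]; exact mem_perp.1 hv _ ⟨w, rfl⟩
  have hfixv : ∀ v ∈ perp (polarBilin Q) (LinearMap.range T), (1 + D) v = v := fun v hv => by simp [D, hπ0 v hv]
  have hL : ∀ v, (1 + D) v = T (Y (π v)) + (v - T (π v)) := fun v => by
    conv_lhs => rw [← add_sub_cancel (T (π v)) v, map_add, hDT, hfixv _ (hperp v)]
  have hpow : ∀ (n : ℕ) v, ((1 + D) ^ n) v = T ((Y ^ n) (π v)) + (v - T (π v)) := fun n v => by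
    induction n with
    | zero => simp
    | succ n ih => rw [pow_succ', Module.End.mul_apply, ih, map_add, hDT, hfixv _ (hperp v), pow_succ']; rfl
  have hinj := Orth.injective_of_preserving hR T hT
  refine ⟨1 + D, LinearMap.ext fun v => ?_, fun v => ?_, hDT, nondegOn_iff.2 ?_, ?_⟩
  · rw [hpow, hY]; simp
  · have hc : ∀ w, polar Q (T w) (v - T (π v)) = 0 := fun w => mem_perp.1 (hperp v) _ ⟨w, rfl⟩
    rw [hL, QuadraticMap.map_add Q, hT, hRY, ← hT, hc, add_zero]
    conv_rhs => rw [← add_sub_cancel (T (π v)) v, QuadraticMap.map_add Q, hc, add_zero]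
  · rintro _ ⟨w, rfl⟩ h
    have : w = 0 := hR.2 w fun u => by
      rw [polarBilin_apply_apply, ← hpp, ← polarBilin_apply_apply]; exact h _ ⟨u, rfl⟩
    rw [this, map_zero]
  · ext v
    rw [Module.End.mem_eigenspace_iff, one_smul]
    refine ⟨fun h => ?_, hfixv v⟩
    have h1 : T (Y (π v)) = T (π v) := by
      have := (hL v).symm.trans h
      rwa [add_sub, sub_eq_iff_eq_add, add_comm v, add_left_inj] at this
    have := hperp v
    rwa [hfix _ (hinj h1), map_zero, sub_zero] at this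

/-- An isometry with the given moved part: the dimensions of its totally singular invariant subspaces. -/
theorem exists_witness (hr : (r : F) ≠ 0) (hr2 : Odd r) (hN : (polarBilin Q).Nondegenerate)
    (hR : (polarBilin R).Nondegenerate) (T : W →ₗ[F] V) (hT : ∀ w, Q (T w) = R w) {Y : Module.End F W}
    (hY : Y ^ r = 1) (hfix : ∀ w, Y w = w → w = 0) (hRY : ∀ w, R (Y w) = R w) (hW0 : 0 < finrank F W) :
    ∃ L : Module.End F V, L ^ r = 1 ∧ (∀ v, Q (L v) = Q v) ∧ L ≠ 1 ∧
      ∀ U, Inv L U → Sing Q U → ∃ (a c : ℕ) (U' : Submodule F W), Inv Y U' ∧ Sing R U' ∧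
        finrank F U' = a * orderOf (Fintype.card F : ZMod r) ∧
        finrank F U = a * orderOf (Fintype.card F : ZMod r) + c ∧ 2 * c + finrank F W ≤ finrank F V ∧
        (Even (finrank F V) → ¬ (PlusOn Q ⊤ ↔ PlusOn R ⊤) → 2 * c + 2 + finrank F W ≤ finrank F V) := by
  obtain ⟨L, hL, hQL, hLT, hEn, hC⟩ := exists_extend hN hR T hT hY hfix hRY
  have hinj := Orth.injective_of_preserving hR T hT
  have hrange : finrank F (LinearMap.range T) = finrank F W := LinearMap.finrank_range_of_inj hinj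
  refine ⟨L, hL, hQL, fun h1 => ?_, fun U hU hUs => ?_⟩
  · haveI : Nontrivial W := Module.nontrivial_of_finrank_pos (R := F) hW0
    obtain ⟨w, hw⟩ := exists_ne (0 : W)
    refine hw (hfix w (hinj ?_))
    rw [← hLT, h1, Module.End.one_apply]
  obtain ⟨E, hc, -, hu, hsum⟩ := exists_structure hr hL
  obtain ⟨horth, -, hCn⟩ := moved_facts (polar_refl Q) hN (polar_map hQL) hc hu.inv
  have hE : E = LinearMap.range T := by
    have h1 := Submodule.finrank_add_eq_of_isCompl hc
    have h2 := hEn.finrank_perp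
    rw [← hC] at h2
    refine Submodule.eq_of_le_of_finrank_eq (fun e he => ?_) (by omega)
    obtain ⟨a, ha, b, hb, rfl⟩ := Submodule.mem_sup.1 (hEn.isCompl.sup_eq_top ▸ Submodule.mem_top (x := e))
    rw [← hC] at hb
    suffices b = 0 by rw [this, add_zero]; exact ha
    refine nondegOn_iff.1 hCn b hb fun z hz => ?_
    have h3 := polar_refl Q _ _ (horth _ he z hz)
    rw [map_add] at h3
    rw [hC] at hz
    rwa [polar_refl Q _ _ (mem_perp.1 hz a ha), zero_add] at h3
  subst hE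
  set U' := U.comap T
  have hU' : Inv Y U' := Inv.of_mem fun w hw => by
    show T (Y w) ∈ U
    rw [← hLT]; exact hU.mem hw
  have hU's : Sing R U' := fun w hw => by rw [← hT]; exact hUs _ hw
  have hU'd : finrank F U' = finrank F (U ⊓ LinearMap.range T : Submodule F V) := by
    rw [(Submodule.equivMapOfInjective T hinj U').finrank_eq, Submodule.map_comap_eq, inf_comm]
  obtain ⟨a, ha⟩ := hu.dvd (U ⊓ LinearMap.range T) inf_le_right (hU.inf hu.inv)
  rw [mul_comm] at ha
  refine ⟨a, finrank F (U ⊓ L.eigenspace 1 : Submodule F V), U', hU', hU's, hU'd.trans ha,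
    (hsum U hU).trans (by rw [ha, add_comm]), ?_, fun hev hne => ?_⟩
  · have := sing_le_half hCn inf_le_right (hUs.mono (inf_le_left : U ⊓ L.eigenspace 1 ≤ U))
    have := Submodule.finrank_add_eq_of_isCompl hc
    omega
  · have h1 := Submodule.finrank_add_eq_of_isCompl hc
    have hWe : Even (finrank F W) := by
      rw [← hrange]
      exact even_moved hr2 hQL hL hu.inv hc.disjoint hEn
    have hCe : Even (finrank F (L.eigenspace 1)) := by
      rw [← h1, hrange] at hev
      exact (Nat.even_add.1 hev).2 hWe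
    have hWR : PlusOn Q (LinearMap.range T) ↔ PlusOn R ⊤ := by
      constructor
      · rintro ⟨U₁, hle, hs₁, hd₁⟩
        refine ⟨U₁.comap T, le_top, fun w hw => by rw [← hT]; exact hs₁ _ hw, ?_⟩
        rw [(Submodule.equivMapOfInjective T hinj _).finrank_eq, Submodule.map_comap_eq, inf_eq_right.2 hle,
          finrank_top, ← hrange]
        exact hd₁
      · rintro ⟨U₁, -, hs₁, hd₁⟩
        refine ⟨U₁.map T, LinearMap.map_le_range, ?_, ?_⟩
        · rintro _ ⟨w, hw, rfl⟩
          rw [hT]; exact hs₁ w hw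
        · rw [← (Submodule.equivMapOfInjective T hinj _).finrank_eq, hrange]
          rw [finrank_top] at hd₁
          exact hd₁
    have hp : ¬ PlusOn Q (L.eigenspace 1) := fun hp => hne <| by
      rw [plus_sum_iff hN hc.symm horth hEn hCn (hrange ▸ hWe) hCe, hWR]
      tauto
    have := sing_lt_of_not_plus hCn hCe hp inf_le_right (hUs.mono (inf_le_left : U ⊓ L.eigenspace 1 ≤ U))
    omega

/-- The image of an embedded non-degenerate space. -/
theorem range_facts (hR : (polarBilin R).Nondegenerate) (T : W →ₗ[F] V) (hT : ∀ w, Q (T w) = R w) :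
    NondegOn (polarBilin Q) (LinearMap.range T) ∧ finrank F (LinearMap.range T) = finrank F W ∧
      (PlusOn Q (LinearMap.range T) ↔ PlusOn R ⊤) := by
  have hinj := Orth.injective_of_preserving hR T hT
  have hrange : finrank F (LinearMap.range T) = finrank F W := LinearMap.finrank_range_of_inj hinj
  refine ⟨nondegOn_iff.2 ?_, hrange, ?_, ?_⟩
  · rintro _ ⟨w, rfl⟩ h
    have : w = 0 := hR.2 w fun u => by
      rw [polarBilin_apply_apply, ← Orth.polar_of_preserving T hT, ← polarBilin_apply_apply]; exact h _ ⟨u, rfl⟩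
    rw [this, map_zero]
  · rintro ⟨U₁, hle, hs₁, hd₁⟩
    refine ⟨U₁.comap T, le_top, fun w hw => by rw [← hT]; exact hs₁ _ hw, ?_⟩
    rw [(Submodule.equivMapOfInjective T hinj _).finrank_eq, Submodule.map_comap_eq, inf_eq_right.2 hle,
      finrank_top, ← hrange]
    exact hd₁
  · rintro ⟨U₁, -, hs₁, hd₁⟩
    refine ⟨U₁.map T, LinearMap.map_le_range, ?_, ?_⟩
    · rintro _ ⟨w, hw, rfl⟩
      rw [hT]; exact hs₁ w hw
    · rw [← (Submodule.equivMapOfInjective T hinj _).finrank_eq, hrange]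
      rw [finrank_top] at hd₁
      exact hd₁

variable {ι : Type} [Fintype ι] [DecidableEq ι] {Qf : (ι → F) → F}

/-- An isometry of odd order as an element of `Ω`. -/
theorem exists_omega (P : QuadraticForm F (ι → F)) (hQf : ∀ v, Qf v = P v) (hP : (polarBilin P).Nondegenerate)
    (h4 : Orth.Good F (ι → F)) (hr2 : Odd r) {L : Module.End F (ι → F)} (hL : L ^ r = 1)
    (hQL : ∀ v, P (L v) = P v) (hne : L ≠ 1) :
    ∃ x : GL ι F, x ∈ Cfsg.Geo.omegaGL Qf ∧ Matrix.toLin' (x : Matrix ι ι F) = L ∧ x ^ r = 1 ∧ orderOf x = r ∧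
      ∀ z : F, (x : Matrix ι ι F) ≠ z • (1 : Matrix ι ι F) := by
  let M := (Matrix.toLinAlgEquiv' (R := F) (n := ι)).symm L
  have hM : Matrix.toLinAlgEquiv' M = L := AlgEquiv.apply_symm_apply _ _
  obtain ⟨x, hx, hxr⟩ := SympFpf.exists_gl (r := r) (Y := M) (by rw [← map_pow, hL, map_one])
  have hxL : Matrix.toLin' (x : Matrix ι ι F) = L := by rw [hx]; exact hM
  have hxv : ∀ v, (x : Matrix ι ι F) *ᵥ v = L v := fun v => by rw [← hxL]; rfl
  let g : Cfsg.isometryGroup F Qf := ⟨x, fun v _ => by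
    show Qf ((x : Matrix ι ι F) *ᵥ v) = Qf v
    rw [hQf, hQf, hxv, hQL]⟩
  have hmem : g ∈ Cfsg.Omega F Qf := by
    refine (Orth.mem_Omega_iff P hQf g).2 ?_
    obtain ⟨k, hk⟩ := hr2
    have hg : g = g ^ (k + 1) * g ^ (k + 1) := by
      have h1 : g ^ r = 1 := Subtype.ext hxr
      rw [← pow_add, show k + 1 + (k + 1) = r + 1 by omega, pow_succ, h1, one_mul]
    rw [hg, map_mul]
    exact Orth.sq_mem_commutator hP h4 _
  have hord : orderOf x = r := orderOf_eq_prime hxr fun h1 => hne <| by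
    rw [← hxL, h1, Units.val_one, Matrix.toLin'_one]; rfl
  refine ⟨x, ⟨g, hmem, rfl⟩, hxL, hxr, hord, fun z hz => hne ?_⟩
  have hLz : L = z • 1 := by rw [← hxL, hz, map_smul, Matrix.toLin'_one]; rfl
  obtain ⟨u, hu⟩ : ∃ u, u ≠ (0 : ι → F) := by
    by_contra! hall
    exact hne (LinearMap.ext fun v => by rw [hall v, map_zero, map_zero])
  have hzr : z ^ r = 1 := by
    have h1 := LinearMap.congr_fun hL u
    rw [hLz, smul_pow, one_pow, LinearMap.smul_apply, Module.End.one_apply] at h1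
    exact smul_left_injective F hu (h1.trans (one_smul F u).symm)
  have hzz : z * z = 1 := by
    obtain ⟨v, hv⟩ : ∃ v, polarBilin P u v ≠ 0 := by
      by_contra! hall
      exact hu (hP.1 u hall)
    have h1 := polar_map hQL u v
    simp only [hLz, LinearMap.smul_apply, Module.End.one_apply, map_smul, smul_eq_mul, ← mul_assoc] at h1
    exact (mul_eq_right₀ hv).1 h1
  obtain ⟨k, hk⟩ := hr2
  rw [hk, pow_succ, pow_mul, pow_two, hzz, one_pow, one_mul] at hzr
  rw [hLz, hzr, one_smul]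

end CfsgLib.Derangements.OrthInv
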