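import Cfsg.Agent.Lib.Derangements.OrthSingularCount
import Cfsg.Agent.Lib.Derangements.OrthInvariantWitness
import Cfsg.Agent.Lib.Classical.OrthCount

/-!
# Primes dividing the number of non-degenerate subspaces of a given isometry class
-/

set_option autoImplicit false
set_option linter.unusedSectionVars false

namespace CfsgLib.Derangements.OrthInv

open Module QuadraticMap CfsgLib.Classical CfsgLib.Derangements.LinElusive CfsgLib.Derangements.NullInv

variable {F : Type*} [Field F] [Fintype F] {V : Type*} [AddCommGroup V] [Module F V] [FiniteDimensional F V]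
  {Q : QuadraticForm F V} {r : ℕ} [Fact r.Prime]

/-- The product of `q ^ 2i - 1`. -/
def evenProd (q k : ℕ) : ℕ := ∏ t ∈ Finset.range k, (q ^ (2 * (t + 1)) - 1)

theorem evenProd_pos (k : ℕ) : 0 < evenProd (Fintype.card F) k := Finset.prod_pos fun t _ =>
  Nat.sub_pos_of_lt (Nat.one_lt_pow (by omega) Fintype.one_lt_card)

theorem card_even_form (hN : (polarBilin Q).Nondegenerate) {k : ℕ} (hd : finrank F V = 2 * (k + 1)) :
    ∃ f g, Nat.card (Orth.orthGroup Q) = 2 * Fintype.card F ^ ((k + 1) * k) * f * evenProd (Fintype.card F) k ∧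
      f * g = Fintype.card F ^ (2 * (k + 1)) - 1 ∧ 0 < f ∧
      (PlusOn Q ⊤ → f = Fintype.card F ^ (k + 1) - 1 ∧ g = Fintype.card F ^ (k + 1) + 1) ∧
      (¬ PlusOn Q ⊤ → f = Fintype.card F ^ (k + 1) + 1 ∧ g = Fintype.card F ^ (k + 1) - 1) := by
  have h2 : (Fintype.card F ^ (k + 1) - 1) * (Fintype.card F ^ (k + 1) + 1) = Fintype.card F ^ (2 * (k + 1)) - 1 := by
    rw [mul_comm, ← Nat.sq_sub_sq, one_pow, ← pow_mul, mul_comm 2]
  have hpos : 0 < Fintype.card F ^ (k + 1) - 1 := Nat.sub_pos_of_lt (Nat.one_lt_pow (by omega) Fintype.one_lt_card)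
  rcases EvenForms.dichotomy hN hd with ⟨hp, e, he⟩ | ⟨hp, -, e, ζ, hζ, he⟩
  · refine ⟨_, _, ?_, h2, hpos, fun _ => ⟨rfl, rfl⟩, fun h => absurd ((plusOn_top_iff hd).2 hp) h⟩
    rw [← Nat.card_congr (orthGroupCongr e he).toEquiv, card_orth_plus rfl]
    rfl
  · refine ⟨_, _, ?_, (mul_comm _ _).trans h2, Nat.succ_pos _, fun h => absurd ((plusOn_top_iff hd).1 h) hp,
      fun _ => ⟨rfl, rfl⟩⟩
    rw [← Nat.card_congr (orthGroupCongr e he).toEquiv, card_orth_minus rfl _ _ (Orth.anisotropic_of_no_root hζ)]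
    simp only [Nat.add_sub_cancel]
    rfl

theorem card_odd_form (hN : (polarBilin Q).Nondegenerate) (h2 : (2 : F) ≠ 0) {e : ℕ}
    (hd : finrank F V = 2 * e + 1) :
    Nat.card (Orth.orthGroup Q) = 2 * Fintype.card F ^ (e ^ 2) * evenProd (Fintype.card F) e := by
  obtain ⟨α, φ, hα, hφ⟩ := exists_odd_iso hN hd
  have hscale : Orth.orthGroup (α • Orth.oddForm F e) = Orth.orthGroup (Orth.oddForm F e) := by
    ext g
    refine ⟨fun h v => ?_, fun h v => ?_⟩
    · exact mul_left_cancel₀ hα (h v)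
    · show α * Orth.oddForm F e (g v) = α * Orth.oddForm F e v
      rw [h v]
  rw [← Nat.card_congr (orthGroupCongr (Q := α • Orth.oddForm F e) φ hφ).toEquiv, hscale, card_orth_odd rfl h2]
  rfl

/-- The orbit of a non-degenerate subspace. -/
theorem mul_dvd_orbit (hN : (polarBilin Q).Nondegenerate) {W₀ : Submodule F V} (hW₀ : NondegOn (polarBilin Q) W₀)
    {P : Submodule F V → Prop}
    (hP : ∀ W, P W → ∃ φ : W₀ ≃ₗ[F] W, ∀ w : W₀, Q (φ w : V) = Q (w : V))
    (hP' : ∀ g : Orth.orthGroup Q, P (W₀.map (g.1 : V →ₗ[F] V)))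
    (hr : r ∣ Nat.card {W : Submodule F V // P W}) :
    r * (Nat.card (Orth.orthGroup (Q.comp W₀.subtype)) *
      Nat.card (Orth.orthGroup (Q.comp (perp (polarBilin Q) W₀).subtype))) ∣ Nat.card (Orth.orthGroup Q) := by
  let S := Orth.stab (Q := Q) W₀
  let ψ : Orth.orthGroup Q ⧸ S → {W : Submodule F V // P W} :=
    Quotient.lift (fun g => ⟨_, hP' g⟩) fun g g' hgg => by
      have hgg' : g⁻¹ * g' ∈ S := QuotientGroup.leftRel_apply.1 hgg
      refine Subtype.ext ?_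
      show W₀.map (g.1 : V →ₗ[F] V) = W₀.map (g'.1 : V →ₗ[F] V)
      have h1 : W₀.map ((g⁻¹ * g').1 : V →ₗ[F] V) = W₀ := hgg'
      conv_lhs => rw [← h1, ← Submodule.map_comp]
      congr 1
      exact LinearMap.ext fun v => show (g * (g⁻¹ * g')).1 v = g'.1 v by rw [mul_inv_cancel_left]
  have hψ : Function.Bijective ψ := by
    refine ⟨?_, fun W => ?_⟩
    · intro x y
      refine QuotientGroup.induction_on x fun g => QuotientGroup.induction_on y fun g' e => ?_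
      refine QuotientGroup.eq.2 ?_
      have e' : W₀.map (g.1 : V →ₗ[F] V) = W₀.map (g'.1 : V →ₗ[F] V) := congrArg Subtype.val e
      show W₀.map ((g⁻¹.1 : V →ₗ[F] V).comp (g'.1 : V →ₗ[F] V)) = W₀
      rw [Submodule.map_comp, ← e', ← Submodule.map_comp]
      convert Submodule.map_id W₀
      exact LinearMap.ext fun v => show (g⁻¹ * g).1 v = v by rw [inv_mul_cancel]; rfl
    · obtain ⟨φ, hφ⟩ := hP W.1 W.2
      obtain ⟨g, hg⟩ := Orth.exists_orth_comp hN (comp_nondeg hW₀) W₀.subtype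
        (W.1.subtype.comp φ.toLinearMap) (fun w => rfl) hφ
      refine ⟨QuotientGroup.mk g, Subtype.ext ?_⟩
      show W₀.map (g.1 : V →ₗ[F] V) = W.1
      ext v
      constructor
      · rintro ⟨w, hw, rfl⟩
        have := hg ⟨w, hw⟩
        simp only [Submodule.subtype_apply] at this
        rw [LinearEquiv.coe_coe, this]
        exact (φ ⟨w, hw⟩).2
      · intro hv
        refine ⟨φ.symm ⟨v, hv⟩, (φ.symm ⟨v, hv⟩).2, ?_⟩
        have := hg (φ.symm ⟨v, hv⟩)
        simp only [Submodule.subtype_apply, LinearMap.comp_apply, LinearEquiv.coe_coe, φ.apply_symm_apply] at this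
        exact this
  set U := perp (polarBilin Q) W₀ with hU
  let σ : (W₀ × U) ≃ₗ[F] V := Submodule.prodEquivOfIsCompl _ _ hW₀.isCompl
  have hσ : ∀ (a : W₀) (b : U), σ (a, b) = (a : V) + b := fun a b => rfl
  have horth : ∀ (a : W₀) (b : U), polar Q (a : V) b = 0 := fun a b => mem_perp.1 b.2 _ a.2
  let Φ : Orth.orthGroup (Q.comp W₀.subtype) × Orth.orthGroup (Q.comp U.subtype) →* Orth.orthGroup Q :=
    { toFun := fun g => ⟨(σ.symm.trans (g.1.1.prodCongr g.2.1)).trans σ, fun v => by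
        obtain ⟨⟨a, b⟩, rfl⟩ := σ.surjective v
        simp only [LinearEquiv.trans_apply, σ.symm_apply_apply, LinearEquiv.prodCongr_apply]
        rw [hσ, hσ, QuadraticMap.map_add Q, QuadraticMap.map_add Q, horth, horth]
        have h1 : Q ((g.1.1 a : W₀) : V) = Q (a : V) := g.1.2 a
        have h3 : Q ((g.2.1 b : U) : V) = Q (b : V) := g.2.2 b
        rw [h1, h3]⟩
      map_one' := Subtype.ext (LinearEquiv.ext fun v => σ.apply_symm_apply v)
      map_mul' := fun g g' => Subtype.ext (LinearEquiv.ext fun v => by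
        obtain ⟨⟨a, b⟩, rfl⟩ := σ.surjective v
        simp [LinearEquiv.mul_apply]) }
  have hΦ : Function.Injective Φ := fun g g' h => by
    have h1 : ∀ a b, σ (g.1.1 a, g.2.1 b) = σ (g'.1.1 a, g'.2.1 b) := fun a b => by
      have := LinearEquiv.congr_fun (congrArg Subtype.val h) (σ (a, b))
      simpa [Φ] using this
    refine Prod.ext (Subtype.ext (LinearEquiv.ext fun a => ?_)) (Subtype.ext (LinearEquiv.ext fun b => ?_))
    · exact congrArg Prod.fst (σ.injective (h1 a 0))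
    · exact congrArg Prod.snd (σ.injective (h1 0 b))
  have hle : ∀ g, Φ g ∈ S := fun g => Orth.mem_stab_of_le fun w hw => by
    have h1 : (Φ g).1 (σ (⟨w, hw⟩, 0)) = σ (g.1.1 ⟨w, hw⟩, g.2.1 0) := by simp [Φ]
    rw [hσ, Submodule.coe_zero, add_zero] at h1
    rw [h1, hσ, map_zero, Submodule.coe_zero, add_zero]
    exact (g.1.1 ⟨w, hw⟩).2
  have hdvd := Subgroup.card_dvd_of_injective (Φ.codRestrict S hle) fun a b h => hΦ (congrArg Subtype.val h)
  rw [Nat.card_prod] at hdvd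
  rw [Subgroup.card_eq_card_quotient_mul_card_subgroup S, Nat.card_eq_of_bijective ψ hψ]
  exact mul_dvd_mul hr hdvd

theorem cancel_pow (hrq : ¬ r ∣ Fintype.card F) (hr2 : r ≠ 2) {a x : ℕ}
    (h : r ∣ 2 * Fintype.card F ^ a * x) : r ∣ x := by
  have hp : r.Prime := Fact.out
  rcases hp.dvd_mul.1 h with h | h
  · rcases hp.dvd_mul.1 h with h | h
    · exact absurd ((Nat.prime_dvd_prime_iff_eq hp Nat.prime_two).1 h) hr2
    · exact absurd (hp.dvd_of_dvd_pow h) hrq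
  · exact h

theorem cast_eq_one {n : ℕ} (h : r ∣ Fintype.card F ^ n - 1) : (Fintype.card F : ZMod r) ^ n = 1 := by
  have h1 : ((Fintype.card F ^ n - 1 : ℕ) : ZMod r) = 0 := (ZMod.natCast_eq_zero_iff _ _).2 h
  rw [Nat.cast_sub (Nat.one_le_pow _ _ Fintype.card_pos), sub_eq_zero] at h1
  exact_mod_cast h1

theorem cast_eq_neg_one {n : ℕ} (h : r ∣ Fintype.card F ^ n + 1) : (Fintype.card F : ZMod r) ^ n = -1 := by
  have h1 : ((Fintype.card F ^ n + 1 : ℕ) : ZMod r) = 0 := (ZMod.natCast_eq_zero_iff _ _).2 h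
  push_cast at h1
  exact eq_neg_of_add_eq_zero_left h1

/-- Odd dimension. -/
theorem count_odd (hN : (polarBilin Q).Nondegenerate) (h2 : (2 : F) ≠ 0) (hrq : ¬ r ∣ Fintype.card F) (hr2 : r ≠ 2)
    {d μ : ℕ} (hd : finrank F V = 2 * d + 1) (hμd : μ ≤ d) {W₀ : Submodule F V}
    (hW₀ : NondegOn (polarBilin Q) W₀) (hW₀d : finrank F W₀ = 2 * μ)
    (hr : r * (Nat.card (Orth.orthGroup (Q.comp W₀.subtype)) *
      Nat.card (Orth.orthGroup (Q.comp (perp (polarBilin Q) W₀).subtype))) ∣ Nat.card (Orth.orthGroup Q)) :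
    ∃ j < μ, (Fintype.card F : ZMod r) ^ (2 * (d - j)) = 1 := by
  obtain ⟨ν, rfl⟩ : ∃ ν, d = ν + μ := ⟨d - μ, by omega⟩
  rw [card_odd_form hN h2 hd, card_odd_form (comp_nondeg (nondegOn_perp hN.2 hW₀)) h2 (e := ν) (by
    have := hW₀.finrank_perp; omega)] at hr
  set q := Fintype.card F
  have h3 : r * evenProd q ν ∣ 2 * q ^ ((ν + μ) ^ 2) * evenProd q (ν + μ) :=
    (mul_dvd_mul_left r (dvd_mul_of_dvd_right (dvd_mul_left _ _) _)).trans hr
  rw [show evenProd q (ν + μ) = evenProd q ν * ∏ t ∈ Finset.range μ, (q ^ (2 * (ν + t + 1)) - 1) from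
    Finset.prod_range_add _ _ _, mul_left_comm, mul_comm r] at h3
  obtain ⟨t, ht, ht'⟩ := ((Fact.out : r.Prime).prime.dvd_finset_prod_iff _).1
    (cancel_pow hrq hr2 (Nat.dvd_of_mul_dvd_mul_left (evenProd_pos (F := F) ν) h3))
  rw [Finset.mem_range] at ht
  exact ⟨μ - 1 - t, by omega, by rw [show ν + μ - (μ - 1 - t) = ν + t + 1 by omega]; exact cast_eq_one ht'⟩

/-- Even dimension and even subspaces. -/
theorem count_even (hN : (polarBilin Q).Nondegenerate) (hrq : ¬ r ∣ Fintype.card F) (hr2 : r ≠ 2)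
    {d μ : ℕ} (hd : finrank F V = 2 * d) (hμ : 1 ≤ μ) (hμd : μ < d) {W₀ : Submodule F V}
    (hW₀ : NondegOn (polarBilin Q) W₀) (hW₀d : finrank F W₀ = 2 * μ)
    (hr : r * (Nat.card (Orth.orthGroup (Q.comp W₀.subtype)) *
      Nat.card (Orth.orthGroup (Q.comp (perp (polarBilin Q) W₀).subtype))) ∣ Nat.card (Orth.orthGroup Q)) :
    ((PlusOn Q ⊤ → (Fintype.card F : ZMod r) ^ d = 1) ∧ (¬ PlusOn Q ⊤ → (Fintype.card F : ZMod r) ^ d = -1)) ∨
    ((PlusOn Q (perp (polarBilin Q) W₀) → (Fintype.card F : ZMod r) ^ (d - μ) = -1) ∧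
      (¬ PlusOn Q (perp (polarBilin Q) W₀) → (Fintype.card F : ZMod r) ^ (d - μ) = 1)) ∨
    ∃ j, 1 ≤ j ∧ j < μ ∧ (Fintype.card F : ZMod r) ^ (2 * (d - j)) = 1 := by
  obtain ⟨ν, rfl⟩ : ∃ ν, d = ν + 1 + μ := ⟨d - μ - 1, by omega⟩
  obtain ⟨μ', rfl⟩ : ∃ μ', μ = μ' + 1 := ⟨μ - 1, by omega⟩
  have hUd : finrank F (perp (polarBilin Q) W₀) = 2 * (ν + 1) := by have := hW₀.finrank_perp; omega
  obtain ⟨f, g, hf, hfg, hf0, hfp, hfm⟩ := card_even_form hN (k := ν + 1 + μ') (by omega)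
  obtain ⟨f', g', hf', hfg', hf0', hfp', hfm'⟩ := card_even_form (comp_nondeg (nondegOn_perp hN.2 hW₀)) hUd
  rw [hf, hf'] at hr
  set q := Fintype.card F
  have h3 : r * (f' * evenProd q ν) ∣
      2 * q ^ ((ν + 1 + μ' + 1) * (ν + 1 + μ')) * f * evenProd q (ν + 1 + μ') := by
    refine (mul_dvd_mul_left r (dvd_mul_of_dvd_right ?_ _)).trans hr
    rw [mul_assoc (2 * q ^ ((ν + 1) * ν))]
    exact dvd_mul_left _ _
  rw [show evenProd q (ν + 1 + μ') = evenProd q ν * (f' * g') *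
      ∏ t ∈ Finset.range μ', (q ^ (2 * (ν + 1 + t + 1)) - 1) by
    rw [hfg', evenProd, Finset.prod_range_add, Finset.prod_range_succ]; rfl] at h3
  have h4 : r ∣ 2 * q ^ ((ν + 1 + μ' + 1) * (ν + 1 + μ')) *
      (f * g' * ∏ t ∈ Finset.range μ', (q ^ (2 * (ν + 1 + t + 1)) - 1)) := by
    refine Nat.dvd_of_mul_dvd_mul_left (Nat.mul_pos hf0' (evenProd_pos (F := F) ν)) ?_
    rw [mul_comm r] at h3
    exact h3.trans (dvd_of_eq (by ring))
  have hplus : PlusOn Q (perp (polarBilin Q) W₀) ↔ PlusOn (Q.comp (perp (polarBilin Q) W₀).subtype) ⊤ := by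
    rw [plusOn_iff hUd, plusOn_top_iff (by exact hUd)]
  rcases (Fact.out : r.Prime).dvd_mul.1 (cancel_pow hrq hr2 h4) with h5 | h5
  · rcases (Fact.out : r.Prime).dvd_mul.1 h5 with h5 | h5
    · left
      refine ⟨fun hp => ?_, fun hp => ?_⟩
      · rw [(hfp hp).1] at h5
        rw [show ν + 1 + (μ' + 1) = ν + 1 + μ' + 1 by omega]; exact cast_eq_one h5
      · rw [(hfm hp).1] at h5
        rw [show ν + 1 + (μ' + 1) = ν + 1 + μ' + 1 by omega]; exact cast_eq_neg_one h5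
    · right; left
      rw [Nat.add_sub_cancel]
      refine ⟨fun hp => ?_, fun hp => ?_⟩
      · rw [(hfp' (hplus.1 hp)).2] at h5; exact cast_eq_neg_one h5
      · rw [(hfm' (fun h => hp (hplus.2 h))).2] at h5; exact cast_eq_one h5
  · obtain ⟨t, ht, ht'⟩ := ((Fact.out : r.Prime).prime.dvd_finset_prod_iff _).1 h5
    rw [Finset.mem_range] at ht
    refine Or.inr (Or.inr ⟨μ' - t, by omega, by omega, ?_⟩)
    rw [show ν + 1 + (μ' + 1) - (μ' - t) = ν + 1 + t + 1 by omega]; exact cast_eq_one ht'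

/-- Even dimension and odd subspaces. -/
theorem count_parabolic (hN : (polarBilin Q).Nondegenerate) (h2 : (2 : F) ≠ 0) (hrq : ¬ r ∣ Fintype.card F)
    (hr2 : r ≠ 2) {d μ : ℕ} (hd : finrank F V = 2 * d) (hμd : μ < d) {W₀ : Submodule F V}
    (hW₀ : NondegOn (polarBilin Q) W₀) (hW₀d : finrank F W₀ = 2 * μ + 1)
    (hr : r * (Nat.card (Orth.orthGroup (Q.comp W₀.subtype)) *
      Nat.card (Orth.orthGroup (Q.comp (perp (polarBilin Q) W₀).subtype))) ∣ Nat.card (Orth.orthGroup Q)) :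
    ((PlusOn Q ⊤ → (Fintype.card F : ZMod r) ^ d = 1) ∧ (¬ PlusOn Q ⊤ → (Fintype.card F : ZMod r) ^ d = -1)) ∨
    ∃ j, 1 ≤ j ∧ j ≤ μ ∧ (Fintype.card F : ZMod r) ^ (2 * (d - j)) = 1 := by
  obtain ⟨ν, rfl⟩ : ∃ ν, d = ν + μ + 1 := ⟨d - μ - 1, by omega⟩
  obtain ⟨f, g, hf, -, hf0, hfp, hfm⟩ := card_even_form hN (k := ν + μ) hd
  rw [hf, card_odd_form (comp_nondeg (nondegOn_perp hN.2 hW₀)) h2 (e := ν) (by
    have := hW₀.finrank_perp; omega)] at hr
  set q := Fintype.card F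
  have h3 : r * evenProd q ν ∣ 2 * q ^ ((ν + μ + 1) * (ν + μ)) * f * evenProd q (ν + μ) :=
    (mul_dvd_mul_left r (dvd_mul_of_dvd_right (dvd_mul_left _ _) _)).trans hr
  rw [show evenProd q (ν + μ) = evenProd q ν * ∏ t ∈ Finset.range μ, (q ^ (2 * (ν + t + 1)) - 1) from
    Finset.prod_range_add _ _ _, mul_left_comm, mul_comm r, mul_assoc (2 * _)] at h3
  rcases (Fact.out : r.Prime).dvd_mul.1
    (cancel_pow hrq hr2 (Nat.dvd_of_mul_dvd_mul_left (evenProd_pos (F := F) ν) h3)) with h5 | h5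
  · left
    refine ⟨fun hp => ?_, fun hp => ?_⟩
    · rw [(hfp hp).1] at h5; exact cast_eq_one h5
    · rw [(hfm hp).1] at h5; exact cast_eq_neg_one h5
  · obtain ⟨t, ht, ht'⟩ := ((Fact.out : r.Prime).prime.dvd_finset_prod_iff _).1 h5
    rw [Finset.mem_range] at ht
    refine Or.inr ⟨μ - t, by omega, by omega, ?_⟩
    rw [show ν + μ + 1 - (μ - t) = ν + t + 1 by omega]; exact cast_eq_one ht'

end CfsgLib.Derangements.OrthInv
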