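import Cfsg.Agent.Lib.Derangements.LinearElusive

/-!
# Determinants and examples of elements of prime order modulo scalars
-/

set_option autoImplicit false

namespace CfsgLib.Derangements.LinElusive

open Module

section

variable {F : Type*} [Field F] {V : Type*} [AddCommGroup V] [Module F V] [FiniteDimensional F V]

theorem det_monomial {ι : Type*} [Fintype ι] [DecidableEq ι] (b : Basis ι F V) (T : Module.End F V)
    (σ : Equiv.Perm ι) (d : ι → F) (h : ∀ j, T (b j) = d j • b (σ j)) :
    LinearMap.det T = Equiv.Perm.sign σ * ∏ j, d j := by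
  have hM : LinearMap.toMatrix b b T = (Matrix.diagonal d).submatrix σ.symm id := by
    ext i j
    rw [LinearMap.toMatrix_apply, h, map_smul, Basis.repr_self, Matrix.submatrix_apply, id_eq]
    by_cases hij : σ.symm i = j
    · subst hij; simp
    · rw [Matrix.diagonal_apply_ne _ hij]
      simp [show σ j ≠ i from fun h0 => hij (h0 ▸ σ.symm_apply_apply j)]
  rw [← LinearMap.det_toMatrix b, hM, Matrix.det_permute, Matrix.det_diagonal, Equiv.Perm.sign_symm]

variable {r : ℕ} [Fact r.Prime] {c : F} {L : Module.End F V}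

theorem kummer_dvd (hc : ∀ d : F, d ^ r ≠ c) (hL : L ^ r = algebraMap F (Module.End F V) c) {U : Submodule F V}
    (hU : Inv L U) : r ∣ finrank F U := by
  by_contra hn
  have hc0 : c ≠ 0 := fun h0 => hc 0 (by rw [h0, zero_pow (Fact.out : r.Prime).ne_zero])
  let y : Module.End F U := L.restrict fun u hu => hU.mem hu
  have hy : y ^ r = c • 1 := LinearMap.ext fun u => Subtype.ext (by
    rw [Module.End.pow_restrict]
    simp [hL, Module.algebraMap_end_apply])
  have hdet := congrArg LinearMap.det hy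
  rw [map_pow, LinearMap.det_smul, map_one, mul_one] at hdet
  obtain ⟨a, ha⟩ := Nat.exists_mul_mod_eq_one_of_coprime
    (Nat.coprime_comm.1 ((Fact.out : r.Prime).coprime_iff_not_dvd.2 hn)) (Fact.out : r.Prime).one_lt
  refine hc (LinearMap.det y ^ a / c ^ (finrank F U * a / r)) ?_
  rw [div_pow, ← pow_mul, ← pow_mul, mul_comm a r, pow_mul, hdet, ← pow_mul, div_eq_iff (pow_ne_zero _ hc0),
    ← pow_succ']
  congr 1
  have := Nat.div_add_mod (finrank F U * a) r
  rw [ha.2, mul_comm] at this
  omega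

theorem kummer_exists_le (hc : ∀ d : F, d ^ r ≠ c) (hL : L ^ r = algebraMap F (Module.End F V) c)
    {U : Submodule F V} (hU : Inv L U) (hne : U ≠ ⊥) :
    ∃ U' : Submodule F V, U' ≤ U ∧ Inv L U' ∧ finrank F U' = r ∧
      ∃ b : Basis (Fin r) F U', ∀ (j : Fin r), L (b j) =
        (if j.1 + 1 = r then c else 1) • (b (finRotate r j) : V) := by
  obtain ⟨v, hv, hv0⟩ := Submodule.exists_mem_ne_zero_of_ne_bot hne
  let f : Fin r → V := fun k => (L ^ k.1) v
  have hnext : ∀ j : Fin r, L (f j) = (if j.1 + 1 = r then c else 1) • f (finRotate r j) := fun j => by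
    obtain ⟨r', rfl⟩ : ∃ r', r = r' + 1 := ⟨r - 1, by have := (Fact.out : r.Prime).pos; omega⟩
    simp only [f]
    rw [← Module.End.mul_apply, ← pow_succ']
    rcases eq_or_ne j (Fin.last r') with rfl | hj
    · rw [finRotate_last]
      simp [hL, Module.algebraMap_end_apply]
    · have h1 : j.1 + 1 ≠ r' + 1 := fun h => hj (Fin.ext (by simp; omega))
      rw [if_neg h1, one_smul, coe_finRotate_of_ne_last hj]
  let U' := Submodule.span F (Set.range f)
  have hmem : U' ≤ U := Submodule.span_le.2 (by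
    rintro _ ⟨k, rfl⟩
    simpa [f] using hU.aeval_mem (Polynomial.X ^ k.1) hv)
  have hinv : Inv L U' := by
    unfold Inv
    rw [Submodule.map_span_le]
    rintro _ ⟨j, rfl⟩
    rw [hnext]
    exact U'.smul_mem _ (Submodule.subset_span ⟨_, rfl⟩)
  have hpos : 0 < finrank F U' := by
    refine Nat.pos_of_ne_zero fun h0 => hv0 ?_
    have h1 : v ∈ U' := Submodule.subset_span ⟨⟨0, (Fact.out : r.Prime).pos⟩, by simp [f]⟩
    rwa [Submodule.finrank_eq_zero.1 h0, Submodule.mem_bot] at h1
  have hdim : finrank F U' = r := by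
    refine le_antisymm ?_ (Nat.le_of_dvd hpos (kummer_dvd hc hL hinv))
    exact (finrank_range_le_card f).trans_eq (Fintype.card_fin r)
  have hli : LinearIndependent F f :=
    linearIndependent_iff_card_eq_finrank_span.2 (by rw [Fintype.card_fin]; exact hdim.symm)
  exact ⟨U', hmem, hinv, hdim, Basis.span hli, fun j => by rw [Basis.coe_span_apply, Basis.coe_span_apply]; exact hnext j⟩

theorem kummer_uniform (hc : ∀ d : F, d ^ r ≠ c) (hL : L ^ r = algebraMap F (Module.End F V) c) :
    Uniform L ⊤ r where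
  pos := (Fact.out : r.Prime).pos
  inv := le_top
  dvd U _ hU := kummer_dvd hc hL hU
  exists_le U _ hU hne := by
    obtain ⟨U', h1, h2, h3, -⟩ := kummer_exists_le hc hL hU hne
    exact ⟨U', h1, h2, h3⟩

/-- The determinant of an `r`-th root of a non-`r`-th power scalar. -/
theorem kummer_det (hr : (r : F) ≠ 0) (hc : ∀ d : F, d ^ r ≠ c) (hL : L ^ r = algebraMap F (Module.End F V) c) :
    LinearMap.det L = ((-1) ^ (r + 1) * c) ^ (finrank F V / r) := by
  have hc0 : c ≠ 0 := fun h0 => hc 0 (by rw [h0, zero_pow (Fact.out : r.Prime).ne_zero])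
  have hs : Split L := split_of_pow hr hc0 hL
  suffices h : ∀ n, ∀ (U : Submodule F V) (hU : Inv L U), finrank F U = n →
      LinearMap.det (L.restrict fun u hu => hU.mem hu) = ((-1) ^ (r + 1) * c) ^ (n / r) by
    have h1 := h _ ⊤ le_top rfl
    rw [finrank_top] at h1
    rw [← h1]
    refine (LinearMap.det_conj _ (Submodule.topEquiv (R := F) (M := V)).symm).symm.trans (congrArg _ ?_)
    ext u
    simp
  intro n
  induction n using Nat.strong_induction_on with
  | _ n ih =>
  intro U hU hn
  rcases eq_or_ne U ⊥ with rfl | hne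
  · haveI : Subsingleton (⊥ : Submodule F V) := inferInstance
    rw [finrank_bot] at hn
    subst hn
    rw [LinearMap.det_eq_one_of_subsingleton, Nat.zero_div, pow_zero]
  obtain ⟨U₁, h1, h1i, h1d, b, hb⟩ := kummer_exists_le hc hL hU hne
  obtain ⟨U₂, h2, h2i, hdis, hsup, hfin⟩ := hs.exists_rel h1i hU h1
  have hf : Function.Bijective ((Submodule.inclusion h1).coprod (Submodule.inclusion h2)) := by
    refine ⟨(injective_iff_map_eq_zero _).2 ?_, fun u => ?_⟩
    · rintro ⟨a, a'⟩ h
      have h' : (a : V) + a' = 0 := congrArg Subtype.val h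
      have ha : (a : V) = 0 := Submodule.disjoint_def.1 hdis _ a.2
        (eq_neg_of_add_eq_zero_left h' ▸ U₂.neg_mem a'.2)
      rw [ha, zero_add] at h'
      exact Prod.ext (Subtype.ext ha) (Subtype.ext h')
    · obtain ⟨a, ha, a', ha', he⟩ := Submodule.mem_sup.1 (hsup ▸ u.2 : (u : V) ∈ U₁ ⊔ U₂)
      exact ⟨(⟨a, ha⟩, ⟨a', ha'⟩), Subtype.ext he⟩
  let e := LinearEquiv.ofBijective _ hf
  have hprod : (L.restrict fun u hu => hU.mem hu) =
      (e.toLinearMap ∘ₗ (LinearMap.prodMap (L.restrict fun u hu => h1i.mem hu)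
        (L.restrict fun u hu => h2i.mem hu))) ∘ₗ e.symm.toLinearMap := by
    refine LinearMap.ext fun u => ?_
    obtain ⟨⟨a, a'⟩, rfl⟩ := e.surjective u
    refine Subtype.ext ?_
    rw [LinearMap.comp_apply, LinearMap.comp_apply, LinearEquiv.coe_coe, LinearEquiv.coe_coe,
      LinearEquiv.symm_apply_apply]
    simp [e, LinearMap.restrict_apply]
  have hlt : finrank F U₂ < n := by
    have := (Fact.out : r.Prime).pos
    omega
  rw [hprod, LinearMap.comp_assoc, LinearMap.det_conj, LinearMap.det_prodMap, ih _ hlt U₂ h2i rfl,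
    show n / r = finrank F U₂ / r + 1 by
      rw [← hn, ← hfin, h1d, Nat.add_div_left _ (Fact.out : r.Prime).pos],
    pow_succ', det_monomial b (L.restrict fun u hu => h1i.mem hu) (finRotate r)
      (fun j => if j.1 + 1 = r then c else 1) fun j => Subtype.ext (by rw [SetLike.val_smul]; exact hb j)]
  obtain ⟨r', rfl⟩ : ∃ r', r = r' + 1 := ⟨r - 1, by have := (Fact.out : r.Prime).pos; omega⟩
  rw [sign_finRotate, Finset.prod_eq_single (Fin.last r') (fun j _ hj => if_neg fun h => hj (Fin.ext (by simp; omega)))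
    (fun h => absurd (Finset.mem_univ _) h)]
  simp [pow_succ, mul_comm]

end

section

variable {F : Type*} [Field F] [Fintype F]

theorem exists_root_of_coprime {r : ℕ} (hr : r ≠ 0) (hco : (Fintype.card F - 1).Coprime r) (c : F) :
    ∃ d, d ^ r = c := by
  rcases eq_or_ne c 0 with rfl | hc
  · exact ⟨0, zero_pow hr⟩
  have h : (Nat.card Fˣ).Coprime r := by rwa [Nat.card_units, Nat.card_eq_fintype_card]
  obtain ⟨u, hu⟩ := (powCoprime h).surjective (Units.mk0 c hc)
  exact ⟨u, by simpa [powCoprime] using congrArg Units.val hu⟩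

theorem eq_one_of_pow_eq_one {r : ℕ} (hr : r ≠ 0) (hco : (Fintype.card F - 1).Coprime r) {d : F}
    (h : d ^ r = 1) : d = 1 := by
  have hd : d ≠ 0 := fun h0 => by rw [h0, zero_pow hr] at h; exact zero_ne_one h
  have h2 := pow_gcd_eq_one.2 ⟨FiniteField.pow_card_sub_one_eq_one d hd, h⟩
  rwa [hco.gcd_eq_one, pow_one] at h2

theorem exists_pow_eq_iff {r : ℕ} (hr : r ∣ Fintype.card F - 1) {c : F} (hc : c ≠ 0) :
    (∃ d, d ^ r = c) ↔ c ^ ((Fintype.card F - 1) / r) = 1 := by
  constructor
  · rintro ⟨d, rfl⟩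
    rw [← pow_mul, Nat.mul_div_cancel' hr]
    refine FiniteField.pow_card_sub_one_eq_one d fun h0 => hc ?_
    rw [h0, zero_pow]
    rintro rfl
    have := zero_dvd_iff.1 hr
    have := Fintype.one_lt_card (α := F)
    omega
  · intro h
    obtain ⟨g, hg⟩ := IsCyclic.exists_monoid_generator (α := Fˣ)
    obtain ⟨k, hk⟩ := (Submonoid.mem_powers_iff _ _).1 (hg (Units.mk0 c hc))
    have h1 : g ^ (k * ((Fintype.card F - 1) / r)) = 1 := by
      rw [pow_mul, hk]; exact Units.ext (by simpa using h)
    have hord : orderOf g = Fintype.card F - 1 := by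
      rw [orderOf_eq_card_of_forall_mem_zpowers fun x => by
        obtain ⟨l, hl⟩ := (Submonoid.mem_powers_iff _ _).1 (hg x)
        exact ⟨l, by simpa using hl⟩, Nat.card_units, Nat.card_eq_fintype_card]
    have h2 := orderOf_dvd_of_pow_eq_one h1
    rw [hord] at h2
    obtain ⟨s, hs⟩ := hr
    have hr0 : 0 < r := Nat.pos_of_ne_zero fun h0 => by
      rw [h0, zero_mul] at hs
      have := Fintype.one_lt_card (α := F)
      omega
    rw [hs, Nat.mul_div_cancel_left _ hr0] at h2
    have hs0 : 0 < s := Nat.pos_of_ne_zero fun h0 => by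
      rw [h0, mul_zero] at hs
      have := Fintype.one_lt_card (α := F)
      omega
    obtain ⟨l, rfl⟩ := (Nat.mul_dvd_mul_iff_right hs0).1 h2
    exact ⟨((g ^ l : Fˣ) : F), by
      rw [← Units.val_pow_eq_pow_val, ← pow_mul, mul_comm, hk, Units.val_mk0]⟩

variable {r : ℕ} [Fact r.Prime]

theorem orderOf_card_eq_one_iff : orderOf (Fintype.card F : ZMod r) = 1 ↔ r ∣ Fintype.card F - 1 := by
  rw [orderOf_eq_one_iff, ← ZMod.natCast_eq_zero_iff, Nat.cast_sub Fintype.card_pos, Nat.cast_one, sub_eq_zero]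

theorem coprime_of_order_ne_one (h : orderOf (Fintype.card F : ZMod r) ≠ 1) :
    (Fintype.card F - 1).Coprime r :=
  (((Fact.out : r.Prime).coprime_iff_not_dvd).2 fun hd => h (orderOf_card_eq_one_iff.2 hd)).symm

/-- An element of determinant one and order `r` whose fixed space has dimension at most `n % i`. -/
theorem exists_semisimple_witness (hr : (r : F) ≠ 0) {n : ℕ} (hi2 : 2 ≤ orderOf (Fintype.card F : ZMod r))
    (hin : orderOf (Fintype.card F : ZMod r) ≤ n) :
    ∃ T : Module.End F (Fin n → F), T ^ r = 1 ∧ LinearMap.det T = 1 ∧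
      (∀ z : F, T ≠ algebraMap F (Module.End F (Fin n → F)) z) ∧
      finrank F (T.eigenspace 1) ≤ n % orderOf (Fintype.card F : ZMod r) := by
  classical
  set i := orderOf (Fintype.card F : ZMod r) with hi
  have hco : (Fintype.card F - 1).Coprime r := coprime_of_order_ne_one (by omega)
  have hr0 : r ≠ 0 := (Fact.out : r.Prime).ne_zero
  have hdvd : r ∣ Nat.card (GL (Fin i) F) := by
    rw [Matrix.card_GL_field]
    refine dvd_trans ?_ (Finset.dvd_prod_of_mem _ (Finset.mem_univ (⟨0, by omega⟩ : Fin i)))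
    rw [← ZMod.natCast_eq_zero_iff, pow_zero, Nat.cast_sub (Nat.one_le_pow _ _ Fintype.card_pos), Nat.cast_pow,
      hi, pow_orderOf_eq_one, Nat.cast_one, sub_self]
  obtain ⟨g, hg⟩ := exists_prime_orderOf_dvd_card' (G := GL (Fin i) F) r hdvd
  let y : Module.End F (Fin i → F) := Matrix.toLinAlgEquiv' (g : Matrix (Fin i) (Fin i) F)
  have hy : y ^ r = 1 := by
    rw [← map_pow, ← Units.val_pow_eq_pow_val, ← hg, pow_orderOf_eq_one, Units.val_one, map_one]
  have hyC : y.eigenspace 1 = ⊥ := by
    obtain ⟨E, hE, -, hU, -⟩ := exists_structure hr hy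
    have hne : E ≠ ⊥ := fun h0 => by
      have h1 : y.eigenspace 1 = ⊤ := by have := hE.sup_eq_top; rwa [h0, sup_bot_eq] at this
      have h2 : y = 1 := LinearMap.ext fun v => by
        have := Module.End.mem_eigenspace_iff.1 (h1 ▸ Submodule.mem_top : v ∈ y.eigenspace 1)
        simpa using this
      have h3 : g = 1 := Units.ext (Matrix.toLinAlgEquiv'.injective (h2.trans (map_one _).symm))
      rw [h3, orderOf_one] at hg
      exact (Fact.out : r.Prime).one_lt.ne hg
    have h4 := Nat.le_of_dvd (Nat.pos_of_ne_zero fun h0 => hne (Submodule.finrank_eq_zero.1 h0))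
      (hU.dvd E le_rfl hU.inv)
    have h5 := Submodule.finrank_add_eq_of_isCompl hE
    rw [finrank_fin_fun] at h5
    exact Submodule.finrank_eq_zero.1 (by omega)
  let W := (Fin (n / i) → Fin i → F) × (Fin (n % i) → F)
  let T₀ : Module.End F W := LinearMap.prodMap (LinearMap.pi fun k => y ∘ₗ LinearMap.proj k) LinearMap.id
  have hT₀ : ∀ (m : ℕ) (w : W), (T₀ ^ m) w = (fun k => (y ^ m) (w.1 k), w.2) := by
    intro m
    induction m with
    | zero => intro w; rfl
    | succ m ih => intro w; rw [pow_succ', Module.End.mul_apply, ih, pow_succ']; rfl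
  let e : W ≃ₗ[F] (Fin n → F) := LinearEquiv.ofFinrankEq _ _ (by
    simp only [W, finrank_prod, Module.finrank_pi_fintype, finrank_self, mul_one, Finset.sum_const, Finset.card_univ,
      Fintype.card_fin, smul_eq_mul]
    exact Nat.div_add_mod' n i)
  let T : Module.End F (Fin n → F) := e.conjAlgEquiv F T₀
  have hTr : T ^ r = 1 := by
    rw [← map_pow, show T₀ ^ r = 1 from LinearMap.ext fun w => by rw [hT₀, hy]; rfl, map_one]
  have hfix : finrank F (T.eigenspace 1) ≤ n % i := by
    let φ : T.eigenspace 1 →ₗ[F] (Fin (n % i) → F) :=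
      LinearMap.snd F _ _ ∘ₗ e.symm.toLinearMap ∘ₗ (T.eigenspace 1).subtype
    have hφ : Function.Injective φ := (injective_iff_map_eq_zero _).2 fun v hv => by
      have h1 := Module.End.mem_eigenspace_iff.1 v.2
      rw [one_smul] at h1
      have h2 : T₀ (e.symm v) = e.symm v := e.injective (by simpa [T] using h1)
      refine Subtype.ext (e.symm.injective (Prod.ext (funext fun k => ?_) (by simpa [φ] using hv)))
      have h3 : (e.symm v).1 k ∈ y.eigenspace 1 := by
        rw [Module.End.mem_eigenspace_iff, one_smul]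
        exact congrFun (congrArg Prod.fst h2) k
      rw [hyC, Submodule.mem_bot] at h3
      simpa using h3
    exact (LinearMap.finrank_le_finrank_of_injective hφ).trans_eq (finrank_fin_fun F)
  refine ⟨T, hTr, eq_one_of_pow_eq_one hr0 hco (by rw [← map_pow, hTr, map_one]), fun z hz => ?_, hfix⟩
  haveI : Nonempty (Fin n) := ⟨⟨0, by omega⟩⟩
  have hz1 : z = 1 := eq_one_of_pow_eq_one hr0 hco ((algebraMap F (Module.End F (Fin n → F))).injective (by
    rw [map_pow, ← hz, hTr, map_one]))
  rw [hz, hz1, map_one] at hfix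
  have h1 : (1 : Module.End F (Fin n → F)).eigenspace 1 = ⊤ :=
    eq_top_iff.2 fun v _ => Module.End.mem_eigenspace_iff.2 (by simp)
  rw [h1, finrank_top, finrank_fin_fun] at hfix
  have := Nat.mod_lt n (show i > 0 by omega)
  omega

/-- An `r`-th root of a scalar that is not an `r`-th power, of determinant one. -/
theorem exists_kummer_witness (hr : (r : F) ≠ 0) {n : ℕ} (hn : 0 < n) (hrn : r ∣ n) {c : F}
    (hc : ∀ d : F, d ^ r ≠ c) (hdet : ((-1) ^ (r + 1) * c) ^ (n / r) = 1) :
    ∃ T : Module.End F (Fin n → F), T ^ r = algebraMap F (Module.End F (Fin n → F)) c ∧ LinearMap.det T = 1 ∧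
      ∀ z : F, T ≠ algebraMap F (Module.End F (Fin n → F)) z := by
  classical
  obtain ⟨r', rfl⟩ : ∃ r', r = r' + 1 := ⟨r - 1, by have := (Fact.out : r.Prime).pos; omega⟩
  let b := Pi.basisFun F (Fin (r' + 1))
  let T₁ : Module.End F (Fin (r' + 1) → F) :=
    b.constr F fun j => (if j.1 + 1 = r' + 1 then c else 1) • b (finRotate _ j)
  have hT₁ : ∀ j, T₁ (b j) = (if j.1 + 1 = r' + 1 then c else 1) • b (finRotate _ j) := fun j =>
    b.constr_basis _ _ j
  have hpow : ∀ j : ℕ, ∀ hj : j < r' + 1, (T₁ ^ j) (b 0) = b ⟨j, hj⟩ := by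
    intro j
    induction j with
    | zero => intro hj; rfl
    | succ j ih =>
      intro hj
      rw [pow_succ', Module.End.mul_apply, ih (by omega), hT₁]
      have h1 : ¬ j + 1 = r' + 1 := by omega
      simp only [if_neg h1, one_smul]
      congr 1
      exact finRotate_of_lt (by omega)
  have hlast : (T₁ ^ (r' + 1)) (b 0) = c • b 0 := by
    rw [pow_succ', Module.End.mul_apply, hpow r' (by omega), hT₁]
    simp only [if_true]
    congr 2
    exact finRotate_last'
  have hT₁r : T₁ ^ (r' + 1) = algebraMap F (Module.End F (Fin (r' + 1) → F)) c := b.ext fun j => by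
    rw [← Fin.eta j j.2, ← hpow j.1 j.2, ← Module.End.mul_apply, pow_mul_comm T₁ (r' + 1) j.1,
      Module.End.mul_apply, hlast, map_smul, Module.algebraMap_end_apply]
  let W := Fin (n / (r' + 1)) → Fin (r' + 1) → F
  let T₀ : Module.End F W := LinearMap.pi fun k => T₁ ∘ₗ LinearMap.proj k
  have hT₀ : ∀ (m : ℕ) (w : W), (T₀ ^ m) w = fun k => (T₁ ^ m) (w k) := by
    intro m
    induction m with
    | zero => intro w; rfl
    | succ m ih => intro w; rw [pow_succ', Module.End.mul_apply, ih, pow_succ']; rfl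
  let e : W ≃ₗ[F] (Fin n → F) := LinearEquiv.ofFinrankEq _ _ (by
    simp only [W, Module.finrank_pi_fintype, finrank_self, mul_one, Finset.sum_const, Finset.card_univ,
      Fintype.card_fin, smul_eq_mul]
    exact Nat.div_mul_cancel hrn)
  let T : Module.End F (Fin n → F) := e.conjAlgEquiv F T₀
  have hTr : T ^ (r' + 1) = algebraMap F (Module.End F (Fin n → F)) c := by
    rw [← map_pow, show T₀ ^ (r' + 1) = algebraMap F (Module.End F W) c from LinearMap.ext fun w => by
      rw [hT₀, hT₁r]; rfl, AlgEquiv.commutes]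
  refine ⟨T, hTr, ?_, fun z hz => ?_⟩
  · rw [kummer_det hr hc hTr, finrank_fin_fun, hdet]
  · haveI : Nonempty (Fin n) := ⟨⟨0, hn⟩⟩
    rw [hz, ← map_pow] at hTr
    exact hc z ((algebraMap F (Module.End F (Fin n → F))).injective hTr)

/-- When a determinant-one root of a non-power exists. -/
theorem exists_kummer_scalar_iff (hr : (r : F) ≠ 0) {n : ℕ} (hn : 0 < n) (hrn : r ∣ n)
    (h1 : r ∣ Fintype.card F - 1) :
    (∃ c : F, (∀ d : F, d ^ r ≠ c) ∧ ((-1) ^ (r + 1) * c) ^ (n / r) = 1) ↔
      ¬ (padicValNat r n ≤ padicValNat r (Fintype.card F - 1) ∧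
        (r = 2 → Even n → Fintype.card F % 4 = 1)) := by
  have hr1 : 1 < r := (Fact.out : r.Prime).one_lt
  set M := Fintype.card F - 1 with hM
  have hM0 : M ≠ 0 := by have := Fintype.one_lt_card (α := F); omega
  set s := padicValNat r M with hs
  have hv : padicValNat r n = padicValNat r (n / r) + 1 := by
    rw [padicValNat.div hrn]
    have := one_le_padicValNat_of_dvd hn.ne' hrn
    omega
  have hN0 : n / r ≠ 0 := (Nat.div_pos (Nat.le_of_dvd hn hrn) (by omega)).ne'
  have key : (∃ d : F, d ≠ 0 ∧ d ^ (n / r) = 1 ∧ d ^ (M / r) ≠ 1) ↔ s ≤ padicValNat r (n / r) := by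
    constructor
    · rintro ⟨d, hd0, hd1, hd2⟩
      by_contra hlt
      refine hd2 (orderOf_dvd_iff_pow_eq_one.1 ?_)
      have h2 : orderOf d ∣ M := orderOf_dvd_of_pow_eq_one (FiniteField.pow_card_sub_one_eq_one d hd0)
      have h3 : orderOf d ∣ n / r := orderOf_dvd_of_pow_eq_one hd1
      have h5 : r ∣ M / orderOf d := by
        by_contra hno
        have h6 : padicValNat r (M / orderOf d) = 0 := padicValNat.eq_zero_of_not_dvd hno
        rw [padicValNat.div_of_dvd h2] at h6
        have h7 := (padicValNat_dvd_iff_le hN0).1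
          ((pow_padicValNat_dvd (p := r) (n := orderOf d)).trans h3)
        omega
      obtain ⟨k, hk⟩ := h5
      refine ⟨k, ?_⟩
      rw [← Nat.mul_div_cancel' h2, hk, mul_left_comm, Nat.mul_div_cancel_left _ (by omega)]
    · intro hle
      obtain ⟨g, hg⟩ := IsCyclic.exists_ofOrder_eq_natCard (α := Fˣ)
      rw [Nat.card_units, Nat.card_eq_fintype_card, ← hM] at hg
      have hsd : r ^ s ∣ M := pow_padicValNat_dvd
      refine ⟨((g ^ (M / r ^ s) : Fˣ) : F), Units.ne_zero _, ?_, ?_⟩
      · have h2 : r ^ s ∣ n / r := (pow_dvd_pow r hle).trans pow_padicValNat_dvd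
        obtain ⟨k, hk⟩ := h2
        rw [← Units.val_pow_eq_pow_val, ← pow_mul, hk, ← mul_assoc, Nat.div_mul_cancel hsd, pow_mul, ← hg,
          pow_orderOf_eq_one, one_pow, Units.val_one]
      · intro h2
        rw [← Units.val_pow_eq_pow_val, Units.val_eq_one, ← pow_mul, ← orderOf_dvd_iff_pow_eq_one, hg] at h2
        have hd1 : M / r ^ s * (M / r) * r = M * (M / r ^ s) := by
          rw [mul_assoc, Nat.div_mul_cancel h1, mul_comm]
        have h3 : M * r ∣ M * (M / r ^ s) := hd1 ▸ Nat.mul_dvd_mul_right h2 r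
        have h4 := Nat.dvd_of_mul_dvd_mul_left (Nat.pos_of_ne_zero hM0) h3
        have h5 : padicValNat r (M / r ^ s) = 0 := by
          rw [padicValNat.div_pow hsd]; omega
        exact (padicValNat.eq_zero_iff.1 h5).elim (by omega) (fun h => h.elim
          (fun h => hM0 (Nat.eq_zero_of_dvd_of_div_eq_zero hsd h)) (fun h => h h4))
  by_cases h2 : r = 2 ∧ Fintype.card F % 4 ≠ 1
  · obtain ⟨rfl, h4⟩ := h2
    refine iff_of_true ⟨-1, fun d hd => ?_, by norm_num⟩ (fun h => h4 (h.2 rfl (even_iff_two_dvd.2 hrn)))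
    have hodd : Fintype.card F % 4 = 3 := by omega
    have : IsSquare (-1 : F) := ⟨d, by rw [← hd, pow_two]⟩
    exact (FiniteField.isSquare_neg_one_iff.1 this) hodd
  · push Not at h2
    rw [and_iff_left (fun h _ => h2 h), not_le, hv]
    rw [Nat.lt_succ_iff, ← key]
    have hsign : ((-1 : F) ^ (r + 1)) ^ (M / r) = 1 := by
      rcases (Fact.out : r.Prime).eq_two_or_odd' with rfl | hodd
      · have := h2 rfl
        rw [← pow_mul, Even.neg_one_pow]
        refine Even.mul_left (even_iff_two_dvd.2 ?_) _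
        omega
      · rw [Even.neg_one_pow hodd.add_one, one_pow]
    constructor
    · rintro ⟨c, hc, hdet⟩
      have hc0 : c ≠ 0 := fun h0 => hc 0 (by rw [h0, zero_pow (by omega)])
      refine ⟨(-1) ^ (r + 1) * c, mul_ne_zero (pow_ne_zero _ (by norm_num)) hc0, hdet, fun h => ?_⟩
      rw [mul_pow, hsign, one_mul, ← exists_pow_eq_iff h1 hc0] at h
      obtain ⟨d, hd⟩ := h
      exact hc d hd
    · rintro ⟨d, hd0, hd1, hd2⟩
      have hsq : ((-1 : F) ^ (r + 1)) * (-1) ^ (r + 1) = 1 := by rw [← mul_pow]; norm_num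
      refine ⟨(-1) ^ (r + 1) * d, fun e he => hd2 ?_, by rw [← mul_assoc, hsq, one_mul, hd1]⟩
      have h3 := (exists_pow_eq_iff h1 (mul_ne_zero (pow_ne_zero _ (by norm_num)) hd0)).1 ⟨e, he⟩
      rwa [mul_pow, hsign, one_mul] at h3

end

end CfsgLib.Derangements.LinElusive
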