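import Cfsg.Agent.Lib.Derangements.OrthInvariantWitness
import Cfsg.Agent.Lib.Derangements.OrthNegation
import Cfsg.Agent.Lib.Derangements.LinearElusiveWitness

/-!
# Totally singular subspaces fixed by elements of prime order in even dimension

The parameter `s` is `0` for forms of plus type and `1` for forms of minus type.
-/

set_option autoImplicit false
set_option linter.unusedSectionVars false

namespace CfsgLib.Derangements.OrthInv

open Module QuadraticMap CfsgLib.Classical CfsgLib.Derangements.LinElusive CfsgLib.Derangements.NullInv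

variable {F : Type*} [Field F] [Fintype F] {V : Type*} [AddCommGroup V] [Module F V] [FiniteDimensional F V]
  {Q : QuadraticForm F V} {r : ℕ} [Fact r.Prime] {d m s : ℕ}

theorem inv_of_eigen {L : Module.End F V} {c : F} {U : Submodule F V} (h : U ≤ L.eigenspace c) : Inv L U :=
  Inv.of_mem fun u hu => by
    have := h hu
    rw [Module.End.mem_eigenspace_iff] at this
    rw [this]; exact U.smul_mem c hu

/-- Existence when the order of `q` modulo `r` is even. -/
theorem exists_sing_of_even (hr : (r : F) ≠ 0) (hr2 : Odd r) (hN : (polarBilin Q).Nondegenerate)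
    (hd : finrank F V = 2 * d) (hs : PlusOn Q ⊤ ↔ s = 0) (hs1 : s ≤ 1) {L : Module.End F V}
    (hQL : ∀ v, Q (L v) = Q v) (hL : L ^ r = 1) {h : ℕ} (hi : orderOf (Fintype.card F : ZMod r) = 2 * h)
    (hh : 0 < h) (hcnt : (r - 1) / (2 * h) + 2 * (m / (2 * h)) ≤ d / h)
    (hcase : (m % (2 * h) ≤ h ∧ d % h = 0 ∧ Odd (d / h + s) ∧ (r - 1) / (2 * h) + 2 * (m / (2 * h)) < d / h) ∨
      (m % (2 * h) ≤ d % h ∧ Even (d / h + s)) ∨ (m % (2 * h) < d % h ∧ Odd (d / h + s))) :
    ∃ W : Submodule F V, finrank F W = m ∧ Sing Q W ∧ Inv L W := by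
  refine exists_sing_invariant hr hr2 hN hQL hL fun E N T hc horth hEn hCn hEe hNE hT htype => ?_
  rw [hi] at hNE hT htype ⊢
  rw [if_pos (even_two_mul h)] at hT
  have hdim := Submodule.finrank_add_eq_of_isCompl hc
  rw [hd, hNE] at hdim
  have hir : 2 * h ∣ r - 1 := hi ▸ orderOf_dvd_of_pow_eq_one (ZMod.pow_card_sub_one_eq_one (orderOf_card_pos hr))
  have hCe : Even (finrank F (L.eigenspace 1)) := by
    rw [Nat.even_iff]
    have : N * (2 * h) % 2 = 0 := by rw [show N * (2 * h) = 2 * (N * h) by ring]; exact Nat.mul_mod_right 2 _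
    omega
  have hno : ¬ Odd (2 * h) := Nat.not_odd_iff_even.2 (even_two_mul h)
  simp only [hno, false_or] at htype
  have hC : PlusOn Q (L.eigenspace 1) ↔ Even (N + s) := by
    have h1 := plus_sum_iff hN hc.symm horth hEn hCn hEe hCe
    rw [hs, htype] at h1
    have h01 : s = 0 ∨ s = 1 := by omega
    rcases h01 with rfl | rfl
    · simp only [true_iff, add_zero] at h1 ⊢
      tauto
    · simp only [one_ne_zero, false_iff] at h1
      rw [Nat.even_add_one]
      tauto
  have hpar : Odd (N + s) → h * N < d := fun ho => by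
    by_contra hge
    have : finrank F (L.eigenspace 1) = 0 := by
      have : N * (2 * h) = 2 * (h * N) := by ring
      omega
    exact Nat.not_even_iff_odd.2 ho (hC.1 ⟨⊥, bot_le, sing_bot, by rw [finrank_bot, this]⟩)
  have hT' : N ≤ 2 * T + (r - 1) / (2 * h) := by
    have h1 := Nat.div_mul_cancel hir
    refine Nat.le_of_mul_le_mul_right ?_ (show 0 < 2 * h by omega)
    rw [add_mul, h1]
    exact hT
  obtain ⟨a, haT, ham, hb⟩ := arith_even (d := d) hh (by
    have : N * (2 * h) = 2 * (h * N) := by ring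
    omega) hpar hT' hcnt hcase
  refine ⟨a, haT, ham, exists_sing_sub hCn ?_ ?_⟩
  · have : N * (2 * h) = 2 * (h * N) := by ring
    omega
  · by_cases hp : PlusOn Q (L.eigenspace 1)
    · exact Or.inr (Or.inr hp)
    · left
      rw [hC, Nat.even_iff] at hp
      have : N * (2 * h) = 2 * (h * N) := by ring
      omega

/-- Existence when the order of `q` modulo `r` is odd. -/
theorem exists_sing_of_odd (hr : (r : F) ≠ 0) (hr2 : Odd r) (hN : (polarBilin Q).Nondegenerate)
    (hd : finrank F V = 2 * d) (hs : PlusOn Q ⊤ ↔ s = 0) (hs1 : s ≤ 1) (hmd : m + 1 ≤ d) {L : Module.End F V}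
    (hQL : ∀ v, Q (L v) = Q v) (hL : L ^ r = 1) {i : ℕ} (hi : orderOf (Fintype.card F : ZMod r) = i) (ho : Odd i)
    (hcase : (s = 0 ∧ m % i ≤ d % i) ∨ (s = 1 ∧ (d % i = 0 ∨ m % i < d % i))) :
    ∃ W : Submodule F V, finrank F W = m ∧ Sing Q W ∧ Inv L W := by
  refine exists_sing_invariant hr hr2 hN hQL hL fun E N T hc horth hEn hCn hEe hNE hT htype => ?_
  rw [hi] at hNE hT htype ⊢
  rw [if_neg (Nat.not_even_iff_odd.2 ho), add_zero] at hT
  have hdim := Submodule.finrank_add_eq_of_isCompl hc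
  rw [hd, hNE] at hdim
  have hE : PlusOn Q E := htype.2 (Or.inl ho)
  obtain ⟨g, hg⟩ : Even N := by
    rw [hNE] at hEe
    exact (Nat.even_mul.1 hEe).resolve_right (Nat.not_even_iff_odd.2 ho)
  have hgi : N * i = 2 * (i * g) := by rw [hg]; ring
  have hCe : Even (finrank F (L.eigenspace 1)) := by rw [Nat.even_iff]; omega
  have hC : PlusOn Q (L.eigenspace 1) ↔ s = 0 := by
    have h1 := plus_sum_iff hN hc.symm horth hEn hCn hEe hCe
    rw [hs] at h1
    rw [h1]
    tauto
  have hpos : s = 1 → i * g < d := fun h1 => by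
    by_contra hge
    have : s = 0 := hC.1 ⟨⊥, bot_le, sing_bot, by rw [finrank_bot]; omega⟩
    omega
  have hgT : g ≤ T := by
    have h3 : g * (2 * i) ≤ T * (2 * i) := by
      calc g * (2 * i) = N * i := by rw [hgi]; ring
        _ ≤ 2 * T * i := hT
        _ = T * (2 * i) := by ring
    exact Nat.le_of_mul_le_mul_right h3 (by have := ho.pos; omega)
  have key : m - min (m / i) g * i + i * g + s ≤ d := by
    have hm := Nat.div_add_mod m i
    have hdd := Nat.div_add_mod d i
    have hl := Nat.mod_lt m ho.pos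
    rcases Nat.le_total (m / i) g with hle | hle
    · rw [min_eq_left hle]
      have e1 : m - m / i * i = m % i := by rw [mul_comm] at hm; omega
      rw [e1]
      have hgn : g ≤ d / i := (Nat.le_div_iff_mul_le ho.pos).2 (by rw [mul_comm]; omega)
      rcases eq_or_lt_of_le hgn with rfl | hlt
      · rcases hcase with ⟨rfl, h1⟩ | ⟨rfl, h1⟩
        · omega
        · have := hpos rfl
          omega
      · have h1 : i * (g + 1) ≤ i * (d / i) := Nat.mul_le_mul_left i hlt
        rw [mul_add, mul_one] at h1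
        omega
    · rw [min_eq_right hle, mul_comm g i]
      have h1 : i * g ≤ i * (m / i) := Nat.mul_le_mul_left i hle
      omega
  refine ⟨min (m / i) g, (min_le_right _ _).trans hgT,
    (Nat.mul_le_mul_right i (min_le_left _ _)).trans (Nat.div_mul_le_self m i), exists_sing_sub hCn (by omega) ?_⟩
  rcases hcase with ⟨h1, -⟩ | ⟨h1, -⟩
  · exact Or.inr (Or.inr (hC.2 h1))
  · left; omega

/-- An isometry of order `r` without fixed totally singular `m`-spaces. -/
def Bad (Q : QuadraticForm F V) (r m : ℕ) : Prop :=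
  ∃ L : Module.End F V, L ^ r = 1 ∧ (∀ v, Q (L v) = Q v) ∧ L ≠ 1 ∧ ∀ U, Inv L U → Sing Q U → finrank F U ≠ m

theorem bad_core (hr : (r : F) ≠ 0) (hr2 : Odd r) (hN : (polarBilin Q).Nondegenerate) (hd : finrank F V = 2 * d)
    {W : Type*} [AddCommGroup W] [Module F W] [FiniteDimensional F W] {R : QuadraticForm F W} {Y : Module.End F W}
    (hR : (polarBilin R).Nondegenerate) (hY : Y ^ r = 1) (hfix : ∀ w, Y w = w → w = 0)
    (hRY : ∀ w, R (Y w) = R w) {e : ℕ} (hW : finrank F W = 2 * e) (he : 0 < e)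
    (hed : e < d ∨ (e = d ∧ (PlusOn R ⊤ ↔ PlusOn Q ⊤))) {M : ℕ}
    (hM : ∀ U, Inv Y U → Sing R U → finrank F U ≤ M)
    (hcond : ∀ a c, a * orderOf (Fintype.card F : ZMod r) ≤ M → c + e ≤ d →
      (¬ (PlusOn Q ⊤ ↔ PlusOn R ⊤) → c + e + 1 ≤ d) → a * orderOf (Fintype.card F : ZMod r) + c ≠ m) :
    Bad Q r m := by
  obtain ⟨T, hT⟩ := exists_embed hN hR hW (by
    rw [hd]
    rcases hed with h | ⟨h, h'⟩
    · left; omega
    · right; right; exact ⟨by omega, h'⟩)
  obtain ⟨L, hL, hQL, hne, hU⟩ := exists_witness hr hr2 hN hR T hT hY hfix hRY (by omega)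
  refine ⟨L, hL, hQL, hne, fun U hUi hUs hUd => ?_⟩
  obtain ⟨a, c, U', hU'i, hU's, hU'd, hd', hc, hc'⟩ := hU U hUi hUs
  rw [hd, hW] at hc hc'
  refine hcond a c ?_ (by omega) (fun hne => ?_) (by rw [← hd', hUd])
  · rw [← hU'd]; exact hM U' hU'i hU's
  · have := hc' (even_two_mul d) hne
    omega

theorem parity_iff (hs : PlusOn Q ⊤ ↔ s = 0) (hs1 : s ≤ 1) {X : Prop} {N : ℕ} (hX : X ↔ Even N) :
    (PlusOn Q ⊤ ↔ X) ↔ Even (N + s) := by
  rw [hs, hX]
  have h01 : s = 0 ∨ s = 1 := by omega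
  rcases h01 with rfl | rfl
  · simp
  · simp [Nat.even_add_one]

theorem pow_eq_one_parity {h e : ℕ} (hi : orderOf (Fintype.card F : ZMod r) = 2 * h) (hh : 0 < h) :
    ((Fintype.card F : ZMod r) ^ e = 1 → ∃ u, e = h * u ∧ u % 2 = 0) ∧
      ((Fintype.card F : ZMod r) ^ e = -1 → (-1 : ZMod r) ≠ 1 → ∃ u, e = h * u ∧ u % 2 = 1) := by
  refine ⟨fun h1 => ?_, fun h1 hne => ?_⟩
  · obtain ⟨u, hu⟩ := hi ▸ orderOf_dvd_of_pow_eq_one h1
    exact ⟨2 * u, by rw [hu]; ring, Nat.mul_mod_right 2 u⟩
  · have h2 : (Fintype.card F : ZMod r) ^ (2 * e) = 1 := by rw [mul_comm, pow_mul, h1]; ring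
    obtain ⟨u, hu⟩ := (Nat.mul_dvd_mul_iff_left two_pos).1 (hi ▸ orderOf_dvd_of_pow_eq_one h2)
    refine ⟨u, hu, ?_⟩
    by_contra hev
    obtain ⟨v, rfl⟩ : ∃ v, u = 2 * v := ⟨u / 2, by omega⟩
    refine hne ?_
    rw [← h1, hu, show h * (2 * v) = 2 * h * v by ring, pow_mul, ← hi, pow_orderOf_eq_one, one_pow]

theorem neg_one_ne_one (hr2 : Odd r) : (-1 : ZMod r) ≠ 1 := fun h => by
  have h1 : ((2 : ℕ) : ZMod r) = 0 := by push_cast; linear_combination -h
  rw [ZMod.natCast_eq_zero_iff] at h1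
  exact Nat.not_even_iff_odd.2 hr2 ((Nat.prime_dvd_prime_iff_eq Fact.out Nat.prime_two).1 h1 ▸ even_two)

/-- The property coming from the divisibility of the number of totally singular subspaces. -/
def CountDvd (Q : QuadraticForm F V) (r d m : ℕ) : Prop :=
  ∃ j < m, (PlusOn Q ⊤ → (Fintype.card F : ZMod r) ^ (d - j) = 1 ∨ (Fintype.card F : ZMod r) ^ (d - 1 - j) = -1) ∧
    (¬ PlusOn Q ⊤ → (Fintype.card F : ZMod r) ^ (d - j) = -1 ∨ (Fintype.card F : ZMod r) ^ (d - 1 - j) = 1)

/-- Necessity when the order of `q` modulo `r` is odd. -/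
theorem bad_of_odd (hr : (r : F) ≠ 0) (hr2 : Odd r) (hN : (polarBilin Q).Nondegenerate)
    (hd : finrank F V = 2 * d) (hs : PlusOn Q ⊤ ↔ s = 0) (hs1 : s ≤ 1) (hmd : m + 1 ≤ d) {i : ℕ}
    (hi : orderOf (Fintype.card F : ZMod r) = i) (ho : Odd i) (hcount : CountDvd Q r d m)
    (hfail : ¬ (i ≤ m ∧ ((s = 0 ∧ m % i ≤ d % i) ∨ (s = 1 ∧ (d % i = 0 ∨ m % i < d % i))))) :
    Bad Q r m := by
  obtain ⟨j, hjm, hjp, hjn⟩ := hcount
  have hneg : ∀ e, (Fintype.card F : ZMod r) ^ e ≠ -1 := fun e h1 => neg_one_ne_one hr2 <| by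
    have h2 : (Fintype.card F : ZMod r) ^ (2 * e) = 1 := by rw [mul_comm, pow_mul, h1]; ring
    obtain ⟨u, hu⟩ := (Nat.coprime_two_right.2 ho).dvd_of_dvd_mul_left (hi ▸ orderOf_dvd_of_pow_eq_one h2)
    rw [← h1, hu, pow_mul, ← hi, pow_orderOf_eq_one, one_pow]
  have hdd := Nat.div_add_mod d i
  have hk := Nat.mod_lt d ho.pos
  have hm' := Nat.div_add_mod m i
  have hl := Nat.mod_lt m ho.pos
  have hbound : (s = 0 → d % i < m) ∧ (s = 1 → d % i ≤ m ∧ (d % i = 0 → i ≤ m)) := by
    refine ⟨fun h0 => ?_, fun h0 => ?_⟩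
    · rcases hjp (hs.2 h0) with h1 | h1
      · obtain ⟨u, hu⟩ := hi ▸ orderOf_dvd_of_pow_eq_one h1
        have h3 : d % i = j % i := by rw [show d = j + i * u by omega, Nat.add_mul_mod_self_left]
        have := Nat.mod_le j i
        omega
      · exact absurd h1 (hneg _)
    · rcases hjn (fun hp => by have := hs.1 hp; omega) with h1 | h1
      · exact absurd h1 (hneg _)
      · obtain ⟨u, hu⟩ := hi ▸ orderOf_dvd_of_pow_eq_one h1
        have h3 : d % i = (j + 1) % i := by rw [show d = j + 1 + i * u by omega, Nat.add_mul_mod_self_left]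
        have := Nat.mod_le (j + 1) i
        refine ⟨by omega, fun h0 => ?_⟩
        have := Nat.le_of_dvd (by omega) (Nat.dvd_of_mod_eq_zero (h3.symm.trans h0))
        omega
  have hd0 : d % i ≠ 0 ∨ s = 0 := by
    by_contra! hh
    have h1 : s = 1 := by omega
    exact hfail ⟨(hbound.2 h1).2 hh.1, Or.inr ⟨h1, Or.inl hh.1⟩⟩
  have hn0 : 0 < d / i := by
    rcases Nat.eq_zero_or_pos (d / i) with h0 | h0
    · rw [h0, mul_zero] at hdd
      rcases (show s = 0 ∨ s = 1 by omega) with h1 | h1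
      · have := hbound.1 h1; omega
      · have := (hbound.2 h1).1; omega
    · exact h0
  obtain ⟨R, Y, hR, hY, hfix, hRY⟩ := exists_fpf_form (F := F) hr hr2 (d := i * (d / i)) (Nat.mul_pos ho.pos hn0)
    (by rw [hi]; exact dvd_mul_of_dvd_right (dvd_mul_right _ _) _)
  have hRp : PlusOn R ⊤ := (plus_fpf_iff (N := 2 * (d / i)) hr hr2 hR hY hfix hRY (by
    rw [hi]; simp; ring)).2 (Or.inl (hi ▸ ho))
  refine bad_core hr hr2 hN hd hR hY hfix hRY (e := i * (d / i)) (by simp [two_mul]) (Nat.mul_pos ho.pos hn0) ?_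
    (M := 2 * (i * (d / i))) (fun U _ _ => (Submodule.finrank_le U).trans_eq (by simp [two_mul])) fun a c _ hc hc' => ?_
  · rcases hd0 with h0 | h0
    · left; omega
    · rcases Nat.lt_or_ge (i * (d / i)) d with h1 | h1
      · exact Or.inl h1
      · exact Or.inr ⟨by omega, iff_of_true hRp (hs.2 h0)⟩
  rw [hi]
  intro hsum
  have hcs : c + s ≤ d % i := by
    rcases (show s = 0 ∨ s = 1 by omega) with h1 | h1
    · omega
    · have := hc' (by rw [hs]; exact fun hiff => absurd (hiff.2 hRp) (by omega))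
      omega
  rcases Nat.eq_zero_or_pos a with rfl | ha
  · rcases (show s = 0 ∨ s = 1 by omega) with h1 | h1
    · have := hbound.1 h1; omega
    · have := (hbound.2 h1).1; omega
  · have h1 := Nat.le_mul_of_pos_left i ha
    have h3 : c % i = m % i := by rw [← hsum, add_comm, Nat.add_mul_mod_self_right]
    have := Nat.mod_le c i
    rcases (show s = 0 ∨ s = 1 by omega) with h4 | h4
    · exact hfail ⟨by omega, Or.inl ⟨h4, by omega⟩⟩
    · exact hfail ⟨by omega, Or.inr ⟨h4, Or.inr (by omega)⟩⟩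

/-- Necessity when the order of `q` modulo `r` is even. -/
theorem bad_of_even (hr : (r : F) ≠ 0) (hr2 : Odd r) (hN : (polarBilin Q).Nondegenerate)
    (hd : finrank F V = 2 * d) (hs : PlusOn Q ⊤ ↔ s = 0) (hs1 : s ≤ 1) (hmd : m + 1 ≤ d) {h : ℕ}
    (hi : orderOf (Fintype.card F : ZMod r) = 2 * h) (hh : 0 < h) (hcount : CountDvd Q r d m)
    (hfail : ¬ (2 * h ≤ m ∧ (r - 1) / (2 * h) + 2 * (m / (2 * h)) ≤ d / h ∧
      ((m % (2 * h) ≤ h ∧ d % h = 0 ∧ Odd (d / h + s) ∧ (r - 1) / (2 * h) + 2 * (m / (2 * h)) < d / h) ∨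
      (m % (2 * h) ≤ d % h ∧ Even (d / h + s)) ∨ (m % (2 * h) < d % h ∧ Odd (d / h + s))))) :
    Bad Q r m := by
  classical
  obtain ⟨j, hjm, hjp, hjn⟩ := hcount
  have hdd := Nat.div_add_mod d h
  have hk := Nat.mod_lt d hh
  have hm' := Nat.div_add_mod m (2 * h)
  have hl := Nat.mod_lt m (show 0 < 2 * h by omega)
  have hrp : r.Prime := Fact.out
  set n := d / h
  set A : Prop := d % h = 0 ∧ Odd (n + s) with hA
  -- the largest moved part
  obtain ⟨u, hu⟩ : ∃ u, (d = j + h * u ∧ u % 2 = s) ∨ (d = j + 1 + h * u ∧ (u + s) % 2 = 1) := by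
    have hne := neg_one_ne_one hr2
    have key : ∀ e, ((Fintype.card F : ZMod r) ^ e = 1 → ∃ u, e = h * u ∧ u % 2 = 0) ∧
        ((Fintype.card F : ZMod r) ^ e = -1 → ∃ u, e = h * u ∧ u % 2 = 1) := fun e =>
      ⟨(pow_eq_one_parity hi hh).1, fun h1 => (pow_eq_one_parity hi hh).2 h1 hne⟩
    rcases (show s = 0 ∨ s = 1 by omega) with h0 | h0
    · rcases hjp (hs.2 h0) with h1 | h1
      · obtain ⟨u, hu, hu2⟩ := (key _).1 h1; exact ⟨u, Or.inl ⟨by omega, by omega⟩⟩
      · obtain ⟨u, hu, hu2⟩ := (key _).2 h1; exact ⟨u, Or.inr ⟨by omega, by omega⟩⟩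
    · rcases hjn (fun hp => by have := hs.1 hp; omega) with h1 | h1
      · obtain ⟨u, hu, hu2⟩ := (key _).2 h1; exact ⟨u, Or.inl ⟨by omega, by omega⟩⟩
      · obtain ⟨u, hu, hu2⟩ := (key _).1 h1; exact ⟨u, Or.inr ⟨by omega, by omega⟩⟩
  have hun : u ≤ n := (Nat.le_div_iff_mul_le hh).2 (by rw [mul_comm]; rcases hu with ⟨h1, -⟩ | ⟨h1, -⟩ <;> omega)
  obtain ⟨g, hg⟩ := Nat.exists_eq_add_of_le hun
  have e2 : h * n = h * u + h * g := by rw [hg]; ring
  have hbound : (A → h < m) ∧ (¬ A → d % h < m + (n + s) % 2) := by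
    simp only [hA, Nat.odd_iff]
    rcases g with _ | _ | g
    · constructor <;> intro hA' <;> rcases hu with ⟨h1, h3⟩ | ⟨h1, h3⟩ <;> omega
    · constructor <;> intro hA' <;> rcases hu with ⟨h1, h3⟩ | ⟨h1, h3⟩ <;> omega
    · have h5 : 2 * h ≤ h * (g + 1 + 1) := by rw [mul_add, mul_add]; omega
      constructor <;> intro hA' <;> rcases hu with ⟨h1, h3⟩ | ⟨h1, h3⟩ <;> omega
  have hn0 : 0 < n := by
    rcases Nat.eq_zero_or_pos n with h0 | h0
    · exfalso
      rw [h0, mul_zero] at hdd
      by_cases hA' : A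
      · have := hbound.1 hA'; omega
      · have := hbound.2 hA'; omega
    · exact h0
  -- distinct types
  have type2 : ∀ N, 0 < N → N * (2 * h) ≤ r - 1 → (h * N < d ∨ (h * N = d ∧ Even (N + s))) →
      (∀ c, c + h * N ≤ d → (¬ Even (N + s) → c + h * N + 1 ≤ d) → c < m) → Bad Q r m := by
    intro N hNpos hNt hvalid hc
    obtain ⟨S, hScard, -, hS⟩ := exists_factors (F := F) (r := r) hr
    rw [hi] at hScard
    have hNS : N ≤ S.card := Nat.le_of_mul_le_mul_right (hScard.symm ▸ hNt) (by omega)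
    let f : Fin N → Polynomial F := fun a => (S.equivFin.symm (Fin.castLE hNS a)).1
    have hfinj : Function.Injective f :=
      Subtype.val_injective.comp (S.equivFin.symm.injective.comp (Fin.castLE_injective _))
    have hT : ∀ S' : Finset (Polynomial F), ∑ g ∈ S', Nat.card {a // f a = g} / 2 ≤ 0 := fun S' =>
      le_of_eq (Finset.sum_eq_zero fun g _ => by
        have hs : Subsingleton {a // f a = g} := ⟨fun a b => Subtype.ext (hfinj (a.2.trans b.2.symm))⟩
        have := Finite.card_le_one_iff_subsingleton.2 hs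
        omega)
    have hfS : ∀ a, f a ∈ S := fun a => (S.equivFin.symm _).2
    obtain ⟨R, Y, hR, hY, hfix, hRY, hM⟩ := exists_typed_form (T := 0) hr hr2 hh hi f
      (fun a => (hS _ (hfS a)).1) (fun a => (hS _ (hfS a)).2.1) (fun a => (hS _ (hfS a)).2.2.2) hT
    have htype := parity_iff hs hs1 (N := N) (X := PlusOn R ⊤) ((plus_fpf_iff (N := N) hr hr2 hR hY hfix hRY (by
      rw [hi]; simp; ring)).trans (by rw [hi]; simp))
    refine bad_core hr hr2 hN hd hR hY hfix hRY (e := N * h) (by simp [two_mul]) (Nat.mul_pos hNpos hh) ?_ hM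
      fun a c ha hc1 hc2 hsum => ?_
    · rcases hvalid with hv | ⟨hv, hv'⟩
      · exact Or.inl ((Nat.mul_comm N h).trans_lt hv)
      · exact Or.inr ⟨(Nat.mul_comm N h).trans hv, Iff.comm.1 (htype.2 hv')⟩
    · rw [htype, mul_comm N h] at hc2
      rw [mul_comm N h] at hc1
      have := hc c hc1 hc2
      omega
  have hir : 2 * h ∣ r - 1 := hi ▸ orderOf_dvd_of_pow_eq_one (ZMod.pow_card_sub_one_eq_one (orderOf_card_pos hr))
  set t := (r - 1) / (2 * h)
  have ht : t * (2 * h) = r - 1 := Nat.div_mul_cancel hir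
  have ht0 : 0 < t := Nat.pos_of_ne_zero fun h0 => by rw [h0, zero_mul] at ht; have := hrp.two_le; omega
  have hNt : ∀ N ≤ t, N * (2 * h) ≤ r - 1 := fun N hN' => ht ▸ Nat.mul_le_mul_right _ hN'
  by_cases him : 2 * h ≤ m
  · have hm0 : 0 < m / (2 * h) := Nat.div_pos him (by omega)
    by_cases hcnt : t + 2 * (m / (2 * h)) ≤ n
    · by_cases hsmall : A ∧ m % (2 * h) ≤ h
      · -- exactly the number of types
        have heq : n = t + 2 * (m / (2 * h)) := by
          by_contra hne
          exact hfail ⟨him, hcnt, Or.inl ⟨hsmall.2, hsmall.1.1, hsmall.1.2, by omega⟩⟩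
        have e3 : h * n = h * t + 2 * h * (m / (2 * h)) := by rw [heq]; ring
        have hlt : 0 < 2 * h * (m / (2 * h)) := Nat.mul_pos (by omega) hm0
        refine type2 t ht0 (hNt t le_rfl) (Or.inl (by omega)) fun c hc1 hc2 => ?_
        have := hc2 fun hev => by
          obtain ⟨hA1, hA2⟩ := hsmall.1
          rw [Nat.odd_iff] at hA2
          rw [Nat.even_iff] at hev
          omega
        omega
      · -- the fixed space is small
        by_cases hA' : A
        · have hn2 : 2 ≤ n := by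
            by_contra hlt
            rw [show n = 1 by omega, mul_one] at hdd
            have := hA'.1
            omega
          obtain ⟨R, Y, hR, hY, hfix, hRY⟩ := exists_fpf_form (F := F) hr hr2 (d := h * (n - 1))
            (Nat.mul_pos hh (by omega)) (by rw [hi, ← mul_assoc]; exact dvd_mul_right _ _)
          have hlt : h * (n - 1) + h = d := by
            rw [← Nat.mul_succ, show (n - 1).succ = n by omega]
            have := hA'.1
            omega
          refine bad_core hr hr2 hN hd hR hY hfix hRY (e := h * (n - 1)) (by simp [two_mul])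
            (Nat.mul_pos hh (by omega)) (Or.inl (by omega)) (M := 2 * (h * (n - 1)))
            (fun U _ _ => (Submodule.finrank_le U).trans_eq (by simp [two_mul])) fun a c _ hc1 _ => ?_
          rw [hi]
          intro hsum
          have h3 : c % (2 * h) = m % (2 * h) := by rw [← hsum, add_comm, Nat.add_mul_mod_self_right]
          have := Nat.mod_le c (2 * h)
          exact hsmall ⟨hA', by omega⟩
        · obtain ⟨R, Y, hR, hY, hfix, hRY⟩ := exists_fpf_form (F := F) hr hr2 (d := h * n)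
            (Nat.mul_pos hh hn0) (by rw [hi, ← mul_assoc]; exact dvd_mul_right _ _)
          have htype := parity_iff hs hs1 (N := n) (X := PlusOn R ⊤) ((plus_fpf_iff (N := n) hr hr2 hR hY hfix hRY (by
            rw [hi]; simp; ring)).trans (by rw [hi]; simp))
          refine bad_core hr hr2 hN hd hR hY hfix hRY (e := h * n) (by simp [two_mul]) (Nat.mul_pos hh hn0) ?_
            (M := 2 * (h * n)) (fun U _ _ => (Submodule.finrank_le U).trans_eq (by simp [two_mul]))
            fun a c _ hc1 hc2 => ?_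
          · rcases Nat.eq_zero_or_pos (d % h) with h0 | h0
            · exact Or.inr ⟨by omega, Iff.comm.1 (htype.2 (Nat.not_odd_iff_even.1 fun ho => hA' ⟨h0, ho⟩))⟩
            · exact Or.inl (by omega)
          rw [hi]
          intro hsum
          rw [htype] at hc2
          have h3 : c % (2 * h) = m % (2 * h) := by rw [← hsum, add_comm, Nat.add_mul_mod_self_right]
          have := Nat.mod_le c (2 * h)
          rcases Nat.even_or_odd (n + s) with hev | hodd
          · exact hfail ⟨him, hcnt, Or.inr (Or.inl ⟨by omega, hev⟩)⟩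
          · have := hc2 (Nat.not_even_iff_odd.2 hodd)
            exact hfail ⟨him, hcnt, Or.inr (Or.inr ⟨by omega, hodd⟩)⟩
    · -- too few types
      rcases Nat.lt_or_ge t n with htn | htn
      · have h4 : h * (n + 1) ≤ h * (t + 2 * (m / (2 * h))) := Nat.mul_le_mul_left h (by omega)
        rw [mul_add, mul_add, mul_one, show h * (2 * (m / (2 * h))) = 2 * h * (m / (2 * h)) by ring] at h4
        have h5 : h * (t + 1) ≤ h * n := Nat.mul_le_mul_left h htn
        rw [mul_add, mul_one] at h5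
        exact type2 t ht0 (hNt t le_rfl) (Or.inl (by omega)) fun c hc1 _ => by omega
      · by_cases hA' : A
        · have hn2 : 2 ≤ n := by
            by_contra hlt
            rw [show n = 1 by omega, mul_one] at hdd
            have := hA'.1
            omega
          have hlt : h * (n - 1) + h = d := by
            rw [← Nat.mul_succ, show (n - 1).succ = n by omega]
            have := hA'.1
            omega
          exact type2 (n - 1) (by omega) (hNt _ (by omega)) (Or.inl (by omega)) fun c hc1 _ => by omega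
        · refine type2 n hn0 (hNt _ htn) ?_ fun c hc1 _ => by omega
          rcases Nat.eq_zero_or_pos (d % h) with h0 | h0
          · exact Or.inr ⟨by omega, Nat.not_odd_iff_even.1 fun ho => hA' ⟨h0, ho⟩⟩
          · exact Or.inl (by omega)
  · by_cases hA' : A
    · have := hbound.1 hA'
      have hn2 : 2 ≤ n := by
        by_contra hlt
        rw [show n = 1 by omega, mul_one] at hdd
        have := hA'.1
        omega
      obtain ⟨R, Y, hR, hY, hfix, hRY⟩ := exists_fpf_form (F := F) hr hr2 (d := h * (n - 1))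
        (Nat.mul_pos hh (by omega)) (by rw [hi, ← mul_assoc]; exact dvd_mul_right _ _)
      have hlt : h * (n - 1) + h = d := by
        rw [← Nat.mul_succ, show (n - 1).succ = n by omega]
        have := hA'.1
        omega
      refine bad_core hr hr2 hN hd hR hY hfix hRY (e := h * (n - 1)) (by simp [two_mul])
        (Nat.mul_pos hh (by omega)) (Or.inl (by omega)) (M := 2 * (h * (n - 1)))
        (fun U _ _ => (Submodule.finrank_le U).trans_eq (by simp [two_mul])) fun a c _ hc1 _ => ?_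
      rw [hi]
      intro hsum
      rcases Nat.eq_zero_or_pos a with rfl | ha
      · omega
      · have := Nat.le_mul_of_pos_left (2 * h) ha
        omega
    · have := hbound.2 hA'
      obtain ⟨R, Y, hR, hY, hfix, hRY⟩ := exists_fpf_form (F := F) hr hr2 (d := h * n)
        (Nat.mul_pos hh hn0) (by rw [hi, ← mul_assoc]; exact dvd_mul_right _ _)
      have htype := parity_iff hs hs1 (N := n) (X := PlusOn R ⊤) ((plus_fpf_iff (N := n) hr hr2 hR hY hfix hRY (by
        rw [hi]; simp; ring)).trans (by rw [hi]; simp))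
      refine bad_core hr hr2 hN hd hR hY hfix hRY (e := h * n) (by simp [two_mul]) (Nat.mul_pos hh hn0) ?_
        (M := 2 * (h * n)) (fun U _ _ => (Submodule.finrank_le U).trans_eq (by simp [two_mul]))
        fun a c _ hc1 hc2 => ?_
      · rcases Nat.eq_zero_or_pos (d % h) with h0 | h0
        · exact Or.inr ⟨by omega, Iff.comm.1 (htype.2 (Nat.not_odd_iff_even.1 fun ho => hA' ⟨h0, ho⟩))⟩
        · exact Or.inl (by omega)
      rw [hi]
      intro hsum
      rw [htype] at hc2
      rcases Nat.eq_zero_or_pos a with rfl | ha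
      · rcases Nat.even_or_odd (n + s) with hev | hodd
        · rw [Nat.even_iff] at hev
          omega
        · have := hc2 (Nat.not_even_iff_odd.2 hodd)
          rw [Nat.odd_iff] at hodd
          omega
      · have := Nat.le_mul_of_pos_left (2 * h) ha
        omega

/-- The scalar power of an isometry. -/
theorem scalar_sq (hN : (polarBilin Q).Nondegenerate) (hd : finrank F V = 2 * d) (hd0 : 0 < d) {M : Module.End F V}
    (hQM : ∀ v, Q (M v) = Q v) {z : F} (hz : M = z • 1) : z * z = 1 := by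
  haveI : Nontrivial V := Module.nontrivial_of_finrank_pos (R := F) (by omega)
  obtain ⟨u, hu⟩ := exists_ne (0 : V)
  obtain ⟨v, hv⟩ : ∃ v, polarBilin Q u v ≠ 0 := by
    by_contra! hall
    exact hu (hN.1 u hall)
  have h1 := polar_map hQM u v
  simp only [hz, LinearMap.smul_apply, Module.End.one_apply, map_smul, smul_eq_mul, ← mul_assoc] at h1
  exact (mul_eq_right₀ hv).1 h1

/-- Involutions in `Ω`. -/
theorem exists_sing_two_pos (hN : (polarBilin Q).Nondegenerate) (h2 : (2 : F) ≠ 0) (hd : finrank F V = 2 * d)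
    {L : Module.End F V} (hQL : ∀ v, Q (L v) = Q v) (hL : ∀ v, L (L v) = v)
    (htype : ∃ e, finrank F (L.eigenspace (-1 : F)) = 2 * e ∧
      (PlusOn Q (L.eigenspace (-1 : F)) ↔ IsSquare ((-1 : F) ^ e)))
    (hm : m + 2 ≤ d ∨ (¬ PlusOn Q ⊤ ∧ m + 1 ≤ d) ∨ (IsSquare (-1 : F) ∧ m + 1 ≤ d)) :
    ∃ W : Submodule F V, finrank F W = m ∧ Sing Q W ∧ Inv L W := by
  obtain ⟨hc, horth, hEn, hCn⟩ := involution_facts hN h2 hQL hL
  obtain ⟨e, he, htype⟩ := htype
  have hdim := Submodule.finrank_add_eq_of_isCompl hc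
  rw [hd, he] at hdim
  have hCe : Even (finrank F (L.eigenspace (1 : F))) := ⟨d - e, by omega⟩
  have hsum := plus_sum_iff hN hc horth hEn hCn ⟨e, by omega⟩ hCe
  have hbot : ∀ X : Submodule F V, finrank F X = 0 → PlusOn Q X := fun X h =>
    ⟨⊥, bot_le, sing_bot, by rw [finrank_bot, h]⟩
  have hsplit : ∃ a b, a + b = m ∧
      (2 * a ≤ 2 * e ∧ (2 * a + 2 ≤ 2 * e ∨ PlusOn Q (L.eigenspace (-1 : F)))) ∧
      (2 * b ≤ 2 * (d - e) ∧ (2 * b + 2 ≤ 2 * (d - e) ∨ PlusOn Q (L.eigenspace (1 : F)))) := by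
    by_cases hE : PlusOn Q (L.eigenspace (-1 : F)) <;> by_cases hC : PlusOn Q (L.eigenspace (1 : F))
    · exact ⟨min m e, m - min m e, by omega, ⟨by omega, Or.inr hE⟩, ⟨by omega, Or.inr hC⟩⟩
    · have : e < d := by
        by_contra hge
        exact hC (hbot _ (by omega))
      exact ⟨min m e, m - min m e, by omega, ⟨by omega, Or.inr hE⟩, ⟨by omega, Or.inl (by omega)⟩⟩
    · have : 0 < e := Nat.pos_of_ne_zero fun h0 => hE (hbot _ (by omega))
      exact ⟨min m (e - 1), m - min m (e - 1), by omega, ⟨by omega, Or.inl (by omega)⟩, ⟨by omega, Or.inr hC⟩⟩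
    · have : 0 < e := Nat.pos_of_ne_zero fun h0 => hE (hbot _ (by omega))
      have : e < d := by
        by_contra hge
        exact hC (hbot _ (by omega))
      have hV : PlusOn Q ⊤ := hsum.2 (iff_of_false hE hC)
      rcases hm with hm | ⟨hm, -⟩ | ⟨hm, -⟩
      · exact ⟨min m (e - 1), m - min m (e - 1), by omega, ⟨by omega, Or.inl (by omega)⟩, ⟨by omega, Or.inl (by omega)⟩⟩
      · exact absurd hV hm
      · exact absurd (htype.2 (hm.pow e)) hE
  obtain ⟨a, b, hab, ⟨ha, ha'⟩, hb, hb'⟩ := hsplit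
  obtain ⟨U₁, hU₁, hU₁s, hU₁d⟩ := exists_sing_sub hEn (b := a) (by omega)
    (ha'.imp (fun h => by omega) Or.inr)
  obtain ⟨U₂, hU₂, hU₂s, hU₂d⟩ := exists_sing_sub hCn (b := b) (by omega)
    (hb'.imp (fun h => by omega) Or.inr)
  refine ⟨U₁ ⊔ U₂, ?_, hU₁s.sup hU₂s fun u hu w hw => horth u (hU₁ hu) w (hU₂ hw),
    (inv_of_eigen hU₁).sup (inv_of_eigen hU₂)⟩
  rw [finrank_sup_of_disjoint (hc.disjoint.mono hU₁ hU₂), hU₁d, hU₂d, hab]

/-- Square minus one when minus one is a square. -/
theorem exists_sing_two_split (hN : (polarBilin Q).Nondegenerate) (h2 : (2 : F) ≠ 0) (hd : finrank F V = 2 * d)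
    {L : Module.End F V} (hQL : ∀ v, Q (L v) = Q v) (hL : ∀ v, L (L v) = -v) (hsq : IsSquare (-1 : F)) :
    PlusOn Q ⊤ ∧ (m ≤ d → ∃ W : Submodule F V, finrank F W = m ∧ Sing Q W ∧ Inv L W) := by
  obtain ⟨l, hl⟩ := hsq
  have hll : l * l = -1 := hl.symm
  have heig : ∀ c : F, c * c = -1 → Sing Q (L.eigenspace c) := fun c hc u hu => by
    rw [Module.End.mem_eigenspace_iff] at hu
    have h := hQL u
    rw [hu, QuadraticMap.map_smul, smul_eq_mul, hc, neg_one_mul, neg_eq_iff_add_eq_zero, ← two_mul] at h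
    exact (mul_eq_zero.1 h).resolve_left h2
  have hl0 : l ≠ 0 := fun h0 => by
    rw [h0, zero_mul] at hll
    exact one_ne_zero (neg_eq_zero.1 hll.symm)
  have hsup : L.eigenspace l ⊔ L.eigenspace (-l) = ⊤ := eq_top_iff.2 fun v _ => by
    have h2l : (2 * l : F) ≠ 0 := mul_ne_zero h2 hl0
    have : v = (2 * l)⁻¹ • (l • v + L v) + (2 * l)⁻¹ • (l • v - L v) := by
      rw [← smul_add, show l • v + L v + (l • v - L v) = (2 * l) • v by rw [mul_smul, two_smul]; abel,
        smul_smul, inv_mul_cancel₀ h2l, one_smul]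
    rw [this]
    refine Submodule.add_mem_sup ?_ ?_ <;>
      rw [Module.End.mem_eigenspace_iff, map_smul, smul_comm _ (2 * l : F)⁻¹] <;> congr 1
    · rw [map_add, map_smul, hL, smul_add, smul_smul, hll, neg_one_smul, add_comm]
    · rw [map_sub, map_smul, hL, smul_sub, neg_smul, neg_smul, smul_smul, hll, neg_one_smul]
      abel
  have hnd : ∀ c : F, c * c = -1 → 2 * finrank F (L.eigenspace c) ≤ finrank F V := fun c hc =>
    Null.two_mul_le (polar_refl Q) hN (heig c hc).null
  have h3 := Submodule.finrank_sup_add_finrank_inf_eq (L.eigenspace l) (L.eigenspace (-l))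
  rw [hsup, finrank_top, hd] at h3
  have h4 := hnd l hll
  have h5 := hnd (-l) (by rw [neg_mul_neg, hll])
  rw [hd] at h4 h5
  refine ⟨⟨L.eigenspace l, le_top, heig l hll, by rw [finrank_top, hd]; omega⟩, fun hmd => ?_⟩
  obtain ⟨U, hU, hUd⟩ := exists_sub_dim (W := L.eigenspace l) (b := m) (by omega)
  exact ⟨U, hUd, (heig l hll).mono hU, inv_of_eigen hU⟩

/-- Square minus one when minus one is not a square. -/
theorem exists_sing_two_nonsplit (hN : (polarBilin Q).Nondegenerate) (h2 : (2 : F) ≠ 0)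
    (hd : finrank F V = 2 * d) {L : Module.End F V} (hQL : ∀ v, Q (L v) = Q v) (hL : ∀ v, L (L v) = -v)
    (hsq : ¬ IsSquare (-1 : F)) (hme : Even m) (hmd : m + 1 ≤ d) :
    ∃ W : Submodule F V, finrank F W = m ∧ Sing Q W ∧ Inv L W := by
  haveI : Fact (Nat.Prime 2) := ⟨Nat.prime_two⟩
  have hc : ∀ e : F, e ^ 2 ≠ -1 := fun e he => hsq ⟨e, by rw [← he, _root_.sq]⟩
  have hLz : L ^ 2 = algebraMap F (Module.End F V) (-1) := LinearMap.ext fun v => by
    rw [pow_two, Module.End.mul_apply, hL, Module.algebraMap_end_apply, neg_one_smul]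
  have hsplit : Split L := split_of_pow (c := -1) (r := 2) (by exact_mod_cast h2) (by simp) hLz
  have hu := kummer_uniform hc hLz
  have hinj : Function.Injective L := Function.LeftInverse.injective (g := ⇑(-L)) fun v => by
    rw [LinearMap.neg_apply, hL, neg_neg]
  obtain ⟨W, -, hW, hWn, hWd⟩ := exists_null_large (σ := 2) (B := polarBilin Q) (polar_refl Q) (polar_map hQL) hinj
    hsplit (E := ⊤) (fun X _ hX hXn hlt => by
      obtain ⟨u, hu0, hQu⟩ := Orth.exists_singular (Q := Q.comp X.subtype) (comp_nondeg hXn) (by omega)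
      have hQu' : Q (u : V) = 0 := hQu
      have hb : polarBilin Q (u : V) (L u) = 0 := by
        have h := polar_map hQL (u : V) (L u)
        rw [hL, map_neg, polar_refl Q |> fun hr => show polarBilin Q (L (u : V)) u = polarBilin Q (u : V) (L u) from by
          simp only [polarBilin_apply_apply]; exact polar_comm _ _ _, neg_eq_iff_add_eq_zero, ← two_mul] at h
        exact (mul_eq_zero.1 h).resolve_left h2
      have hU : Sing Q (Submodule.span F {(u : V), L u}) := fun w hw => by
        obtain ⟨a, b, rfl⟩ := Submodule.mem_span_pair.1 hw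
        rw [QuadraticMap.map_add Q, QuadraticMap.map_smul, QuadraticMap.map_smul, hQL, hQu', Orth.polar_smul_l',
          Orth.polar_smul_r', ← polarBilin_apply_apply, hb]
        simp
      refine ⟨Submodule.span F {(u : V), L u}, Submodule.span_le.2 ?_, Inv.of_mem fun w hw => ?_, hU.null, ?_⟩
      · rintro _ (rfl | rfl)
        · exact u.2
        · exact hX.mem u.2
      · obtain ⟨a, b, rfl⟩ := Submodule.mem_span_pair.1 hw
        exact Submodule.mem_span_pair.2 ⟨-b, a, by rw [map_add, map_smul, map_smul, hL]; module⟩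
      · intro hbot
        refine hu0 (Subtype.ext ?_)
        have : (u : V) ∈ Submodule.span F {(u : V), L u} := Submodule.subset_span (by simp)
        rwa [hbot, Submodule.mem_bot] at this)
    (Inv.of_mem fun _ _ => trivial) (nondegOn_iff.2 fun x _ hx => hN.2 x fun v => hx v trivial)
  rw [finrank_top, hd] at hWd
  obtain ⟨w, hw⟩ := hu.dvd W le_top hW
  obtain ⟨e, he⟩ := hme
  obtain ⟨U, hUW, hU, hUd⟩ := hu.exists_sub hsplit (k := e) le_top hW (by omega)
  refine ⟨U, by omega, fun x hx => ?_, hU⟩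
  have h := hWn x (hUW hx) x (hUW hx)
  rw [polarBilin_apply_apply, Orth.polar_self'] at h
  exact (mul_eq_zero.1 h).resolve_left h2

end CfsgLib.Derangements.OrthInv
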