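import Cfsg.Agent.Lib.Derangements.OrthUnipotent
import Cfsg.Agent.Lib.Orth.Standard

/-!
# Existence of unipotent elements of orthogonal groups with given block sizes
-/

set_option autoImplicit false
set_option linter.unusedSectionVars false

namespace CfsgLib.Derangements.OrthUnipotent

open Module CfsgLib.Classical CfsgLib.Derangements.JordanRanks CfsgLib.Orth

universe u

variable {F : Type u} [Field F]

/-- The hyperbolic form. -/
def hypB (h : ℕ) (u v : Fin h ⊕ Fin h → F) : F := ∑ i, (u (.inl i) * v (.inr i) + u (.inr i) * v (.inl i))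

/-- The polar form of `e x²`. -/
def lineB (e : F) (u v : F) : F := 2 * e * u * v

theorem sum_pi (k : ℕ) (u : Fin k → F) (f : Fin k → F → F) : ∑ i, f i (u i) = ∑ i, f (Fin.rev i) (u (Fin.rev i)) :=
  (Equiv.sum_comp Fin.revPerm (fun i => f i (u i))).symm

theorem iso_hyp_add (a b : ℕ) : Iso (osum (hypB (F := F) a) (hypB b)) (hypB (a + b)) := by
  let j : (Fin a ⊕ Fin a) ⊕ (Fin b ⊕ Fin b) ≃ Fin (a + b) ⊕ Fin (a + b) :=
    (Equiv.sumSumSumComm (Fin a) (Fin a) (Fin b) (Fin b)).trans (Equiv.sumCongr finSumFinEquiv finSumFinEquiv)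
  refine ⟨(LinearEquiv.sumArrowLequivProdArrow (Fin a ⊕ Fin a) (Fin b ⊕ Fin b) F F).symm.trans
    (LinearEquiv.funCongrLeft F F j.symm), fun u v => ?_⟩
  obtain ⟨u₁, u₂⟩ := u
  obtain ⟨v₁, v₂⟩ := v
  simp only [hypB, osum, LinearEquiv.trans_apply, LinearEquiv.funCongrLeft_apply, LinearMap.funLeft_apply,
    Fin.sum_univ_add]
  simp [j, Equiv.sumSumSumComm, finSumFinEquiv_symm_apply_castAdd, finSumFinEquiv_symm_apply_natAdd,
    LinearEquiv.sumArrowLequivProdArrow_symm_apply_inl, LinearEquiv.sumArrowLequivProdArrow_symm_apply_inr]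

theorem iso_pm {e : F} (he : e ≠ 0) (h2 : (2 : F) ≠ 0) : Iso (osum (lineB e) (lineB (-e))) (hypB 1) := by
  let f : (F × F) →ₗ[F] (Fin 1 ⊕ Fin 1 → F) :=
    { toFun := fun u => Sum.elim (fun _ => e * (u.1 - u.2)) (fun _ => u.1 + u.2)
      map_add' := fun u v => by ext (i | i) <;> simp <;> ring
      map_smul' := fun c v => by ext (i | i) <;> simp <;> ring }
  have hinj : Function.Injective f := by
    rw [injective_iff_map_eq_zero]
    intro u hu
    have h1 := congrFun hu (Sum.inl 0)
    have h3 := congrFun hu (Sum.inr 0)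
    simp only [f, LinearMap.coe_mk, AddHom.coe_mk, Sum.elim_inl, Sum.elim_inr, Pi.zero_apply, mul_eq_zero, he,
      false_or] at h1 h3
    refine Prod.ext (mul_left_cancel₀ h2 ?_) (mul_left_cancel₀ h2 ?_) <;> simp only [Prod.fst_zero, Prod.snd_zero]
    · linear_combination h1 + h3
    · linear_combination h3 - h1
  refine ⟨LinearEquiv.ofBijective f ⟨hinj, (LinearMap.injective_iff_surjective_of_finrank_eq_finrank (by
    simp [Module.finrank_prod])).1 hinj⟩, fun u v => ?_⟩
  show hypB 1 (f u) (f v) = _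
  simp only [f, LinearMap.coe_mk, AddHom.coe_mk, hypB, osum, lineB,
    Fin.sum_univ_one, Sum.elim_inl, Sum.elim_inr]
  ring

theorem Iso.prodComm {V W : Type*} [AddCommGroup V] [Module F V] [AddCommGroup W] [Module F W] (B : V → V → F)
    (B' : W → W → F) : Iso (OrthUnipotent.osum B B') (OrthUnipotent.osum B' B) :=
  ⟨LinearEquiv.prodComm F V W, fun u v => add_comm _ _⟩

theorem Iso.prodAssoc {V W X : Type*} [AddCommGroup V] [Module F V] [AddCommGroup W] [Module F W] [AddCommGroup X]
    [Module F X] (B : V → V → F) (B' : W → W → F) (C : X → X → F) :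
    Iso (OrthUnipotent.osum (OrthUnipotent.osum B B') C) (OrthUnipotent.osum B (OrthUnipotent.osum B' C)) :=
  ⟨LinearEquiv.prodAssoc F V W X, fun u v => (add_assoc _ _ _).symm⟩

theorem Iso.prodProdProdComm {V W X Y : Type*} [AddCommGroup V] [Module F V] [AddCommGroup W] [Module F W]
    [AddCommGroup X] [Module F X] [AddCommGroup Y] [Module F Y] (B : V → V → F) (B' : W → W → F) (C : X → X → F)
    (C' : Y → Y → F) : Iso (OrthUnipotent.osum (OrthUnipotent.osum B B') (OrthUnipotent.osum C C'))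
      (OrthUnipotent.osum (OrthUnipotent.osum B C) (OrthUnipotent.osum B' C')) :=
  ⟨LinearEquiv.prodProdProdComm F V W X Y, fun u v => by
    simp only [OrthUnipotent.osum, LinearEquiv.prodProdProdComm_apply]
    ring⟩

theorem shift_zero {k : ℕ} (u : Fin (k + 1) → F) : shift (k + 1) u 0 = 0 := by
  have h := shift_pow_apply (k + 1) 1 u 0
  rw [pow_one, dif_neg (by simp)] at h
  exact h

theorem shift_succ {k : ℕ} (u : Fin (k + 1) → F) (i : Fin k) : shift (k + 1) u i.succ = u i.castSucc := by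
  have h := shift_pow_apply (k + 1) 1 u i.succ
  rw [pow_one, dif_pos (by simp)] at h
  rw [h]
  congr 1

/-- Two blocks of the same size. -/
theorem real_pair (k : ℕ) : Real (hypB (F := F) k) {k, k} := by
  let P : (Fin k → F) → (Fin k → F) → F := fun u v => ∑ i, u i * v (Fin.rev i)
  have hP : ∀ u v, P (shift k u) v = P u (shift k v) := fun u v => by
    rcases k with _ | k
    · simp [P]
    simp only [P]
    rw [Fin.sum_univ_succ]
    conv_rhs => rw [Fin.sum_univ_castSucc]
    simp only [Fin.rev_last, shift_zero, Fin.rev_succ, Fin.rev_castSucc, shift_succ, zero_mul, mul_zero, zero_add,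
      add_zero]
  have h : Real (fun u v : (Fin k → F) × (Fin k → F) => P u.1 v.2 + P v.1 u.2) {k, k} := by
    refine ⟨LinearMap.prodMap (shift k) (-shift k), fun u v => ?_, fun j => ?_⟩
    · simp only [LinearMap.prodMap_apply, LinearMap.neg_apply]
      have hn : ∀ a b : Fin k → F, P a (-b) = -P a b := fun a b => by simp [P, Finset.sum_neg_distrib]
      rw [hn, hn, hP, hP]
      ring
    · have hp : LinearMap.prodMap (shift k : Module.End F (Fin k → F)) (-shift k) ^ j =
          LinearMap.prodMap (shift k ^ j) ((-shift k) ^ j) := by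
        induction j with
        | zero => rfl
        | succ j ih => rw [pow_succ, ih, pow_succ, pow_succ]; rfl
      have hneg : LinearMap.range ((-shift k : Module.End F (Fin k → F)) ^ j) = LinearMap.range (shift k ^ j) := by
        rw [show (-shift k : Module.End F (Fin k → F)) = (-1 : F) • shift k from (neg_one_smul F _).symm, smul_pow,
          LinearMap.range_smul _ _ (pow_ne_zero _ (neg_ne_zero.2 one_ne_zero))]
      rw [hp, LinearMap.range_prodMap, hneg]
      let R := LinearMap.range ((shift k : Module.End F (Fin k → F)) ^ j)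
      let e : (R.prod R) ≃ₗ[F] R × R :=
        { toFun := fun x => (⟨x.1.1, x.2.1⟩, ⟨x.1.2, x.2.2⟩)
          invFun := fun x => ⟨(x.1.1, x.2.1), ⟨x.1.2, x.2.2⟩⟩
          map_add' := fun _ _ => rfl
          map_smul' := fun _ _ => rfl
          left_inv := fun _ => rfl
          right_inv := fun _ => rfl }
      rw [e.finrank_eq, Module.finrank_prod, finrank_range_shift_pow]
      simp [rankSeq]
  refine h.of_iso ⟨((LinearEquiv.refl F (Fin k → F)).prodCongr (LinearEquiv.funCongrLeft F F Fin.revPerm)).trans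
    (LinearEquiv.sumArrowLequivProdArrow (Fin k) (Fin k) F F).symm, fun u v => ?_⟩
  simp only [hypB, P, Finset.sum_add_distrib]
  simp [LinearMap.funLeft_apply, mul_comm]

/-- A single block of odd size. -/
theorem real_odd (h : ℕ) (e : F) (he : e ≠ 0) (h2 : (2 : F) ≠ 0) :
    Real (osum (hypB h) (lineB e)) {2 * h + 1} := by
  set c : F := 2 * e * (-1) ^ h
  let T : (Fin (2 * h + 1) → F) → (Fin (2 * h + 1) → F) → F := fun u v =>
    ∑ i : Fin (2 * h + 1), c * (-1) ^ (i : ℕ) * u i * v (Fin.rev i)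
  have hsk : ∀ u v, T (shift _ u) v + T u (shift _ v) = 0 := fun u v => by
    simp only [T]
    rw [Fin.sum_univ_succ]
    conv_lhs => arg 2; rw [Fin.sum_univ_castSucc]
    simp only [Fin.rev_last, shift_zero, Fin.rev_succ, Fin.rev_castSucc, shift_succ, zero_mul, mul_zero, zero_add,
      add_zero, ← Finset.sum_add_distrib, Fin.val_succ, Fin.val_castSucc]
    refine Finset.sum_eq_zero fun i _ => ?_
    rw [pow_succ]
    ring
  refine Real.of_iso (B := T) ⟨shift _, hsk, fun j => by rw [finrank_range_shift_pow]; simp [rankSeq]⟩ ?_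
  let f : (Fin (2 * h + 1) → F) →ₗ[F] (Fin h ⊕ Fin h → F) × F :=
    { toFun := fun u => (Sum.elim (fun i => c * (-1) ^ (i : ℕ) * u ⟨i, by omega⟩)
        (fun i => u ⟨2 * h - i, by omega⟩), u ⟨h, by omega⟩)
      map_add' := fun u v => by
        ext (i | i) <;> simp <;> ring
      map_smul' := fun a v => by
        ext (i | i) <;> simp <;> ring }
  have hc : c ≠ 0 := mul_ne_zero (mul_ne_zero h2 he) (pow_ne_zero _ (neg_ne_zero.2 one_ne_zero))
  have hinj : Function.Injective f := by
    rw [injective_iff_map_eq_zero]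
    intro u hu
    funext i
    rcases lt_trichotomy (i : ℕ) h with hi | hi | hi
    · have := congrFun (congrArg Prod.fst hu) (Sum.inl ⟨i, hi⟩)
      simpa [f, hc] using this
    · have := congrArg Prod.snd hu
      simp only [f, LinearMap.coe_mk, AddHom.coe_mk, Prod.snd_zero] at this
      rw [show i = (⟨h, by omega⟩ : Fin (2 * h + 1)) from Fin.ext hi]
      exact this
    · have := congrFun (congrArg Prod.fst hu) (Sum.inr ⟨2 * h - i, by omega⟩)
      simp only [f, LinearMap.coe_mk, AddHom.coe_mk, Prod.fst_zero, Sum.elim_inr, Pi.zero_apply] at this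
      rw [show i = (⟨2 * h - (2 * h - (i : ℕ)), by omega⟩ : Fin (2 * h + 1)) from
        Fin.ext (by show (i : ℕ) = 2 * h - (2 * h - i); omega)]
      exact this
  refine ⟨LinearEquiv.ofBijective f ⟨hinj, (LinearMap.injective_iff_surjective_of_finrank_eq_finrank (by
    simp [Module.finrank_prod]; omega)).1 hinj⟩, fun u v => ?_⟩
  show osum (hypB h) (lineB e) (f u) (f v) = T u v
  simp only [f, LinearMap.coe_mk, AddHom.coe_mk, osum, hypB, lineB, Sum.elim_inl,
    Sum.elim_inr, T]
  let g : Fin h ⊕ (Fin 1 ⊕ Fin h) ≃ Fin (2 * h + 1) :=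
    ((Equiv.refl (Fin h)).sumCongr finSumFinEquiv).trans (finSumFinEquiv.trans (finCongr (by omega)))
  rw [← g.sum_comp, Fintype.sum_sum_type, Fintype.sum_sum_type, Fin.sum_univ_one, Finset.sum_add_distrib]
  have hmid : g (Sum.inr (Sum.inl 0)) = (⟨h, by omega⟩ : Fin (2 * h + 1)) := Fin.ext (by simp [g])
  have hl : ∀ i : Fin h, g (Sum.inl i) = (⟨i, by omega⟩ : Fin (2 * h + 1)) := fun i => Fin.ext (by simp [g])
  have hr : ∀ i : Fin h, g (Sum.inr (Sum.inr i)) = (⟨h + 1 + i, by omega⟩ : Fin (2 * h + 1)) :=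
    fun i => Fin.ext (by simp [g]; omega)
  simp only [hmid, hl, hr]
  rw [← Equiv.sum_comp Fin.revPerm (fun i : Fin h => c * (-1) ^ (h + 1 + (i : ℕ)) * u ⟨h + 1 + i, by omega⟩ *
    v (Fin.rev ⟨h + 1 + i, by omega⟩))]
  have h1 : ∀ i : Fin h, Fin.rev (⟨i, by omega⟩ : Fin (2 * h + 1)) = ⟨2 * h - i, by omega⟩ :=
    fun i => Fin.ext (by simp)
  have h3 : Fin.rev (⟨h, by omega⟩ : Fin (2 * h + 1)) = ⟨h, by omega⟩ := Fin.ext (by simp; omega)
  have hmid' : c * (-1) ^ h = 2 * e := by
    simp only [c, mul_assoc, ← pow_add, ← two_mul, pow_mul, neg_one_sq, one_pow, mul_one]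
  have h4 : ∀ i : Fin h, c * (-1) ^ (h + 1 + ((Fin.revPerm i : Fin h) : ℕ)) *
      u ⟨h + 1 + (Fin.revPerm i : Fin h), by omega⟩ * v (Fin.rev ⟨h + 1 + (Fin.revPerm i : Fin h), by omega⟩) =
      u ⟨2 * h - i, by omega⟩ * (c * (-1) ^ (i : ℕ) * v ⟨i, by omega⟩) := fun i => by
    rw [show (⟨h + 1 + (Fin.revPerm i : Fin h), by omega⟩ : Fin (2 * h + 1)) = ⟨2 * h - i, by omega⟩ from
      Fin.ext (by simp; omega), show Fin.rev (⟨2 * h - i, by omega⟩ : Fin (2 * h + 1)) = ⟨i, by omega⟩ from
      Fin.ext (by simp; omega), show (-1 : F) ^ (h + 1 + ((Fin.revPerm i : Fin h) : ℕ)) = (-1) ^ (i : ℕ) by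
        rw [show h + 1 + ((Fin.revPerm i : Fin h) : ℕ) = 2 * (h - i) + i by simp; omega, pow_add, pow_mul,
          neg_one_sq, one_pow, one_mul]]
    ring
  rw [Finset.sum_congr rfl fun i _ => h4 i]
  simp only [h1, h3, hmid']
  ring

theorem sum_mod_two (μ : Multiset ℕ) : μ.sum % 2 = (μ.filter (fun a => Odd a)).card % 2 := by
  induction μ using Multiset.induction_on with
  | empty => simp
  | cons a μ ih =>
    rw [Multiset.sum_cons, Multiset.filter_cons]
    rcases Nat.even_or_odd a with h | h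
    · rw [if_neg (Nat.not_odd_iff_even.2 h)]
      have := Nat.even_iff.1 h
      simp; omega
    · rw [if_pos h]
      have := Nat.odd_iff.1 h
      simp; omega

theorem evenMult_erase {μ : Multiset ℕ} {a : ℕ} (ha : Odd a) (h : ∀ e, Even e → Even (μ.count e)) :
    ∀ e, Even e → Even ((μ.erase a).count e) := fun e he => by
  rw [Multiset.count_erase_of_ne (fun hea : e = a => Nat.not_even_iff_odd.2 ha (hea ▸ he))]
  exact h e he

/-- Block sizes realised on hyperbolic spaces. -/
theorem real_plus (h2 : (2 : F) ≠ 0) : ∀ (μ : Multiset ℕ) (d : ℕ), (∀ e, Even e → Even (μ.count e)) →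
    μ.sum = 2 * d → Real (hypB (F := F) d) μ := by
  intro μ
  induction hn : μ.card using Nat.strong_induction_on generalizing μ with
  | _ n ih =>
  intro d heven hsum
  rcases Multiset.empty_or_exists_mem μ with rfl | ⟨a, ha⟩
  · obtain rfl : d = 0 := by simpa using hsum.symm
    refine ⟨0, fun u v => by simp [hypB], fun k => ?_⟩
    rw [rankSeq]
    simp only [Multiset.map_zero, Multiset.sum_zero]
    exact Module.finrank_zero_of_subsingleton
  obtain ⟨μ', rfl⟩ := Multiset.exists_cons_of_mem ha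
  by_cases hdup : a ∈ μ'
  · obtain ⟨ρ, rfl⟩ := Multiset.exists_cons_of_mem hdup
    rw [Multiset.sum_cons, Multiset.sum_cons] at hsum
    have had : a ≤ d := by omega
    have h1 := ih ρ.card (by simp at hn; omega) ρ rfl (d - a) (fun e he => by
      have h3 := heven e he
      rw [Multiset.count_cons, Multiset.count_cons] at h3
      split_ifs at h3 with hh
      · rw [add_assoc, Nat.even_add] at h3
        exact h3.2 even_two
      · simpa using h3) (by omega)
    have h3 := ((real_pair (F := F) a).osum h1).of_iso (iso_hyp_add a (d - a))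
    rw [Nat.add_sub_cancel' had] at h3
    simpa [Multiset.insert_eq_cons, Multiset.singleton_add, Multiset.cons_add] using h3
  · have ha_odd : Odd a := by
      by_contra hodd
      have := heven a (Nat.not_odd_iff_even.1 hodd)
      rw [Multiset.count_cons_self, Multiset.count_eq_zero_of_notMem hdup] at this
      exact Nat.not_even_one this
    obtain ⟨b, hb, hb_odd⟩ : ∃ b ∈ μ', Odd b := by
      by_contra hno
      push Not at hno
      have h1 := sum_mod_two μ'
      rw [Multiset.filter_eq_nil.2 hno] at h1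
      rw [Multiset.sum_cons] at hsum
      have := Nat.odd_iff.1 ha_odd
      simp at h1
      omega
    obtain ⟨ρ, rfl⟩ := Multiset.exists_cons_of_mem hb
    obtain ⟨i, rfl⟩ := ha_odd
    obtain ⟨j, rfl⟩ := hb_odd
    rw [Multiset.sum_cons, Multiset.sum_cons] at hsum
    have hle : i + j + 1 ≤ d := by omega
    have h1 := ih ρ.card (by simp at hn; omega) ρ rfl (d - (i + j + 1)) (fun e he => by
      have h3 := heven e he
      have e1 : e ≠ 2 * i + 1 := fun h => by subst h; exact Nat.not_even_two_mul_add_one i he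
      have e2 : e ≠ 2 * j + 1 := fun h => by subst h; exact Nat.not_even_two_mul_add_one j he
      rwa [Multiset.count_cons_of_ne e1, Multiset.count_cons_of_ne e2] at h3) (by omega)
    have h3 := (((real_odd i (1 : F) one_ne_zero h2).osum (real_odd j (-1) (neg_ne_zero.2 one_ne_zero) h2)).of_iso
      ((Iso.prodProdProdComm _ _ _ _).trans ((iso_hyp_add i j).osum (iso_pm one_ne_zero h2)))).of_iso
      (iso_hyp_add (i + j) 1)
    have h4 := (h3.osum h1).of_iso (iso_hyp_add (i + j + 1) (d - (i + j + 1)))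
    rw [Nat.add_sub_cancel' hle] at h4
    have heq : ((2 * i + 1) ::ₘ (2 * j + 1) ::ₘ ρ) = {2 * i + 1} + {2 * j + 1} + ρ := by
      simp [Multiset.singleton_add]
    rw [heq]
    exact h4

/-- Block sizes realised on odd-dimensional spaces. -/
theorem real_line (h2 : (2 : F) ≠ 0) {e : F} (he : e ≠ 0) {μ : Multiset ℕ} {d : ℕ}
    (heven : ∀ e, Even e → Even (μ.count e)) (hsum : μ.sum = 2 * d + 1) :
    Real (osum (hypB d) (lineB e)) μ := by
  obtain ⟨a, ha, ha_odd⟩ : ∃ a ∈ μ, Odd a := by
    by_contra hno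
    push Not at hno
    have h1 := sum_mod_two μ
    rw [Multiset.filter_eq_nil.2 hno] at h1
    simp at h1
    omega
  obtain ⟨i, rfl⟩ := ha_odd
  obtain ⟨ρ, rfl⟩ := Multiset.exists_cons_of_mem ha
  rw [Multiset.sum_cons] at hsum
  have hle : i ≤ d := by omega
  have h1 := real_plus h2 ρ (d - i) (fun e he => by
    have h3 := heven e he
    have e1 : e ≠ 2 * i + 1 := fun h => by subst h; exact Nat.not_even_two_mul_add_one i he
    rwa [Multiset.count_cons_of_ne e1] at h3) (by omega)
  have h3 := ((h1.osum (real_odd i e he h2)).of_iso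
    ((Iso.prodAssoc _ _ _).symm.trans ((iso_hyp_add (d - i) i).osum (Iso.refl _))))
  rw [Nat.sub_add_cancel hle, add_comm, Multiset.singleton_add] at h3
  exact h3

/-- Block sizes realised on spaces with a plane complementary to a hyperbolic space. -/
theorem real_plane (h2 : (2 : F) ≠ 0) {e₁ e₂ : F} (he₁ : e₁ ≠ 0) (he₂ : e₂ ≠ 0) {μ : Multiset ℕ} {d : ℕ}
    (hd : 0 < d) (heven : ∀ e, Even e → Even (μ.count e)) (hsum : μ.sum = 2 * d) (hodd : ∃ a ∈ μ, Odd a) :
    Real (osum (hypB (d - 1)) (osum (lineB e₁) (lineB e₂))) μ := by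
  obtain ⟨a, ha, ha_odd⟩ := hodd
  obtain ⟨μ', rfl⟩ := Multiset.exists_cons_of_mem ha
  obtain ⟨b, hb, hb_odd⟩ : ∃ b ∈ μ', Odd b := by
    by_contra hno
    push Not at hno
    have h1 := sum_mod_two μ'
    rw [Multiset.filter_eq_nil.2 hno] at h1
    rw [Multiset.sum_cons] at hsum
    have := Nat.odd_iff.1 ha_odd
    simp at h1
    omega
  obtain ⟨ρ, rfl⟩ := Multiset.exists_cons_of_mem hb
  obtain ⟨i, rfl⟩ := ha_odd
  obtain ⟨j, rfl⟩ := hb_odd
  rw [Multiset.sum_cons, Multiset.sum_cons] at hsum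
  have hle : i + j + 1 ≤ d := by omega
  have h1 := real_plus h2 ρ (d - (i + j + 1)) (fun e he => by
    have h3 := heven e he
    have e1 : e ≠ 2 * i + 1 := fun h => by subst h; exact Nat.not_even_two_mul_add_one i he
    have e2 : e ≠ 2 * j + 1 := fun h => by subst h; exact Nat.not_even_two_mul_add_one j he
    rwa [Multiset.count_cons_of_ne e1, Multiset.count_cons_of_ne e2] at h3) (by omega)
  have h3 := ((real_odd i e₁ he₁ h2).osum (real_odd j e₂ he₂ h2)).of_iso
    ((Iso.prodProdProdComm _ _ _ _).trans ((iso_hyp_add i j).osum (Iso.refl _)))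
  have h4 := (h1.osum h3).of_iso
    ((Iso.prodAssoc _ _ _).symm.trans ((iso_hyp_add (d - (i + j + 1)) (i + j)).osum (Iso.refl _)))
  rw [show d - (i + j + 1) + (i + j) = d - 1 by omega] at h4
  have heq : ((2 * i + 1) ::ₘ (2 * j + 1) ::ₘ ρ) = ρ + ({2 * i + 1} + {2 * j + 1}) := by
    rw [add_comm ρ]; simp [Multiset.singleton_add]
  rw [heq]
  exact h4

theorem iso_oddForm (d : ℕ) :
    Iso (osum (hypB (F := F) d) (lineB 1)) (fun u v => QuadraticMap.polar (oddForm F d) u v) := by
  refine ⟨((LinearEquiv.refl F _).prodCongr (LinearEquiv.funUnique Unit F F).symm).trans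
    ((LinearEquiv.prodComm F _ _).trans (LinearEquiv.sumArrowLequivProdArrow _ _ F F).symm), fun u v => ?_⟩
  simp only [oddForm_polar, osum, hypB, lineB]
  simp [mul_assoc, mul_comm, mul_left_comm, add_comm]

theorem iso_plusForm (d : ℕ) : Iso (hypB (F := F) d) (fun u v => QuadraticMap.polar (plusForm F d) u v) :=
  ⟨LinearEquiv.refl F _, fun u v => plusForm_polar d u v⟩

theorem iso_minusForm (h2 : (2 : F) ≠ 0) (d : ℕ) (a b : F) :
    Iso (osum (hypB (F := F) d) (osum (lineB 1) (lineB (b - a ^ 2 / 4))))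
      (fun u v => QuadraticMap.polar (minusForm F d a b) u v) := by
  let f : (F × F) ≃ₗ[F] (Fin 2 → F) :=
    { toFun := fun z => ![z.1 - a / 2 * z.2, z.2]
      invFun := fun w => (w 0 + a / 2 * w 1, w 1)
      map_add' := fun z w => by ext i; fin_cases i <;> simp <;> ring
      map_smul' := fun c z => by ext i; fin_cases i <;> simp <;> ring
      left_inv := fun z => by simp
      right_inv := fun w => by ext i; fin_cases i <;> simp }
  refine ⟨((LinearEquiv.refl F _).prodCongr f).trans (LinearEquiv.sumArrowLequivProdArrow _ _ F F).symm,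
    fun u v => ?_⟩
  have h4 : (4 : F) ≠ 0 := by rw [show (4 : F) = 2 * 2 by norm_num]; exact mul_ne_zero h2 h2
  simp only [minusForm_polar, osum, hypB, lineB]
  simp [f]
  field_simp
  ring

variable [Fintype F] {ι : Type} [Fintype ι] [DecidableEq ι] {Qf : (ι → F) → F}

/-- Isometries of odd order lie in the commutator subgroup. -/
theorem mem_omega_of_odd (h2 : (2 : F) ≠ 0) (Q : QuadraticForm F (ι → F)) (hQf : ∀ v, Qf v = Q v)
    (hQ : (QuadraticMap.polarBilin Q).Nondegenerate) {r : ℕ} (hr : Odd r) {x : GL ι F} (hxr : x ^ r = 1)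
    (hx : ∀ v, Q ((x : Matrix ι ι F).mulVec v) = Q v) : x ∈ Cfsg.Geo.omegaGL Qf := by
  let g : Cfsg.isometryGroup F Qf := ⟨x, fun v _ => by show Qf _ = Qf v; rw [hQf, hQf]; exact hx v⟩
  refine ⟨g, (mem_Omega_iff Q hQf g).2 ?_, rfl⟩
  obtain ⟨k, hk⟩ := hr
  have hg : g = g ^ (k + 1) * g ^ (k + 1) := by
    have h1 : g ^ r = 1 := Subtype.ext hxr
    rw [← pow_add, show k + 1 + (k + 1) = r + 1 by omega, pow_succ, h1, one_mul]
  rw [hg, map_mul]
  exact sq_mem_commutator hQ (good_of_two_ne h2) _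

theorem isometry_of_mem_omega {x : GL ι F} (hx : x ∈ Cfsg.Geo.omegaGL Qf) (v : ι → F) :
    Qf ((x : Matrix ι ι F).mulVec v) = Qf v := by
  obtain ⟨g, -, rfl⟩ := hx
  exact g.2 v v

/-- Elements of the derived subgroup of the orthogonal group with given block sizes. -/
theorem exists_element {p : ℕ} [Fact p.Prime] [CharP F p] (hp : Odd p) (Q : QuadraticForm F (ι → F))
    (hQf : ∀ v, Qf v = Q v) (hQ : (QuadraticMap.polarBilin Q).Nondegenerate) {μ : Multiset ℕ}
    (hμp : ∀ e ∈ μ, e ≤ p) (hne : ∃ e ∈ μ, 2 ≤ e)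
    (hreal : Real (fun u v => QuadraticMap.polar Q u v) μ) :
    ∃ x : GL ι F, x ∈ Cfsg.Geo.omegaGL Qf ∧ x ^ p = 1 ∧ (∀ z : F, (x : Matrix ι ι F) ≠ z • (1 : Matrix ι ι F)) ∧
      ((Matrix.toLin' (x : Matrix ι ι F) - 1) ^ p = 0) ∧
      ∀ k, finrank F (LinearMap.range ((Matrix.toLin' (x : Matrix ι ι F) - 1) ^ k)) = rankSeq μ k := by
  have h2 : (2 : F) ≠ 0 := Ring.two_ne_zero (by
    rw [ringChar.eq F p]
    intro h
    rw [h] at hp
    exact Nat.not_odd_iff_even.2 even_two hp)
  obtain ⟨S, hS, hr⟩ := hreal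
  have hSp : S ^ p = 0 := LinearMap.range_eq_bot.1 (Submodule.finrank_eq_zero.1 (by
    rw [hr, rankSeq]
    refine Multiset.sum_eq_zero fun b hb => ?_
    obtain ⟨c, hc, rfl⟩ := Multiset.mem_map.1 hb
    have := hμp c hc
    omega))
  obtain ⟨w, hw⟩ : IsUnit (1 - S) := IsNilpotent.isUnit_one_sub ⟨p, hSp⟩
  let wi : Module.End F (ι → F) := ↑(w⁻¹)
  let L : Module.End F (ι → F) := (1 + S) * wi
  have hcomm : Commute S (w : Module.End F (ι → F)) := by
    rw [hw]
    exact (Commute.one_right S).sub_right (Commute.refl S)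
  have hcomm' : Commute S wi := hcomm.units_inv_right
  have hwi : (w : Module.End F (ι → F)) * wi = 1 := w.mul_inv
  have hN : L - 1 = (2 * wi) * S := by
    calc L - 1 = (1 + S) * wi - (w : Module.End F (ι → F)) * wi := by rw [hwi]
      _ = 2 * (S * wi) := by
        rw [hw, ← sub_mul, show (1 + S - (1 - S) : Module.End F (ι → F)) = 2 * S by rw [two_mul]; abel, mul_assoc]
      _ = 2 * wi * S := by rw [hcomm'.eq, mul_assoc]
  have h2u : IsUnit ((2 : Module.End F (ι → F)) * wi) := by
    refine IsUnit.mul ?_ (w⁻¹).isUnit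
    rw [show (2 : Module.End F (ι → F)) = algebraMap F (Module.End F (ι → F)) 2 from (map_ofNat _ 2).symm]
    exact (IsUnit.mk0 _ h2).map _
  have hcN : Commute (2 * wi) S := (Commute.ofNat_left 2 S).mul_left hcomm'.symm
  have hrk : ∀ k, finrank F (LinearMap.range ((L - 1) ^ k)) = rankSeq μ k := fun k => by
    obtain ⟨t, ht⟩ := h2u
    rw [hN, hcN.mul_pow, ← ht, ← Units.val_pow_eq_pow_val, finrank_range_units_mul, hr]
  have hNp : (L - 1) ^ p = 0 := by rw [hN, hcN.mul_pow, hSp, mul_zero]
  haveI : Nonempty ι := by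
    obtain ⟨e, he, he2⟩ := hne
    by_contra hemp
    rw [not_nonempty_iff] at hemp
    have h := hr 0
    rw [rankSeq_zero] at h
    have h' := Multiset.le_sum_of_mem he
    have hle := Submodule.finrank_le (LinearMap.range (S ^ 0))
    rw [Module.finrank_fintype_fun_eq_card, Fintype.card_eq_zero] at hle
    omega
  haveI : CharP (Module.End F (ι → F)) p :=
    charP_of_injective_algebraMap (algebraMap F (Module.End F (ι → F))).injective p
  have hLp : L ^ p = 1 := by
    rw [show L = 1 + (L - 1) by abel, add_pow_char_of_commute p (Commute.one_left _), hNp, one_pow, add_zero]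
  let M := (Matrix.toLinAlgEquiv' (R := F) (n := ι)).symm L
  have hM : Matrix.toLinAlgEquiv' M = L := AlgEquiv.apply_symm_apply _ _
  have hpp := Nat.sub_add_cancel (Fact.out : p.Prime).one_le
  have hMp : M ^ p = 1 := by
    apply (Matrix.toLinAlgEquiv' (R := F) (n := ι)).injective
    rw [map_pow, hM, hLp, map_one]
  let x : GL ι F := ⟨M, M ^ (p - 1), by rw [← pow_succ', hpp, hMp], by rw [← pow_succ, hpp, hMp]⟩
  have hxp : x ^ p = 1 := Units.ext (by rw [Units.val_pow_eq_pow_val]; exact hMp)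
  have hxL : Matrix.toLin' (x : Matrix ι ι F) = L := hM
  have hiso : ∀ u v, QuadraticMap.polar Q (L u) (L v) = QuadraticMap.polar Q u v := fun u v => by
    have key : ∀ a b, QuadraticMap.polar Q ((1 + S) a) ((1 + S) b) =
        QuadraticMap.polar Q ((w : Module.End F (ι → F)) a) ((w : Module.End F (ι → F)) b) := fun a b => by
      rw [hw]
      simp only [LinearMap.add_apply, LinearMap.sub_apply, Module.End.one_apply, QuadraticMap.polar_add_left,
        QuadraticMap.polar_add_right, QuadraticMap.polar_sub_left, QuadraticMap.polar_sub_right]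
      linear_combination 2 * hS a b
    show QuadraticMap.polar Q ((1 + S) (wi u)) ((1 + S) (wi v)) = _
    rw [key, ← Module.End.mul_apply, ← Module.End.mul_apply, hwi, Module.End.one_apply, Module.End.one_apply]
  have hQx : ∀ v, Q ((x : Matrix ι ι F).mulVec v) = Q v := fun v => by
    rw [← Matrix.toLin'_apply, hxL]
    have := hiso v v
    simp only [QuadraticMap.polar_self, nsmul_eq_mul, Nat.cast_ofNat] at this
    exact mul_left_cancel₀ h2 this
  refine ⟨x, mem_omega_of_odd h2 Q hQf hQ hp hxp hQx, hxp, fun z hz => ?_, by rw [hxL]; exact hNp,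
    fun k => by rw [hxL]; exact hrk k⟩
  have hLz : L = z • 1 := by
    rw [← hxL, hz, map_smul, Matrix.toLin'_one]
    rfl
  have hzz : z = 1 := by
    have h1 := congrArg (fun g : GL ι F => (g : Matrix ι ι F)) hxp
    simp only [Units.val_pow_eq_pow_val, hz, smul_pow, one_pow, Units.val_one] at h1
    obtain ⟨i⟩ := ‹Nonempty ι›
    have h3 := congrFun (congrFun h1 i) i
    simp only [Matrix.smul_apply, Matrix.one_apply_eq, smul_eq_mul, mul_one] at h3
    exact sub_eq_zero.1 ((pow_eq_zero_iff (Fact.out : p.Prime).ne_zero).1 (by rw [sub_pow_char, h3, one_pow, sub_self]))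
  obtain ⟨e, he, he2⟩ := hne
  have h := hrk 1
  rw [hLz, hzz, one_smul, sub_self, pow_one, LinearMap.range_zero, finrank_bot, rankSeq] at h
  have := Multiset.sum_eq_zero_iff.1 h.symm _ (Multiset.mem_map_of_mem _ he)
  omega

omit [Fintype F] in
/-- The block sizes selected by an invariant non-degenerate subspace. -/
theorem exists_fixed_data (h2 : (2 : F) ≠ 0) (Q : QuadraticForm F (ι → F)) (hQf : ∀ v, Qf v = Q v) {x : GL ι F}
    (hx : ∀ v, Qf ((x : Matrix ι ι F).mulVec v) = Qf v) {p : ℕ}
    (hN : (Matrix.toLin' (x : Matrix ι ι F) - 1) ^ p = 0) {μ : Multiset ℕ} (hμ0 : 0 ∉ μ)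
    (hr : ∀ k, finrank F (LinearMap.range ((Matrix.toLin' (x : Matrix ι ι F) - 1) ^ k)) = rankSeq μ k)
    {W : Submodule F (ι → F)} (hW : Cfsg.Geo.IsNondegenerateOn (QuadraticMap.polar Qf) W)
    (hWx : W.map (Matrix.toLin' (x : Matrix ι ι F)) ≤ W) :
    ∃ ν, ν ≤ μ ∧ ν.sum = finrank F W ∧ (∀ e, Even e → Even (ν.count e)) ∧
      ((∀ e ∈ ν, e = 2) → Cfsg.Geo.IsPlusTypeOn Qf W) := by
  have hfun : Qf = ⇑Q := funext hQf
  subst hfun
  set L := Matrix.toLin' (x : Matrix ι ι F) with hLdef
  let B := QuadraticMap.polarBilin Q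
  have hB : ∀ u v, B u v = B v u := fun u v => QuadraticMap.polar_comm Q u v
  have hL : ∀ u v, B (L u) (L v) = B u v := fun u v => by
    have hQ : ∀ v, Q (L v) = Q v := fun v => by rw [hLdef, Matrix.toLin'_apply]; exact hx v
    simp only [B, QuadraticMap.polarBilin_apply_apply, QuadraticMap.polar, ← map_add, hQ]
  have hnd : NondegOn B W := nondegOn_iff.2 fun w hw hw' => by
    by_contra hne
    obtain ⟨⟨a, ha, ha'⟩, -⟩ := hW w hw hne
    exact ha' (hw' a ha)
  obtain ⟨ν, hle, hsum, heven, hνr⟩ := exists_submultiset h2 hB hL hN hμ0 hr hnd hWx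
  refine ⟨ν, hle, hsum, heven, fun htwo => ?_⟩
  have hN2 : ∀ w ∈ W, ((L - 1 : Module.End F (ι → F)) ^ 2) w = 0 := fun w hw => by
    have h := hνr 2
    rw [rankSeq, Multiset.sum_eq_zero (fun b hb => by
      obtain ⟨e, he, rfl⟩ := Multiset.mem_map.1 hb
      simp [htwo e he])] at h
    have h' := Submodule.mem_map_of_mem (f := (L - 1) ^ 2) hw
    rwa [Submodule.finrank_eq_zero.1 h, Submodule.mem_bot] at h'
  refine ⟨W.map (L - 1), ?_, ?_, ?_⟩
  · rintro _ ⟨w, hw, rfl⟩
    exact W.sub_mem (hWx ⟨w, hw, rfl⟩) hw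
  · rintro _ ⟨w, hw, rfl⟩
    have hzero : B ((L - 1) w) ((L - 1) w) = 0 := by
      have hinv : L (w - (L - 1) w) = w := by
        have h := hN2 w hw
        simp only [pow_two, Module.End.mul_apply, LinearMap.sub_apply, Module.End.one_apply, map_sub] at h ⊢
        linear_combination (norm := abel) -h
      have h1 : B (L w) w = B w (w - (L - 1) w) := by
        conv_lhs => arg 2; rw [← hinv]
        rw [hL]
      simp only [LinearMap.sub_apply, Module.End.one_apply, map_sub, hL] at h1 ⊢
      linear_combination -h1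
    simp only [B, QuadraticMap.polarBilin_apply_apply, QuadraticMap.polar_self, nsmul_eq_mul,
      Nat.cast_ofNat] at hzero
    exact (mul_eq_zero.1 hzero).resolve_left h2
  · have h := hνr 1
    rw [pow_one] at h
    rw [h, rankSeq, ← hsum]
    rw [Multiset.eq_replicate_card.2 htwo]
    simp [mul_comm]

end CfsgLib.Derangements.OrthUnipotent
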