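import Cfsg.Agent.Lib.Derangements.OrthNondegArith
import Cfsg.Agent.Lib.Derangements.OrthNondegCount
import Cfsg.Agent.Lib.Derangements.OrthSingularEven
import Cfsg.Agent.Lib.Derangements.OrthUnipotentTypes
import Cfsg.Agent.Lib.Derangements.OrthNegation

/-!
# When every element of prime order fixes a non-degenerate subspace of a given class
-/

set_option autoImplicit false
set_option linter.unusedSectionVars false

namespace CfsgLib.Derangements.OrthInv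

open Module QuadraticMap CfsgLib.Classical CfsgLib.Derangements.LinElusive CfsgLib.Derangements.NullInv
open scoped Matrix

section Vocabulary

variable {F : Type*} [Field F] {ι : Type} [Fintype ι] [DecidableEq ι] {Qf : (ι → F) → F}

theorem isNondegenerateOn_iff (P : QuadraticForm F (ι → F)) (hQf : ∀ v, Qf v = P v) (W : Submodule F (ι → F)) :
    Cfsg.Geo.IsNondegenerateOn (polar Qf) W ↔ NondegOn (polarBilin P) W := by
  rw [show Qf = ⇑P from funext hQf, nondegOn_iff]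
  constructor
  · intro h x hx hx'
    by_contra h0
    obtain ⟨y, hy, hyx⟩ := (h x hx h0).1
    exact hyx (hx' y hy)
  · intro h x hx h0
    obtain ⟨y, hy, hyx⟩ : ∃ y ∈ W, polar P y x ≠ 0 := by
      by_contra! hall
      exact h0 (h x hx hall)
    exact ⟨⟨y, hy, hyx⟩, y, hy, by rwa [polar_comm]⟩

theorem isPlusTypeOn_iff [Fintype F] (P : QuadraticForm F (ι → F)) (hQf : ∀ v, Qf v = P v)
    (W : Submodule F (ι → F)) : Cfsg.Geo.IsPlusTypeOn Qf W ↔ PlusOn P W := by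
  simp only [Cfsg.Geo.IsPlusTypeOn, Cfsg.Geo.IsTotallySingularQuad, hQf]
  rfl

end Vocabulary

variable {F : Type*} [Field F] [Fintype F] {r : ℕ} [Fact r.Prime]

theorem order_pos (hr : (r : F) ≠ 0) : 0 < orderOf (Fintype.card F : ZMod r) :=
  orderOf_pos_iff.2 (isOfFinOrder_iff_pow_eq_one.2
    ⟨r - 1, by have := (Fact.out : r.Prime).two_le; omega, ZMod.pow_card_sub_one_eq_one (orderOf_card_pos hr)⟩)

theorem exists_half (hr : (r : F) ≠ 0) :
    ∃ h, 0 < h ∧ blockLen (orderOf (Fintype.card F : ZMod r)) = 2 * h ∧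
      ((Even (orderOf (Fintype.card F : ZMod r)) ∧ orderOf (Fintype.card F : ZMod r) = 2 * h) ∨
        (Odd (orderOf (Fintype.card F : ZMod r)) ∧ orderOf (Fintype.card F : ZMod r) = h)) := by
  have hpos := order_pos (r := r) hr
  rcases Nat.even_or_odd (orderOf (Fintype.card F : ZMod r)) with ⟨h, hh⟩ | ho
  · exact ⟨h, by omega, by rw [blockLen, if_pos ⟨h, hh⟩]; omega, Or.inl ⟨⟨h, hh⟩, by omega⟩⟩
  · exact ⟨_, hpos, by rw [blockLen, if_neg (Nat.not_even_iff_odd.2 ho)], Or.inr ⟨ho, rfl⟩⟩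

theorem half_dvd (hr : (r : F) ≠ 0) {h x : ℕ} (hc : blockLen (orderOf (Fintype.card F : ZMod r)) = 2 * h)
    (hx : (Fintype.card F : ZMod r) ^ (2 * x) = 1) : h ∣ x := by
  have h1 := orderOf_dvd_of_pow_eq_one hx
  obtain ⟨h', -, hc', ⟨-, he⟩ | ⟨ho, he⟩⟩ := exists_half (r := r) hr <;>
    obtain rfl : h' = h := by omega
  · rw [he] at h1; exact (Nat.mul_dvd_mul_iff_left two_pos).1 h1
  · rw [he] at h1 ho
    exact (Nat.coprime_two_right.2 ho).dvd_of_dvd_mul_left h1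

theorem neg_one_ne (hr2 : Odd r) : (-1 : ZMod r) ≠ 1 := fun h => by
  have h0 : ((2 : ℕ) : ZMod r) = 0 := by push_cast; linear_combination -h
  rw [ZMod.natCast_eq_zero_iff] at h0
  exact Nat.not_even_iff_odd.2 hr2 ((Nat.prime_dvd_prime_iff_eq Fact.out Nat.prime_two).1 h0 ▸ even_two)

theorem pow_blocks (hr : (r : F) ≠ 0) (hr2 : Odd r) {h K : ℕ}
    (hc : blockLen (orderOf (Fintype.card F : ZMod r)) = 2 * h) :
    ((Fintype.card F : ZMod r) ^ (K * h) = 1 → BlockPlus (orderOf (Fintype.card F : ZMod r)) K) ∧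
      ((Fintype.card F : ZMod r) ^ (K * h) = -1 → ¬ BlockPlus (orderOf (Fintype.card F : ZMod r)) K) := by
  obtain ⟨h', hh, hc', ⟨-, he⟩ | ⟨ho, he⟩⟩ := exists_half (r := r) hr <;> obtain rfl : h' = h := by omega
  · obtain ⟨h1, h3⟩ := pow_eq_one_parity (F := F) (r := r) (e := K * h') he hh
    have hK : ∀ u, K * h' = h' * u → u = K := fun u hu => by
      rw [mul_comm] at hu; exact (Nat.eq_of_mul_eq_mul_left hh hu).symm
    refine ⟨fun e1 => Or.inr ?_, fun e1 hb => ?_⟩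
    · obtain ⟨u, hu, hu2⟩ := h1 e1
      exact hK u hu ▸ Nat.even_iff.2 hu2
    · obtain ⟨u, hu, hu2⟩ := h3 e1 (neg_one_ne hr2)
      obtain rfl := hK u hu
      rcases hb with hb | hb
      · exact Nat.not_even_iff_odd.2 hb (he ▸ even_two_mul h')
      · have := Nat.even_iff.1 hb; omega
  · refine ⟨fun _ => Or.inl ho, fun e1 _ => neg_one_ne hr2 ?_⟩
    rw [← e1, mul_comm, pow_mul, ← he, pow_orderOf_eq_one, one_pow]

section Count

variable {V : Type*} [AddCommGroup V] [Module F V] [FiniteDimensional F V] {Q : QuadraticForm F V}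

theorem type_clash {t e u b0 bK : Prop} (hs : e ↔ (t ↔ u)) (h0 : b0) (hu : u ↔ ¬ bK) :
    ¬ (t ↔ (b0 ↔ (bK ↔ e))) := by
  by_cases ht : t <;> by_cases hb : bK <;> simp_all

theorem top_nondegOn (hN : (polarBilin Q).Nondegenerate) : NondegOn (polarBilin Q) (⊤ : Submodule F V) :=
  nondegOn_iff.2 fun v _ hv => hN.2 v fun w => hv w Submodule.mem_top

theorem map_facts {W₀ : Submodule F V} (hW₀ : NondegOn (polarBilin Q) W₀) (g : Orth.orthGroup Q) :
    finrank F (W₀.map (g.1 : V →ₗ[F] V)) = finrank F W₀ ∧ NondegOn (polarBilin Q) (W₀.map (g.1 : V →ₗ[F] V)) ∧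
      ∀ e, finrank F W₀ = 2 * e → (PlusOn Q (W₀.map (g.1 : V →ₗ[F] V)) ↔ PlusOn Q W₀) := by
  obtain ⟨h1, h2, h3⟩ := range_facts (comp_nondeg hW₀) ((g.1 : V →ₗ[F] V).comp W₀.subtype)
    fun w => Orth.apply_quad g (w : V)
  rw [LinearMap.range_comp, Submodule.range_subtype] at h1 h2 h3
  exact ⟨h2, h1, fun e he => h3.trans (by rw [plusOn_top_iff (by exact he), plusOn_iff he])⟩

theorem orbit_typed (hN : (polarBilin Q).Nondegenerate) {μ : ℕ} (τ : Prop) (hμ : 1 ≤ μ)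
    (hμn : 2 * μ < finrank F V) (h' : (2 : F) ≠ 0 ∨ Even (finrank F V))
    (hr : r ∣ Nat.card {W : Submodule F V //
      finrank F W = 2 * μ ∧ NondegOn (polarBilin Q) W ∧ (PlusOn Q W ↔ τ)}) :
    ∃ W₀ : Submodule F V, NondegOn (polarBilin Q) W₀ ∧ finrank F W₀ = 2 * μ ∧ (PlusOn Q W₀ ↔ τ) ∧
      r * (Nat.card (Orth.orthGroup (Q.comp W₀.subtype)) *
        Nat.card (Orth.orthGroup (Q.comp (perp (polarBilin Q) W₀).subtype))) ∣ Nat.card (Orth.orthGroup Q) := by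
  obtain ⟨W₀, -, hW₀, hW₀d, hW₀t⟩ := exists_sub_typed (top_nondegOn hN) (e := μ) τ (Or.inr hμ)
    (by rwa [finrank_top]) (by rwa [finrank_top])
  refine ⟨W₀, hW₀, hW₀d, hW₀t, mul_dvd_orbit hN hW₀ (fun W hW => ?_) (fun g => ?_) hr⟩
  · exact EvenForms.exists_equiv (comp_nondeg hW₀) (comp_nondeg hW.2.1) hW₀d hW.1
      (by rw [← plusOn_iff hW₀d, ← plusOn_iff hW.1, hW₀t, hW.2.2])
  · obtain ⟨h1, h2, h3⟩ := map_facts hW₀ g
    exact ⟨h1.trans hW₀d, h2, (h3 μ hW₀d).trans hW₀t⟩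

variable (hr : (r : F) ≠ 0) (hr2 : Odd r) (hrq : ¬ r ∣ Fintype.card F) (hN : (polarBilin Q).Nondegenerate)
include hr hr2 hrq hN

theorem count_data_odd (h2 : (2 : F) ≠ 0) {d μ h : ℕ} (hd : finrank F V = 2 * d + 1) (hμ : 1 ≤ μ) (hμd : μ ≤ d)
    (hh : 0 < h) (hc : blockLen (orderOf (Fintype.card F : ZMod r)) = 2 * h) (τ : Prop)
    (hcount : r ∣ Nat.card {W : Submodule F V //
      finrank F W = 2 * μ ∧ NondegOn (polarBilin Q) W ∧ (PlusOn Q W ↔ τ)}) :
    h ≤ d ∧ (μ < h → d % h < μ) := by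
  obtain ⟨W₀, hW₀, hW₀d, -, hdvd⟩ := orbit_typed hN τ hμ (by omega) (Or.inl h2) hcount
  obtain ⟨j, hj, hj'⟩ := count_odd hN h2 hrq (fun h => Nat.not_even_iff_odd.2 hr2 (h ▸ even_two)) hd hμd hW₀ hW₀d hdvd
  obtain ⟨u, hu⟩ := half_dvd hr hc hj'
  refine ⟨(Nat.le_of_dvd (by omega) ⟨u, hu⟩).trans (Nat.sub_le _ _), fun hlt => ?_⟩
  rw [show d = j + h * u by omega, Nat.add_mul_mod_self_left, Nat.mod_eq_of_lt (by omega)]
  exact hj

theorem count_data_even (h' : (2 : F) ≠ 0 ∨ Even (finrank F V)) {d μ h : ℕ} (hd : finrank F V = 2 * d) (hμ : 1 ≤ μ)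
    (hμd : μ < d) (hh : 0 < h) (hc : blockLen (orderOf (Fintype.card F : ZMod r)) = 2 * h) (τ : Prop)
    (hcount : r ∣ Nat.card {W : Submodule F V //
      finrank F W = 2 * μ ∧ NondegOn (polarBilin Q) W ∧ (PlusOn Q W ↔ τ)}) :
    d % h ≠ 0 → h ≤ d ∧ (μ < h → d % h ≤ μ ∧
      (d % h = μ → ¬ (τ ↔ (BlockPlus (orderOf (Fintype.card F : ZMod r)) 0 ↔
        (BlockPlus (orderOf (Fintype.card F : ZMod r)) (d / h) ↔ PlusOn Q ⊤))))) := by
  intro hdh
  obtain ⟨W₀, hW₀, hW₀d, hW₀t, hdvd⟩ := orbit_typed hN τ hμ (by omega) h' hcount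
  have hno : ∀ z, (Fintype.card F : ZMod r) ^ d = z → z * z = 1 → False := fun z hz hzz => hdh
    (Nat.mod_eq_zero_of_dvd (half_dvd hr hc (by rw [two_mul, pow_add, hz, hzz])))
  rcases count_even hN hrq (fun h => Nat.not_even_iff_odd.2 hr2 (h ▸ even_two)) hd hμ hμd hW₀ hW₀d hdvd with
    ⟨hp, hm⟩ | hperp | ⟨j, hj1, hjμ, hj⟩
  · by_cases hV : PlusOn Q ⊤
    · exact (hno 1 (hp hV) (one_mul 1)).elim
    · exact (hno (-1) (hm hV) (by ring)).elim
  · obtain ⟨hp, hm⟩ := hperp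
    have h1 : (Fintype.card F : ZMod r) ^ (2 * (d - μ)) = 1 := by
      rw [two_mul, pow_add]
      by_cases hU : PlusOn Q (perp (polarBilin Q) W₀)
      · rw [hp hU]; ring
      · rw [hm hU]; ring
    obtain ⟨u, hu⟩ := half_dvd hr hc h1
    refine ⟨(Nat.le_of_dvd (by omega) ⟨u, hu⟩).trans (Nat.sub_le _ _), fun hlt => ?_⟩
    have hmod : d % h = μ := by
      rw [show d = μ + h * u by omega, Nat.add_mul_mod_self_left, Nat.mod_eq_of_lt hlt]
    have hK : d / h = u := by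
      rw [show d = μ + h * u by omega, Nat.add_mul_div_left _ _ hh, Nat.div_eq_of_lt hlt, zero_add]
    refine ⟨hmod.le, fun _ => ?_⟩
    obtain ⟨hb1, hb2⟩ := pow_blocks (r := r) (K := u) hr hr2 hc
    rw [mul_comm u h, ← hu] at hb1 hb2
    have hUd := hW₀.finrank_perp
    have hsum := plus_sum_iff hN hW₀.isCompl (fun a ha b hb => mem_perp.1 hb a ha) hW₀
      (nondegOn_perp hN.2 hW₀) ⟨μ, by omega⟩ (by rw [Nat.even_iff]; omega)
    rw [hW₀t] at hsum
    have h0 : BlockPlus (orderOf (Fintype.card F : ZMod r)) 0 := Or.inr Even.zero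
    rw [hK]
    refine type_clash hsum h0 ⟨fun hU => hb2 (hp hU), fun hK' => ?_⟩
    by_contra hU
    exact hK' (hb1 (hm hU))
  · obtain ⟨u, hu⟩ := half_dvd hr hc hj
    refine ⟨(Nat.le_of_dvd (by omega) ⟨u, hu⟩).trans (Nat.sub_le _ _), fun hlt => ?_⟩
    have hmod : d % h = j := by
      rw [show d = j + h * u by omega, Nat.add_mul_mod_self_left, Nat.mod_eq_of_lt (by omega)]
    exact ⟨by omega, fun h' => absurd h' (by omega)⟩

end Count

section Elements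

variable {ι : Type} [Fintype ι] [DecidableEq ι] {Qf : (ι → F) → F}

/-- An element without fixed subspaces of a given type. -/
theorem exists_bad_typed (P : QuadraticForm F (ι → F)) (hQf : ∀ v, Qf v = P v) (hP : (polarBilin P).Nondegenerate)
    (h4 : Orth.Good F (ι → F)) (hr : (r : F) ≠ 0) (hr2 : Odd r) (h' : (2 : F) ≠ 0 ∨ Even (finrank F (ι → F)))
    (m : ℕ) (τ : Prop) (hbad : ¬ ∀ A, 1 ≤ A →
      Valid (finrank F (ι → F)) (orderOf (Fintype.card F : ZMod r)) (PlusOn P ⊤) A →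
      ∃ a, Fit (finrank F (ι → F)) m (orderOf (Fintype.card F : ZMod r)) (PlusOn P ⊤) τ A a) :
    ∃ x : GL ι F, x ∈ Cfsg.Geo.omegaGL Qf ∧ x ^ r = 1 ∧ orderOf x = r ∧
      (∀ z : F, (x : Matrix ι ι F) ≠ z • (1 : Matrix ι ι F)) ∧
      ∀ W : Submodule F (ι → F), finrank F W = m → NondegOn (polarBilin P) W → (PlusOn P W ↔ τ) →
        ¬ W.map (Matrix.toLin' (x : Matrix ι ι F)) ≤ W := by
  push Not at hbad
  obtain ⟨A, hA, hv, hno⟩ := hbad
  obtain ⟨L, hL, hQL, hne, hW⟩ := exists_blocks_witness hr hr2 hP h' (order_pos hr) hA hv m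
  obtain ⟨x, hx, hxL, hxr, hord, hns⟩ := exists_omega P hQf hP h4 hr2 hL hQL hne
  refine ⟨x, hx, hxr, hord, hns, fun W hWd hWn hWt hWi => ?_⟩
  rw [hxL] at hWi
  obtain ⟨a, ha⟩ := hW W hWi hWn hWd
  rw [show PlusOn P W = τ from propext hWt] at ha
  exact hno a ha

theorem unscale (P : QuadraticForm F (ι → F)) (hQf : ∀ v, Qf v = P v) (hr2 : Odd r) {x : GL ι F}
    (hx : x ∈ Cfsg.Geo.omegaGL Qf) {z : F} (hz : ((x ^ r : GL ι F) : Matrix ι ι F) = z • (1 : Matrix ι ι F))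
    (hzz : z * z = 1) :
    (z • Matrix.toLin' (x : Matrix ι ι F)) ^ r = 1 ∧
      (∀ v, P ((z • Matrix.toLin' (x : Matrix ι ι F)) v) = P v) ∧
      ∀ W, Inv (z • Matrix.toLin' (x : Matrix ι ι F)) W → W.map (Matrix.toLin' (x : Matrix ι ι F)) ≤ W := by
  have hQM := isometry_omega P hQf hx
  set M := Matrix.toLin' (x : Matrix ι ι F) with hM
  have hMr : M ^ r = z • (1 : Module.End F (ι → F)) := by
    change Matrix.toLinAlgEquiv' (x : Matrix ι ι F) ^ r = _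
    rw [← map_pow, ← Units.val_pow_eq_pow_val, hz, map_smul, map_one]
  refine ⟨?_, fun v => ?_, fun W hW => Inv.of_mem (L := M) fun w hw => ?_⟩
  · obtain ⟨k, hk⟩ := hr2
    rw [smul_pow, hMr, smul_smul, ← pow_succ, show r + 1 = 2 * (k + 1) by omega, pow_mul, pow_two, hzz, one_pow,
      one_smul]
  · rw [LinearMap.smul_apply, QuadraticMap.map_smul, hQM, smul_eq_mul, hzz, one_mul]
  · have h := W.smul_mem z (hW.mem hw)
    rwa [LinearMap.smul_apply, smul_smul, hzz, one_smul] at h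

/-- A fixed subspace of a given type. -/
theorem fixed_typed (P : QuadraticForm F (ι → F)) (hQf : ∀ v, Qf v = P v) (hP : (polarBilin P).Nondegenerate)
    (hr : (r : F) ≠ 0) (hr2 : Odd r) (h' : (2 : F) ≠ 0 ∨ Even (finrank F (ι → F))) {m : ℕ} (hm : Even m)
    (hm0 : 0 < m) (hmn : m < finrank F (ι → F)) (τ : Prop)
    (hall : ∀ A, 1 ≤ A → Valid (finrank F (ι → F)) (orderOf (Fintype.card F : ZMod r)) (PlusOn P ⊤) A →
      ∃ a, Fit (finrank F (ι → F)) m (orderOf (Fintype.card F : ZMod r)) (PlusOn P ⊤) τ A a)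
    {x : GL ι F} (hx : x ∈ Cfsg.Geo.omegaGL Qf) {z : F}
    (hz : ((x ^ r : GL ι F) : Matrix ι ι F) = z • (1 : Matrix ι ι F)) (hzz : z * z = 1) :
    ∃ W : Submodule F (ι → F), finrank F W = m ∧ NondegOn (polarBilin P) W ∧ (PlusOn P W ↔ τ) ∧
      W.map (Matrix.toLin' (x : Matrix ι ι F)) ≤ W := by
  obtain ⟨hLr, hQL, hinv⟩ := unscale P hQf hr2 hx hz hzz
  obtain ⟨W, h1, h2, h3, h4⟩ := exists_inv_typed hr hr2 hP hQL hLr h' hm τ fun A hA => by
    rcases Nat.eq_zero_or_pos A with rfl | hA0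
    · refine ⟨0, le_rfl, by simp, by simp only [Nat.zero_mul, Nat.sub_zero, Nat.add_zero]; omega, fun h0 => ?_, fun _ h0 => ?_⟩ <;>
        · simp only [Nat.zero_mul, Nat.sub_zero, Nat.add_zero] at h0; omega
    · exact hall A hA0 hA
  exact ⟨W, h1, h2, h3, hinv W h4⟩

/-- The criterion for elements of odd order in odd dimension. -/
theorem typed_odd_iff (P : QuadraticForm F (ι → F)) (hQf : ∀ v, Qf v = P v) (hP : (polarBilin P).Nondegenerate)
    (hr : (r : F) ≠ 0) (hr2 : Odd r) (hrq : ¬ r ∣ Fintype.card F) (h2 : (2 : F) ≠ 0) {d μ h : ℕ}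
    (hd : finrank F (ι → F) = 2 * d + 1) (hμ : 1 ≤ μ) (hμd : μ ≤ d) (hh : 0 < h)
    (hc : blockLen (orderOf (Fintype.card F : ZMod r)) = 2 * h) (τ : Prop)
    (hcount : r ∣ Nat.card {W : Submodule F (ι → F) //
      finrank F W = 2 * μ ∧ NondegOn (polarBilin P) W ∧ (PlusOn P W ↔ τ)}) :
    (∀ x : GL ι F, x ∈ Cfsg.Geo.omegaGL Qf → orderOf x = r →
      ∃ W : Submodule F (ι → F), (finrank F W = 2 * μ ∧ NondegOn (polarBilin P) W ∧ (PlusOn P W ↔ τ)) ∧
        W.map (Matrix.toLin' (x : Matrix ι ι F)) ≤ W) ↔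
    (h ≤ μ ∧ μ % h ≤ d % h ∧ (μ % h = 0 → (τ ↔ BlockPlus (orderOf (Fintype.card F : ZMod r)) (μ / h)))) := by
  rw [← all_fit_odd_iff (ε := PlusOn P ⊤) hh hc hμ hμd
    (count_data_odd hr hr2 hrq hP h2 hd hμ hμd hh hc τ hcount), ← hd]
  constructor
  · intro hall
    by_contra hbad
    obtain ⟨x, hx, -, hord, -, hW⟩ := exists_bad_typed P hQf hP (Orth.good_of_two_ne h2) hr hr2 (Or.inl h2) _ τ hbad
    obtain ⟨W, ⟨a, b, c⟩, hWi⟩ := hall x hx hord
    exact hW W a b c hWi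
  · intro hall x hx hord
    obtain ⟨W, a, b, c, e⟩ := fixed_typed P hQf hP hr hr2 (Or.inl h2) (even_two_mul μ) (by omega) (by omega) τ hall hx
      (z := 1) (by rw [← hord, pow_orderOf_eq_one, Units.val_one, one_smul]) (one_mul 1)
    exact ⟨W, ⟨a, b, c⟩, e⟩

/-- An involution fixes subspaces of every class of smaller dimension. -/
theorem fixed_involution (P : QuadraticForm F (ι → F)) (hP : (polarBilin P).Nondegenerate) (h2 : (2 : F) ≠ 0)
    {L : Module.End F (ι → F)} (hQL : ∀ v, P (L v) = P v) (hL : ∀ v, L (L v) = v) {e : ℕ} (he : 1 ≤ e)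
    (hen : 2 * e < finrank F (ι → F)) (τ : Prop) :
    ∃ W : Submodule F (ι → F), (finrank F W = 2 * e ∧ NondegOn (polarBilin P) W ∧ (PlusOn P W ↔ τ)) ∧ Inv L W := by
  obtain ⟨R, hR, hτ⟩ := exists_typed_model (F := F) e τ (Or.inr he)
  obtain ⟨hcompl, horth, hXn, hCn⟩ := involution_facts hP h2 hQL hL
  have hdim := Submodule.finrank_add_eq_of_isCompl hcompl
  have hd : finrank F (Fin e ⊕ Fin e → F) = 2 * e := by simp [two_mul]
  obtain ⟨T, A, B, hA, hB, hT, hrange⟩ := exists_split_embed hXn hCn horth h2 hR (by omega) (by omega)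
  obtain ⟨h1, h3, h4⟩ := range_facts hR T hT
  exact ⟨_, ⟨h3.trans hd, h1, h4.trans hτ⟩, hrange ▸ (inv_of_eigen hA).sup (inv_of_eigen hB)⟩

end Elements

end CfsgLib.Derangements.OrthInv
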