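import Cfsg.Agent.Lib.Orth.WittIndex
import Cfsg.Agent.Lib.Orth.Isometry
import Cfsg.Agent.Lib.Classical.OrthCount
import Cfsg.Agent.Lib.Classical.SympBasic

/-!
# Quadratic forms in characteristic two invariant under a map of prime order
-/

set_option autoImplicit false
set_option linter.unusedSectionVars false

namespace CfsgLib.Derangements.EvenForms

open Module QuadraticMap CfsgLib.Orth CfsgLib.Classical

variable {F : Type*} [Field F] [Fintype F]
variable {V : Type*} [AddCommGroup V] [Module F V] [FiniteDimensional F V]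
variable {V' : Type*} [AddCommGroup V'] [Module F V'] [FiniteDimensional F V']

/-- A totally singular subspace of dimension `d`. -/
def Plus (Q : QuadraticForm F V) (d : ℕ) : Prop :=
  ∃ U : Submodule F V, (∀ u ∈ U, Q u = 0) ∧ finrank F U = d

theorem plus_congr {Q : QuadraticForm F V} {Q' : QuadraticForm F V'} (e : V ≃ₗ[F] V')
    (he : ∀ v, Q' (e v) = Q v) {d : ℕ} (h : Plus Q d) : Plus Q' d := by
  obtain ⟨U, hU, hUd⟩ := h
  refine ⟨U.map (e : V →ₗ[F] V'), ?_, by rw [LinearEquiv.finrank_map_eq, hUd]⟩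
  rintro _ ⟨u, hu, rfl⟩
  exact (he u).trans (hU u hu)

theorem plus_plusForm (d : ℕ) : Plus (plusForm F d) d := by
  let f : (Fin d → F) →ₗ[F] (Fin d ⊕ Fin d → F) :=
    LinearMap.pi fun s => Sum.elim (fun i => LinearMap.proj i) (fun _ => 0) s
  refine ⟨LinearMap.range f, ?_, ?_⟩
  · rintro _ ⟨v, rfl⟩
    rw [← plusForm_apply]
    simp [Cfsg.quadFormPlus, f]
  · rw [LinearMap.finrank_range_of_inj fun a b h => funext fun i => by simpa [f] using congrFun h (Sum.inl i),
      finrank_fin_fun]

theorem not_plus_minusForm {k : ℕ} {a b : F}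
    (hab : ∀ z₁ z₂ : F, z₁ ^ 2 + a * z₁ * z₂ + b * z₂ ^ 2 = 0 → z₁ = 0 ∧ z₂ = 0) :
    ¬ Plus (minusForm F k a b) (k + 1) := by
  rintro ⟨U, hU, hUd⟩
  have := minus_singular_finrank_le hab U hU
  omega

/-- The two types of forms. -/
theorem dichotomy {Q : QuadraticForm F V} (hQ : (polarBilin Q).Nondegenerate) {d : ℕ}
    (hV : finrank F V = 2 * d) :
    (Plus Q d ∧ ∃ e : (Fin d ⊕ Fin d → F) ≃ₗ[F] V, ∀ v, Q (e v) = plusForm F d v) ∨
    (¬ Plus Q d ∧ 1 ≤ d ∧ ∃ (e : ((Fin (d - 1) ⊕ Fin (d - 1)) ⊕ Fin 2 → F) ≃ₗ[F] V) (ζ : F),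
      (∀ t : F, t ^ 2 + t + ζ ≠ 0) ∧ ∀ v, Q (e v) = minusForm F (d - 1) 1 ζ v) := by
  rcases classify_even hQ hV with ⟨e, he⟩ | ⟨hd, e, ζ, hζ, he⟩
  · exact Or.inl ⟨plus_congr e he (plus_plusForm d), e, he⟩
  · refine Or.inr ⟨fun hp => ?_, hd, e, ζ, hζ, he⟩
    have h := plus_congr (Q' := minusForm F (d - 1) 1 ζ) e.symm
      (fun v => by rw [← he, e.apply_symm_apply]) hp
    rw [show d = d - 1 + 1 by omega, show d - 1 + 1 - 1 = d - 1 by omega] at h
    exact not_plus_minusForm (anisotropic_of_no_root hζ) h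

/-- Forms of the same type are isometric. -/
theorem exists_equiv {Q : QuadraticForm F V} {Q' : QuadraticForm F V'} (hQ : (polarBilin Q).Nondegenerate)
    (hQ' : (polarBilin Q').Nondegenerate) {d : ℕ} (hV : finrank F V = 2 * d) (hV' : finrank F V' = 2 * d)
    (h : Plus Q d ↔ Plus Q' d) : ∃ e : V ≃ₗ[F] V', ∀ v, Q' (e v) = Q v := by
  rcases dichotomy hQ hV with ⟨hp, e, he⟩ | ⟨hp, -, e, ζ, hζ, he⟩ <;>
    rcases dichotomy hQ' hV' with ⟨hp', e', he'⟩ | ⟨hp', -, e', ζ', hζ', he'⟩
  · exact ⟨e.symm.trans e', fun v => by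
      rw [LinearEquiv.trans_apply, he', ← he, e.apply_symm_apply]⟩
  · exact absurd (h.1 hp) hp'
  · exact absurd (h.2 hp') hp
  · obtain ⟨g, hg⟩ := exists_minus_iso (m := d - 1) hζ' hζ
    exact ⟨(e.symm.trans g).trans e', fun v => by
      rw [LinearEquiv.trans_apply, LinearEquiv.trans_apply, he', hg, ← he, e.apply_symm_apply]⟩

/-- The zero count of a form. -/
theorem zeroCount_eq {Q : QuadraticForm F V} (hQ : (polarBilin Q).Nondegenerate) {q : ℕ}
    (hq : Fintype.card F = q) {d : ℕ} (hd : 1 ≤ d) (hV : finrank F V = 2 * d) :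
    (Plus Q d → (zeroCount Q : ℤ) - 1 = ((q : ℤ) ^ d - 1) * ((q : ℤ) ^ (d - 1) + 1)) ∧
    (¬ Plus Q d → (zeroCount Q : ℤ) - 1 = ((q : ℤ) ^ d + 1) * ((q : ℤ) ^ (d - 1) - 1)) := by
  obtain ⟨k, rfl⟩ : ∃ k, d = k + 1 := ⟨d - 1, by omega⟩
  simp only [Nat.add_sub_cancel]
  rcases dichotomy hQ hV with ⟨hp, e, he⟩ | ⟨hp, -, h⟩
  · refine ⟨fun _ => ?_, fun h => absurd hp h⟩
    rw [← zeroCount_congr e he]
    have h1 := zeroCount_plus hq (k + 1)
    have hq0 : (q : ℤ) ≠ 0 := by
      have := Fintype.one_lt_card (α := F)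
      omega
    apply mul_left_cancel₀ hq0
    rw [mul_sub, h1]
    ring
  · refine ⟨fun h => absurd h hp, fun _ => ?_⟩
    obtain ⟨e, ζ, hζ, he⟩ := h
    rw [← zeroCount_congr e he, zeroCount_minus hq _ _ (anisotropic_of_no_root hζ), Nat.add_sub_cancel]
    ring

theorem zeroCount_ne {Q : QuadraticForm F V} (hQ : (polarBilin Q).Nondegenerate) {d : ℕ} (hd : 1 ≤ d)
    (hV : finrank F V = 2 * d) : zeroCount Q * Fintype.card F ≠ Fintype.card F ^ (2 * d) := by
  intro h
  obtain ⟨h1, h2⟩ := zeroCount_eq hQ rfl hd hV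
  obtain ⟨k, rfl⟩ : ∃ k, d = k + 1 := ⟨d - 1, by omega⟩
  simp only [Nat.add_sub_cancel] at h1 h2
  have h0 : (zeroCount Q : ℤ) * (Fintype.card F : ℤ) = (Fintype.card F : ℤ) ^ (2 * (k + 1)) := by exact_mod_cast h
  have hq : (2 : ℤ) ≤ (Fintype.card F : ℤ) := by exact_mod_cast Fintype.one_lt_card (α := F)
  have hpos : 0 < (Fintype.card F : ℤ) ^ (k + 1) := by positivity
  by_cases hp : Plus Q (k + 1)
  · have h4 : ((Fintype.card F : ℤ) ^ (k + 1)) * ((Fintype.card F : ℤ) - 1) = 0 := by
      linear_combination h0 - (Fintype.card F : ℤ) * h1 hp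
    rcases mul_eq_zero.1 h4 with h5 | h5 <;> omega
  · have h4 : ((Fintype.card F : ℤ) ^ (k + 1)) * ((Fintype.card F : ℤ) - 1) = 0 := by
      linear_combination (Fintype.card F : ℤ) * h2 hp - h0
    rcases mul_eq_zero.1 h4 with h5 | h5 <;> omega

/-- A linear map of prime order without fixed points permutes the non-zero singular vectors freely. -/
theorem dvd_zeroCount_sub_one {r : ℕ} [Fact r.Prime] {L : Module.End F V} (hL : L ^ r = 1)
    (hfix : ∀ v, L v = v → v = 0) {Q : QuadraticForm F V} (hQL : ∀ v, Q (L v) = Q v) :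
    (r : ℤ) ∣ (zeroCount Q : ℤ) - 1 := by
  classical
  haveI : Finite V := Module.finite_of_finite F
  haveI : Fintype {v : V // Q v = 0} := Fintype.ofFinite _
  have hpow : ∀ (j : ℕ) (v : V), Q ((L ^ j) v) = Q v := fun j v => by
    induction j with
    | zero => simp
    | succ j ih => rw [pow_succ', Module.End.mul_apply, hQL, ih]
  have hr1 : r - 1 + 1 = r := Nat.sub_add_cancel (Fact.out : r.Prime).one_le
  let e : Equiv.Perm {v : V // Q v = 0} := ⟨fun v => ⟨L v, by rw [hQL, v.2]⟩,
    fun v => ⟨(L ^ (r - 1)) v, by rw [hpow, v.2]⟩,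
    fun v => Subtype.ext (by
      show (L ^ (r - 1)) (L v.1) = v.1
      rw [← Module.End.mul_apply, ← pow_succ, hr1, hL, Module.End.one_apply]),
    fun v => Subtype.ext (by
      show L ((L ^ (r - 1)) v.1) = v.1
      rw [← Module.End.mul_apply, ← pow_succ', hr1, hL, Module.End.one_apply])⟩
  have he : e ^ r ^ 1 = 1 := by
    rw [pow_one]
    have h1 : ∀ (j : ℕ) (v : {v : V // Q v = 0}), ((e ^ j) v).1 = (L ^ j) v.1 := fun j v => by
      induction j with
      | zero => rfl
      | succ j ih => rw [pow_succ', pow_succ', Equiv.Perm.mul_apply, Module.End.mul_apply, ← ih]; rfl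
    exact Equiv.ext fun v => Subtype.ext (by rw [h1, hL]; rfl)
  have hcard := Equiv.Perm.card_compl_support_modEq (σ := e) he
  have h1 : e.supportᶜ = {⟨0, QuadraticMap.map_zero Q⟩} := by
    ext u
    simp only [Finset.mem_compl, Equiv.Perm.mem_support, not_not, Finset.mem_singleton]
    refine ⟨fun h => Subtype.ext (hfix u.1 (congrArg Subtype.val h)), fun h => ?_⟩
    subst h
    exact Subtype.ext (map_zero L)
  rw [h1, Finset.card_singleton, ← Nat.card_eq_fintype_card] at hcard
  have := Nat.modEq_iff_dvd.1 hcard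
  simpa [zeroCount] using this

variable [CharP F 2]

theorem add_self' (a : F) : a + a = 0 := CharTwo.add_self_eq_zero a

theorem exists_sqrt (a : F) : ∃ c : F, c ^ 2 = a := by
  obtain ⟨s, hs⟩ := FiniteField.isSquare_of_char_two (ringChar.eq F 2) a
  exact ⟨s, by rw [hs]; ring⟩

theorem sq_inj {a b : F} (h : a ^ 2 = b ^ 2) : a = b := CharTwo.sq_injective h

variable (F) in
/-- `t ↦ t² + t`. -/
noncomputable def asMap : F →+ F where
  toFun t := t ^ 2 + t
  map_zero' := by simp
  map_add' a b := by rw [CharTwo.add_sq]; ring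

/-- The values `t² + t`. -/
def AS (a : F) : Prop := a ∈ (asMap F).range

theorem as_iff {a : F} : AS a ↔ ∃ t, t ^ 2 + t = a := Iff.rfl

theorem card_AS : 2 * Nat.card {a : F // AS a} = Fintype.card F := by
  have h1 : (asMap F).ker.carrier = {0, 1} := by
    ext t
    constructor
    · intro h
      have h' : t * (t + 1) = 0 := by
        have : t ^ 2 + t = 0 := h
        linear_combination this
      rcases mul_eq_zero.1 h' with h'' | h''
      · exact Or.inl h''
      · exact Or.inr (CharTwo.add_eq_zero.1 h'')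
    · rintro (rfl | rfl)
      · exact (asMap F).map_zero
      · show (1 : F) ^ 2 + 1 = 0
        rw [one_pow, add_self']
  have h2 : Nat.card (asMap F).ker = 2 := by
    show Nat.card ↥(asMap F).ker.carrier = 2
    rw [h1, Nat.card_coe_set_eq, Set.ncard_pair zero_ne_one]
  rw [← Nat.card_eq_fintype_card, AddSubgroup.card_eq_card_quotient_mul_card_addSubgroup (asMap F).ker, h2,
    Nat.card_congr (QuotientAddGroup.quotientKerEquivRange (asMap F)).toEquiv, mul_comm]
  rfl

theorem as_index : (asMap F).range.index = 2 := by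
  have h := (asMap F).range.card_mul_index
  have h2 := card_AS (F := F)
  rw [← Nat.card_eq_fintype_card] at h2
  have hpos : 0 < Nat.card (asMap F).range := Nat.card_pos
  refine Nat.eq_of_mul_eq_mul_left hpos (h.trans ?_)
  rw [← h2, mul_comm]
  rfl

theorem as_add_iff {a b : F} : AS (a + b) ↔ (AS a ↔ AS b) := AddSubgroup.add_mem_iff_of_index_two as_index

theorem exists_not_AS : ∃ a : F, ¬ AS a := by
  by_contra h
  push Not at h
  have h1 : (asMap F).range = ⊤ := eq_top_iff.2 fun a _ => h a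
  have h2 := as_index (F := F)
  rw [h1, AddSubgroup.index_top] at h2
  omega

/-- Adding the square of a linear form. -/
noncomputable def twist (Q : QuadraticForm F V) (w : V) : QuadraticForm F V :=
  Q + linMulLin ((polarBilin Q).flip w) ((polarBilin Q).flip w)

theorem twist_apply (Q : QuadraticForm F V) (w v : V) : twist Q w v = Q v + polar Q v w ^ 2 := by
  simp [twist, pow_two]

theorem polar_twist (Q : QuadraticForm F V) (w u v : V) : polar (twist Q w) u v = polar Q u v := by
  show twist Q w (u + v) - twist Q w u - twist Q w v = Q (u + v) - Q u - Q v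
  rw [twist_apply, twist_apply, twist_apply, polar_add_left, CharTwo.add_sq]
  ring

theorem twist_nondeg {Q : QuadraticForm F V} (hQ : (polarBilin Q).Nondegenerate) (w : V) :
    (polarBilin (twist Q w)).Nondegenerate := by
  have h : polarBilin (twist Q w) = polarBilin Q := by
    ext u v
    simp [polarBilin_apply_apply, polar_twist]
  rwa [h]

theorem card_fiber (Q : QuadraticForm F V) {a : F} (ha : a ≠ 0) :
    Nat.card {v : V // Q v = a} = Nat.card {v : V // Q v = 1} := by
  obtain ⟨c, hc⟩ := exists_sqrt a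
  have hc0 : c ≠ 0 := fun h => ha (by rw [← hc, h]; ring)
  refine Nat.card_congr
    { toFun := fun v => ⟨c⁻¹ • v.1, ?_⟩
      invFun := fun v => ⟨c • v.1, ?_⟩
      left_inv := fun v => Subtype.ext (by simp [smul_smul, hc0])
      right_inv := fun v => Subtype.ext (by simp [smul_smul, hc0]) }
  · rw [QuadraticMap.map_smul, v.2, smul_eq_mul, ← hc]
    field_simp
  · rw [QuadraticMap.map_smul, v.2, smul_eq_mul, ← hc]
    ring

theorem card_zero_add_fibers (Q : QuadraticForm F V) :
    zeroCount Q + (Fintype.card F - 1) * Nat.card {v : V // Q v = 1} = Nat.card V := by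
  classical
  haveI : Finite V := Module.finite_of_finite F
  haveI := Fintype.ofFinite V
  rw [← Nat.card_congr (Equiv.sigmaFiberEquiv Q), Nat.card_sigma,
    ← Finset.add_sum_erase _ _ (Finset.mem_univ (0 : F)),
    Finset.sum_const_nat fun a ha => card_fiber Q (Finset.ne_of_mem_erase ha),
    Finset.card_erase_of_mem (Finset.mem_univ _), Finset.card_univ]
  rfl

theorem card_as_values (Q : QuadraticForm F V) :
    Nat.card {v : V // AS (Q v)} = zeroCount Q + (Nat.card {a : F // AS a} - 1) * Nat.card {v : V // Q v = 1} := by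
  classical
  haveI : Finite V := Module.finite_of_finite F
  haveI := Fintype.ofFinite V
  let e : {v : V // AS (Q v)} ≃ Σ a : {a : F // AS a}, {v : V // Q v = a.1} :=
    { toFun := fun v => ⟨⟨Q v.1, v.2⟩, v.1, rfl⟩
      invFun := fun x => ⟨x.2.1, x.2.2.symm ▸ x.1.2⟩
      left_inv := fun v => rfl
      right_inv := by
        rintro ⟨⟨a, ha⟩, v, hv⟩
        simp only at hv
        subst hv
        rfl }
  haveI := Fintype.ofFinite {a : F // AS a}
  rw [Nat.card_congr e, Nat.card_sigma,
    ← Finset.add_sum_erase _ _ (Finset.mem_univ (⟨0, (asMap F).range.zero_mem⟩ : {a : F // AS a})),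
    Finset.sum_const_nat fun a ha => card_fiber Q fun h => Finset.ne_of_mem_erase ha (Subtype.ext h),
    Finset.card_erase_of_mem (Finset.mem_univ _), Finset.card_univ, Nat.card_eq_fintype_card (α := {a : F // AS a})]
  rfl

theorem two_mul_ne (Q : QuadraticForm F V) (hQ : (polarBilin Q).Nondegenerate) {d : ℕ} (hd : 1 ≤ d)
    (hV : finrank F V = 2 * d) : 2 * Nat.card {v : V // AS (Q v)} ≠ Nat.card V := by
  haveI : Finite V := Module.finite_of_finite F
  intro h
  have hcard : Nat.card V = Fintype.card F ^ (2 * d) := by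
    rw [Module.natCard_eq_pow_finrank (K := F), hV, Nat.card_eq_fintype_card]
  have h1 := card_zero_add_fibers Q
  have h2 := card_as_values Q
  have h3 := card_AS (F := F)
  have hq := Fintype.one_lt_card (α := F)
  set N := Nat.card {v : V // Q v = 1}
  set K := Nat.card {a : F // AS a}
  obtain ⟨K', hK'⟩ : ∃ K', K = K' + 1 := ⟨K - 1, by omega⟩
  rw [hK'] at h2 h3
  rw [← h3] at h1
  rw [Nat.add_sub_cancel] at h2
  rw [show 2 * (K' + 1) - 1 = 2 * K' + 1 by omega] at h1
  have h4 : zeroCount Q = N := by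
    rw [h2, ← h1] at h
    linarith
  refine zeroCount_ne hQ hd hV ?_
  rw [← hcard, ← h1, ← h3, h4]
  ring

/-- Adding the square of a form with value outside `t² + t` changes the type. -/
theorem plus_twist_iff {Q : QuadraticForm F V} (hQ : (polarBilin Q).Nondegenerate) {d : ℕ} (hd : 1 ≤ d)
    (hV : finrank F V = 2 * d) {w : V} (hw : ¬ AS (Q w)) : Plus (twist Q w) d ↔ ¬ Plus Q d := by
  haveI : Finite V := Module.finite_of_finite F
  have key : ¬ (Plus (twist Q w) d ↔ Plus Q d) := fun h => by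
    obtain ⟨e, he⟩ := exists_equiv (twist_nondeg hQ w) hQ hV hV h
    have h1 : Nat.card {v : V // AS (twist Q w v)} = Nat.card {v : V // AS (Q v)} :=
      Nat.card_congr (e.toEquiv.subtypeEquiv fun v => by rw [LinearEquiv.coe_toEquiv, he])
    have h2 : Nat.card {v : V // AS (twist Q w v)} = Nat.card {v : V // ¬ AS (Q v)} := by
      refine Nat.card_congr ((Equiv.addRight w).subtypeEquiv fun v => ?_)
      have h3 : twist Q w v = (Q (v + w) + Q w) + (polar Q v w ^ 2 + polar Q v w) := by
        rw [twist_apply, polar]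
        linear_combination (-(Q (v + w)) + Q v) * (CharTwo.two_eq_zero (R := F))
      have h4 : AS (polar Q v w ^ 2 + polar Q v w) := ⟨polar Q v w, rfl⟩
      show AS (twist Q w v) ↔ ¬ AS (Q (v + w))
      rw [h3, as_add_iff, as_add_iff]
      tauto
    classical
    haveI := Fintype.ofFinite V
    have h5 : Nat.card {v : V // AS (Q v)} + Nat.card {v : V // ¬ AS (Q v)} = Nat.card V := by
      rw [← Nat.card_sum, Nat.card_congr (Equiv.sumCompl fun v : V => AS (Q v))]
    refine two_mul_ne Q hQ hd hV ?_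
    omega
  tauto

/-- An average over a group of odd order. -/
theorem exists_invariant {r : ℕ} (hr : Odd r) {L : Module.End F V} (hL : L ^ r = 1) (Q₀ : QuadraticForm F V)
    (hpol : ∀ u v, polar Q₀ (L u) (L v) = polar Q₀ u v) :
    ∃ Q : QuadraticForm F V, (∀ u v, polar Q u v = polar Q₀ u v) ∧ ∀ v, Q (L v) = Q v := by
  refine ⟨∑ j ∈ Finset.range r, Q₀.comp (L ^ j), fun u v => ?_, fun v => ?_⟩
  · have hpow : ∀ j : ℕ, polar Q₀ ((L ^ j) u) ((L ^ j) v) = polar Q₀ u v := fun j => by
      induction j with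
      | zero => rfl
      | succ j ih => rw [pow_succ', Module.End.mul_apply, Module.End.mul_apply, hpol, ih]
    simp only [polar, _root_.sum_apply, QuadraticMap.comp_apply, map_add, ← Finset.sum_sub_distrib]
    rw [Finset.sum_congr rfl (fun j _ => (show Q₀ ((L ^ j) u + (L ^ j) v) - Q₀ ((L ^ j) u) - Q₀ ((L ^ j) v) = polar Q₀ u v from hpow j)), Finset.sum_const, Finset.card_range, nsmul_eq_mul]
    obtain ⟨k, rfl⟩ := hr
    push_cast
    rw [CharTwo.two_eq_zero, zero_mul, zero_add, one_mul]
    rfl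
  · simp only [_root_.sum_apply, QuadraticMap.comp_apply, ← Module.End.mul_apply, ← pow_succ]
    obtain ⟨s, rfl⟩ : ∃ s, r = s + 1 := ⟨r - 1, by have := hr.pos; omega⟩
    rw [Finset.sum_range_succ (fun j => Q₀ ((L ^ (j + 1)) v)), Finset.sum_range_succ' (fun j => Q₀ ((L ^ j) v)), hL,
      pow_zero]

section Involution

variable {L : Module.End F V}

theorem two_smul_zero (K : Type*) [Field K] [CharP K 2] {W : Type*} [AddCommGroup W] [Module K W] (v : W) :
    v + v = 0 := by
  rw [← two_smul K v, CharTwo.two_eq_zero, zero_smul]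

/-- If all fixed vectors of an isometry of order at most two are singular, the form is of plus type and `d` is
even. -/
theorem singular_fixed {Q : QuadraticForm F V} (hQ : (polarBilin Q).Nondegenerate) {d : ℕ}
    (hV : finrank F V = 2 * d) (hL : ∀ v, L (L v) = v) (hQL : ∀ v, Q (L v) = Q v)
    (hfix : ∀ v, L v = v → Q v = 0) : Plus Q d ∧ Even d := by
  let N : Module.End F V := L + 1
  have hN : ∀ v, N v = L v + v := fun v => rfl
  have hNN : ∀ v, L (N v) = N v := fun v => by rw [hN, map_add, hL, add_comm]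
  have hker : ∀ v ∈ LinearMap.ker N, Q v = 0 := fun v hv => by
    refine hfix v ?_
    rw [LinearMap.mem_ker, hN] at hv
    calc L v = L v + (v + v) := by rw [two_smul_zero F, add_zero]
      _ = v := by rw [← add_assoc, hv, zero_add]
  have hrk : LinearMap.range N ≤ LinearMap.ker N := by
    rintro _ ⟨v, rfl⟩
    rw [LinearMap.mem_ker, hN (N v), hNN, two_smul_zero F]
  have h1 := singular_finrank_le hQ _ hker
  have h2 := Submodule.finrank_mono hrk
  have h3 := LinearMap.finrank_range_add_finrank_ker N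
  have hkd : finrank F (LinearMap.ker N) = d := by omega
  refine ⟨⟨_, hker, hkd⟩, ?_⟩
  obtain ⟨C, hC⟩ := exists_isCompl (LinearMap.ker N)
  let β : C →ₗ[F] C →ₗ[F] F := (polarBilin Q).compl₁₂ C.subtype (N.comp C.subtype)
  have hβ : ∀ u v : C, β u v = polar Q (u : V) (N (v : V)) := fun u v => rfl
  have hA : β.IsAlt := fun v => by
    have h0 : Q (N (v : V)) = 0 := hfix _ (hNN _)
    rw [hN, QuadraticMap.map_add Q, hQL, add_self', zero_add] at h0
    rw [hβ, hN, polar_add_right, polar_self, polar_comm, h0]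
    simp [CharTwo.two_eq_zero]
  have hself : ∀ u v : V, polar Q u (N v) = polar Q (N u) v := fun u v => by
    have h4 : polar Q u (L v) = polar Q (L u) v := by
      conv_lhs => rw [← hL u]
      simp only [polar, ← map_add, hQL]
    rw [hN, hN, polar_add_right, polar_add_left, h4]
  have hsep : β.SeparatingLeft := fun u hu => by
    have h4 : ∀ v : V, polar Q (N (u : V)) v = 0 := fun v => by
      obtain ⟨k, hk, c, hc, rfl⟩ := Submodule.mem_sup.1 (hC.sup_eq_top ▸ Submodule.mem_top (x := v))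
      rw [← hself, map_add, LinearMap.mem_ker.1 hk, zero_add]
      exact hu ⟨c, hc⟩
    have h5 : (u : V) ∈ LinearMap.ker N := LinearMap.mem_ker.2 (hQ.1 _ h4)
    exact Subtype.ext (Submodule.disjoint_def.1 hC.disjoint _ h5 u.2)
  have hN' : β.Nondegenerate := ⟨hsep, fun v hv => hsep v fun u => by
    rw [alt_swap hA, hv u, neg_zero]⟩
  obtain ⟨m, b, hb⟩ := exists_sympBasis hA hN'
  have h6 : finrank F C = m + m := by rw [Module.finrank_eq_card_basis b]; simp
  have h7 := Submodule.finrank_add_eq_of_isCompl hC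
  exact ⟨m, by omega⟩

/-- A map of order two preserving the polar of a form preserves forms of plus type, and of minus type for odd `d`. -/
theorem exists_invariant_types {Q₀ : QuadraticForm F V} (hQ : (polarBilin Q₀).Nondegenerate) {d : ℕ} (hd : 1 ≤ d)
    (hV : finrank F V = 2 * d) (hL : ∀ v, L (L v) = v) (hpol : ∀ u v, polar Q₀ (L u) (L v) = polar Q₀ u v) :
    (∃ Q : QuadraticForm F V, (∀ u v, polar Q u v = polar Q₀ u v) ∧ Plus Q d ∧ ∀ v, Q (L v) = Q v) ∧
    (Odd d → ∃ Q : QuadraticForm F V, (∀ u v, polar Q u v = polar Q₀ u v) ∧ ¬ Plus Q d ∧ ∀ v, Q (L v) = Q v) := by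
  let N : Module.End F V := L + 1
  have hN : ∀ v, N v = L v + v := fun v => rfl
  have hself : ∀ u v : V, polar Q₀ u (N v) = polar Q₀ (N u) v := fun u v => by
    have h4 : polar Q₀ u (L v) = polar Q₀ (L u) v := by
      conv_lhs => rw [← hL u]
      rw [hpol]
    rw [hN, hN, polar_add_right, polar_add_left, h4]
  have hNN : ∀ v, N (N v) = 0 := fun v => by
    rw [hN (N v), hN, map_add, hL, add_comm v (L v), two_smul_zero F]
  have hLN : ∀ v, L v = v + N v := fun v => by
    rw [hN, ← add_assoc, add_comm v (L v), add_assoc, two_smul_zero F, add_zero]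
  let D : V → F := fun v => Q₀ (N v) + polar Q₀ v (N v)
  have hDadd : ∀ u v, D (u + v) = D u + D v := fun u v => by
    simp only [D, map_add, QuadraticMap.map_add Q₀ (N u), polar_add_left, polar_add_right]
    rw [← hself u (N v), hNN, polar_zero_right, hself v u, polar_comm (⇑Q₀) (N v) u]
    linear_combination polar Q₀ u (N v) * (CharTwo.two_eq_zero (R := F))
  have hDsmul : ∀ (c : F) v, D (c • v) = c ^ 2 * D v := fun c v => by
    simp only [D, map_smul, QuadraticMap.map_smul, polar_smul_left, polar_smul_right, smul_eq_mul]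
    ring
  choose s hs using fun v => exists_sqrt (D v)
  let φ : V →ₗ[F] F :=
    { toFun := s
      map_add' := fun u v => sq_inj (by rw [hs, hDadd, CharTwo.add_sq, hs, hs])
      map_smul' := fun c v => sq_inj (by rw [hs, hDsmul, RingHom.id_apply, smul_eq_mul, mul_pow, hs]) }
  let Φ : V →ₗ[F] Dual F V := (polarBilin Q₀).flip
  have hΦ : ∀ w v, Φ w v = polar Q₀ v w := fun w v => rfl
  have hΦinj : Function.Injective Φ := (injective_iff_map_eq_zero _).2 fun w hw => hQ.2 w fun v => by
    rw [polarBilin_apply_apply, ← hΦ, hw, LinearMap.zero_apply]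
  have hmap : (LinearMap.range N).map Φ = (LinearMap.ker N).dualAnnihilator := by
    refine Submodule.eq_of_le_of_finrank_eq ?_ ?_
    · rintro _ ⟨_, ⟨w, rfl⟩, rfl⟩
      rw [Submodule.mem_dualAnnihilator]
      intro v hv
      rw [hΦ, hself, LinearMap.mem_ker.1 hv, polar_zero_left]
    · rw [(Submodule.equivMapOfInjective Φ hΦinj _).finrank_eq.symm]
      have h1 := Subspace.finrank_add_finrank_dualAnnihilator_eq (LinearMap.ker N)
      have h2 := LinearMap.finrank_range_add_finrank_ker N
      omega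
  have hφ : φ ∈ (LinearMap.ker N).dualAnnihilator := by
    rw [Submodule.mem_dualAnnihilator]
    intro v hv
    refine sq_inj ?_
    show s v ^ 2 = (0 : F) ^ 2
    rw [hs]
    simp [D, LinearMap.mem_ker.1 hv]
  rw [← hmap] at hφ
  obtain ⟨_, ⟨w, rfl⟩, hw⟩ := hφ
  have hw' : ∀ v, polar Q₀ (N v) w ^ 2 = D v := fun v => by
    rw [← hself, ← hΦ, hw]
    exact hs v
  let Q := twist Q₀ w
  have hQp : ∀ u v, polar Q u v = polar Q₀ u v := polar_twist Q₀ w
  have hQn : (polarBilin Q).Nondegenerate := twist_nondeg hQ w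
  have hQL : ∀ v, Q (L v) = Q v := fun v => by
    rw [hLN, QuadraticMap.map_add Q, hQp]
    show Q v + twist Q₀ w (N v) + _ = Q v
    rw [twist_apply Q₀ w (N v), hw']
    linear_combination (Q₀ (N v) + polar Q₀ v (N v)) * (CharTwo.two_eq_zero (R := F))
  by_cases hfix : ∀ v, L v = v → Q v = 0
  · obtain ⟨hp, he⟩ := singular_fixed hQn hV hL hQL hfix
    exact ⟨⟨Q, hQp, hp, hQL⟩, fun ho => absurd he (Nat.not_even_iff_odd.2 ho)⟩
  push Not at hfix
  obtain ⟨z, hz, hz0⟩ := hfix
  obtain ⟨a, ha⟩ := exists_not_AS (F := F)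
  obtain ⟨c, hc⟩ := exists_sqrt (a / Q z)
  let z' := c • z
  have hz' : ¬ AS (Q z') := by
    show ¬ AS (Q (c • z))
    rwa [QuadraticMap.map_smul, smul_eq_mul, ← pow_two, hc, div_mul_cancel₀ _ hz0]
  let Q' := twist Q z'
  have hQ'p : ∀ u v, polar Q' u v = polar Q₀ u v := fun u v => (polar_twist Q z' u v).trans (hQp u v)
  have hQ'L : ∀ v, Q' (L v) = Q' v := fun v => by
    show twist Q z' (L v) = twist Q z' v
    rw [twist_apply Q z' (L v), twist_apply Q z' v, hQL]
    congr 2
    rw [hQp, hQp, hLN, polar_add_left, ← hself, hN]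
    simp [z', hz, two_smul_zero F]
  have hiff := plus_twist_iff hQn hd hV hz'
  by_cases hp : Plus Q d
  · exact ⟨⟨Q, hQp, hp, hQL⟩, fun _ => ⟨Q', hQ'p, fun h => hiff.1 h hp, hQ'L⟩⟩
  · exact ⟨⟨Q', hQ'p, hiff.2 hp, hQ'L⟩, fun _ => ⟨Q, hQp, hp, hQL⟩⟩

end Involution

end CfsgLib.Derangements.EvenForms
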