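import Cfsg.Agent.Lib.Derangements.NullInvariant
import Cfsg.Agent.Lib.Derangements.EvenForms
import Cfsg.Agent.Lib.Orth.Classify

/-!
# Totally singular invariant subspaces of isometries of odd prime order of quadratic forms

The form `B(u, (L - L⁻¹) v)` is alternating, so the moved part reduces to the alternating case.
-/

set_option autoImplicit false
set_option linter.unusedSectionVars false

namespace CfsgLib.Derangements.OrthInv

open Module QuadraticMap CfsgLib.Classical CfsgLib.Derangements.LinElusive CfsgLib.Derangements.NullInv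

variable {F : Type*} [Field F] [Fintype F] {V : Type*} [AddCommGroup V] [Module F V] [FiniteDimensional F V]
  {Q : QuadraticForm F V} {L : Module.End F V} {r : ℕ} [Fact r.Prime]

/-- The form vanishes on the subspace. -/
def Sing (Q : QuadraticForm F V) (U : Submodule F V) : Prop := ∀ u ∈ U, Q u = 0

/-- A totally singular subspace of half the dimension. -/
def PlusOn (Q : QuadraticForm F V) (X : Submodule F V) : Prop :=
  ∃ U ≤ X, Sing Q U ∧ 2 * finrank F U = finrank F X

theorem Sing.mono {U W : Submodule F V} (h : Sing Q W) (hle : U ≤ W) : Sing Q U := fun u hu => h u (hle hu)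

theorem sing_bot : Sing Q (⊥ : Submodule F V) := fun u hu => by simp [(Submodule.mem_bot F).1 hu]

theorem Sing.null {U : Submodule F V} (h : Sing Q U) : Null (polarBilin Q) U := fun u hu v hv => by
  simp [polar, h _ (U.add_mem hu hv), h u hu, h v hv]

theorem polar_refl (Q : QuadraticForm F V) : (polarBilin Q).IsRefl := fun x y h => by
  rw [polarBilin_apply_apply] at h ⊢; rwa [polar_comm]

theorem Sing.sup {U W : Submodule F V} (hU : Sing Q U) (hW : Sing Q W)
    (h : ∀ u ∈ U, ∀ w ∈ W, polarBilin Q u w = 0) : Sing Q (U ⊔ W) := by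
  intro x hx
  obtain ⟨a, ha, b, hb, rfl⟩ := Submodule.mem_sup.1 hx
  rw [QuadraticMap.map_add Q, hU a ha, hW b hb, ← polarBilin_apply_apply, h a ha b hb, add_zero, add_zero]

theorem polar_map (hQL : ∀ v, Q (L v) = Q v) (u v : V) : polarBilin Q (L u) (L v) = polarBilin Q u v := by
  simp only [polarBilin_apply_apply, polar, ← map_add, hQL]

theorem finrank_perp (hN : (polarBilin Q).Nondegenerate) (U : Submodule F V) :
    finrank F (perp (polarBilin Q) U) = finrank F V - finrank F U := by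
  have h1 : perp (polarBilin Q) U = LinearMap.BilinForm.orthogonal (polarBilin Q) U := by
    ext x; rw [mem_perp]; rfl
  rw [h1, LinearMap.BilinForm.finrank_orthogonal hN]

theorem polar_comp (X : Submodule F V) : polarBilin (Q.comp X.subtype) = restrictForm (polarBilin Q) X :=
  LinearMap.ext fun a => LinearMap.ext fun b => by simp [polar]

theorem comp_nondeg {X : Submodule F V} (h : NondegOn (polarBilin Q) X) :
    (polarBilin (Q.comp X.subtype)).Nondegenerate := by
  rw [polar_comp]; exact restrictForm_nondegenerate (polar_refl Q) h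

theorem plusOn_iff {X : Submodule F V} {e : ℕ} (he : finrank F X = 2 * e) :
    PlusOn Q X ↔ EvenForms.Plus (Q.comp X.subtype) e := by
  constructor
  · rintro ⟨U, hUX, hU, hUd⟩
    refine ⟨U.comap X.subtype, fun u hu => hU _ hu, ?_⟩
    rw [(Submodule.comapSubtypeEquivOfLe hUX).finrank_eq]
    omega
  · rintro ⟨U, hU, hUd⟩
    refine ⟨U.map X.subtype, Submodule.map_subtype_le X U, ?_, ?_⟩
    · rintro _ ⟨u, hu, rfl⟩; exact hU u hu
    · rw [← (Submodule.equivMapOfInjective _ X.injective_subtype U).finrank_eq, hUd, he]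

theorem exists_sub_dim {W : Submodule F V} {b : ℕ} (hb : b ≤ finrank F W) : ∃ U ≤ W, finrank F U = b := by
  obtain ⟨g, hg⟩ := exists_linearIndependent_of_le_finrank (R := F) (M := W) hb
  refine ⟨Submodule.span F (Set.range fun k => (g k : V)), Submodule.span_le.2 ?_,
    (finrank_span_eq_card (hg.map' W.subtype W.ker_subtype)).trans (Fintype.card_fin b)⟩
  rintro _ ⟨k, rfl⟩
  exact (g k).2

theorem sing_le_half {X U : Submodule F V} (hX : NondegOn (polarBilin Q) X) (hUX : U ≤ X) (hU : Sing Q U) :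
    2 * finrank F U ≤ finrank F X := hU.null.two_mul_le_on (polar_refl Q) hX hUX

theorem sing_lt_of_not_plus {X U : Submodule F V} (hX : NondegOn (polarBilin Q) X) (he : Even (finrank F X))
    (hp : ¬ PlusOn Q X) (hUX : U ≤ X) (hU : Sing Q U) : 2 * finrank F U + 2 ≤ finrank F X := by
  have h1 := sing_le_half hX hUX hU
  have h2 : 2 * finrank F U ≠ finrank F X := fun h => hp ⟨U, hUX, hU, h⟩
  obtain ⟨e, he⟩ := he
  omega

/-- Witt decomposition inside a non-degenerate subspace. -/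
theorem exists_core {X : Submodule F V} (hX : NondegOn (polarBilin Q) X) :
    ∃ (m : ℕ) (U A : Submodule F V), U ≤ X ∧ Sing Q U ∧ finrank F U = m ∧ A ≤ X ∧ finrank F A ≤ 2 ∧
      (∀ a ∈ A, Q a = 0 → a = 0) ∧ (∀ u ∈ U, ∀ a ∈ A, polarBilin Q u a = 0) ∧
      finrank F A + 2 * m = finrank F X ∧ NondegOn (polarBilin Q) A := by
  obtain ⟨m, A, T, hT, hTA, hdim, hA2, hanis, hAn⟩ := Orth.exists_decomposition (comp_nondeg hX)
  obtain ⟨U₀, hU₀, hU₀d⟩ := EvenForms.plus_plusForm (F := F) m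
  have hinj : Function.Injective (X.subtype.comp T) :=
    X.injective_subtype.comp (Orth.injective_of_preserving (Orth.plusForm_nondeg m) T hT)
  refine ⟨m, U₀.map (X.subtype.comp T), A.map X.subtype, ?_, ?_, ?_, Submodule.map_subtype_le X A, ?_, ?_, ?_, ?_, ?_⟩
  · rintro _ ⟨u, -, rfl⟩; exact (T u).2
  · rintro _ ⟨u, hu, rfl⟩
    exact (hT u).trans (hU₀ u hu)
  · rw [← (Submodule.equivMapOfInjective _ hinj U₀).finrank_eq, hU₀d]
  · rwa [← (Submodule.equivMapOfInjective _ X.injective_subtype A).finrank_eq]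
  · rintro _ ⟨a, ha, rfl⟩ h
    rw [hanis a ha h, map_zero]
  · rintro _ ⟨u, hu, rfl⟩ _ ⟨a, ha, rfl⟩
    have h := hTA u a ha
    rw [← polarBilin_apply_apply, polar_comp] at h
    exact h
  · rw [← (Submodule.equivMapOfInjective _ X.injective_subtype A).finrank_eq, hdim]
  · refine nondegOn_iff.2 ?_
    rintro _ ⟨a, ha, rfl⟩ h
    have h1 : (⟨a, ha⟩ : A) = 0 := hAn.2 _ fun b => by
      have := h (b.1 : V) ⟨b.1, b.2, rfl⟩
      simp only [polarBilin_apply_apply, polar, QuadraticMap.comp_apply, map_add] at this ⊢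
      exact this
    rw [show a = 0 from congrArg Subtype.val h1, map_zero]

/-- Totally singular subspaces of the possible dimensions. -/
theorem exists_sing_sub {X : Submodule F V} (hX : NondegOn (polarBilin Q) X) {b : ℕ}
    (hb : 2 * b ≤ finrank F X) (h : 2 * b + 2 ≤ finrank F X ∨ Odd (finrank F X) ∨ PlusOn Q X) :
    ∃ U ≤ X, Sing Q U ∧ finrank F U = b := by
  obtain ⟨m, U, A, hUX, hU, hUd, -, hA2, -, -, hdim, -⟩ := exists_core hX
  suffices H : ∃ U ≤ X, Sing Q U ∧ b ≤ finrank F U by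
    obtain ⟨U, hUX, hU, hbU⟩ := H
    obtain ⟨U', hU'U, hU'd⟩ := exists_sub_dim hbU
    exact ⟨U', hU'U.trans hUX, hU.mono hU'U, hU'd⟩
  rcases h with h | h | h
  · exact ⟨U, hUX, hU, by omega⟩
  · have := Nat.odd_iff.1 h
    exact ⟨U, hUX, hU, by omega⟩
  · obtain ⟨U', h1, h2, h3⟩ := h
    exact ⟨U', h1, h2, by omega⟩

theorem plus_add {X Y : Submodule F V} (hd : Disjoint X Y) (ho : ∀ x ∈ X, ∀ y ∈ Y, polarBilin Q x y = 0)
    (hX : PlusOn Q X) (hY : PlusOn Q Y) : PlusOn Q (X ⊔ Y) := by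
  obtain ⟨U, hUX, hU, hUd⟩ := hX
  obtain ⟨W, hWY, hW, hWd⟩ := hY
  refine ⟨U ⊔ W, sup_le_sup hUX hWY, hU.sup hW fun u hu w hw => ho u (hUX hu) w (hWY hw), ?_⟩
  rw [finrank_sup_of_disjoint (hd.mono hUX hWY), finrank_sup_of_disjoint hd]
  omega

theorem minus_add {X Y : Submodule F V} (hd : Disjoint X Y) (ho : ∀ x ∈ X, ∀ y ∈ Y, polarBilin Q x y = 0)
    (hXn : NondegOn (polarBilin Q) X) (hYn : NondegOn (polarBilin Q) Y) (hXe : Even (finrank F X))
    (hYe : Even (finrank F Y)) (hX : ¬ PlusOn Q X) (hY : ¬ PlusOn Q Y) : PlusOn Q (X ⊔ Y) := by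
  have split : ∀ Z : Submodule F V, NondegOn (polarBilin Q) Z → Even (finrank F Z) → ¬ PlusOn Q Z →
      ∃ U A : Submodule F V, U ≤ Z ∧ Sing Q U ∧ A ≤ Z ∧ (∀ u ∈ U, ∀ a ∈ A, polarBilin Q u a = 0) ∧
        2 * finrank F U + 2 = finrank F Z ∧ (∀ a ∈ A, Q a = 0 → a = 0) ∧ finrank F A = 2 ∧
        NondegOn (polarBilin Q) A := fun Z hZn hZe hZ => by
    obtain ⟨m, U, A, hUX, hU, hUd, hAX, hA2, hanis, ho, hdim, hAn⟩ := exists_core hZn
    have h2 : finrank F A = 2 := by
      have := sing_lt_of_not_plus hZn hZe hZ hUX hU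
      omega
    exact ⟨U, A, hUX, hU, hAX, ho, by omega, hanis, h2, hAn⟩
  obtain ⟨U, A, hUX, hU, hAX, hoA, hUd, hanis, hA2, hAn⟩ := split X hXn hXe hX
  obtain ⟨W, C, hWY, hW, hCY, hoC, hWd, hanisC, hC2, hCn⟩ := split Y hYn hYe hY
  have hplus : ∀ (A : Submodule F V), (∀ a ∈ A, Q a = 0 → a = 0) → ¬ EvenForms.Plus (Q.comp A.subtype) 1 := by
    rintro A hanis ⟨Z, hZ, hZd⟩
    have hbot : Z = ⊥ := (Submodule.eq_bot_iff Z).2 fun z hz => Subtype.ext (hanis _ z.2 (hZ z hz))
    rw [hbot, finrank_bot] at hZd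
    exact zero_ne_one hZd
  have hneg : (polarBilin (-(Q.comp C.subtype))).Nondegenerate := by
    have h1 := comp_nondeg hCn
    have h2 : polarBilin (-(Q.comp C.subtype)) = -polarBilin (Q.comp C.subtype) :=
      LinearMap.ext fun a => LinearMap.ext fun b => by simp [polar]; ring
    rw [h2]
    exact ⟨fun a ha => h1.1 a fun b => by simpa using ha b, fun a ha => h1.2 a fun b => by simpa using ha b⟩
  obtain ⟨φ, hφ⟩ := EvenForms.exists_equiv (comp_nondeg hAn) hneg (d := 1) hA2 hC2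
    (iff_of_false (hplus A hanis) fun ⟨Z, hZ, hZd⟩ => hplus C hanisC ⟨Z, fun z hz => by simpa using hZ z hz, hZd⟩)
  let g : A →ₗ[F] V := A.subtype + C.subtype.comp φ.toLinearMap
  have hga : ∀ a : A, g a = (a : V) + (φ a : V) := fun a => rfl
  have hAC : Disjoint A C := hd.mono hAX hCY
  have hginj : Function.Injective g := (injective_iff_map_eq_zero _).2 fun a ha => by
    rw [hga, add_eq_zero_iff_eq_neg] at ha
    exact Subtype.ext (Submodule.disjoint_def.1 hAC _ a.2 (ha ▸ C.neg_mem (φ a).2))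
  have hG : Sing Q (LinearMap.range g) := by
    rintro _ ⟨a, rfl⟩
    have h1 := hφ a
    simp only [QuadraticMap.neg_apply, QuadraticMap.comp_apply, Submodule.coe_subtype] at h1
    rw [hga, QuadraticMap.map_add Q, ← polarBilin_apply_apply, ho _ (hAX a.2) _ (hCY (φ a).2), ← h1, add_zero,
      neg_add_cancel]
  have hGle : LinearMap.range g ≤ A ⊔ C := by
    rintro _ ⟨a, rfl⟩
    exact Submodule.add_mem_sup a.2 (φ a).2
  have hUW : Sing Q (U ⊔ W) := hU.sup hW fun u hu w hw => ho u (hUX hu) w (hWY hw)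
  have horth : ∀ x ∈ U ⊔ W, ∀ g' ∈ LinearMap.range g, polarBilin Q x g' = 0 := by
    intro x hx _ ⟨a, ha⟩
    obtain ⟨u, hu, w, hw, rfl⟩ := Submodule.mem_sup.1 hx
    rw [← ha, hga]
    simp only [map_add, LinearMap.add_apply]
    rw [hoA u hu a a.2, ho u (hUX hu) _ (hCY (φ a).2), polar_refl Q _ _ (ho _ (hAX a.2) w (hWY hw)),
      hoC w hw _ (φ a).2]
    simp
  have hdUA : Disjoint U A := Submodule.disjoint_def.2 fun v hv hv' => hanis v hv' (hU v hv)
  have hdWC : Disjoint W C := Submodule.disjoint_def.2 fun v hv hv' => hanisC v hv' (hW v hv)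
  have hdG : Disjoint (U ⊔ W) (LinearMap.range g) := by
    rw [Submodule.disjoint_def]
    intro v hv hv'
    obtain ⟨u, hu, w, hw, rfl⟩ := Submodule.mem_sup.1 hv
    obtain ⟨a, ha⟩ := hv'
    rw [hga] at ha
    have h1 : u - a = φ a - w := by linear_combination (norm := abel) -ha
    have h2 : u - a = 0 := Submodule.disjoint_def.1 hd _ (X.sub_mem (hUX hu) (hAX a.2))
      (h1 ▸ Y.sub_mem (hCY (φ a).2) (hWY hw))
    rw [sub_eq_zero] at h2
    have h3 : (a : V) = 0 := Submodule.disjoint_def.1 hdUA _ (h2 ▸ hu) a.2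
    have h4 : a = 0 := Subtype.ext h3
    simp [h4] at ha
    exact ha.symm
  refine ⟨U ⊔ W ⊔ LinearMap.range g, sup_le (sup_le_sup hUX hWY) (hGle.trans (sup_le_sup hAX hCY)),
    hUW.sup hG horth, ?_⟩
  rw [finrank_sup_of_disjoint hdG, finrank_sup_of_disjoint (hd.mono hUX hWY), LinearMap.finrank_range_of_inj hginj,
    finrank_sup_of_disjoint hd, hA2]
  omega

theorem plus_cancel {X Y : Submodule F V} (hN : (polarBilin Q).Nondegenerate) (hc : IsCompl X Y)
    (ho : ∀ x ∈ X, ∀ y ∈ Y, polarBilin Q x y = 0) (hXn : NondegOn (polarBilin Q) X)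
    (hYn : NondegOn (polarBilin Q) Y) (hV : PlusOn Q ⊤) (hX : PlusOn Q X) : PlusOn Q Y := by
  obtain ⟨U₀, -, hU₀, hU₀d⟩ := hV
  obtain ⟨U, hUX, hU, hUd⟩ := hX
  rw [finrank_top] at hU₀d
  set B := polarBilin Q
  have hdim := Submodule.finrank_add_eq_of_isCompl hc
  have hU₀p : perp B U₀ = U₀ := (Submodule.eq_of_le_of_finrank_eq
    (fun u hu => mem_perp.2 fun w hw => hU₀.null w hw u hu) (by rw [finrank_perp hN]; omega)).symm
  have h1 : finrank F (U₀ ⊓ perp B U : Submodule F V) = finrank F V - finrank F (U₀ ⊔ U : Submodule F V) := by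
    rw [← finrank_perp hN, perp_sup, hU₀p]
  have h2 := Submodule.finrank_sup_add_finrank_inf_eq U₀ U
  have h3 := Submodule.finrank_sup_add_finrank_inf_eq U (U₀ ⊓ perp B U)
  have h4 : finrank F (U ⊓ (U₀ ⊓ perp B U) : Submodule F V) ≤ finrank F (U₀ ⊓ U : Submodule F V) :=
    Submodule.finrank_mono (le_inf (inf_le_right.trans inf_le_left) inf_le_left)
  have h5 := Submodule.finrank_le (U₀ ⊔ U)
  set U' := U ⊔ U₀ ⊓ perp B U with hU'
  have hU's : Sing Q U' := hU.sup (hU₀.mono inf_le_left) fun u hu w hw => mem_perp.1 hw.2 u hu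
  let UX : Submodule F X := U.comap X.subtype
  have hUXd : finrank F UX = finrank F U := (Submodule.comapSubtypeEquivOfLe hUX).finrank_eq
  have hperpX : UX = perp (restrictForm B X) UX := Submodule.eq_of_le_of_finrank_eq
    (fun u hu => mem_perp.2 fun w hw => hU.null _ hw _ hu) (by
      have h6 : perp (restrictForm B X) UX = LinearMap.BilinForm.orthogonal (restrictForm B X) UX := by
        ext x; rw [mem_perp]; rfl
      rw [h6, LinearMap.BilinForm.finrank_orthogonal (restrictForm_nondegenerate (polar_refl Q) hXn), hUXd]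
      omega)
  have hle : perp B U ≤ U ⊔ Y := fun v hv => by
    obtain ⟨x, hx, y, hy, rfl⟩ := Submodule.mem_sup.1 (hc.sup_eq_top ▸ Submodule.mem_top (x := v))
    have hx' : (⟨x, hx⟩ : X) ∈ UX := hperpX ▸ mem_perp.2 fun w hw => by
      have h7 := mem_perp.1 hv (w : V) hw
      rw [map_add, ho _ w.2 y hy, add_zero] at h7
      exact h7
    exact Submodule.add_mem_sup hx' hy
  have hU'le : U' ≤ U ⊔ Y := sup_le le_sup_left (inf_le_right.trans hle)
  have hmod : U ⊔ Y ⊓ U' = U' := by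
    rw [← sup_inf_assoc_of_le Y (show U ≤ U' from le_sup_left), inf_eq_right.2 hU'le]
  have h8 := finrank_sup_of_disjoint ((hc.disjoint.mono_left hUX).mono_right (inf_le_left : Y ⊓ U' ≤ Y))
  rw [hmod] at h8
  refine ⟨Y ⊓ U', inf_le_left, hU's.mono inf_le_right, ?_⟩
  have := sing_le_half hYn (inf_le_left : Y ⊓ U' ≤ Y) (hU's.mono inf_le_right)
  omega

/-- The type of an orthogonal sum. -/
theorem plus_sum_iff {X Y : Submodule F V} (hN : (polarBilin Q).Nondegenerate) (hc : IsCompl X Y)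
    (ho : ∀ x ∈ X, ∀ y ∈ Y, polarBilin Q x y = 0) (hXn : NondegOn (polarBilin Q) X)
    (hYn : NondegOn (polarBilin Q) Y) (hXe : Even (finrank F X)) (hYe : Even (finrank F Y)) :
    PlusOn Q ⊤ ↔ (PlusOn Q X ↔ PlusOn Q Y) := by
  refine ⟨fun hV => ⟨plus_cancel hN hc ho hXn hYn hV,
    plus_cancel hN hc.symm (fun y hy x hx => polar_refl Q _ _ (ho x hx y hy)) hYn hXn hV⟩, fun h => ?_⟩
  rw [← hc.sup_eq_top]
  by_cases hX : PlusOn Q X
  · exact plus_add hc.disjoint ho hX (h.1 hX)
  · exact minus_add hc.disjoint ho hXn hYn hXe hYe hX fun hY => hX (h.2 hY)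

/-- The fixed space and the moved part. -/
theorem moved_facts {B : V →ₗ[F] V →ₗ[F] F} (hR : B.IsRefl) (hN : B.Nondegenerate)
    (hB : ∀ x y, B (L x) (L y) = B x y) {E : Submodule F V} (hc : IsCompl (L.eigenspace 1) E) (hE : Inv L E) :
    (∀ e ∈ E, ∀ z ∈ L.eigenspace 1, B e z = 0) ∧ NondegOn B E ∧ NondegOn B (L.eigenspace 1) := by
  have horth : ∀ e ∈ E, ∀ z ∈ L.eigenspace 1, B e z = 0 := fun e he z hz => by
    let T : E →ₗ[F] E := (L.restrict fun u hu' => hE.mem hu') - LinearMap.id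
    have hTa : ∀ y : E, (T y : V) = L y - y := fun y => rfl
    have hT : Function.Injective T := (injective_iff_map_eq_zero _).2 fun y hy => Subtype.ext <| by
      refine Submodule.disjoint_def.1 hc.disjoint _ ?_ y.2
      rw [Module.End.mem_eigenspace_iff, one_smul, ← sub_eq_zero, ← hTa, hy]
      rfl
    obtain ⟨y, hy⟩ := LinearMap.injective_iff_surjective.1 hT ⟨e, he⟩
    have h1 : L (y : V) - y = e := congrArg Subtype.val hy
    rw [Module.End.mem_eigenspace_iff, one_smul] at hz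
    rw [← h1, map_sub, LinearMap.sub_apply]
    conv_lhs => arg 1; rw [← hz]
    rw [hB, sub_self]
  refine ⟨horth, nondegOn_iff.2 fun x hx hx' => hN.2 x fun v => ?_, nondegOn_iff.2 fun x hx hx' => hN.2 x fun v => ?_⟩ <;>
    obtain ⟨z, hz, e, he, rfl⟩ := Submodule.mem_sup.1 (hc.sup_eq_top ▸ Submodule.mem_top (x := v)) <;>
    rw [map_add, LinearMap.add_apply]
  · rw [hR _ _ (horth x hx z hz), hx' e he, add_zero]
  · rw [hx' z hz, horth e he x hx, add_zero]

theorem pow_apply_mem {W : Submodule F V} (hW : Inv L W) (j : ℕ) {w : V} (hw : w ∈ W) : (L ^ j) w ∈ W := by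
  simpa using hW.aeval_mem (Polynomial.X ^ j) hw

theorem pow_quad (hQL : ∀ v, Q (L v) = Q v) (j : ℕ) (v : V) : Q ((L ^ j) v) = Q v := by
  induction j with
  | zero => rfl
  | succ j ih => rw [pow_succ', Module.End.mul_apply, hQL, ih]

/-- Null invariant subspaces without fixed vectors are totally singular. -/
theorem sing_of_null (hr : (r : F) ≠ 0) (hQL : ∀ v, Q (L v) = Q v) (hL : L ^ r = 1) {W : Submodule F V}
    (hW : Inv L W) (hd : Disjoint (L.eigenspace 1) W) (hn : Null (polarBilin Q) W) : Sing Q W := fun u hu => by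
  have hv : ∑ t ∈ Finset.range r, (L ^ t) u = 0 := by
    refine Submodule.disjoint_def.1 hd _ ?_ (W.sum_mem fun t _ => pow_apply_mem hW t hu)
    have h1 : (L - 1) * ∑ t ∈ Finset.range r, L ^ t = 0 := by rw [mul_geom_sum, hL, sub_self]
    have h2 := LinearMap.congr_fun h1 u
    rw [Module.End.mul_apply, LinearMap.sum_apply, LinearMap.sub_apply, LinearMap.zero_apply,
      Module.End.one_apply, sub_eq_zero] at h2
    rw [Module.End.mem_eigenspace_iff, one_smul, h2]
  have hsum : ∀ n : ℕ, Q (∑ t ∈ Finset.range n, (L ^ t) u) = (n : F) * Q u := fun n => by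
    induction n with
    | zero => simp
    | succ n ih =>
      rw [Finset.sum_range_succ, QuadraticMap.map_add Q, ih, pow_quad hQL, ← polarBilin_apply_apply,
        hn _ (W.sum_mem fun t _ => pow_apply_mem hW t hu) _ (pow_apply_mem hW n hu)]
      push_cast; ring
  have h3 := hsum r
  rw [hv, QuadraticMap.map_zero] at h3
  exact (mul_eq_zero.1 h3.symm).resolve_left hr

/-- The alternating form `B(u, (L - L⁻¹) v)`. -/
noncomputable def twistBil (Q : QuadraticForm F V) (L : Module.End F V) (r : ℕ) : V →ₗ[F] V →ₗ[F] F :=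
  (polarBilin Q).compl₂ (L - L ^ (r - 1))

theorem twistBil_apply (u v : V) : twistBil Q L r u v = polarBilin Q u ((L - L ^ (r - 1)) v) := rfl

theorem twistBil_isAlt (hQL : ∀ v, Q (L v) = Q v) (hL : L ^ r = 1) : (twistBil Q L r).IsAlt := fun u => by
  rw [twistBil_apply, LinearMap.sub_apply, map_sub, sub_eq_zero]
  conv_rhs => rw [← polar_map hQL, ← Module.End.mul_apply, ← pow_succ', Nat.sub_add_cancel (Fact.out : r.Prime).one_le, hL,
    Module.End.one_apply, polarBilin_apply_apply, polar_comm, ← polarBilin_apply_apply]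

theorem twistBil_isom (hQL : ∀ v, Q (L v) = Q v) (u v : V) :
    twistBil Q L r (L u) (L v) = twistBil Q L r u v := by
  rw [twistBil_apply, twistBil_apply]
  have h : (L - L ^ (r - 1)) (L v) = L ((L - L ^ (r - 1)) v) := by
    rw [← Module.End.mul_apply, ← Module.End.mul_apply, sub_mul, mul_sub, ← pow_succ, ← pow_succ']
  rw [h, polar_map hQL]

theorem exists_twist_preimage (hr2 : Odd r) (hL : L ^ r = 1) {W : Submodule F V} (hW : Inv L W)
    (hd : Disjoint (L.eigenspace 1) W) :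
    Set.InjOn (L - L ^ (r - 1)) W ∧ ∀ w ∈ W, ∃ w' ∈ W, (L - L ^ (r - 1)) w' = w := by
  have hmem : ∀ w ∈ W, (L - L ^ (r - 1)) w ∈ W := fun w hw => W.sub_mem (hW.mem hw) (pow_apply_mem hW _ hw)
  let T : W →ₗ[F] W := (L - L ^ (r - 1)).restrict hmem
  have hT : Function.Injective T := (injective_iff_map_eq_zero _).2 fun w hw => Subtype.ext <| by
    have h1 : L (w : V) = (L ^ (r - 1)) w := sub_eq_zero.1 (congrArg Subtype.val hw)
    have h2 : (L ^ 2) (w : V) = w := by
      rw [_root_.sq, Module.End.mul_apply, h1, ← Module.End.mul_apply, ← pow_succ',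
        Nat.sub_add_cancel (Fact.out : r.Prime).one_le, hL, Module.End.one_apply]
    have h3 : ∀ k : ℕ, ((L ^ 2) ^ k) (w : V) = w := fun k => by
      induction k with
      | zero => rfl
      | succ k ih => rw [pow_succ', Module.End.mul_apply, ih, h2]
    obtain ⟨k, hk⟩ := hr2
    refine Submodule.disjoint_def.1 hd _ ?_ w.2
    rw [Module.End.mem_eigenspace_iff, one_smul]
    calc L (w : V) = L (((L ^ 2) ^ k) w) := by rw [h3]
      _ = (L ^ r) w := by conv_rhs => rw [hk, pow_succ', pow_mul, Module.End.mul_apply]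
      _ = w := by rw [hL]; rfl
  refine ⟨fun a ha b hb hab => congrArg Subtype.val (hT (a₁ := ⟨a, ha⟩) (a₂ := ⟨b, hb⟩) (Subtype.ext hab)),
    fun w hw => ?_⟩
  obtain ⟨w', hw'⟩ := LinearMap.injective_iff_surjective.1 hT ⟨w, hw⟩
  exact ⟨w', w'.2, congrArg Subtype.val hw'⟩

theorem null_twist_iff (hr2 : Odd r) (hL : L ^ r = 1) {W : Submodule F V} (hW : Inv L W)
    (hd : Disjoint (L.eigenspace 1) W) : Null (twistBil Q L r) W ↔ Null (polarBilin Q) W := by
  refine ⟨fun h u hu v hv => ?_, fun h u hu v hv => h u hu _ (W.sub_mem (hW.mem hv) (pow_apply_mem hW _ hv))⟩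
  obtain ⟨v', hv', rfl⟩ := (exists_twist_preimage hr2 hL hW hd).2 v hv
  exact h u hu v' hv'

theorem twist_nondegOn (hr2 : Odd r) (hL : L ^ r = 1) {E : Submodule F V} (hE : Inv L E)
    (hd : Disjoint (L.eigenspace 1) E) (hEn : NondegOn (polarBilin Q) E) : NondegOn (twistBil Q L r) E := by
  refine nondegOn_iff.2 fun x hx h => ?_
  have h1 := nondegOn_iff.1 hEn _ (E.sub_mem (hE.mem hx) (pow_apply_mem hE (r - 1) hx)) fun w hw => h w hw
  exact (exists_twist_preimage hr2 hL hE hd).1 hx E.zero_mem (by rw [LinearMap.sub_apply, h1, map_zero])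

theorem even_moved (hr2 : Odd r) (hQL : ∀ v, Q (L v) = Q v) (hL : L ^ r = 1) {E : Submodule F V} (hE : Inv L E)
    (hd : Disjoint (L.eigenspace 1) E) (hEn : NondegOn (polarBilin Q) E) : Even (finrank F E) := by
  have hA := twistBil_isAlt (r := r) hQL hL
  obtain ⟨j, b, -⟩ := exists_sympBasis (restrictForm_isAlt hA E)
    (restrictForm_nondegenerate hA.isRefl (twist_nondegOn hr2 hL hE hd hEn))
  exact ⟨j, by rw [Module.finrank_eq_card_basis b]; simp⟩

/-- A large totally singular invariant subspace of the moved part. -/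
theorem exists_sing_moved (hr : (r : F) ≠ 0) (hr2 : Odd r) (hQL : ∀ v, Q (L v) = Q v) (hL : L ^ r = 1)
    (hs : Split L) {E : Submodule F V} (hd : Disjoint (L.eigenspace 1) E)
    (hu : Uniform L E (orderOf (Fintype.card F : ZMod r))) (hEn : NondegOn (polarBilin Q) E) :
    ∃ W : Submodule F V, W ≤ E ∧ Inv L W ∧ Sing Q W ∧
      finrank F E ≤ 2 * finrank F W + if Even (orderOf (Fintype.card F : ZMod r)) then r - 1 else 0 := by
  obtain ⟨W, hWE, hW, hWn, hWd⟩ := exists_null_moved hr (twistBil_isAlt hQL hL) (twistBil_isom hQL) hL hs hd hu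
    (twist_nondegOn hr2 hL hu.inv hd hEn)
  exact ⟨W, hWE, hW, sing_of_null hr hQL hL hW (hd.mono_right hWE)
    ((null_twist_iff hr2 hL hW (hd.mono_right hWE)).1 hWn), hWd⟩

theorem orderOf_card_pos (hr : (r : F) ≠ 0) : (Fintype.card F : ZMod r) ≠ 0 := fun h0 => by
  rw [ZMod.natCast_eq_zero_iff] at h0
  obtain ⟨p, hpc⟩ := CharP.exists F
  haveI := hpc
  obtain ⟨k, hp, hk⟩ := FiniteField.card F p
  rw [hk] at h0
  exact hr ((CharP.cast_eq_zero_iff F p r).2
    ((Nat.prime_dvd_prime_iff_eq (Fact.out : r.Prime) hp).1 ((Fact.out : r.Prime).dvd_of_dvd_pow h0) ▸ dvd_rfl))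

/-- The type of the moved part. -/
theorem plus_moved_iff (hr : (r : F) ≠ 0) (hr2 : Odd r) (hQL : ∀ v, Q (L v) = Q v) (hL : L ^ r = 1)
    (hs : Split L) {E : Submodule F V} (hd : Disjoint (L.eigenspace 1) E)
    (hu : Uniform L E (orderOf (Fintype.card F : ZMod r))) (hEn : NondegOn (polarBilin Q) E) {N : ℕ}
    (hNi : finrank F E = N * orderOf (Fintype.card F : ZMod r)) :
    PlusOn Q E ↔ (Odd (orderOf (Fintype.card F : ZMod r)) ∨ Even N) := by
  set q : ℕ := Fintype.card F
  set i := orderOf (q : ZMod r) with hi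
  rcases Nat.even_or_odd i with hev | hodd
  swap
  · refine iff_of_true ?_ (Or.inl hodd)
    obtain ⟨W, hWE, -, hW, hWd⟩ := exists_sing_moved hr hr2 hQL hL hs hd hu hEn
    rw [if_neg (Nat.not_even_iff_odd.2 hodd)] at hWd
    exact ⟨W, hWE, hW, le_antisymm (sing_le_half hEn hWE hW) (by omega)⟩
  obtain ⟨h, hh⟩ := hev
  have hno : ¬ Odd i := Nat.not_odd_iff_even.2 ⟨h, hh⟩
  simp only [hno, false_or]
  rcases Nat.eq_zero_or_pos N with rfl | hNpos
  · refine iff_of_true ⟨⊥, bot_le, sing_bot, ?_⟩ Even.zero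
    rw [finrank_bot, hNi, zero_mul, mul_zero]
  have hh0 : 0 < h := by have := hu.pos; omega
  have he : finrank F E = 2 * (h * N) := by rw [hNi, hh]; ring
  rw [plusOn_iff he]
  let LE : Module.End F E := L.restrict fun u hu' => hu.inv.mem hu'
  have hLE : LE ^ r = 1 := LinearMap.ext fun u => Subtype.ext (by rw [Module.End.pow_restrict]; simp [hL])
  have hfix : ∀ v, LE v = v → v = 0 := fun v hv => Subtype.ext <| Submodule.disjoint_def.1 hd _
    (by rw [Module.End.mem_eigenspace_iff, one_smul]; exact congrArg Subtype.val hv) v.2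
  obtain ⟨hplus, hminus⟩ := EvenForms.zeroCount_eq (comp_nondeg hEn) (q := q) rfl (Nat.mul_pos hh0 hNpos) he
  have hdvd := EvenForms.dvd_zeroCount_sub_one hLE hfix (Q := Q.comp E.subtype) fun v => hQL v
  rw [← ZMod.intCast_zmod_eq_zero_iff_dvd] at hdvd
  have hq0 : (q : ZMod r) ≠ 0 := orderOf_card_pos hr
  have h2 : (2 : ZMod r) ≠ 0 := fun h0 => by
    have h1 : ((2 : ℕ) : ZMod r) = 0 := h0
    rw [ZMod.natCast_eq_zero_iff] at h1
    exact Nat.not_even_iff_odd.2 hr2 ((Nat.prime_dvd_prime_iff_eq Fact.out Nat.prime_two).1 h1 ▸ even_two)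
  have hqh : (q : ZMod r) ^ h = -1 := by
    have h1 : ((q : ZMod r) ^ h) ^ 2 = 1 := by
      rw [← pow_mul, show h * 2 = i by omega, hi, pow_orderOf_eq_one]
    rcases sq_eq_one_iff.1 h1 with h3 | h3
    · have := Nat.le_of_dvd hh0 (orderOf_dvd_of_pow_eq_one h3)
      omega
    · exact h3
  have hq1 : (q : ZMod r) ≠ 1 := fun h1 => by
    have : i = 1 := by rw [hi, h1, orderOf_one]
    omega
  obtain ⟨e, he1⟩ : ∃ e, h * N = e + 1 := ⟨h * N - 1, by have := Nat.mul_pos hh0 hNpos; omega⟩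
  have hpow : (q : ZMod r) ^ e * q = (-1) ^ N := by rw [← pow_succ, ← he1, pow_mul, hqh]
  constructor
  · intro hp
    by_contra hodd'
    rw [hplus hp, he1, Nat.add_sub_cancel] at hdvd
    rw [(Nat.not_even_iff_odd.1 hodd').neg_one_pow] at hpow
    push_cast at hdvd
    rw [pow_succ, hpow] at hdvd
    rcases mul_eq_zero.1 hdvd with h3 | h3
    · exact h2 (by linear_combination -h3)
    · exact hq1 (by linear_combination (q : ZMod r) * h3 - hpow)
  · intro hev'
    by_contra hp
    rw [hminus hp, he1, Nat.add_sub_cancel] at hdvd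
    rw [hev'.neg_one_pow] at hpow
    push_cast at hdvd
    rw [pow_succ, hpow] at hdvd
    rcases mul_eq_zero.1 hdvd with h3 | h3
    · exact h2 (by linear_combination h3)
    · exact hq1 (by linear_combination hpow - (q : ZMod r) * h3)

/-- Totally singular invariant subspaces of a given dimension, from their existence in the fixed space. -/
theorem exists_sing_invariant (hr : (r : F) ≠ 0) (hr2 : Odd r) (hN : (polarBilin Q).Nondegenerate)
    (hQL : ∀ v, Q (L v) = Q v) (hL : L ^ r = 1) {m : ℕ}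
    (H : ∀ (E : Submodule F V) (N T : ℕ), IsCompl (L.eigenspace 1) E →
      (∀ e ∈ E, ∀ z ∈ L.eigenspace 1, polarBilin Q e z = 0) → NondegOn (polarBilin Q) E →
      NondegOn (polarBilin Q) (L.eigenspace 1) → Even (finrank F E) →
      finrank F E = N * orderOf (Fintype.card F : ZMod r) →
      N * orderOf (Fintype.card F : ZMod r) ≤ 2 * T * orderOf (Fintype.card F : ZMod r) +
        (if Even (orderOf (Fintype.card F : ZMod r)) then r - 1 else 0) →
      (PlusOn Q E ↔ (Odd (orderOf (Fintype.card F : ZMod r)) ∨ Even N)) →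
      ∃ a, a ≤ T ∧ a * orderOf (Fintype.card F : ZMod r) ≤ m ∧
        ∃ U ≤ L.eigenspace 1, Sing Q U ∧ finrank F U = m - a * orderOf (Fintype.card F : ZMod r)) :
    ∃ W : Submodule F V, finrank F W = m ∧ Sing Q W ∧ Inv L W := by
  obtain ⟨E, hc, hs, hu, -⟩ := exists_structure hr hL
  obtain ⟨horth, hEn, hCn⟩ := moved_facts (polar_refl Q) hN (polar_map hQL) hc hu.inv
  obtain ⟨W₁, hW₁E, hW₁, hW₁s, hW₁d⟩ := exists_sing_moved hr hr2 hQL hL hs hc.disjoint hu hEn
  obtain ⟨T, hT⟩ := hu.dvd W₁ hW₁E hW₁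
  obtain ⟨N, hNE⟩ := hu.dvd E le_rfl hu.inv
  rw [mul_comm] at hT hNE
  obtain ⟨a, haT, ham, U₂, hU₂C, hU₂s, hU₂d⟩ := H E N T hc horth hEn hCn
    (even_moved hr2 hQL hL hu.inv hc.disjoint hEn) hNE (by rw [← hNE, mul_assoc, ← hT]; exact hW₁d)
    (plus_moved_iff hr hr2 hQL hL hs hc.disjoint hu hEn hNE)
  obtain ⟨U₁, hU₁W, hU₁, hU₁d⟩ := hu.exists_sub hs hW₁E hW₁ (k := a) (by rw [hT]; exact Nat.mul_le_mul_right _ haT)
  have hU₂ : Inv L U₂ := Inv.of_mem fun u hu' => by
    have := hU₂C hu'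
    rw [Module.End.mem_eigenspace_iff, one_smul] at this
    rwa [this]
  refine ⟨U₁ ⊔ U₂, ?_, (hW₁s.mono hU₁W).sup hU₂s fun u hu' w hw => horth u (hW₁E (hU₁W hu')) w (hU₂C hw),
    hU₁.sup hU₂⟩
  rw [finrank_sup_of_disjoint (hc.disjoint.symm.mono (hU₁W.trans hW₁E) hU₂C), hU₁d, hU₂d]
  omega

/-- The numerical condition when the fixed space has the largest Witt index. -/
theorem arith_half {d m i N T σ : ℕ} (hi : 0 < i) (hN : N * i ≤ 2 * d) (hev : Even (N * i))
    (hT : N * i ≤ 2 * T * i + σ) (hσ : Odd i → σ = 0) (hmd : m ≤ d)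
    (hmod : 2 * (m % i) ≤ (2 * d) % (if Even i then i else 2 * i))
    (hcount : Odd i ∨ σ + 2 * (m / i) * i ≤ 2 * d / i * i) :
    ∃ a, a ≤ T ∧ a * i ≤ m ∧ 2 * (m - a * i) + N * i ≤ 2 * d := by
  refine ⟨min (m / i) T, min_le_right _ _,
    (Nat.mul_le_mul_right i (min_le_left _ _)).trans (Nat.div_mul_le_self m i), ?_⟩
  have hm := Nat.div_add_mod m i
  rcases Nat.le_total (m / i) T with hle | hle
  · rw [min_eq_left hle]
    have : m - m / i * i = m % i := by rw [mul_comm] at hm; omega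
    rw [this]
    split_ifs at hmod with hev'
    · have h1 := Nat.div_add_mod (2 * d) i
      have hNle : N * i ≤ (2 * d) / i * i :=
        Nat.mul_le_mul_right i ((Nat.le_div_iff_mul_le hi).2 hN)
      rw [mul_comm i] at h1
      omega
    · obtain ⟨g, hg⟩ : Even N := (Nat.even_mul.1 hev).resolve_right hev'
      have h1 := Nat.div_add_mod (2 * d) (2 * i)
      have h4 : 2 * i * g ≤ 2 * i * ((2 * d) / (2 * i)) :=
        Nat.mul_le_mul_left _ ((Nat.le_div_iff_mul_le (by omega)).2 (by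
          rw [show g * (2 * i) = N * i by rw [hg]; ring]; exact hN))
      rw [show 2 * i * g = N * i by rw [hg]; ring] at h4
      omega
  · rw [min_eq_right hle]
    have hTm : T * i ≤ m := (Nat.mul_le_mul_right i hle).trans (Nat.div_mul_le_self m i)
    rw [mul_assoc] at hT
    rcases hcount with hodd | hcount
    · rw [hσ hodd] at hT
      omega
    · have h1 := Nat.div_mul_le_self (2 * d) i
      rw [mul_assoc] at hcount
      have h3 := Nat.mod_lt m hi
      split_ifs at hmod with hev'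
      · have h5 := Nat.div_add_mod (2 * d) i
        rw [mul_comm i] at h5 hm
        omega
      · rw [hσ (Nat.not_even_iff_odd.1 hev')] at hT
        omega

/-- The numerical condition in even dimension; `s` is `0` for hyperbolic and `1` for elliptic spaces. -/
theorem arith_even {d m h N T t s : ℕ} (hh : 0 < h) (hN : h * N ≤ d) (hpar : Odd (N + s) → h * N < d)
    (hT : N ≤ 2 * T + t) (hcnt : t + 2 * (m / (2 * h)) ≤ d / h)
    (hcase : (m % (2 * h) ≤ h ∧ d % h = 0 ∧ Odd (d / h + s) ∧ t + 2 * (m / (2 * h)) < d / h) ∨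
      (m % (2 * h) ≤ d % h ∧ Even (d / h + s)) ∨ (m % (2 * h) < d % h ∧ Odd (d / h + s))) :
    ∃ a, a ≤ T ∧ a * (2 * h) ≤ m ∧ m - a * (2 * h) + h * N + (N + s) % 2 ≤ d := by
  set A := m / (2 * h)
  set n := d / h
  have hd : h * n + d % h = d := Nat.div_add_mod d h
  have hm : 2 * h * A + m % (2 * h) = m := Nat.div_add_mod m (2 * h)
  have hl := Nat.mod_lt m (show 0 < 2 * h by omega)
  have hk := Nat.mod_lt d hh
  have hNn : N ≤ n := (Nat.le_div_iff_mul_le hh).2 (by rw [mul_comm]; exact hN)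
  simp only [Nat.odd_iff, Nat.even_iff] at hpar hcase
  -- the two cases
  suffices H : ∀ a, a ≤ A → (a = A ∨ N ≤ 2 * a + t) → m - a * (2 * h) + h * N + (N + s) % 2 ≤ d by
    refine ⟨min A T, min_le_right _ _, (Nat.mul_le_mul_right _ (min_le_left _ _)).trans (Nat.div_mul_le_self m _),
      H _ (min_le_left _ _) ?_⟩
    rcases Nat.le_total A T with hle | hle
    · exact Or.inl (min_eq_left hle)
    · right; rw [min_eq_right hle]; omega
  intro a haA hor
  obtain ⟨j, hj⟩ : ∃ j, A = a + j := ⟨A - a, by omega⟩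
  obtain ⟨g, hg⟩ : ∃ g, n = N + 2 * j + g := ⟨n - N - 2 * j, by rcases hor with h1 | h1 <;> omega⟩
  have e1 : m - a * (2 * h) = 2 * h * j + m % (2 * h) := by
    conv_lhs => rw [← hm, hj]
    rw [mul_add, mul_comm a]; omega
  have e2 : h * n = h * N + 2 * h * j + h * g := by rw [hg]; ring
  rw [e1]
  rcases g with _ | _ | g
  · simp only [mul_zero, add_zero] at e2 hg
    rcases hcase with ⟨h1, h2, h3, h4⟩ | ⟨h1, h3⟩ | ⟨h1, h3⟩
    · rcases Nat.eq_zero_or_pos j with hj0 | hj0
      · subst hj0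
        have hNn' : N = n := by omega
        rw [hNn'] at hpar
        have := hpar h3
        omega
      · rcases hor with h5 | h5
        · omega
        · omega
    · omega
    · omega
  · rcases hcase with ⟨h1, h2, h3, h4⟩ | ⟨h1, h3⟩ | ⟨h1, h3⟩ <;> omega
  · have h5 : 2 * h ≤ h * (g + 1 + 1) := by rw [mul_add, mul_add]; omega
    omega

end CfsgLib.Derangements.OrthInv
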