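import Cfsg.Agent.Lib.Derangements.OrthInvariant
import Cfsg.Agent.Lib.Derangements.LinearElusiveCount

/-!
# The number of totally singular subspaces of a given dimension
-/

set_option autoImplicit false
set_option linter.unusedSectionVars false

namespace CfsgLib.Derangements.OrthInv

open Module QuadraticMap CfsgLib.Classical CfsgLib.Derangements.LinElusive CfsgLib.Derangements.NullInv

variable {F : Type*} [Field F] [Fintype F] {V : Type*} [AddCommGroup V] [Module F V] [FiniteDimensional F V]
  {Q : QuadraticForm F V}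

/-- A singular frame extends to hyperbolic pairs. -/
theorem exists_pairs_of_frame (hN : (polarBilin Q).Nondegenerate) {k : ℕ} (hk : 2 * k + 1 ≤ finrank F V)
    (s : Fin k → V) (hs : LinearIndependent F s) (hs0 : ∀ a, Q (s a) = 0) (hsp : ∀ a b, polar Q (s a) (s b) = 0) :
    ∃ T : (Fin k ⊕ Fin k → F) →ₗ[F] V, (∀ v, Q (T v) = Orth.plusForm F k v) ∧
      ∀ a, T (Pi.single (Sum.inl a) 1) = s a := by
  obtain ⟨m, A, T₀, hT₀, -, hdim, hA2, -, -⟩ := Orth.exists_decomposition hN
  have hkm : k ≤ m := by omega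
  have hm := Fin.castLE_injective hkm
  let ι₀ : (Fin k ⊕ Fin k → F) →ₗ[F] (Fin m ⊕ Fin m → F) :=
    Function.ExtendByZero.linearMap F (Sum.map (Fin.castLE hkm) (Fin.castLE hkm))
  have hι : ∀ v, Orth.plusForm F m (ι₀ v) = Orth.plusForm F k v := fun v => by
    rw [← Orth.plusForm_apply, ← Orth.plusForm_apply]
    simp only [Cfsg.quadFormPlus]
    refine (Fintype.sum_of_injective (Fin.castLE hkm) hm _ _ (fun j hj => ?_) fun i => ?_).symm
    · have h1 : ι₀ v (Sum.inl j) = 0 := Function.extend_apply' _ _ _ (by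
        rintro ⟨a | a, ha⟩
        · exact hj ⟨a, Sum.inl_injective ha⟩
        · cases ha)
      rw [h1, zero_mul]
    · have hinj : Function.Injective (Sum.map (Fin.castLE hkm) (Fin.castLE hkm)) := Sum.map_injective.2 ⟨hm, hm⟩
      show _ = Function.extend _ v (0 : Fin m ⊕ Fin m → F) (Sum.map (Fin.castLE hkm) (Fin.castLE hkm) (Sum.inl i)) *
        Function.extend _ v (0 : Fin m ⊕ Fin m → F) (Sum.map (Fin.castLE hkm) (Fin.castLE hkm) (Sum.inr i))
      rw [hinj.extend_apply, hinj.extend_apply]
  let T₁ := T₀.comp ι₀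
  have hT₁ : ∀ v, Q (T₁ v) = Orth.plusForm F k v := fun v => (hT₀ _).trans (hι v)
  have hinj := Orth.injective_of_preserving (Orth.plusForm_nondeg k) T₁ hT₁
  obtain ⟨g, hg⟩ := Orth.witt_family' hN (fun a => T₁ (Pi.single (Sum.inl a) 1)) s
    (((Pi.basisFun F (Fin k ⊕ Fin k)).linearIndependent.comp Sum.inl Sum.inl_injective).map' T₁
      (LinearMap.ker_eq_bot.2 hinj) |> fun h => by simpa [Function.comp_def] using h) hs
    (fun a => by rw [hT₁, hs0, ← Orth.plusForm_apply]; simp [Cfsg.quadFormPlus])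
    (fun a b => by rw [Orth.polar_of_preserving T₁ hT₁, hsp, Orth.plusForm_polar]; simp [Pi.single_apply])
  exact ⟨(g.1 : V →ₗ[F] V).comp T₁, fun v => (Orth.apply_quad g _).trans (hT₁ v), hg⟩

/-- Ordered bases of totally singular subspaces and their number. -/
theorem card_sing_mul (hN : (polarBilin Q).Nondegenerate) {n m : ℕ} (hn : finrank F V = n) (hm : 2 * m ≤ n)
    (Z : ℕ → ℕ)
    (hZ : ∀ k < m, ∀ X : Submodule F V, NondegOn (polarBilin Q) X → finrank F X + 2 * k = n →
      (Even n → (PlusOn Q X ↔ PlusOn Q ⊤)) → zeroCount (Q.comp X.subtype) = Z k) :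
    Nat.card {W : Submodule F V // finrank F W = m ∧ ∀ w ∈ W, Q w = 0} *
        ∏ i : Fin m, (Fintype.card F ^ (m - i.1) - 1) = ∏ i : Fin m, (Z i.1 - 1) := by
  classical
  haveI : Finite V := Module.finite_of_finite F
  let Fr : ℕ → Type _ := fun k =>
    {s : Fin k → V // LinearIndependent F s ∧ (∀ a, Q (s a) = 0) ∧ ∀ a b, polar Q (s a) (s b) = 0}
  have hspan : ∀ {k : ℕ} (s : Fr k), ∀ u ∈ Submodule.span F (Set.range s.1),
      Q u = 0 ∧ ∀ a, polar Q (s.1 a) u = 0 := fun {k} s u hu => by
    induction hu using Submodule.span_induction with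
    | mem x hx => obtain ⟨b, rfl⟩ := hx; exact ⟨s.2.2.1 b, fun a => s.2.2.2 a b⟩
    | zero => exact ⟨QuadraticMap.map_zero Q, fun a => polar_zero_right Q _⟩
    | add x y hx hy hx' hy' =>
      refine ⟨?_, fun a => by rw [polar_add_right, hx'.2, hy'.2, add_zero]⟩
      have hxy : polar Q x y = 0 := by
        refine Submodule.span_induction (p := fun x _ => polar Q x y = 0) ?_ (polar_zero_left Q _) ?_ ?_ hx
        · rintro _ ⟨a, rfl⟩; exact hy'.2 a
        · intro a b _ _ ha hb; rw [polar_add_left, ha, hb, add_zero]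
        · intro c a _ ha; rw [Orth.polar_smul_l', ha, mul_zero]
      rw [QuadraticMap.map_add Q, hx'.1, hy'.1, hxy]; ring
    | smul c x _ hx => exact ⟨by rw [QuadraticMap.map_smul, hx.1, smul_zero],
        fun a => by rw [Orth.polar_smul_r', hx.2, mul_zero]⟩
  have hstep : ∀ k < m, ∀ s : Fr k,
      Nat.card {v : V // (v ∈ {v | (∀ a, polar Q (s.1 a) v = 0) ∧ Q v = 0}) ∧
        v ∉ Submodule.span F (Set.range s.1)} = Fintype.card F ^ k * (Z k - 1) := by
    intro k hk s
    obtain ⟨T, hT, hTs⟩ := exists_pairs_of_frame hN (by rw [hn]; omega) s.1 s.2.1 s.2.2.1 s.2.2.2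
    have hinj := Orth.injective_of_preserving (Orth.plusForm_nondeg k) T hT
    have hpp : ∀ a b, polar Q (T a) (T b) = polar (Orth.plusForm F k) a b := Orth.polar_of_preserving T hT
    set X := perp (polarBilin Q) (LinearMap.range T) with hX
    have hrn : NondegOn (polarBilin Q) (LinearMap.range T) := nondegOn_iff.2 (by
      rintro _ ⟨w, rfl⟩ h
      have : w = 0 := (Orth.plusForm_nondeg k).2 w fun u => by
        rw [polarBilin_apply_apply, ← hpp, ← polarBilin_apply_apply]; exact h _ ⟨u, rfl⟩
      rw [this, map_zero])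
    have hrd : finrank F (LinearMap.range T) = 2 * k := by
      rw [LinearMap.finrank_range_of_inj hinj]; simp [two_mul]
    have hXn : NondegOn (polarBilin Q) X := nondegOn_perp hN.2 hrn
    have hXd : finrank F X + 2 * k = n := by
      have := hrn.finrank_perp
      rw [hrd, hn] at this
      rw [← this, add_comm]
    have hz := hZ k hk X hXn hXd fun hev => by
      obtain ⟨U₀, hU₀, hU₀d⟩ := EvenForms.plus_plusForm (F := F) k
      have hp : PlusOn Q (LinearMap.range T) := ⟨U₀.map T, LinearMap.map_le_range,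
        by rintro _ ⟨w, hw, rfl⟩; rw [hT]; exact hU₀ w hw,
        by rw [← (Submodule.equivMapOfInjective T hinj _).finrank_eq, hU₀d, hrd]⟩
      rw [plus_sum_iff hN hrn.isCompl (fun x hx y hy => mem_perp.1 hy x hx) hrn hXn ⟨k, by omega⟩
        (show Even (finrank F X) by rw [Nat.even_iff] at hev ⊢; omega)]
      tauto
    let emb : (Fin k → F) → (Fin k ⊕ Fin k → F) := fun a => Sum.elim a 0
    have hTe : ∀ a, T (emb a) = ∑ j, a j • s.1 j := fun a => by
      conv_lhs => rw [pi_eq_sum_univ' (emb a)]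
      simp [emb, Fintype.sum_sum_type, hTs]
    have hTw : ∀ (w : Fin k ⊕ Fin k → F) (v : V), (∀ a, polar Q (s.1 a) v = 0) →
        polar Q (T w) v = ∑ j, w (Sum.inr j) * polar Q (T (Pi.single (Sum.inr j) 1)) v := fun w v hv => by
      conv_lhs => rw [pi_eq_sum_univ' w]
      rw [← polarBilin_apply_apply, map_sum, map_sum, LinearMap.sum_apply, Fintype.sum_sum_type]
      simp [hTs, hv, Orth.polar_smul_l']
    have hx0 : ∀ (w : Fin k ⊕ Fin k → F) (x : X), polar Q (T w) (x : V) = 0 := fun w x =>
      mem_perp.1 x.2 _ ⟨w, rfl⟩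
    let e : (Fin k → F) × {x : X // Q.comp X.subtype x = 0} ≃
        {v : V // (∀ a, polar Q (s.1 a) v = 0) ∧ Q v = 0} :=
      { toFun := fun p => ⟨T (emb p.1) + (p.2.1 : V), fun a => by
            rw [← hTs, polar_add_right, hpp, hx0,
              Orth.plusForm_polar, add_zero]
            simp [emb, Pi.single_apply], by
            rw [QuadraticMap.map_add Q, hT, ← Orth.plusForm_apply, show Q (p.2.1 : V) = 0 from p.2.2,
              hx0]
            simp [Cfsg.quadFormPlus, emb]⟩
        invFun := fun v => (fun j => polar Q (T (Pi.single (Sum.inr j) 1)) v.1,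
          ⟨⟨v.1 - T (emb fun j => polar Q (T (Pi.single (Sum.inr j) 1)) v.1), mem_perp.2 (by
            rintro _ ⟨w, rfl⟩
            rw [polarBilin_apply_apply, polar_sub_right, hTw w v.1 v.2.1, hpp, Orth.plusForm_polar, sub_eq_zero]
            simp [emb])⟩, by
            set t := T (emb fun j => polar Q (T (Pi.single (Sum.inr j) 1)) v.1) with ht
            have h1 : Q t = 0 := by rw [ht, hT, ← Orth.plusForm_apply]; simp [Cfsg.quadFormPlus, emb]
            have h2 : polar Q t v.1 = 0 := by rw [ht, hTw _ _ v.2.1]; simp [emb]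
            show Q (v.1 - t) = 0
            rw [sub_eq_add_neg, QuadraticMap.map_add Q, QuadraticMap.map_neg, h1, v.2.2, polar_neg_right,
              polar_comm, h2]
            ring⟩)
        left_inv := fun p => by
          have h1 : ∀ j, polar Q (T (Pi.single (Sum.inr j) 1)) (T (emb p.1) + (p.2.1 : V)) = p.1 j := fun j => by
            rw [polar_add_right, hpp, hx0,
              Orth.plusForm_polar, add_zero]
            simp [emb, Pi.single_apply]
          refine Prod.ext (funext h1) (Subtype.ext (Subtype.ext ?_))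
          simp only [h1]
          exact add_sub_cancel_left _ _
        right_inv := fun v => Subtype.ext (add_sub_cancel _ _) }
    have hS : Nat.card {v : V // (∀ a, polar Q (s.1 a) v = 0) ∧ Q v = 0} = Fintype.card F ^ k * Z k := by
      rw [← Nat.card_congr e, Nat.card_prod, ← hz, Nat.card_fun, Nat.card_eq_fintype_card, Nat.card_eq_fintype_card,
        Fintype.card_fin]
      rfl
    have hsp : Nat.card (Submodule.span F (Set.range s.1)) = Fintype.card F ^ k := by
      rw [Module.natCard_eq_pow_finrank (K := F), finrank_span_eq_card s.2.1, Fintype.card_fin,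
        Nat.card_eq_fintype_card]
    calc Nat.card {v : V // (v ∈ {v | (∀ a, polar Q (s.1 a) v = 0) ∧ Q v = 0}) ∧
          v ∉ Submodule.span F (Set.range s.1)}
        = Nat.card ↥({v | (∀ a, polar Q (s.1 a) v = 0) ∧ Q v = 0} \
            (Submodule.span F (Set.range s.1) : Set V)) := rfl
      _ = _ := by
        rw [Nat.card_coe_set_eq, Set.ncard_diff (t := {v | (∀ a, polar Q (s.1 a) v = 0) ∧ Q v = 0})
            (fun u hu => ⟨(hspan s u hu).2, (hspan s u hu).1⟩),
          ← Nat.card_coe_set_eq, ← Nat.card_coe_set_eq, Nat.mul_sub_one]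
        exact congrArg₂ (· - ·) hS hsp
  have hframes : ∀ k, k ≤ m → Nat.card (Fr k) = ∏ i : Fin k, (Fintype.card F ^ i.1 * (Z i.1 - 1)) := fun k => by
    induction k with
    | zero =>
      intro _
      rw [Fin.prod_univ_zero]
      exact Nat.card_eq_one_iff_unique.2 ⟨⟨fun a b => Subtype.ext (Subsingleton.elim _ _)⟩,
        ⟨⟨Fin.elim0, linearIndependent_empty_type, fun a => a.elim0, fun a => a.elim0⟩⟩⟩
    | succ k ih =>
      intro hk
      let e : Fr (k + 1) ≃ Σ s : Fr k, {v : V // (v ∈ {v | (∀ a, polar Q (s.1 a) v = 0) ∧ Q v = 0}) ∧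
          v ∉ Submodule.span F (Set.range s.1)} :=
        { toFun := fun t => ⟨⟨Fin.init t.1, (linearIndependent_finSnoc.1
            (by rw [Fin.snoc_init_self]; exact t.2.1)).1, fun a => t.2.2.1 _, fun a b => t.2.2.2 _ _⟩,
            t.1 (Fin.last k), ⟨fun a => t.2.2.2 _ _, t.2.2.1 _⟩,
            (linearIndependent_finSnoc.1 (by rw [Fin.snoc_init_self]; exact t.2.1)).2⟩
          invFun := fun x => ⟨Fin.snoc x.1.1 x.2.1, linearIndependent_finSnoc.2 ⟨x.1.2.1, x.2.2.2⟩, fun a => by
              induction a using Fin.lastCases with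
              | last => rw [Fin.snoc_last]; exact x.2.2.1.2
              | cast a => rw [Fin.snoc_castSucc]; exact x.1.2.2.1 a, fun a b => by
            induction a using Fin.lastCases with
            | last =>
              induction b using Fin.lastCases with
              | last => rw [Fin.snoc_last, Orth.polar_self', x.2.2.1.2, mul_zero]
              | cast b => rw [Fin.snoc_last, Fin.snoc_castSucc, polar_comm]; exact x.2.2.1.1 b
            | cast a =>
              induction b using Fin.lastCases with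
              | last => rw [Fin.snoc_last, Fin.snoc_castSucc]; exact x.2.2.1.1 a
              | cast b => rw [Fin.snoc_castSucc, Fin.snoc_castSucc, x.1.2.2.2]⟩
          left_inv := fun t => Subtype.ext (Fin.snoc_init_self t.1)
          right_inv := fun x => Sigma.subtype_ext (Subtype.ext (Fin.init_snoc (α := fun _ => V) _ _))
            (Fin.snoc_last (α := fun _ => V) _ _) }
      rw [Nat.card_congr e, card_sigma_const (hstep k (by omega)), ih (by omega), Fin.prod_univ_castSucc]
      simp only [Fin.val_castSucc, Fin.val_last]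
  have h1 : Nat.card {W : Submodule F V // finrank F W = m ∧ ∀ w ∈ W, Q w = 0} *
      liCount F (Fin m → F) m = Nat.card (Fr m) := by
    haveI : Fintype {W : Submodule F V // finrank F W = m ∧ ∀ w ∈ W, Q w = 0} := Fintype.ofFinite _
    let φ : Fr m → {W : Submodule F V // finrank F W = m ∧ ∀ w ∈ W, Q w = 0} := fun s =>
      ⟨Submodule.span F (Set.range s.1), (finrank_span_eq_card s.2.1).trans (Fintype.card_fin m),
        fun u hu => (hspan s u hu).1⟩
    rw [← Nat.card_congr (Equiv.sigmaFiberEquiv φ), Nat.card_sigma, liCount]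
    rw [Finset.sum_const_nat (m := Nat.card {s : Fin m → Fin m → F // LinearIndependent F s}) fun W _ => ?_,
      Finset.card_univ, ← Nat.card_eq_fintype_card]
    have e : (Fin m → F) ≃ₗ[F] W.1 := LinearEquiv.ofFinrankEq _ _ (by rw [finrank_fin_fun, W.2.1])
    refine Nat.card_congr
      { toFun := fun s => ⟨fun i => e.symm ⟨s.1.1 i, congrArg Subtype.val s.2 ▸ Submodule.subset_span ⟨i, rfl⟩⟩, ?_⟩
        invFun := fun t => ⟨⟨fun i => (e (t.1 i) : V), ?_, ?_, ?_⟩, ?_⟩
        left_inv := fun s => Subtype.ext (Subtype.ext (funext fun i => by simp))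
        right_inv := fun t => Subtype.ext (funext fun i => by simp) }
    · refine LinearIndependent.map' ?_ e.symm.toLinearMap e.symm.ker
      exact LinearIndependent.of_comp W.1.subtype s.1.2.1
    · exact (t.2.map' e.toLinearMap e.ker).map' W.1.subtype W.1.ker_subtype
    · exact fun a => W.2.2 _ (e (t.1 a)).2
    · exact fun a b => (Sing.null (show Sing Q W.1 from W.2.2)) _ (e (t.1 a)).2 _ (e (t.1 b)).2
    · refine Subtype.ext (Submodule.eq_of_le_of_finrank_eq ?_ ?_)
      · rw [Submodule.span_le]; rintro _ ⟨i, rfl⟩; exact (e (t.1 i)).2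
      · exact ((finrank_span_eq_card ((t.2.map' e.toLinearMap e.ker).map' W.1.subtype W.1.ker_subtype)).trans
          (Fintype.card_fin m)).trans W.2.1.symm
  rw [hframes m le_rfl, liCount_eq (by simp), Module.finrank_fin_fun, Finset.prod_mul_distrib, Finset.prod_mul_distrib,
    mul_left_comm] at h1
  exact Nat.eq_of_mul_eq_mul_left (Finset.prod_pos fun i _ => pow_pos Fintype.card_pos _) h1

/-- Non-degenerate forms in odd dimension are proportional to the standard one. -/
theorem exists_odd_iso (hN : (polarBilin Q).Nondegenerate) {e : ℕ} (hd : finrank F V = 2 * e + 1) :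
    ∃ (α : F) (φ : (Unit ⊕ (Fin e ⊕ Fin e) → F) ≃ₗ[F] V), α ≠ 0 ∧
      ∀ v, Q (φ v) = α * Orth.oddForm F e v := by
  obtain ⟨m, A, T, hT, hTA, hdim, hA2, hanis, -⟩ := Orth.exists_decomposition hN
  obtain rfl : m = e := by omega
  obtain ⟨a, ha, ha0⟩ := Submodule.exists_mem_ne_zero_of_ne_bot (p := A) fun h => by
    rw [h, finrank_bot] at hdim; omega
  have hα : Q a ≠ 0 := fun h => ha0 (hanis a ha h)
  let sc : (Unit ⊕ (Fin m ⊕ Fin m) → F) →ₗ[F] (Fin m ⊕ Fin m → F) :=
    LinearMap.pi (Sum.elim (fun j => LinearMap.proj (Sum.inr (Sum.inl j)))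
      fun j => Q a • LinearMap.proj (Sum.inr (Sum.inr j)))
  let f : (Unit ⊕ (Fin m ⊕ Fin m) → F) →ₗ[F] V :=
    (LinearMap.proj (Sum.inl ())).smulRight a + T.comp sc
  have hf : ∀ v, Q (f v) = Q a * Orth.oddForm F m v := fun v => by
    simp only [f, LinearMap.add_apply, LinearMap.comp_apply, LinearMap.smulRight_apply, LinearMap.proj_apply]
    rw [QuadraticMap.map_add Q, QuadraticMap.map_smul, hT, Orth.polar_smul_l', polar_comm, hTA _ a ha,
      ← Orth.plusForm_apply, ← Orth.oddForm_apply]
    simp only [Cfsg.quadFormPlus, Cfsg.quadFormOdd, sc, LinearMap.pi_apply, Sum.elim_inl, Sum.elim_inr,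
      LinearMap.proj_apply, LinearMap.smul_apply, smul_eq_mul, mul_zero, add_zero]
    rw [mul_add, Finset.mul_sum]
    congr 1
    · ring
    · exact Finset.sum_congr rfl fun j _ => by ring
  have hinj : Function.Injective f := (injective_iff_map_eq_zero _).2 fun v hv => by
    simp only [f, LinearMap.add_apply, LinearMap.comp_apply, LinearMap.smulRight_apply, LinearMap.proj_apply] at hv
    have h1 : v (Sum.inl ()) • a = 0 := by
      refine hanis _ (A.smul_mem _ ha) ?_
      rw [eq_neg_of_add_eq_zero_left hv, QuadraticMap.map_neg]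
      have h0 : polar Q (T (sc v)) (T (sc v)) = 0 ∧ Q (T (sc v)) = Q (v (Sum.inl ()) • a) := by
        refine ⟨?_, by rw [eq_neg_of_add_eq_zero_left hv, QuadraticMap.map_neg]⟩
        have := hTA (sc v) _ (A.smul_mem (v (Sum.inl ())) ha)
        rwa [eq_neg_of_add_eq_zero_left hv, polar_neg_right, neg_eq_zero] at this
      have h2 : (polarBilin (Orth.plusForm F m)).Nondegenerate := Orth.plusForm_nondeg m
      have h3 : sc v = 0 := h2.1 _ fun w => by
        rw [polarBilin_apply_apply, ← Orth.polar_of_preserving T hT, polar_comm]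
        have := hTA w _ (A.smul_mem (v (Sum.inl ())) ha)
        rwa [eq_neg_of_add_eq_zero_left hv, polar_neg_right, neg_eq_zero] at this
      rw [h3, map_zero, QuadraticMap.map_zero]
    rw [h1, zero_add] at hv
    have h2 : sc v = 0 := Orth.injective_of_preserving (Orth.plusForm_nondeg m) T hT (hv.trans (map_zero T).symm)
    funext i
    rcases i with ⟨⟩ | i | i
    · exact (smul_eq_zero.1 h1).resolve_right ha0
    · simpa [sc] using congrFun h2 (Sum.inl i)
    · simpa [sc, hα] using congrFun h2 (Sum.inr i)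
  exact ⟨Q a, LinearEquiv.ofBijective f ⟨hinj, (LinearMap.injective_iff_surjective_of_finrank_eq_finrank (by
    simp [hd]; ring)).1 hinj⟩, hα, hf⟩

variable {r : ℕ} [Fact r.Prime]

/-- Odd dimension: divisors of the number of totally singular subspaces. -/
theorem exists_dvd_odd (hN : (polarBilin Q).Nondegenerate) {d m : ℕ} (hd : finrank F V = 2 * d + 1) (hmd : m ≤ d)
    (hr : r ∣ Nat.card {W : Submodule F V // finrank F W = m ∧ ∀ w ∈ W, Q w = 0}) :
    ∃ j < m, r ∣ Fintype.card F ^ (2 * (d - j)) - 1 := by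
  have h := card_sing_mul hN hd (m := m) (by omega) (fun k => Fintype.card F ^ (2 * (d - k)))
    fun k hk X hX hXd _ => by
      obtain ⟨α, φ, hα, hφ⟩ := exists_odd_iso (comp_nondeg hX) (e := d - k) (by omega)
      rw [← zeroCount_odd (F := F) rfl (d - k)]
      exact (Nat.card_congr (φ.toEquiv.subtypeEquiv fun v => by
        rw [LinearEquiv.coe_toEquiv, hφ, mul_eq_zero, or_iff_right hα])).symm
  have h1 : r ∣ ∏ i : Fin m, (Fintype.card F ^ (2 * (d - i.1)) - 1) := h ▸ hr.mul_right _
  obtain ⟨j, -, hj⟩ := ((Fact.out : r.Prime).prime.dvd_finset_prod_iff _).1 h1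
  exact ⟨j, j.2, hj⟩

/-- Even dimension: divisors of the number of totally singular subspaces. -/
theorem exists_dvd_even (hN : (polarBilin Q).Nondegenerate) {d m : ℕ} (hd : finrank F V = 2 * d) (hmd : m + 1 ≤ d)
    (hr : r ∣ Nat.card {W : Submodule F V // finrank F W = m ∧ ∀ w ∈ W, Q w = 0}) :
    ∃ j < m, (PlusOn Q ⊤ → (Fintype.card F : ZMod r) ^ (d - j) = 1 ∨ (Fintype.card F : ZMod r) ^ (d - 1 - j) = -1) ∧
      (¬ PlusOn Q ⊤ → (Fintype.card F : ZMod r) ^ (d - j) = -1 ∨ (Fintype.card F : ZMod r) ^ (d - 1 - j) = 1) := by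
  classical
  set q : ℤ := (Fintype.card F : ℤ)
  let f : ℕ → ℤ := fun k => if PlusOn Q ⊤ then (q ^ (d - k) - 1) * (q ^ (d - k - 1) + 1)
    else (q ^ (d - k) + 1) * (q ^ (d - k - 1) - 1)
  have hq1 : ∀ e, 1 ≤ q ^ e := fun e => one_le_pow₀ (by
    have := Fintype.card_pos (α := F)
    omega)
  have hfn : ∀ k, 0 ≤ f k := fun k => by
    simp only [f]
    have h1 := hq1 (d - k)
    have h2 := hq1 (d - k - 1)
    split_ifs <;> apply mul_nonneg <;> linarith
  have h := card_sing_mul hN hd (m := m) (by omega) (fun k => (f k + 1).toNat) fun k hk X hX hXd hiff => by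
    have hXe : finrank F X = 2 * (d - k) := by omega
    obtain ⟨hp, hm⟩ := EvenForms.zeroCount_eq (comp_nondeg hX) (q := Fintype.card F) rfl (d := d - k) (by omega) hXe
    have h1 := hiff ⟨d, by omega⟩
    rw [plusOn_iff hXe] at h1
    have : (zeroCount (Q.comp X.subtype) : ℤ) - 1 = f k := by
      simp only [f]
      split_ifs with h2
      · exact hp (h1.2 h2)
      · exact hm fun h3 => h2 (h1.1 h3)
    rw [show f k + 1 = (zeroCount (Q.comp X.subtype) : ℤ) by linarith, Int.toNat_natCast]
  have h1 : r ∣ ∏ i : Fin m, ((f i.1 + 1).toNat - 1) := h ▸ hr.mul_right _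
  obtain ⟨j, -, hj⟩ := ((Fact.out : r.Prime).prime.dvd_finset_prod_iff _).1 h1
  have h2 : ((r : ℤ)) ∣ f j.1 := by
    have h3 : (((f j.1 + 1).toNat - 1 : ℕ) : ℤ) = f j.1 := by have := hfn j.1; omega
    rw [← h3]; exact Int.natCast_dvd_natCast.2 hj
  rw [← ZMod.intCast_zmod_eq_zero_iff_dvd] at h2
  refine ⟨j, j.2, fun hp => ?_, fun hp => ?_⟩ <;>
    simp only [f, if_pos, if_neg, hp, not_false_iff, if_true, if_false] at h2 <;>
    push_cast at h2 <;>
    simp only [q, Int.cast_natCast] at h2 <;>
    rw [Nat.sub_right_comm] at h2 <;>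
    rcases mul_eq_zero.1 h2 with h4 | h4 <;>
    first
      | exact Or.inl (sub_eq_zero.1 h4)
      | exact Or.inl (eq_neg_of_add_eq_zero_left h4)
      | exact Or.inr (sub_eq_zero.1 h4)
      | exact Or.inr (eq_neg_of_add_eq_zero_left h4)

end CfsgLib.Derangements.OrthInv
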