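import Mathlib

/-!
# Block sizes of nilpotent maps from rank sequences

The ranks of the powers of a nilpotent map on an invariant subspace are `k ↦ ∑ (e - k)` for a unique multiset of
block sizes `e`.
-/

set_option autoImplicit false

namespace CfsgLib.Derangements.JordanRanks

open Module

/-- The rank of the `k`-th power of a nilpotent map with block sizes `μ`. -/
def rankSeq (μ : Multiset ℕ) (k : ℕ) : ℕ := (μ.map (· - k)).sum

theorem rankSeq_add (μ ν : Multiset ℕ) (k : ℕ) : rankSeq (μ + ν) k = rankSeq μ k + rankSeq ν k := by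
  simp [rankSeq]

theorem rankSeq_zero (μ : Multiset ℕ) : rankSeq μ 0 = μ.sum := by
  simp [rankSeq]

theorem rankSeq_second_diff (μ : Multiset ℕ) (k : ℕ) :
    rankSeq μ k + rankSeq μ (k + 2) = 2 * rankSeq μ (k + 1) + μ.count (k + 1) := by
  induction μ using Multiset.induction_on with
  | empty => simp [rankSeq]
  | cons e μ ih =>
    simp only [rankSeq, Multiset.map_cons, Multiset.sum_cons, Multiset.count_cons] at ih ⊢
    split_ifs with h <;> omega

theorem rankSeq_injective {μ ν : Multiset ℕ} (hμ : 0 ∉ μ) (hν : 0 ∉ ν) (h : ∀ k, rankSeq μ k = rankSeq ν k) :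
    μ = ν := by
  ext e
  rcases e with _ | k
  · rw [Multiset.count_eq_zero_of_notMem hμ, Multiset.count_eq_zero_of_notMem hν]
  · have h1 := rankSeq_second_diff μ k
    have h2 := rankSeq_second_diff ν k
    rw [h, h, h] at h1
    omega

/-- A convex sequence that becomes zero is the rank sequence of some block sizes. -/
theorem exists_rankSeq (m : ℕ) (r : ℕ → ℕ) (hr : ∀ k, m ≤ k → r k = 0)
    (hconv : ∀ k, 2 * r (k + 1) ≤ r k + r (k + 2)) : ∃ ν : Multiset ℕ, 0 ∉ ν ∧ ∀ k, rankSeq ν k = r k := by
  induction m generalizing r with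
  | zero => exact ⟨0, by simp, fun k => by simp [rankSeq, hr k (Nat.zero_le k)]⟩
  | succ m ih =>
    obtain ⟨ν, hν0, hν⟩ := ih (fun k => r (k + 1)) (fun k hk => hr _ (by omega)) fun k => hconv (k + 1)
    refine ⟨ν.map (· + 1) + Multiset.replicate (r 0 - (r 1 + ν.card)) 1, ?_, fun k => ?_⟩
    · simp [Multiset.mem_replicate]
    have hcard : rankSeq ν 0 = rankSeq ν 1 + ν.card := by
      clear hν
      induction ν using Multiset.induction_on with
      | empty => simp [rankSeq]
      | cons e ν ih' =>
        have h1 := ih' fun h => hν0 (Multiset.mem_cons_of_mem h)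
        have h2 : e ≠ 0 := fun h => hν0 (by simp [h])
        simp [rankSeq] at h1 ⊢
        omega
    have h01 := hν 0
    have h11 := hν 1
    have hc0 := hconv 0
    norm_num at h01 h11 hc0
    rcases k with _ | k
    · rw [rankSeq_zero] at h01 ⊢
      rw [rankSeq_zero] at hcard
      simp [Multiset.sum_map_add]
      omega
    · rw [rankSeq_add]
      have h1 : rankSeq (ν.map (· + 1)) (k + 1) = rankSeq ν k := by simp [rankSeq, Multiset.map_map]
      have h2 : rankSeq (Multiset.replicate (r 0 - (r 1 + ν.card)) 1) (k + 1) = 0 := by simp [rankSeq]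
      rw [h1, h2, add_zero, hν]

variable {F : Type*} [Field F] {V : Type*} [AddCommGroup V] [Module F V] [FiniteDimensional F V]

theorem finrank_map_add_inf_ker (N : V →ₗ[F] V) (W : Submodule F V) :
    finrank F (W.map N) + finrank F (W ⊓ LinearMap.ker N : Submodule F V) = finrank F W := by
  have h := (N.domRestrict W).finrank_range_add_finrank_ker
  rw [LinearMap.range_domRestrict] at h
  rw [← h]
  congr 1
  rw [LinearMap.ker_domRestrict]
  have h1 : (LinearMap.ker N).comap W.subtype = (W ⊓ LinearMap.ker N).comap W.subtype := by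
    ext ⟨u, hu⟩
    simp [hu]
  rw [h1]
  exact (Submodule.comapSubtypeEquivOfLe inf_le_left).symm.finrank_eq

/-- A nilpotent map has block sizes on each invariant subspace. -/
theorem exists_blocks (N : V →ₗ[F] V) {m : ℕ} (hN : N ^ m = 0) (D : Submodule F V) (hD : D.map N ≤ D) :
    ∃ ν : Multiset ℕ, 0 ∉ ν ∧ ∀ k, rankSeq ν k = finrank F (D.map (N ^ k)) := by
  have hsucc : ∀ k, D.map (N ^ (k + 1)) = (D.map (N ^ k)).map N := fun k => by
    rw [pow_succ', ← Submodule.map_comp]; rfl
  have hmono : ∀ k, D.map (N ^ (k + 1)) ≤ D.map (N ^ k) := fun k => by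
    rw [pow_succ, Module.End.mul_eq_comp, Submodule.map_comp]
    exact Submodule.map_mono hD
  refine exists_rankSeq m _ (fun k hk => ?_) fun k => ?_
  · obtain ⟨l, rfl⟩ := Nat.exists_eq_add_of_le hk
    simp [pow_add, hN]
  · have h1 := finrank_map_add_inf_ker N (D.map (N ^ k))
    have h2 := finrank_map_add_inf_ker N (D.map (N ^ (k + 1)))
    rw [← hsucc] at h1 h2
    have h3 := Submodule.finrank_mono (inf_le_inf_right (LinearMap.ker N) (hmono k))
    show 2 * finrank F (D.map (N ^ (k + 1))) ≤ finrank F (D.map (N ^ k)) + finrank F (D.map (N ^ (k + 1 + 1)))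
    omega

/-- Ranks add over a decomposition into invariant subspaces. -/
theorem finrank_range_pow_eq_add (N : V →ₗ[F] V) {D C : Submodule F V} (h : IsCompl D C) (hD : D.map N ≤ D)
    (hC : C.map N ≤ C) (k : ℕ) :
    finrank F (LinearMap.range (N ^ k)) = finrank F (D.map (N ^ k)) + finrank F (C.map (N ^ k)) := by
  have hpow : ∀ (E : Submodule F V), E.map N ≤ E → E.map (N ^ k) ≤ E := fun E hE => by
    clear hD hC
    induction k with
    | zero => rw [pow_zero, Module.End.one_eq_id, Submodule.map_id]
    | succ k ih =>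
      rw [pow_succ', Module.End.mul_eq_comp, Submodule.map_comp]
      exact (Submodule.map_mono ih).trans hE
  rw [← Submodule.map_top, ← h.sup_eq_top, Submodule.map_sup]
  have hdis : D.map (N ^ k) ⊓ C.map (N ^ k) = ⊥ :=
    le_bot_iff.1 ((inf_le_inf (hpow D hD) (hpow C hC)).trans h.inf_eq_bot.le)
  have := Submodule.finrank_sup_add_finrank_inf_eq (D.map (N ^ k)) (C.map (N ^ k))
  rw [hdis, finrank_bot, add_zero] at this
  exact this

/-- The shift map with given block sizes. -/
theorem exists_shift (ι : Type) [Fintype ι] (e : ι → ℕ) :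
    ∃ N : ((Σ i, Fin (e i)) → F) →ₗ[F] ((Σ i, Fin (e i)) → F),
      ∀ k, finrank F (LinearMap.range (N ^ k)) = rankSeq (Finset.univ.val.map e) k := by
  classical
  let κ := Σ i, Fin (e i)
  let N : (κ → F) →ₗ[F] (κ → F) :=
    { toFun := fun v q => if h : 1 ≤ (q.2 : ℕ) then v ⟨q.1, ⟨q.2 - 1, by omega⟩⟩ else 0
      map_add' := fun v w => by funext q; simp only [Pi.add_apply]; split_ifs <;> simp
      map_smul' := fun c v => by funext q; simp only [Pi.smul_apply, RingHom.id_apply]; split_ifs <;> simp }
  refine ⟨N, fun k => ?_⟩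
  have hpow : ∀ (k : ℕ) (v : κ → F) (q : κ),
      (N ^ k) v q = if h : k ≤ (q.2 : ℕ) then v ⟨q.1, ⟨q.2 - k, by omega⟩⟩ else 0 := by
    intro k
    induction k with
    | zero => intro v q; simp
    | succ k ih =>
      intro v q
      rw [pow_succ, Module.End.mul_apply, ih]
      simp only [N, LinearMap.coe_mk, AddHom.coe_mk]
      split_ifs with h1 h2 h3 <;> try (first | rfl | omega)
  let S := {q : κ // k ≤ (q.2 : ℕ)}
  let φ : (κ → F) →ₗ[F] (S → F) :=
    LinearMap.funLeft F F fun q => ⟨q.1.1, ⟨q.1.2 - k, by omega⟩⟩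
  let ψ : (S → F) →ₗ[F] (κ → F) :=
    { toFun := fun w q => if h : k ≤ (q.2 : ℕ) then w ⟨q, h⟩ else 0
      map_add' := fun v w => by funext q; simp only [Pi.add_apply]; split_ifs <;> simp
      map_smul' := fun c v => by funext q; simp only [Pi.smul_apply, RingHom.id_apply]; split_ifs <;> simp }
  have hcomp : N ^ k = ψ ∘ₗ φ := LinearMap.ext fun v => funext fun q => by
    rw [hpow]
    rfl
  have hφ : Function.Surjective φ := LinearMap.funLeft_surjective_of_injective F F _ fun q r h => by
    obtain ⟨⟨i, s⟩, hs⟩ := q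
    obtain ⟨⟨j, t⟩, ht⟩ := r
    have h1 : i = j := congrArg Sigma.fst h
    subst h1
    have h2 := congrArg (fun q : κ => (q.2 : ℕ)) h
    simp only at h2 hs ht
    have : s = t := Fin.ext (by omega)
    subst this
    rfl
  have hψ : Function.Injective ψ := fun v w h => funext fun q => by
    have := congrFun h q.1
    simpa [ψ, q.2] using this
  rw [hcomp, LinearMap.range_comp_of_range_eq_top _ (LinearMap.range_eq_top.2 hφ),
    LinearMap.finrank_range_of_inj hψ, finrank_fintype_fun_eq_card]
  have hS : Fintype.card S = ∑ i, (e i - k) := by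
    have h1 : S ≃ Σ i, {s : Fin (e i) // k ≤ (s : ℕ)} :=
      { toFun := fun q => ⟨q.1.1, ⟨q.1.2, q.2⟩⟩
        invFun := fun q => ⟨⟨q.1, q.2.1⟩, q.2.2⟩
        left_inv := fun q => rfl
        right_inv := fun q => rfl }
    rw [Fintype.card_congr h1, Fintype.card_sigma]
    refine Finset.sum_congr rfl fun i _ => ?_
    have h2 : {s : Fin (e i) // k ≤ (s : ℕ)} ≃ Fin (e i - k) :=
      { toFun := fun s => ⟨(s.1 : ℕ) - k, by omega⟩
        invFun := fun t => ⟨⟨t + k, by omega⟩, by simp⟩
        left_inv := fun s => by ext; simp; omega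
        right_inv := fun t => by ext; simp }
    rw [Fintype.card_congr h2, Fintype.card_fin]
  rw [hS, rankSeq, Multiset.map_map]
  rfl

end CfsgLib.Derangements.JordanRanks
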