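import Mathlib
import Cfsg.Prelude.Def_GeometricClasses
import Cfsg.Agent.Lib.Classical.SympBasic
import Cfsg.Agent.Lib.Orth.Bridge
import Cfsg.Agent.Lib.Orth.Similitude
import Cfsg.Agent.Lib.Derangements.JordanRanks

/-!
# Unipotent elements of orthogonal groups in odd characteristic

Block sizes of unipotent isometries (even sizes have even multiplicity) and elements with given block sizes.
-/

set_option autoImplicit false
set_option linter.unusedSectionVars false

namespace CfsgLib.Derangements.OrthUnipotent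

open Module CfsgLib.Classical CfsgLib.Derangements.JordanRanks

universe u

variable {F : Type u} [Field F]

section Parity

variable {V : Type*} [AddCommGroup V] [Module F V] [FiniteDimensional F V]

theorem finrank_range_units_mul (u : (Module.End F V)ˣ) (S : Module.End F V) :
    finrank F (LinearMap.range ((u : Module.End F V) * S)) = finrank F (LinearMap.range S) := by
  have hinj : Function.Injective (u : Module.End F V) := fun a b h => by
    have := congrArg ((↑(u⁻¹) : Module.End F V)) h
    rwa [← Module.End.mul_apply, ← Module.End.mul_apply, u.inv_mul, Module.End.one_apply,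
      Module.End.one_apply] at this
  rw [Module.End.mul_eq_comp, LinearMap.range_comp]
  exact (Submodule.equivMapOfInjective _ hinj _).finrank_eq.symm

theorem skew_pow {B : V →ₗ[F] V →ₗ[F] F} {S : Module.End F V} (hS : ∀ u v, B (S u) v + B u (S v) = 0) :
    ∀ (k : ℕ) (u v : V), B ((S ^ k) u) v = (-1) ^ k * B u ((S ^ k) v) := by
  intro k
  induction k with
  | zero => intro u v; simp
  | succ k ih =>
    intro u v
    rw [pow_succ' S, Module.End.mul_apply, eq_neg_of_add_eq_zero_left (hS _ v), ih, pow_succ (-1 : F),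
      show S * S ^ k = S ^ k * S from (Commute.pow_self S k).symm.eq, Module.End.mul_apply]
    ring

/-- The odd powers of a skew map have even rank. -/
theorem even_rank_odd_pow (h2 : (2 : F) ≠ 0) {B : V →ₗ[F] V →ₗ[F] F} (hB : ∀ u v, B u v = B v u)
    (hnd : ∀ u, (∀ v, B u v = 0) → u = 0) {S : Module.End F V} (hS : ∀ u v, B (S u) v + B u (S v) = 0)
    {k : ℕ} (hk : Odd k) : Even (finrank F (LinearMap.range (S ^ k))) := by
  let β : V →ₗ[F] V →ₗ[F] F := B.comp (S ^ k)
  have hβ : ∀ u, β u u = 0 := fun u => by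
    have h := skew_pow hS k u u
    rw [hk.neg_one_pow, neg_one_mul, hB u] at h
    refine (mul_eq_zero.1 (show (2 : F) * β u u = 0 from ?_)).resolve_left h2
    show (2 : F) * B ((S ^ k) u) u = 0
    linear_combination h
  obtain ⟨C, hC⟩ := Submodule.exists_isCompl (LinearMap.ker (S ^ k))
  have hker : ∀ z ∈ LinearMap.ker (S ^ k), ∀ w, β w z = 0 := fun z hz w => by
    show B ((S ^ k) w) z = 0
    rw [skew_pow hS k, LinearMap.mem_ker.1 hz, map_zero, mul_zero]
  have hnC : NondegOn β C := by
    rw [nondegOn_iff]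
    intro x hx hx'
    have hzero : (S ^ k) x = 0 := by
      refine hnd _ fun v => ?_
      obtain ⟨z, hz, c, hc, rfl⟩ := Submodule.mem_sup.1 (hC.sup_eq_top ▸ Submodule.mem_top (x := v))
      show β x (z + c) = 0
      rw [map_add, hker z hz x, zero_add, alt_swap (B := β) hβ, hx' c hc, neg_zero]
    exact Submodule.disjoint_def.1 hC.disjoint x (LinearMap.mem_ker.2 hzero) hx
  obtain ⟨m, b, -⟩ := exists_sympBasis (B := restrictForm β C) (fun x => hβ x)
    (restrictForm_nondegenerate (LinearMap.IsAlt.isRefl hβ) hnC)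
  have h1 := LinearMap.finrank_range_add_finrank_ker (S ^ k)
  have h2' := Submodule.finrank_add_eq_of_isCompl hC
  have h3 : finrank F C = m + m := by rw [Module.finrank_eq_card_basis b]; simp
  exact ⟨m, by omega⟩

/-- A unipotent isometry has blocks of each even size with even multiplicity. -/
theorem even_rank_odd_pow_sub_one (h2 : (2 : F) ≠ 0) {B : V →ₗ[F] V →ₗ[F] F} (hB : ∀ u v, B u v = B v u)
    (hnd : ∀ u, (∀ v, B u v = 0) → u = 0) {L : Module.End F V} (hL : ∀ u v, B (L u) (L v) = B u v)
    {m : ℕ} (hN : (L - 1) ^ m = 0) {k : ℕ} (hk : Odd k) :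
    Even (finrank F (LinearMap.range ((L - 1) ^ k))) := by
  set N := L - 1 with hNdef
  have hLu : IsUnit L := by
    have h := IsNilpotent.isUnit_one_add (r := N) ⟨m, hN⟩
    rwa [hNdef, add_sub_cancel] at h
  let Lu := hLu.unit
  let Li : Module.End F V := ↑(Lu⁻¹)
  have hLi : L * Li = 1 := hLu.mul_val_inv
  have hiL : Li * L = 1 := hLu.val_inv_mul
  let S := L - Li
  have hadj : ∀ u v, B (Li u) v = B u (L v) := fun u v => by
    conv_lhs => rw [← hL, ← Module.End.mul_apply, hLi, Module.End.one_apply]
  have hadj' : ∀ u v, B (L u) v = B u (Li v) := fun u v => by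
    conv_lhs => rw [show v = L (Li v) by rw [← Module.End.mul_apply, hLi, Module.End.one_apply]]
    rw [hL]
  have hS : ∀ u v, B (S u) v + B u (S v) = 0 := fun u v => by
    simp only [S, LinearMap.sub_apply, map_sub, hadj, hadj']
    ring
  have hu2 : IsUnit ((2 : Module.End F V) + N) := by
    have hc : Commute N (2 : Module.End F V) := (Commute.ofNat_left 2 N).symm
    refine IsNilpotent.isUnit_add_left_of_commute ⟨m, hN⟩ ?_ hc
    rw [show (2 : Module.End F V) = algebraMap F (Module.End F V) 2 from (map_ofNat _ 2).symm]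
    exact (IsUnit.mk0 _ h2).map _
  have hcomm : Commute ((2 + N) * Li) N := by
    refine Commute.mul_left ((Commute.ofNat_left 2 N).add_left (Commute.refl N)) ?_
    have h1 : Li * N = N * Li := by rw [hNdef, mul_sub, sub_mul, hiL, hLi, mul_one, one_mul]
    exact h1
  have hSN : S = (2 + N) * Li * N := by
    rw [hNdef, mul_sub, mul_one, mul_assoc, hiL, mul_one]
    show L - Li = 2 + (L - 1) - (2 + (L - 1)) * Li
    rw [add_mul, sub_mul, hLi, one_mul, two_mul]
    rw [show (2 : Module.End F V) = 1 + 1 from one_add_one_eq_two.symm]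
    abel
  obtain ⟨w, hw⟩ : IsUnit ((2 + N) * Li) := hu2.mul (Lu⁻¹).isUnit
  have h := even_rank_odd_pow h2 hB hnd hS hk
  rwa [hSN, hcomm.mul_pow, ← hw, ← Units.val_pow_eq_pow_val, finrank_range_units_mul] at h

/-- Even ranks of odd powers force even multiplicity of even sizes. -/
theorem even_count {μ : Multiset ℕ} (hμ : 0 ∉ μ) (h : ∀ k, Odd k → Even (rankSeq μ k)) (e : ℕ) (he : Even e) :
    Even (μ.count e) := by
  rcases e with _ | k
  · rw [Multiset.count_eq_zero_of_notMem hμ]
    exact Even.zero
  have hk : Odd k := Nat.not_even_iff_odd.1 (Nat.even_add_one.1 he)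
  obtain ⟨a, ha⟩ := h k hk
  obtain ⟨b, hb⟩ := h (k + 2) (hk.add_even even_two)
  have := rankSeq_second_diff μ k
  exact ⟨a + b - rankSeq μ (k + 1), by omega⟩

/-- An invariant non-degenerate subspace selects a sub-multiset of the block sizes. -/
theorem exists_submultiset (h2 : (2 : F) ≠ 0) {B : V →ₗ[F] V →ₗ[F] F} (hB : ∀ u v, B u v = B v u)
    {L : Module.End F V} (hL : ∀ u v, B (L u) (L v) = B u v) {m : ℕ} (hN : (L - 1) ^ m = 0) {μ : Multiset ℕ}
    (hμ0 : 0 ∉ μ) (hμ : ∀ k, finrank F (LinearMap.range ((L - 1) ^ k)) = rankSeq μ k) {W : Submodule F V}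
    (hW : NondegOn B W) (hWL : W.map L ≤ W) :
    ∃ ν, ν ≤ μ ∧ ν.sum = finrank F W ∧ (∀ e, Even e → Even (ν.count e)) ∧
      ∀ k, finrank F (W.map ((L - 1) ^ k)) = rankSeq ν k := by
  set N := L - 1 with hNdef
  have hWN : ∀ w ∈ W, N w ∈ W := fun w hw => W.sub_mem (hWL ⟨w, hw, rfl⟩) hw
  have hLinj : Function.Injective L := by
    obtain ⟨u, hu⟩ : IsUnit L := by
      have h := IsNilpotent.isUnit_one_add (r := N) ⟨m, hN⟩
      rwa [hNdef, add_sub_cancel] at h
    intro a b h
    have := congrArg (↑(u⁻¹) : Module.End F V) h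
    rwa [← Module.End.mul_apply, ← Module.End.mul_apply, ← hu, u.inv_mul, Module.End.one_apply,
      Module.End.one_apply] at this
  have hWeq : W.map L = W := Submodule.eq_of_le_of_finrank_eq hWL
    (Submodule.equivMapOfInjective L hLinj W).finrank_eq.symm
  have hPN : (perp B W).map N ≤ perp B W := by
    rintro _ ⟨v, hv, rfl⟩
    refine (perp B W).sub_mem (mem_perp.2 fun w hw => ?_) hv
    obtain ⟨w', hw', rfl⟩ := Submodule.mem_map.1 (hWeq.symm ▸ hw : w ∈ W.map L)
    rw [hL]
    exact mem_perp.1 hv w' hw'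
  have hWN' : W.map N ≤ W := by
    rintro _ ⟨w, hw, rfl⟩
    exact hWN w hw
  obtain ⟨ν, hν0, hν⟩ := exists_blocks N hN W hWN'
  obtain ⟨ρ, hρ0, hρ⟩ := exists_blocks N hN (perp B W) hPN
  have hsum : μ = ν + ρ := rankSeq_injective hμ0 (by simp [hν0, hρ0]) fun k => by
    rw [rankSeq_add, hν, hρ, ← hμ]
    exact finrank_range_pow_eq_add N hW.isCompl hWN' hPN k
  refine ⟨ν, hsum ▸ Multiset.le_add_right ν ρ, ?_, even_count hν0 fun k hk => ?_, fun k => (hν k).symm⟩
  · rw [← rankSeq_zero, hν, pow_zero, Module.End.one_eq_id, Submodule.map_id]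
  · let L' : Module.End F W := L.restrict fun w hw => hWL ⟨w, hw, rfl⟩
    have hpow : ∀ (j : ℕ) (w : W), (((L' - 1) ^ j) w : V) = (N ^ j) w := by
      intro j
      induction j with
      | zero => intro w; rfl
      | succ j ih =>
        intro w
        rw [pow_succ, Module.End.mul_apply, ih, pow_succ, Module.End.mul_apply]
        rfl
    have h := even_rank_odd_pow_sub_one h2 (B := restrictForm B W) (fun u v => hB _ _)
      (fun u hu => restrictForm_separatingRight hW u fun v => by
        show B (v : V) (u : V) = 0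
        rw [hB]
        exact hu v) (L := L') (fun u v => hL _ _) (m := m)
      (LinearMap.ext fun w => Subtype.ext (by rw [hpow, hN]; rfl)) hk
    rw [hν]
    have hmap : W.map (N ^ k) = (LinearMap.range ((L' - 1) ^ k)).map W.subtype := by
      ext v
      constructor
      · rintro ⟨w, hw, rfl⟩
        exact ⟨((L' - 1) ^ k) ⟨w, hw⟩, LinearMap.mem_range_self _ _, hpow k ⟨w, hw⟩⟩
      · rintro ⟨_, ⟨w, rfl⟩, rfl⟩
        exact ⟨w, w.2, (hpow k w).symm⟩
    rwa [hmap, (Submodule.equivMapOfInjective _ W.injective_subtype _).finrank_eq.symm]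

end Parity

section Existence

/-- The shift on `F^k`. -/
def shift (k : ℕ) : Module.End F (Fin k → F) where
  toFun u i := if h : 1 ≤ (i : ℕ) then u ⟨i - 1, by omega⟩ else 0
  map_add' u v := by funext i; simp only [Pi.add_apply]; split_ifs <;> simp
  map_smul' c u := by funext i; simp only [Pi.smul_apply, RingHom.id_apply]; split_ifs <;> simp

theorem shift_pow_apply (k : ℕ) : ∀ (j : ℕ) (u : Fin k → F) (i : Fin k),
    (shift k ^ j) u i = if h : j ≤ (i : ℕ) then u ⟨i - j, by omega⟩ else 0 := by
  intro j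
  induction j with
  | zero => intro u i; simp
  | succ j ih =>
    intro u i
    rw [pow_succ, Module.End.mul_apply, ih]
    simp only [shift, LinearMap.coe_mk, AddHom.coe_mk]
    split_ifs with h1 h2 h3 <;> try (first | rfl | omega)

theorem finrank_range_shift_pow (k j : ℕ) :
    finrank F (LinearMap.range ((shift k : Module.End F (Fin k → F)) ^ j)) = k - j := by
  rcases le_or_gt k j with h | h
  · rw [Nat.sub_eq_zero_of_le h, Submodule.finrank_eq_zero, LinearMap.range_eq_bot]
    refine LinearMap.ext fun u => funext fun i => ?_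
    rw [shift_pow_apply, dif_neg (by omega)]
    rfl
  · let P : (Fin k → F) →ₗ[F] (Fin j → F) := LinearMap.funLeft F F (Fin.castLE h.le)
    have hP : Function.Surjective P := LinearMap.funLeft_surjective_of_injective F F _ (Fin.castLE_injective _)
    have hrange : LinearMap.range ((shift k : Module.End F (Fin k → F)) ^ j) = LinearMap.ker P := by
      ext u
      constructor
      · rintro ⟨w, rfl⟩
        refine funext fun i => ?_
        show ((shift k ^ j) w) (Fin.castLE h.le i) = 0
        rw [shift_pow_apply, dif_neg (by simp)]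
      · intro hu
        refine ⟨fun i => if hi : (i : ℕ) + j < k then u ⟨i + j, hi⟩ else 0, funext fun i => ?_⟩
        rw [shift_pow_apply]
        split_ifs with h1 h2
        · congr 1; ext; simp; omega
        · exact absurd (by simp; omega) h2
        · exact (congrFun hu ⟨i, by omega⟩).symm
    have h1 := LinearMap.finrank_range_add_finrank_ker P
    rw [LinearMap.range_eq_top.2 hP, finrank_top, finrank_fin_fun, finrank_fin_fun] at h1
    rw [hrange]
    omega

variable {V W U : Type*} [AddCommGroup V] [Module F V] [AddCommGroup W] [Module F W] [AddCommGroup U] [Module F U]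

/-- A skew nilpotent map with given block sizes. -/
def Real (B : V → V → F) (μ : Multiset ℕ) : Prop :=
  ∃ S : Module.End F V, (∀ u v, B (S u) v + B u (S v) = 0) ∧ ∀ k, finrank F (LinearMap.range (S ^ k)) = rankSeq μ k

/-- Isometry of forms. -/
def Iso (B : V → V → F) (B' : W → W → F) : Prop := ∃ e : V ≃ₗ[F] W, ∀ u v, B' (e u) (e v) = B u v

theorem Iso.trans {B : V → V → F} {B' : W → W → F} {B'' : U → U → F} (h : Iso B B') (h' : Iso B' B'') :
    Iso B B'' := by
  obtain ⟨e, he⟩ := h
  obtain ⟨f, hf⟩ := h'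
  exact ⟨e.trans f, fun u v => by rw [LinearEquiv.trans_apply, LinearEquiv.trans_apply, hf, he]⟩

theorem Iso.symm {B : V → V → F} {B' : W → W → F} (h : Iso B B') : Iso B' B := by
  obtain ⟨e, he⟩ := h
  exact ⟨e.symm, fun u v => by rw [← he, e.apply_symm_apply, e.apply_symm_apply]⟩

theorem Real.of_iso {B : V → V → F} {B' : W → W → F} {μ : Multiset ℕ} (h : Real B μ) (hi : Iso B B') :
    Real B' μ := by
  obtain ⟨S, hS, hr⟩ := h
  obtain ⟨e, he⟩ := hi
  refine ⟨e.conjAlgEquiv F S, fun u v => ?_, fun k => ?_⟩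
  · obtain ⟨u, rfl⟩ := e.surjective u
    obtain ⟨v, rfl⟩ := e.surjective v
    simp only [LinearEquiv.conjAlgEquiv_apply, LinearMap.comp_apply, LinearEquiv.coe_coe, e.symm_apply_apply, he]
    exact hS u v
  · rw [← hr k, ← map_pow, LinearEquiv.conjAlgEquiv_apply, LinearMap.range_comp, LinearEquiv.range_comp,
      LinearEquiv.finrank_map_eq]

/-- Orthogonal sum. -/
def osum (B : V → V → F) (B' : W → W → F) : V × W → V × W → F := fun u v => B u.1 v.1 + B' u.2 v.2

theorem Iso.osum {B : V → V → F} {B' : W → W → F} {X Y : Type*} [AddCommGroup X] [Module F X] [AddCommGroup Y]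
    [Module F Y] {C : X → X → F} {C' : Y → Y → F} (h : Iso B C) (h' : Iso B' C') :
    Iso (osum B B') (OrthUnipotent.osum C C') := by
  obtain ⟨e, he⟩ := h
  obtain ⟨f, hf⟩ := h'
  exact ⟨e.prodCongr f, fun u v => by simp [OrthUnipotent.osum, he, hf]⟩

theorem Iso.refl (B : V → V → F) : Iso B B := ⟨LinearEquiv.refl F V, fun _ _ => rfl⟩

theorem Real.osum [FiniteDimensional F V] [FiniteDimensional F W] {B : V → V → F} {B' : W → W → F}
    {μ ν : Multiset ℕ} (h : Real B μ) (h' : Real B' ν) :
    Real (OrthUnipotent.osum B B') (μ + ν) := by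
  obtain ⟨S, hS, hr⟩ := h
  obtain ⟨T, hT, hr'⟩ := h'
  refine ⟨LinearMap.prodMap S T, fun u v => ?_, fun k => ?_⟩
  · simp only [OrthUnipotent.osum, LinearMap.prodMap_apply]
    linear_combination hS u.1 v.1 + hT u.2 v.2
  · have hp : LinearMap.prodMap S T ^ k = LinearMap.prodMap (S ^ k) (T ^ k) := by
      induction k with
      | zero => rfl
      | succ k ih => rw [pow_succ, ih, pow_succ, pow_succ]; rfl
    rw [rankSeq_add, ← hr, ← hr', hp, LinearMap.range_prodMap]
    let e : ((LinearMap.range (S ^ k)).prod (LinearMap.range (T ^ k))) ≃ₗ[F]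
        LinearMap.range (S ^ k) × LinearMap.range (T ^ k) :=
      { toFun := fun x => (⟨x.1.1, x.2.1⟩, ⟨x.1.2, x.2.2⟩)
        invFun := fun x => ⟨(x.1.1, x.2.1), ⟨x.1.2, x.2.2⟩⟩
        map_add' := fun _ _ => rfl
        map_smul' := fun _ _ => rfl
        left_inv := fun _ => rfl
        right_inv := fun _ => rfl }
    exact e.finrank_eq.trans Module.finrank_prod

end Existence

end CfsgLib.Derangements.OrthUnipotent
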