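import Cfsg.Agent.Lib.Derangements.A9Core

/-!
The degrees of the exceptional characters from the counting equations.
-/

set_option autoImplicit false

namespace CfsgLib.A9Arith

theorem low_part {c b d e n uC uD l : ℝ} (hc : c ≠ 0) (hb : b ≠ 0) (hd : d ≠ 0) (he : b = d + e)
    (hn : n = c + b) (hn0 : n ≠ 0) (hl : l = uC + uD)
    (e1 : uC ^ 2 / c + uD ^ 2 / b - l ^ 2 / n = 3)
    (e2 : uD ^ 2 / d - uD ^ 2 / b = 3) (e4 : l ^ 2 + uC ^ 2 / c + uD ^ 2 / d = 15) :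
    ∃ ρ t : ℝ, ρ ≠ 0 ∧ ρ ^ 2 * n = 3 * c * b ∧ 0 < c * b * n ∧ uD = t * ρ ∧
      uC * b = ρ * (t * c - n) ∧ l * b = ρ * n * (t - 1) ∧ c * t ^ 2 * e = d * n ∧
      c * (t - 1) ^ 2 * (n + 1) = 3 * b ∧ d * (n + c * t ^ 2) = c * t ^ 2 * b := by
  have hl2 : l ^ 2 * (n + 1) = 9 * n := by
    have : l ^ 2 + l ^ 2 / n = 9 := by linarith
    field_simp at this
    linear_combination this
  field_simp at e1 e2
  obtain ⟨w, hw⟩ : ∃ w, w = uD * c - uC * b := ⟨_, rfl⟩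
  have hw2 : w ^ 2 = 3 * c * b * n := by
    subst hn hl hw
    linear_combination e1
  have hw0 : w ≠ 0 := by
    intro h
    rw [h] at hw2
    have : c * b * n ≠ 0 := mul_ne_zero (mul_ne_zero hc hb) hn0
    exact this (by linear_combination -(1 / 3 : ℝ) * hw2)
  have hρ : w / n ≠ 0 := div_ne_zero hw0 hn0
  have hpos : 0 < c * b * n := by
    have : 0 < w ^ 2 := by positivity
    linarith
  have hρ2 : (w / n) ^ 2 * n = 3 * c * b := by
    field_simp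
    linear_combination hw2
  obtain ⟨t, ht⟩ : ∃ t, uD = t * (w / n) := ⟨uD / (w / n), (div_mul_cancel₀ _ hρ).symm⟩
  refine ⟨w / n, t, hρ, hρ2, hpos, ht, ?_, ?_, ?_, ?_, ?_⟩
  · have : (w / n) * n = w := div_mul_cancel₀ _ hn0
    linear_combination hw + c * ht + this
  · have : (w / n) * n = w := div_mul_cancel₀ _ hn0
    subst hl hn
    linear_combination hw + (b + c) * ht + this
  · have h : (w / n) ^ 2 * (t ^ 2 * (b - d)) = 3 * d * b := by
      rw [ht] at e2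
      linear_combination e2
    apply mul_left_cancel₀ (show (3 : ℝ) * b ≠ 0 by positivity)
    calc 3 * b * (c * t ^ 2 * e) = 3 * c * b * (t ^ 2 * e) := by ring
      _ = (w / n) ^ 2 * n * (t ^ 2 * e) := by rw [hρ2]
      _ = n * ((w / n) ^ 2 * (t ^ 2 * (b - d))) := by rw [he]; ring
      _ = _ := by rw [h]; ring
  · apply mul_left_cancel₀ (mul_ne_zero hn0 (show (3 : ℝ) * b ≠ 0 by positivity))
    have hlb : l * b = (w / n) * n * (t - 1) := by
      have : (w / n) * n = w := div_mul_cancel₀ _ hn0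
      subst hl hn
      linear_combination hw + (b + c) * ht + this
    calc n * (3 * b) * (c * (t - 1) ^ 2 * (n + 1))
        = 3 * c * b * ((t - 1) ^ 2 * n * (n + 1)) := by ring
      _ = (w / n) ^ 2 * n * ((t - 1) ^ 2 * n * (n + 1)) := by rw [hρ2]
      _ = (l * b) ^ 2 * (n + 1) := by rw [hlb]; ring
      _ = b ^ 2 * (l ^ 2 * (n + 1)) := by ring
      _ = n * (3 * b) * (3 * b) := by rw [hl2]; ring
  · have h : (w / n) ^ 2 * (t ^ 2 * (b - d)) = 3 * d * b := by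
      rw [ht] at e2
      linear_combination e2
    apply mul_left_cancel₀ (show (3 : ℝ) * b ≠ 0 by positivity)
    calc 3 * b * (d * (n + c * t ^ 2))
        = n * (3 * d * b) + 3 * c * b * (d * t ^ 2) := by ring
      _ = n * ((w / n) ^ 2 * (t ^ 2 * (b - d))) + (w / n) ^ 2 * n * (d * t ^ 2) := by
        rw [h, hρ2]
      _ = (w / n) ^ 2 * n * (t ^ 2 * b) := by ring
      _ = _ := by rw [hρ2]; ring

theorem small_c {d e b : ℤ} {t : ℝ} (hd : d % 27 = 3) (he : b = d + e) (hb6 : b % 27 = 6)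
    (hpos : (0 : ℝ) < 2 * b * (2 + b))
    (h1 : (2 : ℝ) * (t - 1) ^ 2 * (2 + b + 1) = 3 * b)
    (h2 : (d : ℝ) * (2 + b + 2 * t ^ 2) = 2 * t ^ 2 * b) : t = 2 ∧ d = 3 ∧ e = 3 := by
  have hb : b = 6 ∨ 33 ≤ b ∨ b ≤ -21 := by omega
  have hd' : d = 3 ∨ 30 ≤ d ∨ d ≤ -24 := by omega
  have hd0 : (d : ℝ) ≠ 0 := by exact_mod_cast (show d ≠ 0 by omega)
  rcases hb with rfl | hb | hb
  · push_cast at h1 h2 hpos
    have : (t - 1) ^ 2 = 1 := by linarith
    have ht : t = 2 ∨ t = 0 := by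
      rcases mul_eq_zero.mp (show (t - 2) * t = 0 by linear_combination this) with h | h
      · exact Or.inl (by linarith)
      · exact Or.inr h
    rcases ht with rfl | rfl
    · norm_num at h2
      have : d = 3 := by exact_mod_cast (show (d : ℝ) = 3 by linarith)
      exact ⟨rfl, this, by omega⟩
    · exact absurd (by linarith : (d : ℝ) = 0) hd0
  · exfalso
    have hb' : (33 : ℝ) ≤ b := by exact_mod_cast hb
    have u1 : (t - 1) ^ 2 ≤ 3 / 2 := by nlinarith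
    have l1 : 11 / 8 ≤ (t - 1) ^ 2 := by nlinarith
    obtain ⟨T, hT⟩ : ∃ T, T = 2 * t ^ 2 := ⟨_, rfl⟩
    rw [← hT] at h2
    rcases le_or_gt 0 (t - 1) with ht | ht
    · have a1 : 117 / 100 ≤ t - 1 := by nlinarith
      have a2 : t - 1 ≤ 123 / 100 := by nlinarith
      have T1 : 93 / 10 ≤ T := by nlinarith
      have T2 : T ≤ 11 := by nlinarith
      rcases hd' with rfl | h | h
      · push_cast at h2
        nlinarith
      · have : (30 : ℝ) ≤ d := by exact_mod_cast h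
        nlinarith [mul_le_mul_of_nonneg_right this (by linarith : (0 : ℝ) ≤ 2 + b + T)]
      · have : (d : ℝ) ≤ -24 := by exact_mod_cast h
        nlinarith [mul_le_mul_of_nonneg_right this (by linarith : (0 : ℝ) ≤ 2 + b + T)]
    · have a1 : t - 1 ≤ -(117 / 100) := by nlinarith
      have a2 : -(123 / 100) ≤ t - 1 := by nlinarith
      have T1 : 0 ≤ T := by rw [hT]; positivity
      have T2 : T ≤ 1 / 4 := by nlinarith
      rcases hd' with rfl | h | h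
      · push_cast at h2
        nlinarith
      · have : (30 : ℝ) ≤ d := by exact_mod_cast h
        nlinarith [mul_le_mul_of_nonneg_right this (by linarith : (0 : ℝ) ≤ 2 + b + T)]
      · have : (d : ℝ) ≤ -24 := by exact_mod_cast h
        nlinarith [mul_le_mul_of_nonneg_right this (by linarith : (0 : ℝ) ≤ 2 + b + T)]
  · exfalso
    have hb' : (b : ℝ) ≤ -21 := by exact_mod_cast hb
    have u1 : (t - 1) ^ 2 ≤ 7 / 4 := by nlinarith
    have l1 : 3 / 2 ≤ (t - 1) ^ 2 := by nlinarith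
    obtain ⟨T, hT⟩ : ∃ T, T = 2 * t ^ 2 := ⟨_, rfl⟩
    rw [← hT] at h2
    rcases le_or_gt 0 (t - 1) with ht | ht
    · have a1 : 122 / 100 ≤ t - 1 := by nlinarith
      have a2 : t - 1 ≤ 133 / 100 := by nlinarith
      have T1 : 98 / 10 ≤ T := by nlinarith
      have T2 : T ≤ 11 := by nlinarith
      rcases hd' with rfl | h | h
      · push_cast at h2
        nlinarith
      · have : (30 : ℝ) ≤ d := by exact_mod_cast h
        nlinarith [mul_le_mul_of_nonpos_right this (by linarith : 2 + (b : ℝ) + T ≤ 0)]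
      · have : (d : ℝ) ≤ -24 := by exact_mod_cast h
        nlinarith [mul_le_mul_of_nonpos_right this (by linarith : 2 + (b : ℝ) + T ≤ 0)]
    · have a1 : t - 1 ≤ -(122 / 100) := by nlinarith
      have a2 : -(133 / 100) ≤ t - 1 := by nlinarith
      have T1 : 0 ≤ T := by rw [hT]; positivity
      have T2 : T ≤ 1 / 4 := by nlinarith
      rcases hd' with rfl | h | h
      · push_cast at h2
        nlinarith
      · have : (30 : ℝ) ≤ d := by exact_mod_cast h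
        nlinarith [mul_le_mul_of_nonpos_right this (by linarith : 2 + (b : ℝ) + T ≤ 0)]
      · have : (d : ℝ) ≤ -24 := by exact_mod_cast h
        nlinarith [mul_le_mul_of_nonpos_right this (by linarith : 2 + (b : ℝ) + T ≤ 0)]

theorem s_eq {s : ℤ} {uS uC ρ : ℝ} (hs : s % 27 = 1) (hC : uC = -(2 / 3) * ρ)
    (hρ : ρ ^ 2 = 9 / 2)
    (e6 : uS ^ 2 / s + uC ^ 2 / 2 - (uS + uC) ^ 2 / (s + 5) = 3)
    (e3 : 8 + uS ^ 2 / s + 3 - (uS - uC) ^ 2 / (s + 7) = 12) : s = 1 := by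
  have hρ0 : ρ ≠ 0 := fun h => by rw [h] at hρ; norm_num at hρ
  have h0 : (s : ℝ) ≠ 0 := by exact_mod_cast (show s ≠ 0 by omega)
  have h5 : (s : ℝ) + 5 ≠ 0 := by exact_mod_cast (show s + 5 ≠ 0 by omega)
  have h7 : (s : ℝ) + 7 ≠ 0 := by exact_mod_cast (show s + 7 ≠ 0 by omega)
  obtain ⟨q, hq⟩ : ∃ q, uS = q * ρ / 3 := ⟨3 * uS / ρ, by field_simp⟩
  rw [hC, hq] at e6 e3
  have B6 : q ^ 2 / s - (q - 2) ^ 2 / (s + 5) = 4 := by
    linear_combination 2 * e6 -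
      2 * (q ^ 2 / 9 / s + 2 / 9 - (q - 2) ^ 2 / 9 / (s + 5)) * hρ
  have B3 : q ^ 2 / s - (q + 2) ^ 2 / (s + 7) = 2 := by
    linear_combination 2 * e3 -
      2 * (q ^ 2 / 9 / s - (q + 2) ^ 2 / 9 / (s + 7)) * hρ
  field_simp at B6 B3
  have h1 : q ^ 2 = (s ^ 2 + 7 * s) / 2 := by linear_combination (B6 + B3) / 12
  have h2 : (s : ℝ) * (8 * q - 3 * s - 13) = 0 := by linear_combination 2 * B6 - 10 * h1
  have h3 : 8 * q = 3 * (s : ℝ) + 13 := by
    have := (mul_eq_zero.mp h2).resolve_left h0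
    linarith
  have h4 : ((s : ℝ) - 1) * (23 * s + 169) = 0 := by
    linear_combination (8 * q + 3 * s + 13) * h3 - 64 * h1
  have h5' : (s - 1) * (23 * s + 169) = 0 := by exact_mod_cast h4
  rcases mul_eq_zero.mp h5' with h | h <;> omega

theorem core_identity (t θ : ℝ) :
    2 * u1num t θ ^ 2 * sNum t θ * (t ^ 2 * θ ^ 2 + 1 + θ ^ 2) +
        u2num t θ ^ 2 * (t - 1 - θ ^ 2) * oneNum t θ - 4 * sNum t θ * hNum t θ * oneNum t θ =
      sNum t θ * hNum t θ * core t θ := by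
  simp only [u1num, u2num, sNum, hNum, oneNum, core]; ring

theorem sNum_eq {t θ P Qd K T2 qm R1 : ℝ} (hP : P = 1 + t * θ ^ 2) (hQ : Qd = t - 1 - θ ^ 2)
    (hK : K = t ^ 2 * θ ^ 2 + 1 + θ ^ 2) (hT : T2 = t ^ 2 - t + 1) (hq : qm = θ ^ 2 - θ + 1)
    (hR : R1 = t * θ - θ + 1) :
    2 * K * qm ^ 2 * T2 - P * T2 * R1 ^ 2 + K * Qd * R1 ^ 2 = sNum t θ ∧
      t * sNum t θ + K * T2 * R1 ^ 2 = P * hNum t θ ∧
      Qd * (t - 1) ^ 2 * t * T2 * R1 ^ 2 + (3 * K - Qd * (t - 1) ^ 2) * hNum t θ = 2 * oneNum t θ ∧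
      (3 * K - Qd * (t - 1) ^ 2) * P * hNum t θ +
          (t - 1) * K * T2 * (2 * t * qm * (T2 * qm - P * (t - θ))) +
          (t - 1) * T2 * R1 ^ 2 * Qd * t * (P - Qd) + (t - 1) * t * K * Qd * T2 * R1 ^ 2 =
        2 * P * K * u1num t θ ∧
      2 * qm * (T2 * qm - P * (t - θ)) * K * T2 + (P - Qd) * R1 ^ 2 * T2 * Qd - t * sNum t θ * Qd =
        P * Qd * u2num t θ ∧
      (P ^ 2 + Qd ^ 2 + P * Qd) * (t - θ) = (P + Qd + θ * Qd) * (T2 * qm) ∧
      P * (t - θ) ^ 2 - T2 * qm ^ 2 = Qd * R1 ^ 2 := by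
  subst hP hQ hK hT hq hR
  simp only [u1num, u2num, sNum, hNum, oneNum]
  refine ⟨?_, ?_, ?_, ?_, ?_, ?_, ?_⟩ <;> ring

theorem seven_step {t dp mp M X : ℝ} {w v : ℝ} (ht : t ≠ 0) (hw : w ≠ 0) (hv : v ≠ 0)
    (hw3 : w - 3 ≠ 0) (hmp : mp ≠ 0) (hmd : mp + 2 * dp ≠ 0)
    (hdp : dp = 3 * t ^ 2 * (w - 3) / (w * v)) (hX : M = (1 - X) * t * mp / dp)
    (E7 : 2 * t ^ 2 / dp + M ^ 2 / mp - (M + 2 * t) ^ 2 / (mp + 2 * dp) =
      6 * w ^ 2 / (9 * (w - 3))) :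
    mp * (v * X ^ 2 - w) = 6 * t ^ 2 * (w - 3) / v := by
  have hdp0 : dp ≠ 0 := by
    rw [hdp]
    exact div_ne_zero (mul_ne_zero (mul_ne_zero three_ne_zero (pow_ne_zero 2 ht)) hw3)
      (mul_ne_zero hw hv)
  subst hX
  field_simp at E7
  have h2 : 3 * t ^ 2 * X ^ 2 * mp * (w - 3) = w ^ 2 * dp * (mp + 2 * dp) := by
    apply mul_left_cancel₀ (mul_ne_zero (show (6 : ℝ) ≠ 0 by norm_num) hdp0)
    linear_combination E7
  have hd : dp * (w * v) = 3 * t ^ 2 * (w - 3) := by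
    rw [hdp, div_mul_cancel₀ _ (mul_ne_zero hw hv)]
  rw [eq_div_iff hv]
  apply mul_left_cancel₀ (mul_ne_zero (mul_ne_zero three_ne_zero (pow_ne_zero 2 ht)) hw3)
  linear_combination v ^ 2 * h2 +
    (w * v * mp + 2 * (dp * (w * v) + 3 * t ^ 2 * (w - 3))) * hd

theorem six_step {t w v X mp dp sp S C M U : ℝ} (ht : t ≠ 0) (hw : w ≠ 0) (hv : v ≠ 0)
    (hw3 : w - 3 ≠ 0) (hD : v * X ^ 2 - w ≠ 0) (hsp : sp ≠ 0)
    (hU : U = w ^ 2 + 9 * t ^ 2 + 3 * t * w) (hv' : v = w + 3 * t ^ 2)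
    (hdp : dp = 3 * t ^ 2 * (w - 3) / (w * v)) (hX : M = (1 - X) * t * mp / dp)
    (hmp : mp * (v * X ^ 2 - w) = 6 * t ^ 2 * (w - 3) / v)
    (hC : C = (3 * t - w) / (w - 3)) (hS : S = M - C) (hs : sp = mp - 1 + dp)
    (E6 : S ^ 2 / sp + C ^ 2 / (3 / w) - M ^ 2 / mp = w ^ 2 / (3 * (w - 3))) :
    v * U * X ^ 2 - 2 * v * w * (w + 3 * t) * X + w ^ 2 * (w + 3 * t + 3 * t ^ 2) = 0 := by
  have hmp' : mp = 6 * t ^ 2 * (w - 3) / (v * (v * X ^ 2 - w)) := by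
    rw [← div_div, eq_div_iff hD, hmp]
  have hmul : S ^ 2 + sp * (C ^ 2 / (3 / w) - M ^ 2 / mp - w ^ 2 / (3 * (w - 3))) = 0 := by
    rw [← E6]
    field_simp
    ring
  apply mul_left_cancel₀ (mul_ne_zero (two_ne_zero (α := ℝ)) hw)
  rw [mul_zero]
  have h5 : 2 * w * (v * U * X ^ 2 - 2 * v * w * (w + 3 * t) * X +
      w ^ 2 * (w + 3 * t + 3 * t ^ 2)) = 3 * v * (v * X ^ 2 - w) * (w - 3) *
      (S ^ 2 + sp * (C ^ 2 / (3 / w) - M ^ 2 / mp - w ^ 2 / (3 * (w - 3)))) := by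
    rw [hS, hs, hX, hC, hmp', hdp, hU]
    field_simp
    rw [hv']
    ring
  rw [h5, hmul, mul_zero]

theorem theta_step {t w v X U : ℝ} (ht : t ≠ 0) (hw : w ≠ 0)
    (hU : U = w ^ 2 + 9 * t ^ 2 + 3 * t * w) (hv : v = w + 3 * t ^ 2)
    (hquad : v * U * X ^ 2 - 2 * v * w * (w + 3 * t) * X + w ^ 2 * (w + 3 * t + 3 * t ^ 2) = 0) :
    ∃ θ, U * X = w * (w + 3 * t + 3 * t * θ) ∧ w * (t - 1 - θ ^ 2) = 3 * t * (1 + t * θ ^ 2) := by
  obtain ⟨θ, hθ⟩ : ∃ θ, θ = (U * X - w * (w + 3 * t)) / (3 * t * w) := ⟨_, rfl⟩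
  have h0 : 3 * t * w ≠ 0 := mul_ne_zero (mul_ne_zero three_ne_zero ht) hw
  rw [eq_div_iff h0] at hθ
  have hθX : U * X = w * (w + 3 * t + 3 * t * θ) := by linear_combination -hθ
  refine ⟨θ, hθX, ?_⟩
  apply mul_left_cancel₀ (pow_ne_zero 2 h0)
  have : v * (U * X - w * (w + 3 * t)) ^ 2 =
      w ^ 2 * (v * (w + 3 * t) ^ 2 - U * (w + 3 * t + 3 * t ^ 2)) := by
    linear_combination U * hquad
  rw [← hθ, hv, hU] at this
  linear_combination -this

theorem scaled_false {t a θ n w mp dp sp β S C M L P Qd K T2 qm R1 : ℝ}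
    (ht : 0 < t) (hat : a = t - 1) (ha0 : a ≠ 0)
    (ha1 : -(11 / 20 : ℝ) ≤ a) (ha2 : a ≤ 11 / 20)
    (hP : P = 1 + t * θ ^ 2) (hQ : Qd = t - 1 - θ ^ 2)
    (hK : K = t ^ 2 * θ ^ 2 + 1 + θ ^ 2) (hT : T2 = t ^ 2 - t + 1) (hq : qm = θ ^ 2 - θ + 1)
    (hR : R1 = t * θ - θ + 1) (hQ0 : Qd ≠ 0) (hR0 : R1 ≠ 0)
    (hw : w = 3 * t * P / Qd) (hw3 : w - 3 = 3 * K / Qd) (hn : (n + 1) * a ^ 2 = w - 3)
    (hmp : mp = 2 * K * qm ^ 2 / (P * R1 ^ 2)) (hdp : dp = K * Qd / (P * T2))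
    (hsp : sp = mp - 1 + dp) (hsp0 : sp ≠ 0) (hβ : β = K / (t * P)) (hh0 : sp + β ≠ 0)
    (hf0 : 1 + n * (sp + β) ≠ 0)
    (hC : C = t * (Qd - P) / K) (hS : S = M - C)
    (hM : M = 2 * t * qm * (T2 * qm - P * (t - θ)) / (R1 ^ 2 * Qd)) (hL : L = a / β)
    (E3 : L ^ 2 * n + S ^ 2 / sp + t ^ 2 / β - (S + t - L) ^ 2 * n / (1 + n * (sp + β)) =
      12 * w ^ 2 / (9 * (w - 3))) : False := by
  obtain ⟨iS, iH, iO, iU1, iU2, -, -⟩ := sNum_eq hP hQ hK hT hq hR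
  rw [← hat] at iO iU1
  have hP0 : 0 < P := by rw [hP]; positivity
  have hK0 : 0 < K := by rw [hK]; positivity
  have hT0 : 0 < T2 := by rw [hT]; nlinarith [sq_nonneg (2 * t - 1)]
  have hβ0 : β ≠ 0 := by rw [hβ]; positivity
  have hsp' : sp = sNum t θ / (P * T2 * R1 ^ 2) := by
    rw [hsp, hmp, hdp, ← iS]; field_simp
  have hSN : sNum t θ ≠ 0 := fun h => hsp0 (by rw [hsp', h, zero_div])
  have hhp' : sp + β = hNum t θ / (t * T2 * R1 ^ 2) := by
    rw [hβ, hsp']; field_simp; linear_combination iH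
  have hHN : hNum t θ ≠ 0 := fun h => hh0 (by rw [hhp', h, zero_div])
  have hn1 : n = (3 * K - Qd * a ^ 2) / (Qd * a ^ 2) := by
    rw [hw3] at hn
    field_simp at hn ⊢
    linear_combination hn
  have hone : 1 + n * (sp + β) = 2 * oneNum t θ / (t * a ^ 2 * Qd * T2 * R1 ^ 2) := by
    rw [hn1, hhp']
    field_simp
    linear_combination iO
  have hu1 : n * L * (sp + β) + (S + t) = 2 * P * u1num t θ / (a * Qd * T2 * R1 ^ 2) := by
    rw [hS, hM, hC, hn1, hL, hhp', hβ]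
    field_simp
    linear_combination iU1
  have hu2 : S * β - t * sp = u2num t θ / (T2 * R1 ^ 2) := by
    rw [hS, hM, hC, hβ, hsp']
    field_simp
    linear_combination iU2
  have E3' : (n * L * (sp + β) + (S + t)) ^ 2 * (sp * β) +
      (S * β - t * sp) ^ 2 * (1 + n * (sp + β)) =
      12 * w ^ 2 / (9 * (w - 3)) * ((sp + β) * (1 + n * (sp + β)) * (sp * β)) := by
    rw [← E3]
    field_simp
    ring
  rw [hu1, hu2, hone, hhp', hsp', hβ, hw3, hw] at E3'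
  have hcore := core_identity t θ
  rw [← hK, ← hQ] at hcore
  have hfin : sNum t θ * hNum t θ * core t θ = 0 := by
    rw [← hcore]
    field_simp at E3'
    linear_combination E3' / 9
  have hc0 := (mul_eq_zero.mp hfin).resolve_left (mul_ne_zero hSN hHN)
  rw [show t = a + 1 by linarith] at hc0
  exact core_ne ha1 ha2 hc0

set_option maxHeartbeats 1000000 in
/-- The case of a large degree is impossible. -/
theorem big_c {c b d e n m s t ρ uS uC uD l : ℝ} (hn : n = c + b) (he : b = d + e)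
    (hm : m = s + c + e) (hc : c ≠ 0) (hb : b ≠ 0) (hd : d ≠ 0) (hn0 : n ≠ 0) (hs : s ≠ 0)
    (hm0 : m ≠ 0) (hm2 : m + 2 * d ≠ 0) (hf : 1 + s + b ≠ 0) (hsb : s + b ≠ 0)
    (hρ : ρ ≠ 0) (hρ2 : ρ ^ 2 * n = 3 * c * b) (huD : uD = t * ρ)
    (huC : uC * b = ρ * (t * c - n)) (hl : l * b = ρ * n * (t - 1))
    (ha : c * (t - 1) ^ 2 * (n + 1) = 3 * b) (hdd : d * (n + c * t ^ 2) = c * t ^ 2 * b)
    (ha1 : -(11 / 20 : ℝ) ≤ t - 1) (ha2 : t - 1 ≤ 11 / 20)
    (e3 : l ^ 2 + uS ^ 2 / s + uD ^ 2 / b - (uS + uD - l) ^ 2 / (1 + s + b) = 12)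
    (e6 : uS ^ 2 / s + uC ^ 2 / c - (uS + uC) ^ 2 / m = 3)
    (e7 : 2 * uD ^ 2 / d + (uS + uC) ^ 2 / m - (uS + uC + 2 * uD) ^ 2 / (m + 2 * d) = 6) :
    False := by
  have ht : 0 < t := by linarith
  have ht0 : t ≠ 0 := ht.ne'
  have hct : n + c * t ^ 2 ≠ 0 := by
    intro h
    rw [h, mul_zero] at hdd
    exact mul_ne_zero (mul_ne_zero hc (pow_ne_zero 2 ht0)) hb hdd.symm
  have haz : t - 1 ≠ 0 := by
    intro h
    rw [h] at ha
    exact hb (by linarith)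
  obtain ⟨w, hw⟩ : ∃ w, w = 3 * n / c := ⟨_, rfl⟩
  have hw0 : w ≠ 0 := hw ▸ div_ne_zero (mul_ne_zero three_ne_zero hn0) hc
  have hw3 : w - 3 = 3 * b / c := by rw [hw, hn]; field_simp; ring
  have hw30 : w - 3 ≠ 0 := hw3 ▸ div_ne_zero (mul_ne_zero three_ne_zero hb) hc
  obtain ⟨v, hv⟩ : ∃ v, v = w + 3 * t ^ 2 := ⟨_, rfl⟩
  have hv' : v = 3 * (n + c * t ^ 2) / c := by rw [hv, hw]; field_simp
  have hv0 : v ≠ 0 := hv' ▸ div_ne_zero (mul_ne_zero three_ne_zero hct) hc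
  have hcn : c / n = 3 / w := by rw [hw]; field_simp
  have hbn : b / n = (w - 3) / w := by rw [hw3, hw]; field_simp
  have hdn : d / n = 3 * t ^ 2 * (w - 3) / (w * v) := by
    have h : d = c * t ^ 2 * b / (n + c * t ^ 2) := by rw [eq_div_iff hct]; exact hdd
    rw [hw3, hv', hw, h]
    field_simp
  have hk : ρ ^ 2 / n = 9 * (w - 3) / w ^ 2 := by
    rw [hw3, hw]; field_simp; linear_combination 3 * hρ2
  obtain ⟨C, hC⟩ : ∃ C, C = uC / ρ := ⟨_, rfl⟩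
  obtain ⟨S, hS⟩ : ∃ S, S = uS / ρ := ⟨_, rfl⟩
  obtain ⟨M, hM⟩ : ∃ M, M = (uS + uC) / ρ := ⟨_, rfl⟩
  have hSM : S = M - C := by rw [hS, hM, hC]; ring
  have hC' : C = (3 * t - w) / (w - 3) := by
    rw [hC, hw3, hw]
    field_simp
    linear_combination huC
  obtain ⟨mp, hmp⟩ : ∃ x, x = m / n := ⟨_, rfl⟩
  obtain ⟨dp, hdp⟩ : ∃ x, x = d / n := ⟨_, rfl⟩
  obtain ⟨sp, hsp⟩ : ∃ x, x = s / n := ⟨_, rfl⟩
  have hmp0 : mp ≠ 0 := hmp ▸ div_ne_zero hm0 hn0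
  have hdp0 : dp ≠ 0 := hdp ▸ div_ne_zero hd hn0
  have hsp0 : sp ≠ 0 := hsp ▸ div_ne_zero hs hn0
  have hmd0 : mp + 2 * dp ≠ 0 := by
    rw [hmp, hdp, ← mul_div_assoc, ← add_div]
    exact div_ne_zero hm2 hn0
  have hspm : sp = mp - 1 + dp := by
    rw [hsp, hmp, hdp]; field_simp
    linear_combination -hm + he + hn
  have hdp' : dp = 3 * t ^ 2 * (w - 3) / (w * v) := hdp.trans hdn
  have hk0 : ρ ^ 2 / n ≠ 0 := div_ne_zero (pow_ne_zero 2 hρ) hn0
  have E7 : 2 * t ^ 2 / dp + M ^ 2 / mp - (M + 2 * t) ^ 2 / (mp + 2 * dp) =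
      6 * w ^ 2 / (9 * (w - 3)) := by
    have h : ρ ^ 2 / n * (2 * t ^ 2 / dp + M ^ 2 / mp - (M + 2 * t) ^ 2 / (mp + 2 * dp)) = 6 := by
      have h3 : mp + 2 * dp = (m + 2 * d) / n := by rw [hmp, hdp]; ring
      rw [h3, hmp, hdp, hM, ← e7, huD]
      field_simp
    apply mul_left_cancel₀ hk0
    rw [h, hk]
    field_simp
    try norm_num
  have E6 : S ^ 2 / sp + C ^ 2 / (3 / w) - M ^ 2 / mp = w ^ 2 / (3 * (w - 3)) := by
    have h : ρ ^ 2 / n * (S ^ 2 / sp + C ^ 2 / (c / n) - M ^ 2 / mp) = 3 := by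
      rw [hmp, hsp, hM, hS, hC, ← e6]
      field_simp
    rw [hcn] at h
    apply mul_left_cancel₀ hk0
    rw [h, hk]
    field_simp
    try norm_num
  obtain ⟨X, hX⟩ : ∃ X, M = (1 - X) * t * mp / dp :=
    ⟨1 - dp * M / (mp * t), by field_simp; ring⟩
  have hmD := seven_step ht0 hw0 hv0 hw30 hmp0 hmd0 hdp' hX E7
  have hD0 : v * X ^ 2 - w ≠ 0 := by
    intro h
    rw [h, mul_zero] at hmD
    exact div_ne_zero (mul_ne_zero (mul_ne_zero (by norm_num) (pow_ne_zero 2 ht0)) hw30) hv0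
      hmD.symm
  obtain ⟨U, hU⟩ : ∃ U, U = w ^ 2 + 9 * t ^ 2 + 3 * t * w := ⟨_, rfl⟩
  have hU0 : 0 < U := by
    rw [hU, show w ^ 2 + 9 * t ^ 2 + 3 * t * w = (w + 3 * t / 2) ^ 2 + 27 / 4 * t ^ 2 by ring]
    positivity
  have hquad := six_step ht0 hw0 hv0 hw30 hD0 hsp0 hU hv hdp' hX hmD hC' hSM hspm E6
  obtain ⟨θ, hθX, hwQ⟩ := theta_step ht0 hw0 hU hv hquad
  obtain ⟨P, hP⟩ : ∃ P, P = 1 + t * θ ^ 2 := ⟨_, rfl⟩
  obtain ⟨Qd, hQ⟩ : ∃ Qd, Qd = t - 1 - θ ^ 2 := ⟨_, rfl⟩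
  obtain ⟨K, hK⟩ : ∃ K, K = t ^ 2 * θ ^ 2 + 1 + θ ^ 2 := ⟨_, rfl⟩
  obtain ⟨T2, hT⟩ : ∃ T2, T2 = t ^ 2 - t + 1 := ⟨_, rfl⟩
  obtain ⟨qm, hq⟩ : ∃ qm, qm = θ ^ 2 - θ + 1 := ⟨_, rfl⟩
  obtain ⟨R1, hR⟩ : ∃ R1, R1 = t * θ - θ + 1 := ⟨_, rfl⟩
  obtain ⟨-, -, -, -, -, iX, iD⟩ := sNum_eq hP hQ hK hT hq hR
  have hP0 : 0 < P := by rw [hP]; positivity
  have hK0 : 0 < K := by rw [hK]; positivity
  have hT0 : 0 < T2 := by
    rw [hT, show t ^ 2 - t + 1 = (t - 1 / 2) ^ 2 + 3 / 4 by ring]; positivity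
  have hq0 : 0 < qm := by
    rw [hq, show θ ^ 2 - θ + 1 = (θ - 1 / 2) ^ 2 + 3 / 4 by ring]; positivity
  rw [← hP, ← hQ] at hwQ
  have hQ0 : Qd ≠ 0 := fun h => by
    rw [h, mul_zero] at hwQ
    exact mul_ne_zero (mul_ne_zero three_ne_zero ht0) hP0.ne' hwQ.symm
  have hw' : w = 3 * t * P / Qd := by rw [eq_div_iff hQ0]; exact hwQ
  have hw3' : w - 3 = 3 * K / Qd := by
    rw [eq_div_iff hQ0, sub_mul, hwQ, hP, hK, hQ]; ring
  have hv1 : v = 3 * t * T2 / Qd := by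
    rw [eq_div_iff hQ0, hv, add_mul, hwQ, hP, hT, hQ]; ring
  have hX' : X = P * (t - θ) / (T2 * qm) := by
    apply mul_left_cancel₀ hU0.ne'
    rw [hθX, hU, hw']
    field_simp
    linear_combination -9 * iX
  have hD' : v * X ^ 2 - w = 3 * t * P * R1 ^ 2 / (T2 * qm ^ 2) := by
    rw [hv1, hX', hw']
    field_simp
    linear_combination iD
  have hR0 : R1 ≠ 0 := fun h => hD0 (by rw [hD', h]; simp)
  have hmp' : mp = 2 * K * qm ^ 2 / (P * R1 ^ 2) := by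
    apply mul_right_cancel₀ hD0
    rw [hmD, hD', hw3', hv1]
    field_simp
    ring
  have hdp2 : dp = K * Qd / (P * T2) := by
    rw [hdp', hw3', hw', hv1]; field_simp
  have hbn' : b / n = K / (t * P) := by
    rw [hbn, hw3', hw']; field_simp
  have hMv : M = 2 * t * qm * (T2 * qm - P * (t - θ)) / (R1 ^ 2 * Qd) := by
    rw [hX, hmp', hdp2, hX']
    field_simp
  have hC2 : C = t * (Qd - P) / K := by
    rw [hC', hw3', hw']; field_simp
  have hn1 : (n + 1) * (t - 1) ^ 2 = w - 3 := by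
    rw [hw3]; field_simp; linear_combination ha
  obtain ⟨L, hL⟩ : ∃ L, L = l / ρ := ⟨_, rfl⟩
  have hL' : L = (t - 1) / (b / n) := by
    rw [hL]; field_simp; linear_combination hl
  have hF : 1 + n * (sp + b / n) = 1 + s + b := by rw [hsp]; field_simp; ring
  refine scaled_false ht rfl haz ha1 ha2 hP hQ hK hT hq hR hQ0 hR0 hw' hw3' hn1 hmp' hdp2 hspm
    hsp0 hbn' ?_ (hF ▸ hf) hC2 hSM hMv hL' ?_
  · rw [hsp, ← add_div]; exact div_ne_zero hsb hn0
  · apply mul_left_cancel₀ hk0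
    have h : ρ ^ 2 / n * (L ^ 2 * n + S ^ 2 / sp + t ^ 2 / (b / n) -
        (S + t - L) ^ 2 * n / (1 + n * (sp + b / n))) = 12 := by
      rw [hF, hsp, hS, hL, ← e3, huD]
      field_simp
    rw [h, hk]
    field_simp

theorem a_bound {c n q : ℝ} (hq : 0 ≤ q) (h : c * q * (n + 1) = 3 * (n - c))
    (hpos : 0 < c * (n - c) * n) (hc : c ≤ -25 ∨ 29 ≤ c) (hn : n = 8 ∨ 35 ≤ n ∨ n ≤ -19) :
    q ≤ 3 / 10 := by
  rcases hn with rfl | hn | hn
  · exfalso
    have : 0 < c * (8 - c) := by linarith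
    rcases hc with hc | hc
    · exact (mul_neg_of_neg_of_pos (show c < 0 by linarith) (show 0 < 8 - c by linarith)).not_gt this
    · exact (mul_neg_of_pos_of_neg (show 0 < c by linarith) (show 8 - c < 0 by linarith)).not_gt this
  · have h1 : 0 < c * (n - c) := pos_of_mul_pos_left hpos (by linarith)
    rcases hc with hc | hc
    · exact absurd (mul_neg_of_neg_of_pos (show c < 0 by linarith)
        (show 0 < n - c by linarith)) h1.not_gt
    · have h3 : 29 * ((n + 1) * q) ≤ c * ((n + 1) * q) :=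
        mul_le_mul_of_nonneg_right hc (mul_nonneg (by linarith) hq)
      have h4 : (n + 1) * (29 * q) ≤ (n + 1) * 3 := by linarith
      have := le_of_mul_le_mul_left h4 (by linarith)
      linarith
  · obtain ⟨k, rfl⟩ : ∃ k, n = -(k + 1) := ⟨-n - 1, by ring⟩
    have hk : 18 ≤ k := by linarith
    have h1 : c * (-(k + 1) - c) < 0 := by
      by_contra h'
      exact (mul_nonpos_of_nonneg_of_nonpos (not_lt.mp h') (show -(k + 1) ≤ 0 by linarith)).not_gt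
        hpos
    rcases hc with hc | hc
    · have h5 : 0 < -(k + 1) - c := by
        by_contra h'
        exact (mul_nonneg_of_nonpos_of_nonpos (show c ≤ 0 by linarith) (not_lt.mp h')).not_gt h1
      have h4 : (-c * k) * q ≤ (-c * k) * (3 / 10) := by
        have : 18 * (-c) ≤ k * (-c) := mul_le_mul_of_nonneg_right hk (by linarith)
        linarith
      exact le_of_mul_le_mul_left h4 (mul_pos (by linarith) (by linarith))
    · have h3 : 19 * 8 ≤ (c - 10) * (k - 10) :=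
        mul_le_mul (by linarith) (by linarith) (by norm_num) (by linarith)
      have h4 : c * k * q ≤ c * k * (3 / 10) := by linarith
      exact le_of_mul_le_mul_left h4 (mul_pos (by linarith) (by linarith))

theorem shift_eq {r μ U δ : ℝ} (hr : r ≠ 0) (hδ : δ ≠ 0) :
    ((U - μ * δ) / r) ^ 2 / δ = (U ^ 2 / δ - 2 * μ * U + μ ^ 2 * δ) / r ^ 2 := by
  field_simp; ring

set_option maxHeartbeats 1000000 in
/-- The degrees of the exceptional characters. -/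
theorem degrees {c d e s : ℤ} (hc27 : c % 27 = 2) (hd27 : d % 27 = 3) (he27 : e % 27 = 3)
    (hs27 : s % 27 = 1) {g UC UD UE US : ℝ} (hg : 0 < g)
    (qx : UC ^ 2 / c + (UD + UE) ^ 2 / (d + e) - (UC + UD + UE) ^ 2 / (c + d + e) = 3 * g)
    (qy : UE ^ 2 / e + UD ^ 2 / d - (UD + UE) ^ 2 / (d + e) = 3 * g)
    (qv1 : UE ^ 2 / e - (UC + UD + 2 * UE) ^ 2 / (1 + c + d + 2 * e) +
      (UC + UD + UE) ^ 2 / (c + d + e) = 9 * g)
    (qu : UC ^ 2 / c + UD ^ 2 / d - (UC + UD) ^ 2 / (1 + c + d) = 15 * g)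
    (qw : US ^ 2 / s + (UD + UE) ^ 2 / (d + e) - (US + UD + UE) ^ 2 / (1 + s + d + e) = 12 * g)
    (qu2 : US ^ 2 / s + UC ^ 2 / c + UE ^ 2 / e - (US + UC + UE) ^ 2 / (s + c + e) = 3 * g)
    (qv3 : US ^ 2 / s + UD ^ 2 / d - (US + UC + UE + 2 * UD) ^ 2 / (s + c + e + 2 * d) +
      (UC + UD + UE) ^ 2 / (c + d + e) = 3 * g) :
    c = 2 ∧ d = 3 ∧ e = 3 ∧ s = 1 := by
  have nz : ∀ z : ℤ, z % 27 ≠ 0 → (z : ℝ) ≠ 0 := fun z hz => by
    exact_mod_cast (fun h : z = 0 => hz (by rw [h]; rfl))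
  have c0 := nz c (by omega)
  have d0 := nz d (by omega)
  have e0 := nz e (by omega)
  have s0 := nz s (by omega)
  have b0 : (d : ℝ) + e ≠ 0 := by exact_mod_cast nz (d + e) (by omega)
  have n0 : (c : ℝ) + (d + e) ≠ 0 := by exact_mod_cast nz (c + (d + e)) (by omega)
  have A0 : (c : ℝ) + d + e ≠ 0 := by exact_mod_cast nz (c + d + e) (by omega)
  have P0 : (1 : ℝ) + c + d ≠ 0 := by exact_mod_cast nz (1 + c + d) (by omega)
  have R0 : (1 : ℝ) + c + d + 2 * e ≠ 0 := by exact_mod_cast nz (1 + c + d + 2 * e) (by omega)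
  have F0 : (1 : ℝ) + s + (d + e) ≠ 0 := by exact_mod_cast nz (1 + s + (d + e)) (by omega)
  have F0' : (1 : ℝ) + s + d + e ≠ 0 := by exact_mod_cast nz (1 + s + d + e) (by omega)
  have m0 : (s : ℝ) + c + e ≠ 0 := by exact_mod_cast nz (s + c + e) (by omega)
  have rm0 : (s : ℝ) + c + e + 2 * d ≠ 0 := by exact_mod_cast nz (s + c + e + 2 * d) (by omega)
  have sb0 : (s : ℝ) + (d + e) ≠ 0 := by exact_mod_cast nz (s + (d + e)) (by omega)
  -- the first dependency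
  have key : UE * (1 + c + d) = (UC + UD) * e := by
    have h : 2 * UE ^ 2 / e + (UC + UD) ^ 2 / (1 + c + d) -
        (UC + UD + 2 * UE) ^ 2 / (1 + c + d + 2 * e) = 0 := by
      linear_combination qv1 - qu + qx + qy
    rw [div_add_div _ _ e0 P0, div_sub_div _ _ (mul_ne_zero e0 P0) R0, div_eq_zero_iff] at h
    have h' := h.resolve_right (mul_ne_zero (mul_ne_zero e0 P0) R0)
    have : 2 * (UE * (1 + c + d) - (UC + UD) * e) ^ 2 = 0 := by linear_combination h'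
    exact sub_eq_zero.mp (pow_eq_zero_iff (two_ne_zero) |>.mp (by linarith))
  obtain ⟨μ, hμ⟩ : ∃ μ, μ = UE / e := ⟨_, rfl⟩
  have hUE : UE = μ * e := by rw [hμ, div_mul_cancel₀ _ e0]
  have hUP : UC + UD = μ * (1 + c + d) := by
    apply mul_right_cancel₀ e0
    rw [← key, hUE]; ring
  obtain ⟨r, hr⟩ : ∃ r, r = Real.sqrt g := ⟨_, rfl⟩
  have hr0 : r ≠ 0 := hr ▸ (Real.sqrt_pos.mpr hg).ne'
  have hr2 : r ^ 2 = g := hr ▸ Real.sq_sqrt hg.le
  obtain ⟨uC, huC⟩ : ∃ u, u = (UC - μ * c) / r := ⟨_, rfl⟩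
  obtain ⟨uD, huD⟩ : ∃ u, u = (UD - μ * d) / r := ⟨_, rfl⟩
  obtain ⟨uS, huS⟩ : ∃ u, u = (US - μ * s) / r := ⟨_, rfl⟩
  obtain ⟨l, hl⟩ : ∃ l, l = uC + uD := ⟨_, rfl⟩
  have hlr : l = μ / r := by
    rw [hl, huC, huD, ← add_div]; congr 1; linear_combination hUP
  have SC := shift_eq (U := UC) (μ := μ) hr0 c0
  have SD := shift_eq (U := UD) (μ := μ) hr0 d0
  have SS := shift_eq (U := US) (μ := μ) hr0 s0
  have SB := shift_eq (U := UD + UE) (μ := μ) hr0 b0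
  have SA := shift_eq (U := UC + UD + UE) (μ := μ) hr0 A0
  have SE := shift_eq (U := UE) (μ := μ) hr0 e0
  have SP := shift_eq (U := UC + UD) (μ := μ) hr0 P0
  have SF := shift_eq (U := US + UD + UE) (μ := μ) hr0 F0'
  have SM := shift_eq (U := US + UC + UE) (μ := μ) hr0 m0
  have SR := shift_eq (U := US + UC + UE + 2 * UD) (μ := μ) hr0 rm0
  have zB : (UD + UE - μ * (d + e)) / r = uD := by rw [huD, hUE]; ring
  have zA : (UC + UD + UE - μ * (c + d + e)) / r = l := by rw [hl, huC, huD, hUE]; ring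
  have zE : (UE - μ * e) / r = 0 := by rw [hUE]; ring
  have zP : (UC + UD - μ * (1 + c + d)) / r = 0 := by rw [hUP]; ring
  have zF : (US + UD + UE - μ * (1 + s + d + e)) / r = uS + uD - l := by
    rw [hlr, huS, huD, hUE]; ring
  have zM : (US + UC + UE - μ * (s + c + e)) / r = uS + uC := by rw [huS, huC, hUE]; ring
  have zR : (US + UC + UE + 2 * UD - μ * (s + c + e + 2 * d)) / r = uS + uC + 2 * uD := by
    rw [huS, huC, huD, hUE]; ring
  rw [← huC] at SC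
  rw [← huD] at SD
  rw [← huS] at SS
  rw [zB] at SB
  rw [zA] at SA
  rw [zE] at SE
  rw [zP] at SP
  rw [zF] at SF
  rw [zM] at SM
  rw [zR] at SR
  have hA : (c : ℝ) + d + e = c + (d + e) := by ring
  have hF : (1 : ℝ) + s + d + e = 1 + s + (d + e) := by ring
  have e1 : uC ^ 2 / c + uD ^ 2 / ((d : ℝ) + e) - l ^ 2 / (c + (d + e)) = 3 := by
    rw [← hA, SC, SB, SA, ← sub_eq_zero]
    have := congrArg (· / r ^ 2) qx
    simp only [mul_div_assoc, ← hr2, div_self (pow_ne_zero 2 hr0)] at this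
    linear_combination this
  have e2 : uD ^ 2 / d - uD ^ 2 / ((d : ℝ) + e) = 3 := by
    have := congrArg (· / r ^ 2) qy
    simp only [mul_div_assoc, ← hr2, div_self (pow_ne_zero 2 hr0)] at this
    linear_combination this + SD - SB + SE
  have e4 : l ^ 2 + uC ^ 2 / c + uD ^ 2 / d = 15 := by
    have := congrArg (· / r ^ 2) qu
    simp only [mul_div_assoc, ← hr2, div_self (pow_ne_zero 2 hr0)] at this
    rw [hlr]
    linear_combination this + SC + SD - SP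
  have e3 : l ^ 2 + uS ^ 2 / s + uD ^ 2 / ((d : ℝ) + e) -
      (uS + uD - l) ^ 2 / (1 + s + (d + e)) = 12 := by
    have := congrArg (· / r ^ 2) qw
    simp only [mul_div_assoc, ← hr2, div_self (pow_ne_zero 2 hr0)] at this
    rw [← hF, SF, hlr]
    linear_combination this + SS + SB
  have e6 : uS ^ 2 / s + uC ^ 2 / c - (uS + uC) ^ 2 / ((s : ℝ) + c + e) = 3 := by
    have := congrArg (· / r ^ 2) qu2
    simp only [mul_div_assoc, ← hr2, div_self (pow_ne_zero 2 hr0)] at this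
    linear_combination this + SS + SC + SE - SM
  have e7 : 2 * uD ^ 2 / d + (uS + uC) ^ 2 / ((s : ℝ) + c + e) -
      (uS + uC + 2 * uD) ^ 2 / (s + c + e + 2 * d) = 6 := by
    have e7' : uS ^ 2 / s + uD ^ 2 / d - (uS + uC + 2 * uD) ^ 2 / (s + c + e + 2 * d) +
        l ^ 2 / ((c : ℝ) + (d + e)) = 3 := by
      have := congrArg (· / r ^ 2) qv3
      simp only [mul_div_assoc, ← hr2, div_self (pow_ne_zero 2 hr0)] at this
      rw [← hA, SA]
      linear_combination this + SS + SD - SR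
    linear_combination e7' - e6 + e2 + e1
  obtain ⟨ρ, t, hρ, hρ2, hpos, ht, hC, hL, -, h1, h2⟩ :=
    low_part c0 b0 d0 rfl rfl n0 hl e1 e2 e4
  by_cases hc : c = 2
  · subst hc
    push_cast at h1 h2 hC hρ2 hpos hL e6 e3
    have hb6 : (d + e) % 27 = 6 := by omega
    obtain ⟨rfl, rfl, rfl⟩ := small_c (t := t) (b := d + e) hd27 rfl hb6 (by push_cast; linarith)
      (by push_cast; linarith) (by push_cast; linarith)
    push_cast at *
    refine ⟨trivial, trivial, trivial, s_eq hs27 (ρ := ρ) (uS := uS) (uC := uC) ?_ ?_ ?_ ?_⟩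
    · linarith
    · linarith
    · rw [show (s : ℝ) + 5 = s + 2 + 3 by ring]
      exact e6
    · have hl2 : l ^ 2 = 8 := by
        have : l = 4 / 3 * ρ := by linarith
        rw [this]; linear_combination (16 / 9 : ℝ) * (hρ2 / 8)
      have hD2 : uD ^ 2 / (3 + 3) = 3 := by
        rw [ht]; linear_combination (2 / 3 : ℝ) * (hρ2 / 8)
      have hCl : uD - l = -uC := by linarith
      rw [show (1 : ℝ) + s + (3 + 3) = s + 7 by ring, show uS + uD - l = uS - uC by linarith,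
        hl2, hD2] at e3
      exact e3
  · exfalso
    have hc' : (c : ℝ) ≤ -25 ∨ (29 : ℝ) ≤ c := by
      rcases (show c ≤ -25 ∨ 29 ≤ c by omega) with h | h
      · exact Or.inl (by exact_mod_cast h)
      · exact Or.inr (by exact_mod_cast h)
    have hn' : c + (d + e) = 8 ∨ 35 ≤ c + (d + e) ∨ c + (d + e) ≤ -19 := by omega
    obtain ⟨n, hn⟩ : ∃ n, n = (c : ℝ) + (d + e) := ⟨_, rfl⟩
    rw [← hn] at h1 hpos
    have hb : (d : ℝ) + e = n - c := by rw [hn]; ring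
    have hn'' : n = 8 ∨ 35 ≤ n ∨ n ≤ -19 := by
      rw [hn]
      rcases hn' with h | h | h
      · exact Or.inl (by exact_mod_cast h)
      · exact Or.inr (Or.inl (by exact_mod_cast h))
      · exact Or.inr (Or.inr (by exact_mod_cast h))
    have ha2 : (t - 1) ^ 2 ≤ 3 / 10 := by
      rw [hb] at h1 hpos
      exact a_bound (sq_nonneg _) h1 hpos hc' hn''
    rw [hn] at h1
    obtain ⟨l1, u1⟩ := abs_le_of_sq_le_sq' (show (t - 1) ^ 2 ≤ (11 / 20 : ℝ) ^ 2 by linarith)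
      (by norm_num)
    exact big_c rfl rfl rfl c0 b0 d0 n0 s0 m0 rm0 F0 sb0 hρ hρ2 ht hC hL h1 h2 l1 u1 e3 e6 e7

end CfsgLib.A9Arith
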