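import Cfsg.Agent.Lib.Derangements.A9Model
import Mathlib.NumberTheory.Zsqrtd.Basic

/-!
Characters of the model group of order 648 and the test functions.
-/

set_option autoImplicit false

namespace CfsgLib.A9Model

open scoped ComplexConjugate
open CfsgLib

section Induced

variable {K : Type*} [Group K] [Fintype K]

/-- Induction of a linear character through a transversal. -/
theorem gen_induced {n : ℕ} (S : Subgroup K) [DecidablePred (· ∈ S)] (θ : S →* ℂˣ) (T : Fin n → K)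
    (hT : Function.Bijective fun x : Fin n × S => T x.1 * (x.2 : K)) :
    Cfsg.IsGeneralizedCharacter K (fun g => ∑ u : Fin n,
      if h : (T u)⁻¹ * g * T u ∈ S then (θ ⟨_, h⟩ : ℂ) else 0) := by
  classical
  have hg : Cfsg.IsGeneralizedCharacter K (Cfsg.indFun S (fun s => (θ s : ℂ))) :=
    Char.IsGeneralizedCharacter.indFun S
      (Char.IsCharacter.isGeneralizedCharacter (Char.isCharacter_hom θ))
  convert hg using 1
  funext g
  have hcf : ∀ (x : K) (s : S),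
      Cfsg.extendByZero S (fun s => (θ s : ℂ)) ((s : K)⁻¹ * x * s) =
        if h : x ∈ S then (θ ⟨x, h⟩ : ℂ) else 0 := by
    intro x s
    split_ifs with h
    · rw [Char.extendByZero_apply_mem S _ (S.mul_mem (S.mul_mem (S.inv_mem s.2) h) s.2)]
      have : (⟨(s : K)⁻¹ * x * s, S.mul_mem (S.mul_mem (S.inv_mem s.2) h) s.2⟩ : S) =
          s⁻¹ * ⟨x, h⟩ * s := Subtype.ext (by simp)
      rw [this, map_mul, map_mul, map_inv, mul_comm (θ s)⁻¹, mul_assoc, inv_mul_cancel, mul_one]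
    · refine Char.extendByZero_apply_notMem S _ fun h' => h ?_
      have := S.mul_mem (S.mul_mem s.2 h') (S.inv_mem s.2)
      simpa [mul_assoc] using this
  rw [Char.indFun_def, ← (Equiv.ofBijective _ hT).sum_comp, Fintype.sum_prod_type]
  simp only [Equiv.ofBijective_apply, mul_inv_rev, mul_assoc]
  simp only [← mul_assoc]
  rw [Finset.sum_congr rfl fun u _ => Finset.sum_congr rfl fun s _ =>
    (show _ = if h : (T u)⁻¹ * g * T u ∈ S then (θ ⟨_, h⟩ : ℂ) else 0 by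
      rw [← hcf _ s]; simp only [mul_assoc])]
  rw [Finset.mul_sum]
  refine Finset.sum_congr rfl fun u _ => ?_
  rw [Finset.sum_const, Finset.card_univ, nsmul_eq_mul, Nat.card_eq_fintype_card,
    inv_mul_cancel_left₀ (by simp)]

end Induced

/-- A linear character on a subgroup, in exponential form, with a transversal. -/
structure MonData where
  n : ℕ
  mem : Mdl → Bool
  k : Mdl → ℕ
  T : Fin n → Mdl

/-- A translation. -/
def isTr (g : Mdl) : Bool :=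
  g.1.p == 1 && isR (co 0 g.1.d) && isR (co 1 g.1.d) && isR (co 2 g.1.d)

/-- The translation free part of a coordinate. -/
def shD : D → D
  | .r _ => 1
  | .sr _ => .sr 0

theorem sh_mem : ∀ g : Mdl,
    par ⟨(shD (co 0 g.1.d), shD (co 1 g.1.d), shD (co 2 g.1.d)), g.1.p⟩ = 1 := by decide +kernel

/-- The translation free part. -/
def sh (g : Mdl) : Mdl :=
  ⟨⟨(shD (co 0 g.1.d), shD (co 1 g.1.d), shD (co 2 g.1.d)), g.1.p⟩, sh_mem g⟩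

/-- A translation free element. -/
def isSh (g : Mdl) : Bool :=
  [co 0 g.1.d, co 1 g.1.d, co 2 g.1.d].all fun x => x == 1 || x == .sr 0

theorem sh_split : ∀ g : Mdl, isSh (sh g) = true ∧ isTr (g * (sh g)⁻¹) = true := by decide +kernel

/-- Multiplicativity against a given element. -/
def MonData.Good (d : MonData) (b : Mdl) : Prop :=
  ∀ a, d.mem a = true → d.mem (a * b) = true ∧ d.k (a * b) % 12 = (d.k a + d.k b) % 12

/-- The conditions to check. -/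
def MonData.Chk (d : MonData) : Prop :=
  (∀ b, isTr b = true → d.mem b = true → d.Good b) ∧
    (∀ b, isSh b = true → d.mem b = true → d.Good b) ∧
    (∀ b, d.mem b = true → d.mem (sh b) = true ∧ d.mem (b * (sh b)⁻¹) = true) ∧
    (d.mem 1 = true ∧ d.k 1 % 12 = 0) ∧
    (∀ u u', d.mem ((d.T u)⁻¹ * d.T u') = true → u = u') ∧
    ∀ g, ∃ u, d.mem ((d.T u)⁻¹ * g) = true

/-- The conditions on the data. -/
def MonData.Ok (d : MonData) : Prop :=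
  (∀ a b, d.mem a = true → d.mem b = true →
      d.mem (a * b) = true ∧ d.k (a * b) % 12 = (d.k a + d.k b) % 12) ∧
    (d.mem 1 = true ∧ d.k 1 % 12 = 0) ∧
    (∀ u u', d.mem ((d.T u)⁻¹ * d.T u') = true → u = u') ∧
    ∀ g, ∃ u, d.mem ((d.T u)⁻¹ * g) = true

set_option synthInstance.maxSize 4000 in
set_option synthInstance.maxHeartbeats 200000 in
instance (d : MonData) (b : Mdl) : Decidable (d.Good b) := by
  unfold MonData.Good; infer_instance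

set_option synthInstance.maxSize 4000 in
set_option synthInstance.maxHeartbeats 200000 in
instance (d : MonData) : Decidable d.Chk := by
  unfold MonData.Chk; infer_instance

theorem MonData.Chk.ok {d : MonData} (h : d.Chk) : d.Ok := by
  obtain ⟨htr, hsh, hsp, h1, hT, hcov⟩ := h
  refine ⟨fun a b ha hb => ?_, h1, hT, hcov⟩
  obtain ⟨hs, ht⟩ := hsp b hb
  have gs := hsh _ (sh_split b).1 hs
  have gt := htr _ (sh_split b).2 ht
  obtain ⟨m1, k1⟩ := gt a ha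
  obtain ⟨m2, k2⟩ := gs _ m1
  obtain ⟨-, k3⟩ := gs _ ht
  rw [mul_assoc, inv_mul_cancel_right] at m2 k2
  rw [inv_mul_cancel_right] at k3
  refine ⟨m2, ?_⟩
  omega

/-- Twice the real part of a twelfth root of unity. -/
def rootTab : List (ℤ√3) :=
  [⟨2, 0⟩, ⟨0, 1⟩, ⟨1, 0⟩, ⟨0, 0⟩, ⟨-1, 0⟩, ⟨0, -1⟩, ⟨-2, 0⟩, ⟨0, -1⟩, ⟨-1, 0⟩, ⟨0, 0⟩, ⟨1, 0⟩,
    ⟨0, 1⟩]

def reTab (k : ℕ) : ℤ√3 := rootTab.getD (k % 12) 0
def imTab (k : ℕ) : ℤ√3 := rootTab.getD ((k + 9) % 12) 0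

def MonData.re (d : MonData) (g : Mdl) : ℤ√3 :=
  ((List.finRange d.n).map fun u =>
    if d.mem ((d.T u)⁻¹ * g * d.T u) then reTab (d.k ((d.T u)⁻¹ * g * d.T u)) else 0).sum

def MonData.im (d : MonData) (g : Mdl) : ℤ√3 :=
  ((List.finRange d.n).map fun u =>
    if d.mem ((d.T u)⁻¹ * g * d.T u) then imTab (d.k ((d.T u)⁻¹ * g * d.T u)) else 0).sum

/-- The embedding in the complex numbers. -/
noncomputable def toC : ℤ√3 →+* ℂ :=
  Complex.ofRealHom.comp (Zsqrtd.lift ⟨Real.sqrt 3, by norm_num⟩)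

theorem toC_apply (a : ℤ√3) : toC a = ((a.re + a.im * Real.sqrt 3 : ℝ) : ℂ) := rfl

theorem conj_toC (a : ℤ√3) : conj (toC a) = toC a := by
  rw [toC_apply, Complex.conj_ofReal]

/-- A primitive twelfth root of unity. -/
noncomputable def zeta : ℂˣ :=
  Units.mk0 ⟨Real.sqrt 3 / 2, 1 / 2⟩ fun h => by
    have := congrArg Complex.im h
    norm_num at this

theorem zeta_pow (k : ℕ) : ((zeta ^ k : ℂˣ) : ℂ) * 2 = toC (reTab k) + toC (imTab k) * Complex.I := by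
  have s3 : Real.sqrt 3 * Real.sqrt 3 = 3 := Real.mul_self_sqrt (by norm_num)
  induction k with
  | zero => simp [reTab, imTab, rootTab, toC_apply, Complex.ext_iff]
  | succ k ih =>
    rw [pow_succ, Units.val_mul, mul_right_comm, ih]
    have hk : (k + 1) % 12 = (k % 12 + 1) % 12 := by omega
    have hk' : (k + 1 + 9) % 12 = ((k + 9) % 12 + 1) % 12 := by omega
    have hk'' : (k + 9) % 12 = (k % 12 + 9) % 12 := by omega
    simp only [reTab, imTab, hk, hk', hk'']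
    have hlt : k % 12 < 12 := Nat.mod_lt _ (by norm_num)
    obtain ⟨r, hr⟩ : ∃ r, r = k % 12 := ⟨_, rfl⟩
    rw [← hr] at hlt ⊢
    interval_cases r <;>
      simp [rootTab, toC_apply, zeta, Complex.ext_iff] <;>
      (try constructor) <;>
      first | ring1 | linear_combination (1/2 : ℝ) * s3 | linear_combination (-1/2 : ℝ) * s3

theorem zeta_pow_twelve : zeta ^ 12 = 1 := by
  apply Units.ext
  have h := zeta_pow 12
  rw [show reTab 12 = 2 from rfl, show imTab 12 = 0 from rfl, map_ofNat, map_zero, zero_mul,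
    add_zero] at h
  rw [Units.val_one]
  exact mul_right_cancel₀ (two_ne_zero) (h.trans (one_mul _).symm)

theorem zeta_pow_mod (k : ℕ) : zeta ^ k = zeta ^ (k % 12) := by
  conv_lhs => rw [← Nat.div_add_mod k 12, pow_add, pow_mul, zeta_pow_twelve, one_pow, one_mul]

theorem MonData.inv_mem (d : MonData) (hd : d.Ok) {a : Mdl} (ha : d.mem a = true) :
    d.mem a⁻¹ = true := by
  have hp : ∀ n : ℕ, d.mem (a ^ n) = true := fun n => by
    induction n with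
    | zero => rw [pow_zero]; exact hd.2.1.1
    | succ n ih => rw [pow_succ]; exact (hd.1 _ _ ih ha).1
  have hc : a⁻¹ = a ^ (orderOf a - 1) := by
    refine inv_eq_of_mul_eq_one_right ?_
    rw [← pow_succ', Nat.sub_add_cancel (orderOf_pos a), pow_orderOf_eq_one]
  rw [hc]
  exact hp _

theorem MonData.gen (d : MonData) (hd : d.Ok) (him : ∀ g, d.im g = 0) :
    Cfsg.IsGeneralizedCharacter Mdl (fun g => toC (d.re g) / 2) := by
  let S : Subgroup Mdl :=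
    { carrier := {a | d.mem a = true}
      one_mem' := hd.2.1.1
      mul_mem' := fun ha hb => (hd.1 _ _ ha hb).1
      inv_mem' := fun ha => d.inv_mem hd ha }
  haveI : DecidablePred (· ∈ S) := Classical.decPred _
  let θ : S →* ℂˣ :=
    { toFun := fun a => zeta ^ d.k a.1
      map_one' := by
        show zeta ^ d.k 1 = 1
        rw [zeta_pow_mod, hd.2.1.2, pow_zero]
      map_mul' := fun a b => by
        show zeta ^ d.k (a.1 * b.1) = _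
        rw [← pow_add, zeta_pow_mod, (hd.1 _ _ a.2 b.2).2, ← zeta_pow_mod] }
  have hbij : Function.Bijective fun x : Fin d.n × S => d.T x.1 * (x.2 : Mdl) := by
    refine ⟨fun x y h => ?_, fun g => ?_⟩
    · have h' : d.T x.1 * (x.2 : Mdl) = d.T y.1 * (y.2 : Mdl) := h
      have h1 : x.1 = y.1 := by
        refine hd.2.2.1 _ _ ?_
        have : (d.T x.1)⁻¹ * d.T y.1 = (x.2 : Mdl) * (y.2 : Mdl)⁻¹ := by
          rw [eq_mul_inv_iff_mul_eq, mul_assoc, ← h', inv_mul_cancel_left]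
        rw [this]
        exact S.mul_mem x.2.2 (S.inv_mem y.2.2)
      rw [h1] at h'
      exact Prod.ext h1 (Subtype.ext (mul_left_cancel h'))
    · obtain ⟨u, hu⟩ := hd.2.2.2 g
      exact ⟨(u, ⟨(d.T u)⁻¹ * g, hu⟩), mul_inv_cancel_left _ _⟩
  convert gen_induced S θ d.T hbij using 1
  funext g
  rw [div_eq_iff two_ne_zero, Finset.sum_mul]
  have h : toC (d.re g) + toC (d.im g) * Complex.I = toC (d.re g) := by
    rw [him, map_zero, zero_mul, add_zero]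
  rw [← h, MonData.re, MonData.im, map_list_sum, map_list_sum, List.map_map, List.map_map,
    ← Fin.sum_univ_def, ← Fin.sum_univ_def, Finset.sum_mul, ← Finset.sum_add_distrib]
  refine Finset.sum_congr rfl fun u _ => ?_
  by_cases hm : d.mem ((d.T u)⁻¹ * g * d.T u) = true
  · rw [Function.comp_apply, Function.comp_apply, if_pos hm, if_pos hm, dif_pos (show _ ∈ S from hm)]
    exact (zeta_pow _).symm
  · rw [Function.comp_apply, Function.comp_apply, if_neg hm, if_neg hm, dif_neg (show ¬ _ ∈ S from hm)]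
    simp

/-! ### The data -/

def isOdd (d : D) : Bool := !isR d
def gx : Mdl := gb * gt * gb⁻¹
def bpow : Fin 3 → Mdl := fun i => gb ^ i.val
def tw : List Mdl := [1, gx]
def sp : List Mdl := [1, gt, gx, gt * gx]

def fix2 (g : Mdl) : Bool := act g.1.p 2 == 2
def memP (g : Mdl) : Bool := fix2 g && isR (co 2 g.1.d)
def memR (g : Mdl) : Bool := fix2 g && isR (co 0 g.1.d) && isR (co 1 g.1.d)
def memF (g : Mdl) : Bool :=
  isR g.1.p && isR (co 0 g.1.d) && isR (co 1 g.1.d) && isR (co 2 g.1.d)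
def eta (g : Mdl) : ℕ :=
  if isR g.1.p then (if isR (co 0 g.1.d) then 0 else 6) else (if isR (co 0 g.1.d) then 3 else 9)
def e2 (g : Mdl) : ℕ := 4 * (vof (co 2 g.1.d)).val
def e01 (g : Mdl) : ℕ := 4 * ((vof (co 0 g.1.d)).val + (vof (co 1 g.1.d)).val)
def esum (g : Mdl) : ℕ := e01 g + e2 g

def T3 : Fin 3 → Mdl := bpow
def T6 (i : Fin 6) : Mdl :=
  ((List.finRange 3).flatMap fun b => tw.map (bpow b * ·)).getD i.val 1
def T12 (i : Fin 12) : Mdl :=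
  ((List.finRange 3).flatMap fun b => sp.map (bpow b * ·)).getD i.val 1
def T8 (i : Fin 8) : Mdl := (sp.flatMap fun s => [s, s * gf]).getD i.val 1

def dB0 : MonData := ⟨3, fix2, fun _ => 0, T3⟩
def dB6 : MonData := ⟨3, fix2, fun g => if isR (co 2 g.1.d) then 0 else 6, T3⟩
def dP : MonData := ⟨6, memP, e2, T6⟩
def dPm : MonData := ⟨6, memP, fun g => e2 g + (if isR g.1.p then 0 else 6), T6⟩
def dPi : MonData := ⟨6, memP, fun g => e2 g + eta g, T6⟩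
def dPj : MonData := ⟨6, memP, fun g => e2 g + 3 * eta g, T6⟩
def dR : MonData := ⟨12, memR, e01, T12⟩
def dRm : MonData := ⟨12, memR, fun g => e01 g + (if isR g.1.p then 0 else 6), T12⟩
def df1 : MonData := ⟨8, memF, esum, T8⟩
def dfw : MonData := ⟨8, memF, fun g => esum g + 4 * (vof g.1.p).val, T8⟩
def dfv : MonData := ⟨8, memF, fun g => esum g + 8 * (vof g.1.p).val, T8⟩

/-! ### Classes and tables -/

def zs : ℤˣ → ℤ√3
  | u => ((u : ℤ) : ℤ√3)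

/-- The number of the conjugacy class. -/
def clsN (g : Mdl) : Fin 14 :=
  let d0 := co 0 g.1.d
  let d1 := co 1 g.1.d
  let d2 := co 2 g.1.d
  let nrot : D → ℕ := fun x => if isR x && x != 1 then 1 else 0
  if g.1.p == 1 then
    (if isR d0 && isR d1 && isR d2 then Fin.ofNat 14 (nrot d0 + nrot d1 + nrot d2)
      else Fin.ofNat 14 (4 + nrot d0 + nrot d1 + nrot d2))
  else if isR g.1.p then
    let a := act g.1.p⁻¹ 0
    let b := act g.1.p⁻¹ a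
    let P := d0 * co a g.1.d * co b g.1.d
    if P == 1 then 6
    else if (Bool.xor (Bool.xor (P == .r 1) (g.1.p == .r 1)) (isR (co a g.1.d))) then 8 else 7
  else
    let c : Fin 3 := match g.1.p with
      | .r i => tf i
      | .sr i => tf i
    let P := co (c + 1) g.1.d * co (c + 2) g.1.d
    if isR P then (if P == 1 then 9 else 10)
    else if co c g.1.d == 1 then 11
    else if (Bool.xor (co c g.1.d == .r 1) (isR (co (c + 1) g.1.d))) then 13 else 12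

def chrTab : List (List (ℤ√3)) := [
  [⟨2, 0⟩, ⟨2, 0⟩, ⟨2, 0⟩, ⟨2, 0⟩, ⟨2, 0⟩, ⟨2, 0⟩, ⟨2, 0⟩, ⟨2, 0⟩, ⟨2, 0⟩, ⟨2, 0⟩, ⟨2, 0⟩, ⟨2, 0⟩, ⟨2, 0⟩, ⟨2, 0⟩],
  [⟨2, 0⟩, ⟨2, 0⟩, ⟨2, 0⟩, ⟨2, 0⟩, ⟨2, 0⟩, ⟨2, 0⟩, ⟨2, 0⟩, ⟨2, 0⟩, ⟨2, 0⟩, ⟨-2, 0⟩, ⟨-2, 0⟩, ⟨-2, 0⟩, ⟨-2, 0⟩, ⟨-2, 0⟩],
  [⟨4, 0⟩, ⟨4, 0⟩, ⟨4, 0⟩, ⟨4, 0⟩, ⟨4, 0⟩, ⟨4, 0⟩, ⟨-2, 0⟩, ⟨-2, 0⟩, ⟨-2, 0⟩, ⟨0, 0⟩, ⟨0, 0⟩, ⟨0, 0⟩, ⟨0, 0⟩, ⟨0, 0⟩],
  [⟨6, 0⟩, ⟨6, 0⟩, ⟨6, 0⟩, ⟨6, 0⟩, ⟨-2, 0⟩, ⟨-2, 0⟩, ⟨0, 0⟩, ⟨0, 0⟩, ⟨0, 0⟩, ⟨2, 0⟩, ⟨2, 0⟩, ⟨-2, 0⟩, ⟨-2, 0⟩, ⟨-2, 0⟩],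
  [⟨6, 0⟩, ⟨6, 0⟩, ⟨6, 0⟩, ⟨6, 0⟩, ⟨-2, 0⟩, ⟨-2, 0⟩, ⟨0, 0⟩, ⟨0, 0⟩, ⟨0, 0⟩, ⟨-2, 0⟩, ⟨-2, 0⟩, ⟨2, 0⟩, ⟨2, 0⟩, ⟨2, 0⟩],
  [⟨12, 0⟩, ⟨6, 0⟩, ⟨0, 0⟩, ⟨-6, 0⟩, ⟨4, 0⟩, ⟨-2, 0⟩, ⟨0, 0⟩, ⟨0, 0⟩, ⟨0, 0⟩, ⟨0, 0⟩, ⟨0, 0⟩, ⟨4, 0⟩, ⟨-2, 0⟩, ⟨-2, 0⟩],
  [⟨12, 0⟩, ⟨6, 0⟩, ⟨0, 0⟩, ⟨-6, 0⟩, ⟨4, 0⟩, ⟨-2, 0⟩, ⟨0, 0⟩, ⟨0, 0⟩, ⟨0, 0⟩, ⟨0, 0⟩, ⟨0, 0⟩, ⟨-4, 0⟩, ⟨2, 0⟩, ⟨2, 0⟩],
  [⟨12, 0⟩, ⟨6, 0⟩, ⟨0, 0⟩, ⟨-6, 0⟩, ⟨-4, 0⟩, ⟨2, 0⟩, ⟨0, 0⟩, ⟨0, 0⟩, ⟨0, 0⟩, ⟨0, 0⟩, ⟨0, 0⟩, ⟨0, 0⟩, ⟨0, -2⟩, ⟨0, 2⟩],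
  [⟨12, 0⟩, ⟨6, 0⟩, ⟨0, 0⟩, ⟨-6, 0⟩, ⟨-4, 0⟩, ⟨2, 0⟩, ⟨0, 0⟩, ⟨0, 0⟩, ⟨0, 0⟩, ⟨0, 0⟩, ⟨0, 0⟩, ⟨0, 0⟩, ⟨0, 2⟩, ⟨0, -2⟩],
  [⟨24, 0⟩, ⟨0, 0⟩, ⟨-6, 0⟩, ⟨6, 0⟩, ⟨0, 0⟩, ⟨0, 0⟩, ⟨0, 0⟩, ⟨0, 0⟩, ⟨0, 0⟩, ⟨4, 0⟩, ⟨-2, 0⟩, ⟨0, 0⟩, ⟨0, 0⟩, ⟨0, 0⟩],
  [⟨24, 0⟩, ⟨0, 0⟩, ⟨-6, 0⟩, ⟨6, 0⟩, ⟨0, 0⟩, ⟨0, 0⟩, ⟨0, 0⟩, ⟨0, 0⟩, ⟨0, 0⟩, ⟨-4, 0⟩, ⟨2, 0⟩, ⟨0, 0⟩, ⟨0, 0⟩, ⟨0, 0⟩],
  [⟨16, 0⟩, ⟨-8, 0⟩, ⟨4, 0⟩, ⟨-2, 0⟩, ⟨0, 0⟩, ⟨0, 0⟩, ⟨4, 0⟩, ⟨-2, 0⟩, ⟨-2, 0⟩, ⟨0, 0⟩, ⟨0, 0⟩, ⟨0, 0⟩, ⟨0, 0⟩, ⟨0, 0⟩],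
  [⟨16, 0⟩, ⟨-8, 0⟩, ⟨4, 0⟩, ⟨-2, 0⟩, ⟨0, 0⟩, ⟨0, 0⟩, ⟨-2, 0⟩, ⟨4, 0⟩, ⟨-2, 0⟩, ⟨0, 0⟩, ⟨0, 0⟩, ⟨0, 0⟩, ⟨0, 0⟩, ⟨0, 0⟩],
  [⟨16, 0⟩, ⟨-8, 0⟩, ⟨4, 0⟩, ⟨-2, 0⟩, ⟨0, 0⟩, ⟨0, 0⟩, ⟨-2, 0⟩, ⟨-2, 0⟩, ⟨4, 0⟩, ⟨0, 0⟩, ⟨0, 0⟩, ⟨0, 0⟩, ⟨0, 0⟩, ⟨0, 0⟩]]

def combTab : List (List (Fin 14 × Int)) := [
  [(12, 1), (13, -1)],
  [(7, 1), (8, -1)],
  [(2, 1), (7, 1), (12, -1)],
  [(3, 1), (4, 1), (7, -1)],
  [(0, 1), (3, 1), (9, -1), (12, 1)],
  [(0, 1), (2, 1), (4, 1), (5, -1)],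
  [(0, 1), (1, 1), (7, 1), (11, -1)],
  [(1, 1), (2, 1), (3, 1), (6, -1)],
  [(1, 1), (4, 1), (10, -1), (12, 1)]]

def sizeTab : List ℕ := [1, 6, 12, 8, 27, 54, 72, 72, 72, 54, 108, 54, 54, 54]

def pairTab : List ℕ := [81, 216, 216, 216, 324, 648, 648, 648, 648, 324, 648, 648, 648, 648]

def sqTab : List ℕ := [82, 60, 120, 8, 54, 108, 72, 72, 72, 0, 0, 0, 0, 0]

/-- Twice the value of an irreducible character of the model. -/
def chr (n : Fin 14) (g : Mdl) : ℤ√3 := (chrTab.getD n.val []).getD (clsN g).val 0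

/-- Twice the value of a test function, on a class. -/
def F2c (i : Fin 9) (c : Fin 14) : ℤ√3 :=
  ((combTab.getD i.val []).map fun t => (t.2 : ℤ√3) * (chrTab.getD t.1.val []).getD c.val 0).sum

/-- Twice the value of a test function. -/
def F2 (i : Fin 9) (g : Mdl) : ℤ√3 := F2c i (clsN g)

/-- The test functions. -/
noncomputable def Fn (i : Fin 9) (g : Mdl) : ℂ := toC (F2 i g) / 2

theorem ok_B0 : dB0.Ok := MonData.Chk.ok (by decide +kernel)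
theorem ok_B6 : dB6.Ok := MonData.Chk.ok (by decide +kernel)
theorem ok_P : dP.Ok := MonData.Chk.ok (by decide +kernel)
theorem ok_Pm : dPm.Ok := MonData.Chk.ok (by decide +kernel)
theorem ok_Pi : dPi.Ok := MonData.Chk.ok (by decide +kernel)
theorem ok_Pj : dPj.Ok := MonData.Chk.ok (by decide +kernel)
theorem ok_R : dR.Ok := MonData.Chk.ok (by decide +kernel)
theorem ok_Rm : dRm.Ok := MonData.Chk.ok (by decide +kernel)
theorem ok_f1 : df1.Ok := MonData.Chk.ok (by decide +kernel)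
theorem ok_fw : dfw.Ok := MonData.Chk.ok (by decide +kernel)
theorem ok_fv : dfv.Ok := MonData.Chk.ok (by decide +kernel)

theorem val_01 : ∀ g, chr 0 g = 2 ∧ chr 1 g = 2 * zs (ps g) := by decide +kernel
theorem val_2 : ∀ g, dB0.im g = 0 ∧ chr 2 g = dB0.re g - 2 := by decide +kernel
theorem val_34 : ∀ g, dB6.im g = 0 ∧ chr 3 g = zs (ps g) * dB6.re g ∧ chr 4 g = dB6.re g := by
  decide +kernel
theorem val_P : ∀ g, dP.im g = 0 ∧ chr 5 g = dP.re g := by decide +kernel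
theorem val_Pm : ∀ g, dPm.im g = 0 ∧ chr 6 g = dPm.re g := by decide +kernel
theorem val_Pi : ∀ g, dPi.im g = 0 ∧ chr 7 g = dPi.re g := by decide +kernel
theorem val_Pj : ∀ g, dPj.im g = 0 ∧ chr 8 g = dPj.re g := by decide +kernel
theorem val_R : ∀ g, dR.im g = 0 ∧ chr 9 g = dR.re g := by decide +kernel
theorem val_Rm : ∀ g, dRm.im g = 0 ∧ chr 10 g = dRm.re g := by decide +kernel
theorem val_f1 : ∀ g, df1.im g = 0 ∧ chr 11 g = df1.re g := by decide +kernel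
theorem val_fw : ∀ g, dfw.im g = 0 ∧ chr 12 g = dfw.re g := by decide +kernel
theorem val_fv : ∀ g, dfv.im g = 0 ∧ chr 13 g = dfv.re g := by decide +kernel

theorem gen_chr : ∀ n, Cfsg.IsGeneralizedCharacter Mdl (fun g => toC (chr n g) / 2) := by
  have h1 : Cfsg.IsGeneralizedCharacter Mdl (fun _ => (1 : ℂ)) :=
    Char.IsCharacter.isGeneralizedCharacter Char.isCharacter_one
  have hs : Cfsg.IsGeneralizedCharacter Mdl (fun g => ((ps g : ℤ) : ℂ)) := TIPairs.gen_hom ps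
  have go : ∀ (d : MonData), d.Ok → ∀ n, (∀ g, d.im g = 0 ∧ chr n g = d.re g) →
      Cfsg.IsGeneralizedCharacter Mdl (fun g => toC (chr n g) / 2) := by
    intro d hd n h
    simp only [fun g => (h g).2]
    exact d.gen hd fun g => (h g).1
  have g0 : Cfsg.IsGeneralizedCharacter Mdl (fun g => toC (chr 0 g) / 2) := by
    convert h1 using 1
    funext g
    rw [(val_01 g).1, map_ofNat]; norm_num
  have g1 : Cfsg.IsGeneralizedCharacter Mdl (fun g => toC (chr 1 g) / 2) := by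
    convert hs using 1
    funext g
    rw [(val_01 g).2, map_mul, map_ofNat, zs, map_intCast, mul_div_cancel_left₀ _ two_ne_zero]
  have g2 : Cfsg.IsGeneralizedCharacter Mdl (fun g => toC (chr 2 g) / 2) := by
    convert TIPairs.gen_sub (dB0.gen ok_B0 fun g => (val_2 g).1) h1 using 1
    funext g
    rw [(val_2 g).2, map_sub, map_ofNat, Pi.sub_apply, sub_div, div_self two_ne_zero]
  have g3 : Cfsg.IsGeneralizedCharacter Mdl (fun g => toC (chr 3 g) / 2) := by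
    convert TIPairs.gen_mul hs (dB6.gen ok_B6 fun g => (val_34 g).1) using 1
    funext g
    rw [(val_34 g).2.1, map_mul, zs, map_intCast, Pi.mul_apply, mul_div_assoc]
  have g4 : Cfsg.IsGeneralizedCharacter Mdl (fun g => toC (chr 4 g) / 2) := by
    convert dB6.gen ok_B6 (fun g => (val_34 g).1) using 1
    funext g
    rw [(val_34 g).2.2]
  intro n
  fin_cases n
  exacts [g0, g1, g2, g3, g4, go _ ok_P _ val_P, go _ ok_Pm _ val_Pm, go _ ok_Pi _ val_Pi,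
    go _ ok_Pj _ val_Pj, go _ ok_R _ val_R, go _ ok_Rm _ val_Rm, go _ ok_f1 _ val_f1,
    go _ ok_fw _ val_fw, go _ ok_fv _ val_fv]

theorem gen_smul_int {K : Type*} [Group K] {a : K → ℂ} (ha : Cfsg.IsGeneralizedCharacter K a)
    (n : ℤ) : Cfsg.IsGeneralizedCharacter K (fun g => (n : ℂ) * a g) := by
  induction n using Int.induction_on with
  | zero =>
    convert TIPairs.gen_sub ha ha using 1
    funext g; simp
  | succ i ih =>
    convert TIPairs.gen_add ih ha using 1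
    funext g; simp only [Pi.add_apply]; push_cast; ring
  | pred i ih =>
    convert TIPairs.gen_sub ih ha using 1
    funext g; simp only [Pi.sub_apply]; push_cast; ring

theorem gen_Fn (i : Fin 9) : Cfsg.IsGeneralizedCharacter Mdl (Fn i) := by
  have key : ∀ L : List (Fin 14 × Int), Cfsg.IsGeneralizedCharacter Mdl
      (fun g => toC ((L.map fun t => (t.2 : ℤ√3) * chr t.1 g).sum) / 2) := by
    intro L
    induction L with
    | nil =>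
      convert TIPairs.gen_sub (gen_chr 0) (gen_chr 0) using 1
      funext g; simp
    | cons t L ih =>
      convert TIPairs.gen_add (gen_smul_int (gen_chr t.1) t.2) ih using 1
      funext g
      simp only [List.map_cons, List.sum_cons, map_add, map_mul, map_intCast, Pi.add_apply]
      ring
  exact key _

end CfsgLib.A9Model
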