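import Mathlib

/-!
The real algebra behind the degrees of the exceptional characters.
-/

set_option autoImplicit false

namespace CfsgLib.A9Arith

/-- Evaluation of a polynomial. -/
def evalL : List ℤ → ℝ → ℝ
  | [], _ => 0
  | c :: cs, x => c + x * evalL cs x

def addL : List ℤ → List ℤ → List ℤ
  | [], q => q
  | p, [] => p
  | a :: p, b :: q => (a + b) :: addL p q

theorem eval_addL (x : ℝ) : ∀ p q, evalL (addL p q) x = evalL p x + evalL q x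
  | [], q => by simp [addL, evalL]
  | a :: p, [] => by simp [addL, evalL]
  | a :: p, b :: q => by simp [addL, evalL, eval_addL x p q]; ring

/-- Translation of a polynomial. -/
def shiftL : List ℤ → ℤ → List ℤ
  | [], _ => []
  | c :: cs, l => addL [c] (addL ((shiftL cs l).map (l * ·)) (0 :: shiftL cs l))

theorem eval_mapL (x : ℝ) (l : ℤ) : ∀ p : List ℤ, evalL (p.map (l * ·)) x = l * evalL p x
  | [] => by simp [evalL]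
  | a :: p => by simp [evalL, eval_mapL x l p]; ring

theorem eval_shiftL (x : ℝ) (l : ℤ) : ∀ p, evalL (shiftL p l) x = evalL p (l + x)
  | [] => rfl
  | c :: cs => by
    simp only [shiftL, eval_addL, eval_mapL, evalL, eval_shiftL x l cs, Int.cast_zero]
    ring

/-- A lower bound on an interval starting at zero. -/
def lowL : List ℤ → ℤ → ℤ
  | [], _ => 0
  | c :: cs, h => c + min 0 (h * lowL cs h)

theorem lowL_le (h : ℤ) {s : ℝ} (h0 : 0 ≤ s) (h1 : s ≤ h) : ∀ p, (lowL p h : ℝ) ≤ evalL p s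
  | [] => by simp [lowL, evalL]
  | c :: cs => by
    have ih := lowL_le h h0 h1 cs
    simp only [lowL, evalL, Int.cast_add, Int.cast_min, Int.cast_zero, Int.cast_mul,
      add_le_add_iff_left]
    rcases le_or_gt 0 (lowL cs h : ℝ) with hl | hl
    · exact le_trans (min_le_left _ _) (mul_nonneg h0 (le_trans hl ih))
    · refine le_trans (min_le_right _ _) ?_
      calc (h : ℝ) * lowL cs h ≤ s * lowL cs h := mul_le_mul_of_nonpos_right h1 hl.le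
        _ ≤ s * evalL cs s := mul_le_mul_of_nonneg_left ih h0

/-- Homogenisation in powers of twenty. -/
def homL : List ℤ → List ℤ
  | [] => []
  | c :: cs => c * 20 ^ cs.length :: homL cs

theorem eval_homL (a : ℝ) : ∀ p : List ℤ,
    evalL (homL p) (20 * a) * 20 = 20 ^ p.length * evalL p a
  | [] => by simp [homL, evalL]
  | c :: cs => by
    simp only [homL, evalL, List.length_cons, Int.cast_mul, Int.cast_pow, Int.cast_ofNat,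
      pow_succ]
    linear_combination (20 * a) * eval_homL a cs

theorem pos_of_check {p : List ℤ} {a : ℝ}
    (hc : 0 < lowL (shiftL (homL p) (-11)) 11 ∧ 0 < lowL (homL p) 11)
    (ha1 : -(11 / 20 : ℝ) ≤ a) (ha2 : a ≤ 11 / 20) : 0 < evalL p a := by
  have h : 0 < evalL (homL p) (20 * a) := by
    rcases le_or_gt a 0 with h | h
    · have := lowL_le 11 (s := 20 * a + 11) (by linarith) (by push_cast; linarith)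
        (shiftL (homL p) (-11))
      rw [eval_shiftL] at this
      push_cast at this
      rw [show (-11 : ℝ) + (20 * a + 11) = 20 * a by ring] at this
      exact lt_of_lt_of_le (by exact_mod_cast hc.1) this
    · have := lowL_le 11 (s := 20 * a) (by linarith) (by push_cast; linarith) (homL p)
      exact lt_of_lt_of_le (by exact_mod_cast hc.2) this
  have h2 := eval_homL a p
  have : 0 < (20 : ℝ) ^ p.length := by positivity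
  nlinarith

/-- A polynomial of the reduction. -/
def u1num (t θ : ℝ) : ℝ :=
  2 - 4*θ + 4*θ^2 - 4*θ^3 + 2*θ^4 - 3*t + 9*t*θ - 4*t*θ^2 + 5*t*θ^3 - t*θ^4 + 4*t^2 - 17*t^2*θ + 11*t^2*θ^2 - 12*t^2*θ^3 + 4*t^2*θ^4 - t^3 + 12*t^3*θ - 6*t^3*θ^2 + 6*t^3*θ^3 - t^3*θ^4 + t^4 - 7*t^4*θ + 6*t^4*θ^2 - 7*t^4*θ^3 + 2*t^4*θ^4 + t^5*θ + t^5*θ^2

/-- A polynomial of the reduction. -/
def oneNum (t θ : ℝ) : ℝ :=
  2 - 4*θ + 6*θ^2 - 8*θ^3 + 6*θ^4 - 4*θ^5 + 2*θ^6 - 4*t + 12*t*θ - 9*t*θ^2 + 18*t*θ^3 - 6*t*θ^4 + 6*t*θ^5 - t*θ^6 + 7*t^2 - 30*t^2*θ + 24*t^2*θ^2 - 46*t^2*θ^3 + 23*t^2*θ^4 - 18*t^2*θ^5 + 6*t^2*θ^6 - 5*t^3 + 38*t^3*θ - 25*t^3*θ^2 + 48*t^3*θ^3 - 20*t^3*θ^4 + 14*t^3*θ^5 - 2*t^3*θ^6 + 4*t^4 - 38*t^4*θ + 32*t^4*θ^2 - 52*t^4*θ^3 + 30*t^4*θ^4 - 22*t^4*θ^5 + 6*t^4*θ^6 - t^5 + 24*t^5*θ - 19*t^5*θ^2 + 26*t^5*θ^3 - 13*t^5*θ^4 +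 8*t^5*θ^5 - t^5*θ^6 - 10*t^6*θ + 12*t^6*θ^2 - 12*t^6*θ^3 + 9*t^6*θ^4 - 8*t^6*θ^5 + 2*t^6*θ^6 + 2*t^7*θ - 3*t^7*θ^2 + 2*t^7*θ^3 + t^7*θ^4

/-- A polynomial of the reduction. -/
def sNum (t θ : ℝ) : ℝ :=
  4*θ^2 - 4*θ^3 + 5*θ^4 - 2*θ^5 + θ^6 - 4*t*θ - 2*t*θ^2 + 4*t*θ^3 - 4*t*θ^4 + 2*t*θ^5 + t^2 + 2*t^2*θ + 3*t^2*θ^2 - 12*t^2*θ^3 + 11*t^2*θ^4 - 6*t^2*θ^5 + 2*t^2*θ^6 - 2*t^3*θ + 2*t^3*θ^2 + 4*t^3*θ^3 - 6*t^3*θ^4 + 2*t^3*θ^5 + t^4*θ^2 - 4*t^4*θ^3 + 6*t^4*θ^4 - 4*t^4*θ^5 + t^4*θ^6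

/-- A polynomial of the reduction. -/
def hNum (t θ : ℝ) : ℝ :=
  1 - 2*θ + 2*θ^2 - 2*θ^3 + θ^4 - t + 4*t*θ - t*θ^2 + 2*t*θ^3 + t^2 - 8*t^2*θ + 5*t^2*θ^2 - 6*t^2*θ^3 + 2*t^2*θ^4 + t^3 + 4*t^3*θ - 2*t^3*θ^2 + 2*t^3*θ^3 - 2*t^4*θ + 3*t^4*θ^2 - 4*t^4*θ^3 + t^4*θ^4 + t^5*θ^2

/-- A polynomial of the reduction. -/
def u2num (t θ : ℝ) : ℝ :=
  -2*θ - θ^2 - θ^4 + t + 4*t*θ - t*θ^2 - t^2 - 2*t^2*θ + 2*t^2*θ^3 - 2*t^2*θ^4 + 2*t^3*θ - t^3*θ^2 - t^4*θ^2 + 2*t^4*θ^3 - t^4*θ^4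

/-- A polynomial of the reduction. -/
def core (t θ : ℝ) : ℝ :=
  -2 - 4*θ - 6*θ^2 - 8*θ^3 - 6*θ^4 - 4*θ^5 - 2*θ^6 + 8*t + 4*t*θ + 13*t*θ^2 + 10*t*θ^3 + 2*t*θ^4 + 6*t*θ^5 - 3*t*θ^6 - 17*t^2 + 26*t^2*θ - 38*t^2*θ^2 + 18*t^2*θ^3 - 25*t^2*θ^4 - 2*t^2*θ^5 - 4*t^2*θ^6 + 17*t^3 - 62*t^3*θ + 57*t^3*θ^2 - 28*t^3*θ^3 + 28*t^3*θ^4 + 6*t^3*θ^5 - 6*t^3*θ^6 - 14*t^4 + 86*t^4*θ - 80*t^4*θ^2 + 48*t^4*θ^3 - 46*t^4*θ^4 + 10*t^4*θ^5 - 4*t^4*θ^6 + 5*t^5 - 68*t^5*θ + 63*t^5*θ^2 - 22*t^5*θ^3 + 25*t^5*θ^4 - 3*t^5*θ^6 + 30*t^6*θ - 38*t^6*θ^2 + 8*t^6*θ^3 - 13*t^6*θ^4 + 8*t^6*θ^5 - 2*t^6*θ^6 - 6*t^7*θ + 11*t^7*θ^2 - 2*t^7*θ^3 - t^7*θ^4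

theorem core_ne {a θ : ℝ} (ha1 : -(11 / 20 : ℝ) ≤ a) (ha2 : a ≤ 11 / 20) :
    core (a + 1) θ ≠ 0 := by
  have c0 := pos_of_check (p := [3, 6, 0, -11, -11, -5]) (a := a) (by decide +kernel) ha1 ha2
  have c2 := pos_of_check (p := [18, 48, 56, 8, -50, -66, -39, -11]) (a := a) (by decide +kernel) ha1 ha2
  have c4 := pos_of_check (p := [36, 108, 183, 201, 151, 74, 20, 1]) (a := a) (by decide +kernel) ha1 ha2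
  have c6 := pos_of_check (p := [24, 72, 106, 92, 49, 15, 2]) (a := a) (by decide +kernel) ha1 ha2
  have d1 := pos_of_check (p := [72, 360, 768, 420, -1296, -2960, -2498, -34, 2064, 2226, 1132, 128, -202, -144, -36]) (a := a) (by decide +kernel) ha1 ha2
  have d3 := pos_of_check (p := [72, -72, 570, 4626, 10550, 10724, -158, -15998, -25165, -22958, -14240, -6157, -1760, -283, -15]) (a := a) (by decide +kernel) ha1 ha2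
  have d5 := pos_of_check (p := [1152, 5184, 10896, 13296, 9236, 2108, -2218, -2084, -252, 702, 584, 226, 46, 4]) (a := a) (by decide +kernel) ha1 ha2
  simp only [evalL] at c0 c2 c4 c6 d1 d3 d5
  push_cast at c0 c2 c4 c6 d1 d3 d5
  obtain ⟨k0, hk0⟩ : ∃ k : ℝ, k = ((3)*a^0 + (6)*a^1 + (0)*a^2 + (-11)*a^3 + (-11)*a^4 + (-5)*a^5) := ⟨_, rfl⟩
  obtain ⟨k1, hk1⟩ : ∃ k : ℝ, k = ((-6)*a^0 + (-12)*a^1 + (0)*a^2 + (8)*a^3 + (14)*a^4 + (14)*a^5 + (12)*a^6 + (6)*a^7) := ⟨_, rfl⟩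
  obtain ⟨k2, hk2⟩ : ∃ k : ℝ, k = ((18)*a^0 + (48)*a^1 + (56)*a^2 + (8)*a^3 + (-50)*a^4 + (-66)*a^5 + (-39)*a^6 + (-11)*a^7) := ⟨_, rfl⟩
  obtain ⟨k3, hk3⟩ : ∃ k : ℝ, k = ((-24)*a^0 + (-78)*a^1 + (-80)*a^2 + (-34)*a^3 + (12)*a^4 + (16)*a^5 + (6)*a^6 + (2)*a^7) := ⟨_, rfl⟩
  obtain ⟨k4, hk4⟩ : ∃ k : ℝ, k = ((36)*a^0 + (108)*a^1 + (183)*a^2 + (201)*a^3 + (151)*a^4 + (74)*a^5 + (20)*a^6 + (1)*a^7) := ⟨_, rfl⟩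
  obtain ⟨k5, hk5⟩ : ∃ k : ℝ, k = ((-24)*a^0 + (-108)*a^1 + (-196)*a^2 + (-206)*a^3 + (-130)*a^4 + (-48)*a^5 + (-8)*a^6) := ⟨_, rfl⟩
  obtain ⟨k6, hk6⟩ : ∃ k : ℝ, k = ((24)*a^0 + (72)*a^1 + (106)*a^2 + (92)*a^3 + (49)*a^4 + (15)*a^5 + (2)*a^6) := ⟨_, rfl⟩
  have e : -core (a + 1) θ = k0 + k1 * θ + k2 * θ ^ 2 + k3 * θ ^ 3 + k4 * θ ^ 4 + k5 * θ ^ 5 +
      k6 * θ ^ 6 := by
    simp only [core, hk0, hk1, hk2, hk3, hk4, hk5, hk6]; ring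
  have p0 : 0 < k0 := by rw [hk0]; convert c0 using 1; ring
  have p2 : 0 < k2 := by rw [hk2]; convert c2 using 1; ring
  have p4 : 0 < k4 := by rw [hk4]; convert c4 using 1; ring
  have p6 : 0 < k6 := by rw [hk6]; convert c6 using 1; ring
  have q1 : k1 ^ 2 < 2 * k0 * k2 := by
    rw [← sub_pos, hk0, hk1, hk2]; convert d1 using 1; ring
  have q3 : k3 ^ 2 < k2 * k4 := by
    rw [← sub_pos, hk2, hk3, hk4]; convert d3 using 1; ring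
  have q5 : k5 ^ 2 < 2 * k4 * k6 := by
    rw [← sub_pos, hk4, hk5, hk6]; convert d5 using 1; ring
  have r1 : 0 < k0 + k1 * θ + k2 / 2 * θ ^ 2 := by nlinarith [sq_nonneg (k2 * θ + k1)]
  have r3 : 0 ≤ k2 / 2 + k3 * θ + k4 / 2 * θ ^ 2 := by nlinarith [sq_nonneg (k4 * θ + k3)]
  have r5 : 0 ≤ k4 / 2 + k5 * θ + k6 * θ ^ 2 := by nlinarith [sq_nonneg (2 * k6 * θ + k5)]
  intro h
  rw [h] at e
  nlinarith [mul_nonneg (sq_nonneg θ) r3, mul_nonneg (mul_nonneg (sq_nonneg θ) (sq_nonneg θ)) r5]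

end CfsgLib.A9Arith
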