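import Cfsg.Agent.Lib.Derangements.A9Chars
import Cfsg.Agent.Lib.Derangements.ColEnum

/-!
Finite computations in the model group of order 648.
-/

set_option autoImplicit false
set_option linter.constructorNameAsVariable false

namespace CfsgLib.A9Model

open CfsgLib

theorem tr_one : isTr 1 = true := by decide +kernel

def trRep : Fin 3 → Mdl
  | 0 => ga
  | 1 => ga * (gb * ga * gb⁻¹)
  | 2 => ga * (gb * ga * gb⁻¹) * (gb * gb * ga * gb)

theorem tr_orbit : ∀ m, isTr m = true → m ≠ 1 →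
    ∃ w : Fin 3, (clsN m).val = w.val + 1 ∧ ∃ g, g * trRep w * g⁻¹ = m := by decide +kernel

theorem tr_counts : ∀ w0 w1 w2 : Bool,
    (Finset.univ.filter fun m : Mdl => isTr m = true ∧
      ((clsN m).val = 1 ∧ w0 = true ∨ (clsN m).val = 2 ∧ w1 = true ∨
        (clsN m).val = 3 ∧ w2 = true)).card =
      (if w0 then 6 else 0) + (if w1 then 12 else 0) + (if w2 then 8 else 0) := by decide +kernel

theorem tr_cube : ∀ m, isTr m = true → m ^ 3 = 1 := by decide +kernel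
theorem tr_comm : ∀ m, isTr m = true → ∀ m', isTr m' = true → m * m' = m' * m := by decide +kernel
theorem tr_mul : ∀ m, isTr m = true → ∀ m', isTr m' = true → isTr (m * m') = true := by
  decide +kernel
theorem tr_card : (Finset.univ.filter fun m : Mdl => isTr m = true).card = 27 := by decide +kernel

def gens : List Mdl := [ga, gb, gt, gf, gb * gb]

theorem tr_normal : ∀ m, isTr m = true → ∀ g, g ∈ gens → isTr (g * m * g⁻¹) = true := by
  decide +kernel

theorem tr_of_pow : ∀ m : Mdl, m ^ 81 = 1 → (m⁻¹ * (gt * m * gt⁻¹)) ^ 81 = 1 →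
    (m⁻¹ * (gx * m * gx⁻¹)) ^ 81 = 1 → isTr m = true := by decide +kernel

theorem tr_cubes : ∀ m, isTr m = true → m ≠ 1 →
    (Finset.univ.filter fun c : Mdl => c * m = m * c).card * (if (clsN m).val = 3 then 1 else 0) =
      if (clsN m).val = 3 then 81 else 0 := by decide +kernel

/-- The set with a non-trivial translation as a power. -/
def inA (m : Mdl) : Bool :=
  [1, 2, 3, 4].any fun k => isTr (m ^ k) && m ^ k != 1

theorem inA_sq : ∀ m, inA m = true → m * m ≠ 1 := by decide +kernel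
theorem inA_pow : ∀ m, inA m = true → ∃ k : Fin 5, isTr (m ^ k.val) = true ∧ m ^ k.val ≠ 1 := by
  decide +kernel
theorem F2_supp : ∀ m, inA m = false → ∀ i, F2 i m = 0 := by decide +kernel
theorem tr_inA : ∀ m, isTr m = true → m ≠ 1 → inA m = true := by decide +kernel

/-- The multiplicities of the trivial character. -/
def oneTab : List ℤ := [0, 0, 0, 0, 1, 1, 1, 0, 0]
/-- The inner products on the non-trivial characters. -/
def gramTab : List (List ℤ) := [[2, 0, -1, 0, 1, 0, 0, 0, 1], [0, 2, 1, -1, 0, 0, 1, 0, 0],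
  [-1, 1, 3, -1, -1, 1, 1, 1, -1], [0, -1, -1, 3, 1, 1, -1, 1, 1], [1, 0, -1, 1, 3, 0, 0, 1, 1],
  [0, 0, 1, 1, 0, 3, 0, 1, 1], [0, 1, 1, -1, 0, 0, 3, 1, 1], [0, 0, 1, 1, 1, 1, 1, 4, 1],
  [1, 0, -1, 1, 1, 1, 1, 1, 4]]
/-- The signed sums on the non-trivial characters. -/
def fsTab : List ℤ := [0, 0, 1, 1, 1, 1, 1, 2, 2]
/-- The sums over pairs of involutions. -/
def pairQ : List ℤ := [0, 0, 3, 3, 9, 15, 12, 3, 3]
/-- The combination giving the indicator of the translations. -/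
def trComb : List ℤ := [8, 6, 40, 60, 12, 6, 8, 6, 12]

def gramN (i j : ℕ) : ℤ := (gramTab.getD i []).getD j 0
def fsN (i : ℕ) : ℤ := fsTab.getD i 0

/-- The columns. -/
def truth : List (List ℤ) := [[1, 0, 0, 0, 0, 0, 0, 0, 0], [1, 0, -1, 0, 1, 0, 0, 0, 1],
  [0, 1, 1, -1, 0, 0, 1, 0, 0], [0, 1, 0, 0, 0, 0, 0, 0, 0], [0, 0, 1, 0, 0, 1, 0, 1, 0],
  [0, 0, 0, 1, 1, 0, 0, 1, 0], [0, 0, 0, 1, 0, 1, 0, 0, 1], [0, 0, 0, 0, 1, 0, 0, 0, 0],
  [0, 0, 0, 0, 0, 1, 0, 0, 0], [0, 0, 0, 0, 0, 0, 1, 1, 1], [0, 0, 0, 0, 0, 0, 1, 0, 0],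
  [0, 0, 0, 0, 0, 0, 0, 1, 0], [0, 0, 0, 0, 0, 0, 0, 0, 1]]

theorem run_eq : ColEnum.run gramN fsN 9 = [truth] := by decide +kernel

theorem gram_le : ∀ k : Fin 9, gramN k.val k.val ≤ 4 := by decide

theorem cls_counts : ∀ c : Fin 14, (Finset.univ.filter fun m : Mdl => clsN m = c).card =
    sizeTab.getD c.val 0 := by decide +kernel

theorem sum_cls {R : Type*} [CommSemiring R] (f : Fin 14 → R) :
    ∑ m : Mdl, f (clsN m) = ∑ c : Fin 14, (sizeTab.getD c.val 0 : R) * f c := by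
  rw [← Finset.sum_fiberwise Finset.univ clsN fun m => f (clsN m)]
  refine Finset.sum_congr rfl fun c _ => ?_
  rw [Finset.sum_congr rfl fun m hm => congrArg f (Finset.mem_filter.mp hm).2, Finset.sum_const,
    cls_counts, nsmul_eq_mul]

theorem tab_sum : ∀ i : Fin 9,
    ∑ c : Fin 14, (sizeTab.getD c.val 0 : ℤ√3) * F2c i c = 2 * 648 * (oneTab.getD i.val 0 : ℤ√3) := by
  decide +kernel

theorem tab_gram : ∀ i j : Fin 9,
    ∑ c : Fin 14, (sizeTab.getD c.val 0 : ℤ√3) * (F2c i c * F2c j c) =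
      4 * 648 * ((gramN i.val j.val + oneTab.getD i.val 0 * oneTab.getD j.val 0 : ℤ) : ℤ√3) := by
  decide +kernel

theorem tab_sq : ∀ i : Fin 9, ∑ m : Mdl, F2 i (m * m) =
    2 * 648 * ((fsN i.val + oneTab.getD i.val 0 : ℤ) : ℤ√3) := by decide +kernel

theorem code_unique : ∀ (n : ℕ) (a b : Fin n → ℕ), (∀ c, a c < 10000) → (∀ c, b c < 10000) →
    ∑ c, a c * 10000 ^ c.val = ∑ c, b c * 10000 ^ c.val → ∀ c, a c = b c
  | 0, _, _, _, _, _, c => c.elim0
  | n + 1, a, b, ha, hb, h, c => by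
    have hsplit : ∀ f : Fin (n + 1) → ℕ, ∑ i, f i * 10000 ^ i.val =
        f 0 + 10000 * ∑ i : Fin n, f i.succ * 10000 ^ i.val := by
      intro f
      rw [Fin.sum_univ_succ, Finset.mul_sum]
      simp only [Fin.val_zero, pow_zero, mul_one, Fin.val_succ, pow_succ]
      congr 1
      exact Finset.sum_congr rfl fun i _ => by ring
    rw [hsplit, hsplit] at h
    have h0 : a 0 = b 0 := by have := ha 0; have := hb 0; omega
    refine Fin.cases h0 (fun i => ?_) c
    exact code_unique n (fun i => a i.succ) (fun i => b i.succ) (fun i => ha _) (fun i => hb _)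
      (by omega) i

theorem pair_code :
    ∑ x ∈ Finset.univ.filter (fun x : Mdl => x * x = 1 ∧ x ≠ 1),
      ∑ y ∈ Finset.univ.filter (fun y : Mdl => y * y = 1 ∧ y ≠ 1), 10000 ^ (clsN (x * y)).val =
      ∑ c : Fin 14, pairTab.getD c.val 0 * 10000 ^ c.val := by decide +kernel

theorem inv_card : (Finset.univ.filter fun x : Mdl => x * x = 1 ∧ x ≠ 1).card = 81 := by
  decide +kernel

theorem tab_pairs_cls : ∀ i : Fin 9, ∑ c : Fin 14, (pairTab.getD c.val 0 : ℤ√3) * F2c i c =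
    2 * 648 * (pairQ.getD i.val 0 : ℤ√3) := by decide +kernel

theorem pairTab_lt : ∀ c : Fin 14, pairTab.getD c.val 0 < 10000 := by decide +kernel

theorem tab_pairs (i : Fin 9) :
    ∑ x ∈ Finset.univ.filter (fun x : Mdl => x * x = 1 ∧ x ≠ 1),
      ∑ y ∈ Finset.univ.filter (fun y : Mdl => y * y = 1 ∧ y ≠ 1), F2 i (x * y) =
      2 * 648 * (pairQ.getD i.val 0 : ℤ√3) := by
  have hcode := pair_code
  have hcard := inv_card
  generalize hI : (Finset.univ.filter fun x : Mdl => x * x = 1 ∧ x ≠ 1) = I at hcode hcard ⊢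
  let N : Fin 14 → ℕ := fun c => ((I ×ˢ I).filter fun p => clsN (p.1 * p.2) = c).card
  have hfib : ∀ {R : Type} [CommSemiring R] (f : Fin 14 → R),
      ∑ x ∈ I, ∑ y ∈ I, f (clsN (x * y)) = ∑ c, (N c : R) * f c := by
    intro R _ f
    rw [← Finset.sum_product', ← Finset.sum_fiberwise (I ×ˢ I) (fun p => clsN (p.1 * p.2))]
    refine Finset.sum_congr rfl fun c _ => ?_
    rw [Finset.sum_congr rfl fun p hp => congrArg f (Finset.mem_filter.mp hp).2, Finset.sum_const,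
      nsmul_eq_mul]
  have hN : ∀ c, N c = pairTab.getD c.val 0 := by
    refine code_unique 14 N _ (fun c => ?_) pairTab_lt ?_
    · refine lt_of_le_of_lt (Finset.card_filter_le _ _) ?_
      rw [Finset.card_product, hcard]
      norm_num
    · rw [← hcode, hfib fun c => 10000 ^ c.val]
      simp
  show ∑ x ∈ I, ∑ y ∈ I, F2c i (clsN (x * y)) = _
  rw [hfib, ← tab_pairs_cls i]
  simp only [hN]

theorem tab_comb : ∀ m : Mdl, ∑ i : Fin 9, (trComb.getD i.val 0 : ℤ√3) * F2 i m =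
    if isTr m = true ∧ m ≠ 1 then 2 * 648 else 0 := by decide +kernel

theorem conj_facts : gt * ga * gt⁻¹ = ga⁻¹ ∧ ga ^ 3 = 1 ∧ gt * gt = 1 ∧ gb ^ 3 = 1 ∧
    gf * gf = 1 ∧ gf * gb * gf⁻¹ = gb⁻¹ * (gb * (gf * gb * gf⁻¹)) ∧
    isTr (gb * gb * gb) = true := by decide +kernel

theorem gen_facts : gx * gx = 1 ∧ (gb * gt * gb⁻¹) * (gb * gb * gt * (gb * gb)⁻¹) * gt = 1 ∧
    gb * gb * gb = 1 := by decide +kernel

end CfsgLib.A9Model
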