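import Cfsg.Agent.Lib.Derangements.TIReal

/-!
The normalizer in the alternating group of degree nine of a subgroup of type `(3, 3, 3)`.
-/

set_option autoImplicit false

namespace CfsgLib.A9Model

abbrev D := DihedralGroup 3
abbrev D3 := D × D × D

def isR : D → Bool
  | .r _ => true
  | .sr _ => false

def sgnD : D →* ℤˣ where
  toFun d := if isR d then 1 else -1
  map_one' := rfl
  map_mul' := by decide

def co : Fin 3 → D3 →* D
  | 0 => MonoidHom.fst D (D × D)
  | 1 => (MonoidHom.fst D D).comp (MonoidHom.snd D (D × D))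
  | 2 => (MonoidHom.snd D D).comp (MonoidHom.snd D (D × D))

def tf (i : ZMod 3) : Fin 3 := i

def act : D → Fin 3 → Fin 3
  | .r i, x => x + tf i
  | .sr i, x => -(x + tf i)

theorem act_mul : ∀ d d' x, act (d * d') x = act d (act d' x) := by decide +kernel
theorem act_one : ∀ x, act 1 x = x := by decide

/-- Permutation of the coordinates. -/
def perm (p : D) (d : D3) : D3 := (co (act p⁻¹ 0) d, co (act p⁻¹ 1) d, co (act p⁻¹ 2) d)

theorem co_perm (p : D) (d : D3) : ∀ k, co k (perm p d) = co (act p⁻¹ k) d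
  | 0 => rfl
  | 1 => rfl
  | 2 => rfl

theorem d3_ext {a b : D3} (h : ∀ k, co k a = co k b) : a = b :=
  Prod.ext (h 0) (Prod.ext (h 1) (h 2))

theorem perm_perm (p q : D) (d : D3) : perm p (perm q d) = perm (p * q) d :=
  d3_ext fun k => by rw [co_perm, co_perm, co_perm, mul_inv_rev, act_mul]

theorem perm_hom (p : D) (a b : D3) : perm p (a * b) = perm p a * perm p b :=
  d3_ext fun k => by simp only [co_perm, map_mul]

theorem perm_one (d : D3) : perm 1 d = d :=
  d3_ext fun k => by rw [co_perm, inv_one, act_one]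

theorem perm_id (p : D) : perm p 1 = 1 :=
  d3_ext fun k => by simp only [co_perm, map_one]

/-- The wreath product. -/
@[ext] structure W where
  d : D3
  p : D
deriving DecidableEq

def equivProd : W ≃ D3 × D where
  toFun x := (x.d, x.p)
  invFun x := ⟨x.1, x.2⟩

instance : Fintype W := Fintype.ofEquiv _ equivProd.symm

instance : Group W where
  mul x y := ⟨x.d * perm x.p y.d, x.p * y.p⟩
  one := ⟨1, 1⟩
  inv x := ⟨perm x.p⁻¹ x.d⁻¹, x.p⁻¹⟩
  mul_assoc x y z := by
    refine W.ext ?_ (mul_assoc _ _ _)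
    show x.d * perm x.p y.d * perm (x.p * y.p) z.d = x.d * perm x.p (y.d * perm y.p z.d)
    rw [perm_hom, perm_perm, mul_assoc]
  one_mul x := by
    refine W.ext ?_ (one_mul _)
    show 1 * perm 1 x.d = x.d
    rw [perm_one, one_mul]
  mul_one x := by
    refine W.ext ?_ (mul_one _)
    show x.d * perm x.p 1 = x.d
    rw [perm_id, mul_one]
  inv_mul_cancel x := by
    refine W.ext ?_ (inv_mul_cancel _)
    show perm x.p⁻¹ x.d⁻¹ * perm x.p⁻¹ x.d = 1
    rw [← perm_hom, inv_mul_cancel, perm_id]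

theorem mul_d (x y : W) : (x * y).d = x.d * perm x.p y.d := rfl
theorem mul_p (x y : W) : (x * y).p = x.p * y.p := rfl

def pd (d : D3) : ℤˣ := sgnD (co 0 d) * sgnD (co 1 d) * sgnD (co 2 d)

theorem pd_perm : ∀ (p : D) (d : D3), pd (perm p d) = pd d := by decide +kernel

def par : W →* ℤˣ where
  toFun g := pd g.d * sgnD g.p
  map_one' := rfl
  map_mul' g h := by
    have : pd (g.d * perm g.p h.d) = pd g.d * pd h.d := by
      rw [← pd_perm g.p h.d]
      simp only [pd, map_mul]
      ac_rfl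
    simp only [mul_d, mul_p, this, map_mul]
    ac_rfl

/-- The model of the group of order 648. -/
abbrev Mdl := ↥par.ker

def ps : Mdl →* ℤˣ where
  toFun g := sgnD g.1.p
  map_one' := rfl
  map_mul' g h := map_mul sgnD g.1.p h.1.p

def fin9 : Fin 9 ≃ Fin 3 × Fin 3 := (finProdFinEquiv (m := 3) (n := 3)).symm

def img (g : W) (x : Fin 3 × Fin 3) : Fin 3 × Fin 3 :=
  (act g.p x.1, act (co (act g.p x.1) g.d) x.2)

theorem img_mul (g h : W) (x : Fin 3 × Fin 3) : img (g * h) x = img g (img h x) := by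
  simp only [img, mul_p, mul_d, map_mul, co_perm, act_mul]
  refine Prod.ext rfl ?_
  simp only
  congr 3
  rw [← act_mul, inv_mul_cancel, act_one]

theorem img_one (x : Fin 3 × Fin 3) : img 1 x = x := by
  show (act 1 x.1, act (co (act 1 x.1) 1) x.2) = x
  simp only [act_one, map_one]

def phi : Mdl →* Equiv.Perm (Fin 9) where
  toFun g :=
    { toFun := fun n => fin9.symm (img g.1 (fin9 n))
      invFun := fun n => fin9.symm (img g.1⁻¹ (fin9 n))
      left_inv := fun n => by
        simp only [Equiv.apply_symm_apply]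
        rw [← img_mul, inv_mul_cancel, img_one, Equiv.symm_apply_apply]
      right_inv := fun n => by
        simp only [Equiv.apply_symm_apply]
        rw [← img_mul, mul_inv_cancel, img_one, Equiv.symm_apply_apply] }
  map_one' := Equiv.ext fun n => by
    simp only [Equiv.coe_fn_mk, OneMemClass.coe_one, img_one, Equiv.symm_apply_apply,
      Equiv.Perm.coe_one, id_eq]
  map_mul' g h := Equiv.ext fun n => by
    simp only [Equiv.coe_fn_mk, Equiv.Perm.coe_mul, Function.comp_apply, Subgroup.coe_mul,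
      img_mul, Equiv.apply_symm_apply]

theorem phi_inj : ∀ m : Mdl, phi m = 1 → m = 1 := by decide +kernel

def ga : Mdl := ⟨⟨(.r 1, 1, 1), 1⟩, by decide⟩
def gb : Mdl := ⟨⟨(1, 1, 1), .r 1⟩, by decide⟩
def gt : Mdl := ⟨⟨(.sr 2, .sr 2, 1), 1⟩, by decide⟩
def gf : Mdl := ⟨⟨(1, 1, .sr 2), .sr 2⟩, by decide⟩

def vof : D → Fin 3
  | .r i => tf i
  | .sr i => tf (2 - i)

def top : D → Mdl
  | .r i => gb ^ (tf i).val
  | .sr i => gb ^ (tf (2 - i)).val * gf

def wrd (m : Mdl) : Mdl :=
  let r := m * (top m.1.p)⁻¹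
  ga ^ (vof (co 0 r.1.d)).val * (gb * ga * gb⁻¹) ^ (vof (co 1 r.1.d)).val *
    (gb * gb * ga * gb) ^ (vof (co 2 r.1.d)).val *
    (if isR (co 0 r.1.d) then 1 else gt) * (if isR (co 2 r.1.d) then 1 else gb * gt * gb⁻¹) *
    top m.1.p

theorem wrd_eq : ∀ m, wrd m = m := by decide +kernel

abbrev genSet : Set (Equiv.Perm (Fin 9)) := {Equiv.swap (0 : Fin 9) 1 * Equiv.swap 1 2,
  Equiv.swap (0 : Fin 9) 3 * Equiv.swap 3 6 * (Equiv.swap (1 : Fin 9) 4 * Equiv.swap 4 7) *
    (Equiv.swap (2 : Fin 9) 5 * Equiv.swap 5 8),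
  Equiv.swap (0 : Fin 9) 1 * Equiv.swap 3 4,
  Equiv.swap (0 : Fin 9) 3 * Equiv.swap 1 4 * Equiv.swap 2 5 * Equiv.swap 6 7}

theorem phi_gen : phi ga = Equiv.swap (0 : Fin 9) 1 * Equiv.swap 1 2 ∧
    phi gb = Equiv.swap (0 : Fin 9) 3 * Equiv.swap 3 6 *
      (Equiv.swap (1 : Fin 9) 4 * Equiv.swap 4 7) * (Equiv.swap (2 : Fin 9) 5 * Equiv.swap 5 8) ∧
    phi gt = Equiv.swap (0 : Fin 9) 1 * Equiv.swap 3 4 ∧
    phi gf = Equiv.swap (0 : Fin 9) 3 * Equiv.swap 1 4 * Equiv.swap 2 5 * Equiv.swap 6 7 := by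
  decide +kernel

theorem range_phi : phi.range = Subgroup.closure genSet := by
  obtain ⟨e1, e2, e3, e4⟩ := phi_gen
  have ha : phi ga ∈ Subgroup.closure genSet := e1 ▸ Subgroup.subset_closure (by simp [genSet])
  have hb : phi gb ∈ Subgroup.closure genSet := e2 ▸ Subgroup.subset_closure (by simp [genSet])
  have ht : phi gt ∈ Subgroup.closure genSet := e3 ▸ Subgroup.subset_closure (by simp [genSet])
  have hf : phi gf ∈ Subgroup.closure genSet := e4 ▸ Subgroup.subset_closure (by simp [genSet])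
  apply le_antisymm
  · rintro _ ⟨m, rfl⟩
    have htop : ∀ p, phi (top p) ∈ Subgroup.closure genSet := by
      rintro (i | i)
      · rw [top, map_pow]; exact pow_mem hb _
      · rw [top, map_mul, map_pow]; exact mul_mem (pow_mem hb _) hf
    rw [← wrd_eq m]
    simp only [wrd, map_mul, map_pow, map_inv, apply_ite phi, map_one]
    refine mul_mem (mul_mem (mul_mem (mul_mem (mul_mem (pow_mem ha _) (pow_mem ?_ _))
      (pow_mem ?_ _)) ?_) ?_) (htop _)
    · exact mul_mem (mul_mem hb ha) (inv_mem hb)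
    · exact mul_mem (mul_mem (mul_mem hb hb) ha) hb
    · split_ifs
      exacts [one_mem _, ht]
    · split_ifs
      exacts [one_mem _, mul_mem (mul_mem hb ht) (inv_mem hb)]
  · rw [Subgroup.closure_le]
    intro g hg
    simp only [genSet, Set.mem_insert_iff, Set.mem_singleton_iff] at hg
    rcases hg with rfl | rfl | rfl | rfl
    exacts [⟨ga, e1⟩, ⟨gb, e2⟩, ⟨gt, e3⟩, ⟨gf, e4⟩]

noncomputable def mdlEquiv : Mdl ≃* ↥(Subgroup.closure genSet) :=
  (MonoidHom.ofInjective ((injective_iff_map_eq_one phi).mpr phi_inj)).trans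
    (MulEquiv.subgroupCongr range_phi)

theorem card_mdl : Nat.card Mdl = 648 := by
  rw [Nat.card_eq_fintype_card]
  decide +kernel

end CfsgLib.A9Model
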