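import Cfsg.Agent.Lib.Derangements.EvenForms
import Cfsg.Agent.Lib.Derangements.SympFpf
import Cfsg.Agent.Lib.Classical.SympMatrix

/-!
# Fixed point free maps and invariant quadratic forms for symplectic groups in characteristic two
-/

set_option autoImplicit false
set_option linter.unusedSectionVars false

namespace CfsgLib.Derangements.EvenSymp

open Module QuadraticMap Matrix CfsgLib.Orth CfsgLib.Classical CfsgLib.Derangements

variable {F : Type*} [Field F] [Fintype F] [CharP F 2] {r : ℕ} [Fact r.Prime]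

theorem symp_polar_plusForm (d : ℕ) (u v : Fin d ⊕ Fin d → F) :
    polar (plusForm F d) u v = Cfsg.sympForm d F u v := by
  rw [plusForm_polar, sympForm_eq]
  exact Finset.sum_congr rfl fun i _ => by rw [CharTwo.sub_eq_add]; ring

theorem nondeg_of_polar {d : ℕ} {Q : QuadraticForm F (Fin d ⊕ Fin d → F)}
    (h : ∀ u v, polar Q u v = Cfsg.sympForm d F u v) : (polarBilin Q).Nondegenerate := by
  have h1 : polarBilin Q = sympBil F d := by
    ext u v
    simp [polarBilin_apply_apply, h, sympBil_apply]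
  rw [h1]
  exact sympBil_nondegenerate d

theorem finrank_eq (d : ℕ) : finrank F (Fin d ⊕ Fin d → F) = 2 * d := by simp [two_mul]

theorem natCast_ne_zero (hr2 : r ≠ 2) : (r : F) ≠ 0 := fun h =>
  hr2 ((Nat.prime_dvd_prime_iff_eq Nat.prime_two (Fact.out : r.Prime)).1 ((CharP.cast_eq_zero_iff F 2 r).1 h)).symm

theorem two_ne_zero' (hr2 : r ≠ 2) : (2 : ZMod r) ≠ 0 := fun h => by
  have h' : ((2 : ℕ) : ZMod r) = 0 := by exact_mod_cast h
  rw [ZMod.natCast_eq_zero_iff] at h'
  exact hr2 ((Nat.prime_dvd_prime_iff_eq (Fact.out : r.Prime) Nat.prime_two).1 h')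

/-- An element of order `r` without fixed points of a symplectic group, with an invariant quadratic form. -/
theorem exists_fpf_form (hr2 : r ≠ 2) {d : ℕ} (hd : 0 < d)
    (hc : orderOf (Fintype.card F : ZMod r) ∣ 2 * d) :
    ∃ (Y : Matrix (Fin d ⊕ Fin d) (Fin d ⊕ Fin d) F) (Q : QuadraticForm F (Fin d ⊕ Fin d → F)),
      Y ^ r = 1 ∧ (∀ u v, Cfsg.sympForm d F (Y *ᵥ u) (Y *ᵥ v) = Cfsg.sympForm d F u v) ∧
      (∀ v, Y *ᵥ v = v → v = 0) ∧ (∀ u v, polar Q u v = Cfsg.sympForm d F u v) ∧ ∀ v, Q (Y *ᵥ v) = Q v := by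
  obtain ⟨Y, hY, hYp, hYf⟩ := SympFpf.exists_fixedPointFree (natCast_ne_zero (F := F) hr2) hd hc
  obtain ⟨Q, hQ, hQY⟩ := EvenForms.exists_invariant (L := (Matrix.toLinAlgEquiv' Y : Module.End F _))
    ((Fact.out : r.Prime).odd_of_ne_two hr2) (by rw [← map_pow, hY, map_one]) (plusForm F d) (fun u v => by
      rw [symp_polar_plusForm, symp_polar_plusForm]
      exact hYp u v)
  exact ⟨Y, Q, hY, hYp, hYf, fun u v => (hQ u v).trans (symp_polar_plusForm d u v), hQY⟩

/-- The type of a form with an isometry of order `r` without fixed points. -/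
theorem type_of_fpf (hr2 : r ≠ 2) {V : Type*} [AddCommGroup V] [Module F V] [FiniteDimensional F V]
    {L : Module.End F V} (hL : L ^ r = 1) (hfix : ∀ v, L v = v → v = 0) {Q : QuadraticForm F V}
    (hQ : (polarBilin Q).Nondegenerate) (hQL : ∀ v, Q (L v) = Q v) {d : ℕ} (hd : 1 ≤ d)
    (hV : finrank F V = 2 * d) :
    (r ∣ Fintype.card F ^ d + 1 → ¬ EvenForms.Plus Q d) ∧
    (r ∣ Fintype.card F ^ d - 1 → EvenForms.Plus Q d ∨ r ∣ Fintype.card F - 1) := by
  have h := EvenForms.dvd_zeroCount_sub_one hL hfix hQL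
  obtain ⟨h1, h2⟩ := EvenForms.zeroCount_eq hQ rfl hd hV
  set q := Fintype.card F
  have h2' := two_ne_zero' hr2
  obtain ⟨k, rfl⟩ : ∃ k, d = k + 1 := ⟨d - 1, by omega⟩
  simp only [Nat.add_sub_cancel] at h1 h2
  constructor
  · intro hr hp
    rw [h1 hp, ← ZMod.intCast_zmod_eq_zero_iff_dvd] at h
    push_cast at h
    have ha : (q : ZMod r) ^ (k + 1) = -1 := by
      rw [eq_neg_iff_add_eq_zero]
      exact_mod_cast (ZMod.natCast_eq_zero_iff _ _).2 hr
    rw [ha] at h
    rcases mul_eq_zero.1 h with h3 | h3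
    · exact h2' (by linear_combination -h3)
    · rw [pow_succ, eq_neg_of_add_eq_zero_left h3] at ha
      have hq1 : (q : ZMod r) = 1 := by linear_combination -ha
      rw [hq1, one_pow] at h3
      exact h2' (by linear_combination h3)
  · intro hr
    by_contra hcon
    push Not at hcon
    rw [h2 hcon.1, ← ZMod.intCast_zmod_eq_zero_iff_dvd] at h
    push_cast at h
    have ha : (q : ZMod r) ^ (k + 1) = 1 := by
      have h5 := (ZMod.natCast_eq_zero_iff _ _).2 hr
      rw [Nat.cast_sub (Nat.one_le_pow _ _ Fintype.card_pos), sub_eq_zero] at h5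
      exact_mod_cast h5
    rw [ha] at h
    rcases mul_eq_zero.1 h with h3 | h3
    · exact h2' (by linear_combination h3)
    · rw [pow_succ, sub_eq_zero.1 h3, one_mul] at ha
      apply hcon.2
      rw [← ZMod.natCast_eq_zero_iff, Nat.cast_sub Fintype.card_pos, ha, Nat.cast_one, sub_self]

/-- The diagonal element of order `r` for `r ∣ q - 1`. -/
theorem exists_diag (hr2 : r ≠ 2) (d : ℕ) (h : r ∣ Fintype.card F - 1) :
    ∃ Y : Matrix (Fin d ⊕ Fin d) (Fin d ⊕ Fin d) F, Y ^ r = 1 ∧
      (∀ v, Y *ᵥ v = v → v = 0) ∧ (∀ v, plusForm F d (Y *ᵥ v) = plusForm F d v) ∧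
      (∀ u v, Cfsg.sympForm d F (Y *ᵥ u) (Y *ᵥ v) = Cfsg.sympForm d F u v) ∧
      ∀ Q : QuadraticForm F (Fin d ⊕ Fin d → F), (∀ v, Q (Y *ᵥ v) = Q v) → EvenForms.Plus Q d := by
  classical
  rw [← Fintype.card_units] at h
  obtain ⟨w, hw⟩ := exists_prime_orderOf_dvd_card r h
  have hw1 : (w : F) ≠ 1 := fun h1 => by
    rw [Units.val_eq_one.1 h1, orderOf_one] at hw
    exact (Fact.out : r.Prime).one_lt.ne hw
  have hwr : (w : F) ^ r = 1 := by rw [← Units.val_pow_eq_pow_val, ← hw, pow_orderOf_eq_one, Units.val_one]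
  have hw0 : (w : F) ≠ 0 := w.ne_zero
  have hw1' : (w : F)⁻¹ ≠ 1 := fun h1 => hw1 (inv_eq_one.1 h1)
  refine ⟨Matrix.diagonal (Sum.elim (fun _ => (w : F)) fun _ => (w : F)⁻¹), ?_, ?_, ?_, ?_, ?_⟩
  · rw [Matrix.diagonal_pow, ← Matrix.diagonal_one]
    congr 1
    funext s
    rcases s with i | i <;> simp [inv_pow, hwr]
  · intro v hv
    funext s
    have h1 := congrFun hv s
    rw [Matrix.mulVec_diagonal] at h1
    by_contra hne
    rcases s with i | i
    · exact hw1 ((mul_eq_right₀ hne).1 h1)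
    · exact hw1' ((mul_eq_right₀ hne).1 h1)
  · intro v
    rw [← plusForm_apply, ← plusForm_apply]
    simp only [Cfsg.quadFormPlus, Matrix.mulVec_diagonal, Sum.elim_inl, Sum.elim_inr]
    exact Finset.sum_congr rfl fun i _ => by field_simp
  · intro u v
    simp only [sympForm_eq, Matrix.mulVec_diagonal, Sum.elim_inl, Sum.elim_inr]
    exact Finset.sum_congr rfl fun i _ => by field_simp
  · intro Q hQ
    let f : (Fin d → F) →ₗ[F] (Fin d ⊕ Fin d → F) :=
      LinearMap.pi fun s => Sum.elim (fun i => LinearMap.proj i) (fun _ => 0) s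
    refine ⟨LinearMap.range f, ?_, ?_⟩
    · rintro _ ⟨a, rfl⟩
      have h1 : Matrix.diagonal (Sum.elim (fun _ => (w : F)) fun _ => (w : F)⁻¹) *ᵥ f a = (w : F) • f a := by
        funext s
        rw [Matrix.mulVec_diagonal]
        rcases s with i | i <;> simp [f]
      have h2 := hQ (f a)
      rw [h1, QuadraticMap.map_smul, smul_eq_mul] at h2
      by_contra hne
      have h3 : (w : F) * w = 1 := (mul_eq_right₀ hne).1 h2
      exact hw1 (EvenForms.sq_inj (by rw [one_pow, pow_two, h3]))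
    · rw [LinearMap.finrank_range_of_inj fun a b h => funext fun i => by simpa [f] using congrFun h (Sum.inl i),
        finrank_fin_fun]

/-- The shear by a permutation matrix. -/
noncomputable def shear (F : Type*) [Field F] {d : ℕ} (π : Equiv.Perm (Fin d)) :
    Matrix (Fin d ⊕ Fin d) (Fin d ⊕ Fin d) F :=
  Matrix.fromBlocks 1 (π.permMatrix F) 0 1

theorem shear_mulVec {d : ℕ} (π : Equiv.Perm (Fin d)) (v : Fin d ⊕ Fin d → F) :
    shear F π *ᵥ v = Sum.elim (fun i => v (Sum.inl i) + v (Sum.inr (π i))) fun i => v (Sum.inr i) := by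
  funext s
  rcases s with i | i <;>
    simp [shear, Matrix.fromBlocks_mulVec, Matrix.permMatrix_mulVec, Function.comp_def]

/-- For a fixed point free involution `π` the shear is an involution preserving `plusForm` whose fixed vectors are
singular. -/
theorem shear_spec {d : ℕ} {π : Equiv.Perm (Fin d)} (h2 : ∀ i, π (π i) = i) (hne : ∀ i, π i ≠ i) :
    shear F π * shear F π = 1 ∧ (∀ v, plusForm F d (shear F π *ᵥ v) = plusForm F d v) ∧
    (∀ u v, Cfsg.sympForm d F (shear F π *ᵥ u) (shear F π *ᵥ v) = Cfsg.sympForm d F u v) ∧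
    (∀ v, shear F π *ᵥ v = v → plusForm F d v = 0) ∧
    (∀ Q : QuadraticForm F (Fin d ⊕ Fin d → F), (∀ u v, polar Q u v = Cfsg.sympForm d F u v) →
      (∀ v, Q (shear F π *ᵥ v) = Q v) → EvenForms.Plus Q d) := by
  have hpair : ∀ g : Fin d → F, (∀ i, g (π i) = g i) → ∑ i, g i = 0 := fun g hg =>
    Finset.sum_involution (fun i _ => π i) (fun i _ => by rw [hg, CharTwo.add_self_eq_zero])
      (fun i _ _ => hne i) (fun i _ => Finset.mem_univ _) (fun i _ => h2 i)
  have hplus : ∀ v, plusForm F d (shear F π *ᵥ v) = plusForm F d v := fun v => by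
    rw [← plusForm_apply, ← plusForm_apply, shear_mulVec]
    simp only [Cfsg.quadFormPlus, Sum.elim_inl, Sum.elim_inr, add_mul, Finset.sum_add_distrib]
    rw [hpair (fun i => v (Sum.inr (π i)) * v (Sum.inr i)) (fun i => by rw [h2, mul_comm]), add_zero]
  refine ⟨Matrix.ext_of_mulVec_single fun s => ?_, hplus, fun u v => ?_, fun v hv => ?_, fun Q hQ hQY => ?_⟩
  · rw [← Matrix.mulVec_mulVec, shear_mulVec, shear_mulVec, Matrix.one_mulVec]
    funext t
    rcases t with i | i
    · simp only [Sum.elim_inl, Sum.elim_inr]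
      rw [add_assoc, CharTwo.add_self_eq_zero, add_zero]
    · simp
  · rw [← symp_polar_plusForm, ← symp_polar_plusForm]
    simp only [polar, ← Matrix.mulVec_add, hplus]
  · rw [← plusForm_apply]
    refine Finset.sum_eq_zero fun i _ => ?_
    rw [shear_mulVec] at hv
    have h := congrFun hv (Sum.inl (π i))
    simp only [Sum.elim_inl, h2, add_eq_left] at h
    rw [h, mul_zero]
  · let f : (Fin d → F) →ₗ[F] (Fin d ⊕ Fin d → F) :=
      LinearMap.pi fun s => Sum.elim (fun i => LinearMap.proj i) (fun _ => 0) s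
    have hfl : ∀ a i, f a (Sum.inl i) = a i := fun a i => rfl
    have hfr : ∀ a i, f a (Sum.inr i) = 0 := fun a i => rfl
    refine ⟨LinearMap.range f, ?_, ?_⟩
    · rintro _ ⟨a, rfl⟩
      let v : Fin d ⊕ Fin d → F := Sum.elim 0 fun i => a (π i)
      have h1 : shear F π *ᵥ v = v + f a := by
        rw [shear_mulVec]
        funext t
        rcases t with i | i <;> simp [v, f, h2]
      have h3 := hQY v
      rw [h1, QuadraticMap.map_add Q, hQ] at h3
      have h4 : Cfsg.sympForm d F v (f a) = 0 := by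
        rw [sympForm_eq]
        simp only [v, Sum.elim_inl, Sum.elim_inr, hfl, hfr, Pi.zero_apply, zero_mul, sub_zero]
        exact hpair _ fun i => by rw [h2, mul_comm]
      rw [h4] at h3
      linear_combination h3
    · rw [LinearMap.finrank_range_of_inj fun a b h => funext fun i => by simpa [f] using congrFun h (Sum.inl i),
        finrank_fin_fun]

/-- A fixed point free involution of an even number of points. -/
theorem exists_pairing {d : ℕ} (hd : Even d) :
    ∃ π : Equiv.Perm (Fin d), (∀ i, π (π i) = i) ∧ ∀ i, π i ≠ i := by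
  obtain ⟨k, rfl⟩ := hd
  let π : Equiv.Perm (Fin (k + k)) := finSumFinEquiv.symm.trans ((Equiv.sumComm _ _).trans finSumFinEquiv)
  have hπ : ∀ x, π (finSumFinEquiv x) = finSumFinEquiv x.swap := fun x => by
    simp only [π, Equiv.trans_apply, Equiv.symm_apply_apply, Equiv.sumComm_apply]
  refine ⟨π, fun i => ?_, fun i => ?_⟩
  · obtain ⟨x, rfl⟩ := finSumFinEquiv.surjective i
    rw [hπ, hπ, Sum.swap_swap]
  · obtain ⟨x, rfl⟩ := finSumFinEquiv.surjective i
    rw [hπ]
    intro h
    have h' := finSumFinEquiv.injective h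
    rcases x with a | a <;> simp at h'

end CfsgLib.Derangements.EvenSymp
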