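import Cfsg.Prelude.Def_GeometricClasses
import Cfsg.Agent.Lib.Derangements.EvenSymp
import Cfsg.Agent.Lib.Orth.Bridge
import Cfsg.Agent.Lib.Orth.Similitude

/-!
# Orthogonal groups in characteristic two acting on non-singular points
-/

set_option autoImplicit false
set_option linter.unusedSectionVars false

namespace CfsgLib.Derangements.EvenPoints

open Module QuadraticMap Matrix CfsgLib.Orth CfsgLib.Classical CfsgLib.Derangements
open scoped commutatorElement

variable {F : Type*} [Field F] [Fintype F] [CharP F 2]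
variable {ι : Type} [Fintype ι] [DecidableEq ι] {Qf : (ι → F) → F}
variable (Q : QuadraticForm F (ι → F)) (hQf : ∀ v, Qf v = Q v)

include hQf

theorem card_points : Nat.card {W : Submodule F (ι → F) // finrank F W = 1 ∧ ∃ v ∈ W, Qf v ≠ 0} =
    Nat.card {v : ι → F // Q v = 1} := by
  let f : {v : ι → F // Q v = 1} → {W : Submodule F (ι → F) // finrank F W = 1 ∧ ∃ v ∈ W, Qf v ≠ 0} := fun v =>
    ⟨Submodule.span F {v.1}, finrank_span_singleton (fun h => by
        have := v.2
        rw [h, QuadraticMap.map_zero] at this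
        exact zero_ne_one this), v.1, Submodule.mem_span_singleton_self v.1, by
        rw [hQf, v.2]; exact one_ne_zero⟩
  refine (Nat.card_congr (Equiv.ofBijective f ⟨?_, ?_⟩)).symm
  · rintro ⟨v, hv⟩ ⟨w, hw⟩ h
    have h' : w ∈ Submodule.span F {v} := by
      rw [show Submodule.span F {v} = Submodule.span F {w} from congrArg Subtype.val h]
      exact Submodule.mem_span_singleton_self w
    obtain ⟨c, rfl⟩ := Submodule.mem_span_singleton.1 h'
    rw [QuadraticMap.map_smul, smul_eq_mul, hv, mul_one, ← pow_two] at hw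
    have hc : c = 1 := EvenForms.sq_inj (by rw [hw, one_pow])
    subst hc
    exact Subtype.ext (one_smul F v).symm
  · rintro ⟨W, hW, v, hvW, hv⟩
    rw [hQf] at hv
    obtain ⟨c, hc⟩ := EvenForms.exists_sqrt (Q v)⁻¹
    refine ⟨⟨c • v, by rw [QuadraticMap.map_smul, smul_eq_mul, ← pow_two, hc, inv_mul_cancel₀ hv]⟩, Subtype.ext ?_⟩
    refine Submodule.eq_of_le_of_finrank_eq ((Submodule.span_singleton_le_iff_mem _ _).2 (W.smul_mem c hvW)) ?_
    rw [hW, finrank_span_singleton]
    refine smul_ne_zero (fun h => ?_) fun h => hv (by rw [h, QuadraticMap.map_zero])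
    rw [h] at hc
    exact inv_ne_zero hv (by rw [← hc]; ring)

theorem exists_fixed_point_iff {M : Matrix ι ι F} (hM : ∀ v, Q (M *ᵥ v) = Q v) :
    (∃ W : Submodule F (ι → F), (finrank F W = 1 ∧ ∃ v ∈ W, Qf v ≠ 0) ∧ W.map (Matrix.toLin' M) ≤ W) ↔
      ∃ v, M *ᵥ v = v ∧ Q v ≠ 0 := by
  constructor
  · rintro ⟨W, ⟨hW, v, hvW, hv⟩, hWx⟩
    rw [hQf] at hv
    have hv0 : v ≠ 0 := fun h => hv (by rw [h, QuadraticMap.map_zero])
    have h1 : (⟨M *ᵥ v, hWx ⟨v, hvW, rfl⟩⟩ : W) ∈ (⊤ : Submodule F W) := Submodule.mem_top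
    obtain ⟨c, hc⟩ := (finrank_eq_one_iff_of_nonzero' (⟨v, hvW⟩ : W) (fun h => hv0 (congrArg Subtype.val h))).1 hW
      ⟨M *ᵥ v, hWx ⟨v, hvW, rfl⟩⟩
    have hc' : c • v = M *ᵥ v := congrArg Subtype.val hc
    have h2 := hM v
    rw [← hc', QuadraticMap.map_smul, smul_eq_mul, ← pow_two] at h2
    have hc1 : c = 1 := EvenForms.sq_inj (by rw [one_pow]; exact (mul_eq_right₀ hv).1 h2)
    exact ⟨v, by rw [← hc', hc1, one_smul], hv⟩
  · rintro ⟨v, hv, hQ⟩
    refine ⟨Submodule.span F {v}, ⟨finrank_span_singleton fun h => hQ (by rw [h, QuadraticMap.map_zero]),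
      v, Submodule.mem_span_singleton_self v, by rwa [hQf]⟩, ?_⟩
    rw [Submodule.map_span_le]
    rintro w rfl
    rw [Matrix.toLin'_apply, hv]
    exact Submodule.mem_span_singleton_self _

theorem isometry_of_mem {x : GL ι F} (hx : x ∈ Cfsg.Geo.omegaGL Qf) :
    ∀ v, Q ((x : Matrix ι ι F) *ᵥ v) = Q v := by
  intro v
  obtain ⟨g, -, rfl⟩ := hx
  rw [← hQf, ← hQf]
  exact g.2 v v

theorem scalar_eq_one {x : GL ι F} (hx : x ∈ Cfsg.Geo.omegaGL Qf) {r : ℕ} {z : F}
    (hz : ((x ^ r : GL ι F) : Matrix ι ι F) = z • (1 : Matrix ι ι F)) {v : ι → F} (hv : Q v ≠ 0) : z = 1 := by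
  have h := isometry_of_mem Q hQf (pow_mem hx r) v
  rw [hz, Matrix.smul_mulVec, Matrix.one_mulVec, QuadraticMap.map_smul, smul_eq_mul, ← pow_two] at h
  exact EvenForms.sq_inj (by rw [one_pow]; exact (mul_eq_right₀ hv).1 h)

/-- Isometries of odd order lie in the commutator subgroup. -/
theorem mem_omega_of_odd (hQ : (polarBilin Q).Nondegenerate) (h4 : finrank F (ι → F) ≠ 4) {r : ℕ} (hr : Odd r)
    {x : GL ι F} (hxr : x ^ r = 1) (hx : ∀ v, Q ((x : Matrix ι ι F) *ᵥ v) = Q v) :
    x ∈ Cfsg.Geo.omegaGL Qf := by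
  let g : Cfsg.isometryGroup F Qf := ⟨x, fun v _ => by show Qf _ = Qf v; rw [hQf, hQf]; exact hx v⟩
  refine ⟨g, (mem_Omega_iff Q hQf g).2 ?_, rfl⟩
  obtain ⟨k, hk⟩ := hr
  have hg : g = g ^ (k + 1) * g ^ (k + 1) := by
    have h1 : g ^ r = 1 := Subtype.ext hxr
    rw [← pow_add, show k + 1 + (k + 1) = r + 1 by omega, pow_succ, h1, one_mul]
  rw [hg, map_mul]
  exact sq_mem_commutator hQ (good_of (Or.inr h4)) _

omit hQf in
/-- The map induced by an isometry with another form. -/
theorem exists_transport {V : Type*} [AddCommGroup V] [Module F V] {Q' : QuadraticForm F V}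
    (e : V ≃ₗ[F] (ι → F)) (he : ∀ v, Q (e v) = Q' v) {r : ℕ} [Fact r.Prime] {L : Module.End F V} (hL : L ^ r = 1)
    (hQ'L : ∀ v, Q' (L v) = Q' v) (hfix : ∀ v, L v = v → v = 0) :
    ∃ x : GL ι F, x ^ r = 1 ∧ (∀ v, Q ((x : Matrix ι ι F) *ᵥ v) = Q v) ∧
      ∀ v, (x : Matrix ι ι F) *ᵥ v = v → v = 0 := by
  let T : Module.End F (ι → F) := e.conjAlgEquiv F L
  have hT : ∀ v, T v = e (L (e.symm v)) := fun v => by simp [T, LinearEquiv.conjAlgEquiv_apply]
  let M := (Matrix.toLinAlgEquiv' (R := F) (n := ι)).symm T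
  have hM : ∀ v, M *ᵥ v = T v := fun v => by
    rw [← show Matrix.toLinAlgEquiv' M = T from AlgEquiv.apply_symm_apply _ _]; rfl
  obtain ⟨x, hx, hxr⟩ := SympFpf.exists_gl (Y := M) (r := r) (by rw [← map_pow, ← map_pow, hL, map_one, map_one])
  refine ⟨x, hxr, fun v => ?_, fun v hv => ?_⟩
  · rw [hx, hM, hT, he, hQ'L, ← he, e.apply_symm_apply]
  · rw [hx, hM, hT, ← LinearEquiv.eq_symm_apply] at hv
    simpa using congrArg e (hfix _ hv)

end CfsgLib.Derangements.EvenPoints

namespace CfsgLib.Derangements.EvenPoints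

open Module QuadraticMap Matrix CfsgLib.Orth CfsgLib.Classical CfsgLib.Derangements
open scoped commutatorElement

variable {F : Type*} [Field F] [Fintype F] [CharP F 2] {d : ℕ}

variable (F d) in
/-- The Levi embedding `A ↦ diag(A, A⁻ᵀ)`. -/
noncomputable def levi : GL (Fin d) F →* Cfsg.isometryGroup F (Cfsg.quadFormPlus d F) where
  toFun A := ⟨⟨Matrix.fromBlocks (A : Matrix (Fin d) (Fin d) F) 0 0 ((A⁻¹ : GL (Fin d) F) : Matrix (Fin d) (Fin d) F)ᵀ,
      Matrix.fromBlocks ((A⁻¹ : GL (Fin d) F) : Matrix (Fin d) (Fin d) F) 0 0 (A : Matrix (Fin d) (Fin d) F)ᵀ,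
      by simp [Matrix.fromBlocks_multiply, ← Matrix.transpose_mul],
      by simp [Matrix.fromBlocks_multiply, ← Matrix.transpose_mul]⟩, fun v _ => by
    show Cfsg.quadFormPlus d F (Matrix.fromBlocks (A : Matrix (Fin d) (Fin d) F) 0 0 ((A⁻¹ : GL (Fin d) F) : Matrix (Fin d) (Fin d) F)ᵀ *ᵥ v) =
      Cfsg.quadFormPlus d F v
    rw [Matrix.fromBlocks_mulVec]
    simp only [Cfsg.quadFormPlus, Sum.elim_inl, Sum.elim_inr, Matrix.zero_mulVec, add_zero, zero_add]
    show ((A : Matrix (Fin d) (Fin d) F) *ᵥ (v ∘ Sum.inl)) ⬝ᵥ (((A⁻¹ : GL (Fin d) F) : Matrix (Fin d) (Fin d) F)ᵀ *ᵥ (v ∘ Sum.inr)) =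
      (v ∘ Sum.inl) ⬝ᵥ (v ∘ Sum.inr)
    rw [Matrix.mulVec_transpose, dotProduct_comm, ← Matrix.dotProduct_mulVec, Matrix.mulVec_mulVec,
      ← Units.val_mul, inv_mul_cancel, Units.val_one, Matrix.one_mulVec, dotProduct_comm]⟩
  map_one' := Subtype.ext (Units.ext (by simp [Matrix.fromBlocks_one]))
  map_mul' A B := Subtype.ext (Units.ext (by
    simp [Matrix.fromBlocks_multiply, _root_.mul_inv_rev, Matrix.transpose_mul]))

theorem levi_coe (A : GL (Fin d) F) :
    (((levi F d A : Cfsg.isometryGroup F (Cfsg.quadFormPlus d F)) : GL (Fin d ⊕ Fin d) F) :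
      Matrix (Fin d ⊕ Fin d) (Fin d ⊕ Fin d) F) =
    Matrix.fromBlocks (A : Matrix (Fin d) (Fin d) F) 0 0 ((A⁻¹ : GL (Fin d) F) : Matrix (Fin d) (Fin d) F)ᵀ := rfl

/-- Permutation matrices map into the commutator subgroup. -/
theorem exists_perm_mem_omega (hd : 3 ≤ d) (σ : Equiv.Perm (Fin d)) :
    ∃ A : GL (Fin d) F, (A : Matrix (Fin d) (Fin d) F) = σ.permMatrix F ∧
      (levi F d A : Cfsg.isometryGroup F (Cfsg.quadFormPlus d F)) ∈ Cfsg.Omega F (Cfsg.quadFormPlus d F) := by
  classical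
  let tr : ∀ i j : Fin d, i ≠ j → GL (Fin d) F := fun i j h =>
    ⟨Matrix.transvection i j 1, Matrix.transvection i j 1,
      by rw [Matrix.transvection_mul_transvection_same _ _ h, CharTwo.add_self_eq_zero, Matrix.transvection_zero],
      by rw [Matrix.transvection_mul_transvection_same _ _ h, CharTwo.add_self_eq_zero, Matrix.transvection_zero]⟩
  have htr : ∀ i j h, levi F d (tr i j h) ∈ Cfsg.Omega F (Cfsg.quadFormPlus d F) := by
    intro i j h
    obtain ⟨k, hki, hkj⟩ : ∃ k : Fin d, k ≠ i ∧ k ≠ j := by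
      by_contra hcon
      push Not at hcon
      have h1 : (Finset.univ : Finset (Fin d)) ⊆ {i, j} := fun k _ => by
        by_cases hk : k = i
        · simp [hk]
        · simp [hcon k hk]
      have h2 := (Finset.card_le_card h1).trans Finset.card_le_two
      rw [Finset.card_univ, Fintype.card_fin] at h2
      omega
    have hc : tr i j h = ⁅tr i k hki.symm, tr k j hkj⁆ := by
      have hinv : ∀ a b hab, (tr a b hab)⁻¹ = tr a b hab := fun a b hab => inv_eq_of_mul_eq_one_right
        (Units.ext (by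
          show Matrix.transvection a b (1 : F) * Matrix.transvection a b 1 = 1
          rw [Matrix.transvection_mul_transvection_same _ _ hab, CharTwo.add_self_eq_zero,
            Matrix.transvection_zero]))
      rw [commutatorElement_def, hinv, hinv]
      refine Units.ext ?_
      show Matrix.transvection i j (1 : F) = Matrix.transvection i k 1 * Matrix.transvection k j 1 *
        Matrix.transvection i k 1 * Matrix.transvection k j 1
      simp only [Matrix.transvection, add_mul, mul_add, one_mul, mul_one]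
      simp [Matrix.single_mul_single_of_ne, Matrix.single_mul_single_same, hki, hkj, h, hki.symm, hkj.symm, h.symm]
      have h2 : ∀ X : Matrix (Fin d) (Fin d) F, X + X = 0 := fun X => by
        ext a b; simp [CharTwo.add_self_eq_zero]
      abel_nf
      simp [two_zsmul, two_nsmul, h2, show (3 : F) = 1 by linear_combination CharTwo.two_eq_zero (R := F),
        CharTwo.two_eq_zero]
      all_goals first | exact hkj | exact hki.symm
    rw [hc, map_commutatorElement]
    exact Subgroup.commutator_mem_commutator (Subgroup.mem_top _) (Subgroup.mem_top _)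
  induction σ using Equiv.Perm.swap_induction_on with
  | one => exact ⟨1, by simp [Matrix.permMatrix_one], by rw [map_one]; exact one_mem _⟩
  | swap_mul f x y hxy ih =>
    obtain ⟨A, hA, hAm⟩ := ih
    refine ⟨A * (tr x y hxy * tr y x hxy.symm * tr x y hxy), ?_, ?_⟩
    · rw [Units.val_mul, hA, Matrix.permMatrix_mul]
      congr 1
      show Matrix.transvection x y (1 : F) * Matrix.transvection y x 1 * Matrix.transvection x y 1 = _
      have htv : ∀ (i j : Fin d) (v : Fin d → F), Matrix.transvection i j (1 : F) *ᵥ v = v + Pi.single i (v j) := by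
        intro i j v
        rw [Matrix.transvection, Matrix.add_mulVec, Matrix.one_mulVec]
        congr 1
        funext a
        simp only [Matrix.mulVec, dotProduct, Matrix.single_apply, Pi.single_apply, ite_mul, one_mul, zero_mul,
          ite_and]
        by_cases ha : i = a
        · subst ha; simp
        · simp [ha, Ne.symm ha]
      refine Matrix.ext_of_mulVec_single fun c => ?_
      rw [Matrix.permMatrix_mulVec, ← Matrix.mulVec_mulVec, ← Matrix.mulVec_mulVec, htv, htv, htv]
      funext a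
      generalize (Pi.single c (1 : F) : Fin d → F) = v
      simp only [Pi.add_apply, Function.comp_apply, Pi.single_apply, if_neg hxy.symm, if_true, add_zero]
      by_cases hax : a = x
      · subst hax
        simp [hxy, CharTwo.two_eq_zero]
        linear_combination (v a + v y) * (CharTwo.two_eq_zero (R := F))
      · by_cases hay : a = y
        · subst hay
          simp [hxy.symm, CharTwo.two_eq_zero]
          linear_combination v a * (CharTwo.two_eq_zero (R := F))
        · simp [hax, hay, Equiv.swap_apply_of_ne_of_ne hax hay]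
    · rw [map_mul, map_mul, map_mul]
      exact mul_mem hAm (mul_mem (mul_mem (htr _ _ hxy) (htr _ _ hxy.symm)) (htr _ _ hxy))

/-- An involution in the commutator subgroup whose fixed vectors are singular, for even `d`. -/
theorem exists_involution (hd : 3 ≤ d) (he : Even d) :
    ∃ x : GL (Fin d ⊕ Fin d) F, x ∈ Cfsg.Geo.omegaGL (Cfsg.quadFormPlus d F) ∧ x ^ 2 = 1 ∧
      (∀ v, (x : Matrix (Fin d ⊕ Fin d) (Fin d ⊕ Fin d) F) *ᵥ v = v → plusForm F d v = 0) ∧
      ∃ v, (x : Matrix (Fin d ⊕ Fin d) (Fin d ⊕ Fin d) F) *ᵥ v ≠ v := by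
  obtain ⟨π, h2, hne⟩ := EvenSymp.exists_pairing he
  obtain ⟨A, hA, hAm⟩ := exists_perm_mem_omega (F := F) hd π
  have hππ : π * π = 1 := Equiv.ext h2
  have hA2 : A * A = 1 := Units.ext (by
    rw [Units.val_mul, hA, ← Matrix.permMatrix_mul, hππ, Matrix.permMatrix_one, Units.val_one])
  refine ⟨(levi F d A : Cfsg.isometryGroup F (Cfsg.quadFormPlus d F)), ⟨_, hAm, rfl⟩, ?_, ?_, ?_⟩
  · rw [pow_two, ← Subgroup.coe_mul, ← map_mul, hA2, map_one, Subgroup.coe_one]
  · intro v hv
    rw [levi_coe, inv_eq_of_mul_eq_one_right hA2, hA, Matrix.fromBlocks_mulVec] at hv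
    simp only [Matrix.zero_mulVec, add_zero, zero_add, Matrix.transpose_permMatrix, Matrix.permMatrix_mulVec] at hv
    have hinv : π⁻¹ = π := inv_eq_of_mul_eq_one_right hππ
    rw [hinv] at hv
    rw [← plusForm_apply]
    refine Finset.sum_involution (fun i _ => π i) (fun i _ => ?_) (fun i _ _ => hne i)
      (fun i _ => Finset.mem_univ _) fun i _ => h2 i
    have h3 := congrFun hv (Sum.inl i)
    have h4 := congrFun hv (Sum.inr i)
    simp only [Sum.elim_inl, Sum.elim_inr, Function.comp_apply] at h3 h4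
    rw [h3, h4, CharTwo.add_self_eq_zero]
  · refine ⟨Pi.single (Sum.inl ⟨0, by omega⟩) 1, fun hv => ?_⟩
    rw [levi_coe, hA, Matrix.fromBlocks_mulVec] at hv
    have h3 := congrFun hv (Sum.inl ⟨0, by omega⟩)
    simp [Matrix.permMatrix_mulVec, Pi.single_apply, hne] at h3

end CfsgLib.Derangements.EvenPoints
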