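import Cfsg.Agent.Lib.Derangements.MonomialInvolution
import Mathlib

/-!
# Classes of elements of order two modulo scalars in `SL(n, q)`
-/

set_option autoImplicit false

namespace CfsgLib.Derangements.InvCl

open Module

universe u v

variable {F : Type u} [Field F]

/-- A linear map with scalar square that is not scalar splits off a plane `⟨v, L v⟩`. -/
theorem exists_plane {V : Type v} [AddCommGroup V] [Module F V] (L : Module.End F V) (z : F)
    (hL : ∀ u, L (L u) = z • u) {v : V} (hv : L v ∉ Submodule.span F {v}) :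
    ∃ p : V →ₗ[F] (Fin 2 → F), (∀ k, p (![v, L v] k) = Pi.single k 1) ∧ ∀ u, p u = 0 → p (L u) = 0 := by
  obtain ⟨φ₀, hφ₀, hker⟩ := Submodule.exists_dual_map_eq_bot_of_notMem hv inferInstance
  obtain ⟨φ, hφv, hφ⟩ : ∃ φ : Dual F V, φ v = 0 ∧ φ (L v) = 1 := by
    refine ⟨(φ₀ (L v))⁻¹ • φ₀, ?_, by simp [hφ₀]⟩
    have : φ₀ v ∈ (Submodule.span F {v}).map φ₀ :=
      Submodule.mem_map_of_mem (Submodule.mem_span_singleton_self v)
    rw [hker, Submodule.mem_bot] at this
    simp [this]
  refine ⟨LinearMap.pi ![φ ∘ₗ L, φ], fun k => ?_, fun u hu => ?_⟩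
  · funext l
    fin_cases k <;> fin_cases l <;> simp [hφv, hφ, hL]
  · have h0 := congrFun hu 0
    have h1 := congrFun hu 1
    simp at h0 h1
    funext l
    fin_cases l <;> simp [h0, h1, hL]

theorem exists_scalar_of_forall_mem_span {V : Type v} [AddCommGroup V] [Module F V] [Nontrivial V]
    (L : Module.End F V) (h : ∀ v, L v ∈ Submodule.span F {v}) : ∃ c : F, ∀ v, L v = c • v := by
  obtain ⟨v₀, hv₀⟩ := exists_ne (0 : V)
  obtain ⟨c, hc⟩ := Submodule.mem_span_singleton.1 (h v₀)
  refine ⟨c, fun u => ?_⟩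
  by_cases hu : u ∈ Submodule.span F {v₀}
  · obtain ⟨a, rfl⟩ := Submodule.mem_span_singleton.1 hu
    rw [map_smul, ← hc, smul_comm]
  · obtain ⟨a, ha⟩ := Submodule.mem_span_singleton.1 (h u)
    obtain ⟨e, he⟩ := Submodule.mem_span_singleton.1 (h (u + v₀))
    rw [map_add, ← ha, ← hc, smul_add] at he
    have h1 : (e - a) • u = (c - e) • v₀ := by
      rw [sub_smul, sub_smul, sub_eq_sub_iff_add_eq_add, add_comm (c • v₀), he]
    have h2 : e - a = 0 := by
      by_contra hne
      refine hu (Submodule.mem_span_singleton.2 ⟨(e - a)⁻¹ * (c - e), ?_⟩)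
      rw [mul_smul, ← h1, inv_smul_smul₀ hne]
    rw [h2, zero_smul] at h1
    have h3 : c - e = 0 := (smul_eq_zero.1 h1.symm).resolve_right hv₀
    rw [← ha, show a = c by rw [sub_eq_zero] at h2 h3; rw [← h2, h3]]

/-- Normal form: pairs `(v, L v)` and a scalar part. -/
theorem exists_split {V : Type v} [AddCommGroup V] [Module F V] [FiniteDimensional F V] (L : Module.End F V)
    (z : F) (hL : ∀ u, L (L u) = z • u) :
    ∃ (ι ν : Type) (_ : Fintype ι) (_ : Fintype ν) (c : F) (b : Basis ((ι × Fin 2) ⊕ ν) F V),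
      (∀ i, L (b (.inl (i, 0))) = b (.inl (i, 1))) ∧ (∀ i, L (b (.inl (i, 1))) = z • b (.inl (i, 0))) ∧
      (∀ j, L (b (.inr j)) = c • b (.inr j)) ∧ (Nonempty ν → c * c = z) := by
  suffices h : ∀ n, ∀ (V : Type v) [AddCommGroup V] [Module F V] [FiniteDimensional F V],
      finrank F V = n → ∀ L : Module.End F V, (∀ u, L (L u) = z • u) →
      ∃ (ι ν : Type) (_ : Fintype ι) (_ : Fintype ν) (c : F) (b : Basis ((ι × Fin 2) ⊕ ν) F V),
        (∀ i, L (b (.inl (i, 0))) = b (.inl (i, 1))) ∧ (∀ i, L (b (.inl (i, 1))) = z • b (.inl (i, 0))) ∧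
        (∀ j, L (b (.inr j)) = c • b (.inr j)) ∧ (Nonempty ν → c * c = z) from h _ V rfl L hL
  intro n
  induction n using Nat.strong_induction_on with
  | _ n ih =>
  intro V _ _ _ hn L hL
  by_cases hsc : ∀ v, L v ∈ Submodule.span F {v}
  · rcases Nat.eq_zero_or_pos n with hn0 | hn0
    · haveI : Subsingleton V := finrank_zero_iff.1 (hn.trans hn0)
      exact ⟨Empty, Empty, inferInstance, inferInstance, 0, Basis.empty V, fun i => i.elim, fun i => i.elim,
        fun j => j.elim, fun h => h.elim fun j => j.elim⟩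
    haveI : Nontrivial V := (finrank_pos_iff (R := F)).1 (by omega)
    obtain ⟨c, hc⟩ := exists_scalar_of_forall_mem_span L hsc
    refine ⟨Empty, Fin (finrank F V), inferInstance, inferInstance, c,
      (finBasis F V).reindex (Equiv.emptySum (Empty × Fin 2) (Fin (finrank F V))).symm,
      fun i => i.elim, fun i => i.elim, fun j => hc _, fun _ => ?_⟩
    obtain ⟨v, hv⟩ := exists_ne (0 : V)
    have h1 := hL v
    rw [hc, hc, smul_smul] at h1
    exact smul_left_injective F hv h1
  · push Not at hsc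
    obtain ⟨v, hv⟩ := hsc
    obtain ⟨p, hp, hinv⟩ := exists_plane L z hL hv
    have hsurj : LinearMap.range p = ⊤ := by
      rw [eq_top_iff, ← (Pi.basisFun F (Fin 2)).span_eq, Submodule.span_le]
      rintro _ ⟨k, rfl⟩
      exact ⟨![v, L v] k, by rw [hp, Pi.basisFun_apply]⟩
    have hd := p.finrank_range_add_finrank_ker
    rw [hsurj, finrank_top, finrank_fin_fun, hn] at hd
    obtain ⟨ι, ν, _, _, c, b', h0, h1, h2, h3⟩ := ih _ (by omega) (LinearMap.ker p) rfl
      (L.restrict fun u hu => LinearMap.mem_ker.2 (hinv u (LinearMap.mem_ker.1 hu)))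
      fun u => Subtype.ext (by simpa using hL u)
    obtain ⟨b, hb1, hb2⟩ := Mono.exists_basis_extend ![v, L v] p hp b'
    let e : Fin 2 ⊕ ((ι × Fin 2) ⊕ ν) ≃ ((Option ι × Fin 2) ⊕ ν) :=
      { toFun := Sum.elim (fun k => .inl (none, k)) (Sum.elim (fun i => .inl (some i.1, i.2)) .inr)
        invFun := Sum.elim (fun i => i.1.elim (.inl i.2) fun j => .inr (.inl (j, i.2))) fun j => .inr (.inr j)
        left_inv := by rintro (k | ⟨i, s⟩ | j) <;> rfl
        right_inv := by rintro (⟨_ | i, s⟩ | j) <;> rfl }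
    refine ⟨Option ι, ν, inferInstance, inferInstance, c, b.reindex e, ?_, ?_, ?_, h3⟩
    · rintro (_ | i)
      · simp [e, hb1]
      · simpa [e, hb2] using congrArg Subtype.val (h0 i)
    · rintro (_ | i)
      · simp [e, hb1, hL]
      · simpa [e, hb2] using congrArg Subtype.val (h1 i)
    · intro j
      simpa [e, hb2] using congrArg Subtype.val (h2 j)

/-- The maps commuting with `L` (where `L ∘ L` is scalar) have every non-zero determinant. -/
theorem exists_commute_det [Fintype F] {V : Type v} [AddCommGroup V] [Module F V] [FiniteDimensional F V]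
    (hV : 0 < finrank F V) (L : Module.End F V) (z : F) (hz : z ≠ 0) (hL : ∀ u, L (L u) = z • u) (α : F) :
    ∃ Q : Module.End F V, LinearMap.det Q = α ∧ Q * L = L * Q := by
  classical
  haveI : Nontrivial V := (finrank_pos_iff (R := F)).1 hV
  by_cases hsc : ∀ v, L v ∈ Submodule.span F {v}
  · obtain ⟨c, hc⟩ := exists_scalar_of_forall_mem_span L hsc
    let b := finBasis F V
    let i₀ : Fin (finrank F V) := ⟨0, hV⟩
    refine ⟨b.constr F fun i => (if i = i₀ then α else 1) • b i, ?_, LinearMap.ext fun u => by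
      simp [Module.End.mul_apply, hc]⟩
    have : LinearMap.toMatrix b b (b.constr F fun i => (if i = i₀ then α else 1) • b i) =
        Matrix.diagonal fun i => if i = i₀ then α else 1 := by
      ext i j
      rw [LinearMap.toMatrix_apply, Basis.constr_basis, map_smul, Basis.repr_self]
      by_cases hij : i = j
      · subst hij; by_cases h : i = i₀ <;> simp [h]
      · rw [Matrix.diagonal_apply_ne _ hij]
        split_ifs <;> simp [hij, Ne.symm hij]
    rw [← LinearMap.det_toMatrix b, this, Matrix.det_diagonal, Finset.prod_ite_eq' Finset.univ i₀]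
    simp
  · push Not at hsc
    obtain ⟨v, hv⟩ := hsc
    obtain ⟨p, hp, hinv⟩ := exists_plane L z hL hv
    obtain ⟨a, β, hab⟩ : ∃ a β : F, a * a - z * (β * β) = α := by
      by_cases h2 : ringChar F = 2
      · obtain ⟨a, ha⟩ := FiniteField.isSquare_of_char_two h2 α
        exact ⟨a, 0, by simp [← ha]⟩
      · obtain ⟨a, β, h⟩ := FiniteField.exists_root_sum_quadratic (f := Polynomial.X ^ 2)
          (g := Polynomial.C (-z) * Polynomial.X ^ 2 + Polynomial.C 0 * Polynomial.X + Polynomial.C (-α))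
          (Polynomial.degree_X_pow 2) (Polynomial.degree_quadratic (neg_ne_zero.2 hz))
          (FiniteField.odd_card_of_char_ne_two h2)
        refine ⟨a, β, ?_⟩
        simp at h
        linear_combination h
    let K := LinearMap.ker p
    obtain ⟨b, hb1, hb2⟩ := Mono.exists_basis_extend ![v, L v] p hp (finBasis F K)
    let Q : Module.End F V := b.constr F (Sum.elim
      ![a • v + β • L v, (β * z) • v + a • L v] fun i => (finBasis F K i : V))
    have hQ0 : ∀ k, Q (![v, L v] k) = ![a • v + β • L v, (β * z) • v + a • L v] k := fun k => by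
      rw [← hb1]; exact b.constr_basis _ _ _
    have hQK : ∀ u ∈ K, Q u = u := fun u hu => by
      have h : Q ∘ₗ K.subtype = K.subtype := (finBasis F K).ext fun i => by
        rw [LinearMap.comp_apply, Submodule.coe_subtype, ← hb2 i]
        exact (b.constr_basis _ _ _).trans (hb2 i).symm
      exact LinearMap.congr_fun h ⟨u, hu⟩
    refine ⟨Q, ?_, b.ext ?_⟩
    · have hM : LinearMap.toMatrix b b Q = Matrix.fromBlocks !![a, β * z; β, a] 0 0 1 := by
        ext (k | i) (l | j)
        · rw [LinearMap.toMatrix_apply, hb1, hQ0]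
          have e0 : b (.inl 0) = v := hb1 0
          have e1 : b (.inl 1) = L v := hb1 1
          fin_cases l <;> simp only [Fin.zero_eta, Fin.mk_one, Fin.isValue, Matrix.cons_val_zero,
            Matrix.cons_val_one] <;> rw [← e1] <;> rw [← e0] <;> fin_cases k <;> simp
        · rw [LinearMap.toMatrix_apply, hb2, hQK _ (finBasis F K j).2, ← hb2]
          simp
        · rw [LinearMap.toMatrix_apply, hb1, hQ0]
          have e0 : b (.inl 0) = v := hb1 0
          have e1 : b (.inl 1) = L v := hb1 1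
          fin_cases l <;> simp only [Fin.zero_eta, Fin.mk_one, Fin.isValue, Matrix.cons_val_zero,
            Matrix.cons_val_one] <;> rw [← e1] <;> rw [← e0] <;> simp
        · rw [LinearMap.toMatrix_apply, hb2, hQK _ (finBasis F K j).2, ← hb2]
          simp [Matrix.one_apply, Finsupp.single_apply, eq_comm]
      rw [← LinearMap.det_toMatrix b, hM, Matrix.det_fromBlocks_zero₂₁, Matrix.det_one, mul_one,
        Matrix.det_fin_two_of]
      linear_combination hab
    · rintro (k | i)
      · rw [hb1, Module.End.mul_apply, Module.End.mul_apply, hQ0]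
        fin_cases k
        · have := hQ0 1
          simp at this
          simp [this, hL, add_comm, smul_smul, mul_comm]
        · have := hQ0 0
          simp at this
          simp [hL, this, smul_smul, mul_comm, add_comm]
      · rw [hb2, Module.End.mul_apply, Module.End.mul_apply]
        have h1 : L (finBasis F K i : V) ∈ K :=
          LinearMap.mem_ker.2 (hinv _ (LinearMap.mem_ker.1 (finBasis F K i).2))
        rw [hQK _ h1, hQK _ (finBasis F K i).2]

variable [Fintype F] {n : ℕ}

theorem sl_sq {x : Matrix.SpecialLinearGroup (Fin n) F} {z : F}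
    (hz : ((x ^ 2 : Matrix.SpecialLinearGroup (Fin n) F) : Matrix (Fin n) (Fin n) F) =
      z • (1 : Matrix (Fin n) (Fin n) F)) (u : Fin n → F) :
    Matrix.toLin' (x : Matrix (Fin n) (Fin n) F) (Matrix.toLin' (x : Matrix (Fin n) (Fin n) F) u) = z • u := by
  have hM : (x : Matrix (Fin n) (Fin n) F) * x = z • 1 := by
    rw [← hz, pow_two, Matrix.SpecialLinearGroup.coe_mul]
  rw [Matrix.toLin'_apply, Matrix.toLin'_apply, Matrix.mulVec_mulVec, hM, Matrix.smul_mulVec, Matrix.one_mulVec]

/-- For an involution modulo scalars, conjugacy into a subgroup in `SL` is conjugacy in `GL`. -/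
theorem exists_sl_conj_iff (hn : 0 < n) (x : Matrix.SpecialLinearGroup (Fin n) F) {z : F}
    (hz : ((x ^ 2 : Matrix.SpecialLinearGroup (Fin n) F) : Matrix (Fin n) (Fin n) F) =
      z • (1 : Matrix (Fin n) (Fin n) F)) (H : Subgroup (GL (Fin n) F)) :
    (∃ P : Matrix.SpecialLinearGroup (Fin n) F, P⁻¹ * x * P ∈
      H.comap (Matrix.SpecialLinearGroup.toGL : Matrix.SpecialLinearGroup (Fin n) F →* GL (Fin n) F)) ↔
    ∃ P : GL (Fin n) F, P⁻¹ * Matrix.SpecialLinearGroup.toGL x * P ∈ H := by
  constructor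
  · rintro ⟨P, hP⟩
    exact ⟨Matrix.SpecialLinearGroup.toGL P, by simpa [Subgroup.mem_comap, map_mul, map_inv] using hP⟩
  · rintro ⟨P, hP⟩
    have hz0 : z ≠ 0 := fun h0 => by
      have h := congrArg Matrix.det hz
      haveI : Nonempty (Fin n) := ⟨⟨0, hn⟩⟩
      rw [Matrix.SpecialLinearGroup.det_coe, h0, zero_smul, Matrix.det_zero] at h
      exact one_ne_zero h
    obtain ⟨Q, hQd, hQc⟩ := exists_commute_det (F := F) (V := Fin n → F) (by rwa [finrank_fin_fun]) _ z hz0
      (sl_sq hz) ((P : Matrix (Fin n) (Fin n) F).det)⁻¹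
    have hd : (P : Matrix (Fin n) (Fin n) F).det ≠ 0 := (Matrix.GeneralLinearGroup.det P).ne_zero
    let M := LinearMap.toMatrix' Q
    have hMd : M.det = ((P : Matrix (Fin n) (Fin n) F).det)⁻¹ := by rw [LinearMap.det_toMatrix', hQd]
    have hMc : M * (x : Matrix (Fin n) (Fin n) F) = (x : Matrix (Fin n) (Fin n) F) * M := by
      have := congrArg LinearMap.toMatrix' hQc
      rwa [Module.End.mul_eq_comp, Module.End.mul_eq_comp, LinearMap.toMatrix'_comp, LinearMap.toMatrix'_comp,
        LinearMap.toMatrix'_toLin'] at this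
    let Qg : GL (Fin n) F := Matrix.GeneralLinearGroup.mkOfDetNeZero M (by rw [hMd]; exact inv_ne_zero hd)
    let S : Matrix.SpecialLinearGroup (Fin n) F :=
      ⟨M * P, by rw [Matrix.det_mul, hMd, inv_mul_cancel₀ hd]⟩
    refine ⟨S, ?_⟩
    have hS : Matrix.SpecialLinearGroup.toGL S = Qg * P := Units.ext rfl
    have hcomm : Qg * Matrix.SpecialLinearGroup.toGL x = Matrix.SpecialLinearGroup.toGL x * Qg := Units.ext hMc
    rw [Subgroup.mem_comap, map_mul, map_mul, map_inv, hS]
    have h : (Qg * P)⁻¹ * Matrix.SpecialLinearGroup.toGL x * (Qg * P) =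
        P⁻¹ * Matrix.SpecialLinearGroup.toGL x * P := by
      rw [mul_inv_rev, mul_assoc P⁻¹, mul_assoc P⁻¹, ← mul_assoc _ Qg, mul_assoc Qg⁻¹, ← hcomm, inv_mul_cancel_left,
        ← mul_assoc]
    rw [h]
    exact hP

/-- Change of coordinates. -/
theorem exists_gl_of_equiv (x : GL (Fin n) F) (E : (Fin n → F) ≃ₗ[F] (Fin n → F)) :
    ∃ P : GL (Fin n) F, ∀ v, ((P⁻¹ * x * P : GL (Fin n) F) : Matrix (Fin n) (Fin n) F).mulVec v =
      E.symm ((x : Matrix (Fin n) (Fin n) F).mulVec (E v)) := by
  refine ⟨⟨LinearMap.toMatrix' E.toLinearMap, LinearMap.toMatrix' E.symm.toLinearMap, ?_, ?_⟩, fun v => ?_⟩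
  · rw [← LinearMap.toMatrix'_comp, LinearEquiv.comp_symm, LinearMap.toMatrix'_id]
  · rw [← LinearMap.toMatrix'_comp, LinearEquiv.symm_comp, LinearMap.toMatrix'_id]
  · rw [Units.val_mul, Units.val_mul, ← Matrix.mulVec_mulVec, ← Matrix.mulVec_mulVec]
    show (LinearMap.toMatrix' E.symm.toLinearMap).mulVec
      ((x : Matrix (Fin n) (Fin n) F).mulVec ((LinearMap.toMatrix' E.toLinearMap).mulVec v)) = _
    rw [LinearMap.toMatrix'_mulVec, LinearMap.toMatrix'_mulVec]
    rfl

/-- Eigenbases of a diagonalisable element with two opposite eigenvalues, paired into planes. -/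
theorem exists_plane_basis {d : ℕ} (h2 : (2 : F) ≠ 0) {μ : F} (hμ : μ ≠ 0) {L : Module.End F (Fin n → F)}
    (hL : ∀ u, L (L u) = (μ * μ) • u) (hdet : LinearMap.det L = 1) (hn : n = d * 2)
    (hgood : μ ^ n ≠ -1) :
    ∃ (g : Fin d × Fin 2 → F) (b : Basis (Fin d × Fin 2) F (Fin n → F)),
      (∀ k, L (b k) = g k • b k) ∧ (∀ k, g k = μ ∨ g k = -μ) ∧
      ∃ δ : F, (δ = μ * μ ∨ δ = -(μ * μ)) ∧ ∀ i, g (i, 0) * g (i, 1) = δ := by
  classical
  let C := L.eigenspace μ
  let E := L.eigenspace (-μ)
  have hcompl : IsCompl C E := by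
    refine ⟨Submodule.disjoint_def.2 fun u hu hu' => ?_, codisjoint_iff.2 (eq_top_iff.2 fun u _ => ?_)⟩
    · rw [Module.End.mem_eigenspace_iff] at hu hu'
      rw [hu, ← sub_eq_zero, ← sub_smul, sub_neg_eq_add, ← two_mul, smul_eq_zero] at hu'
      exact hu'.resolve_left (mul_ne_zero h2 hμ)
    · have h1 : (2 * μ)⁻¹ • (μ • u + L u) ∈ C := by
        rw [Module.End.mem_eigenspace_iff, map_smul, map_add, map_smul, hL, mul_smul, ← smul_add,
          smul_comm μ (2 * μ)⁻¹, add_comm]
      have h2' : (2 * μ)⁻¹ • (μ • u - L u) ∈ E := by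
        rw [Module.End.mem_eigenspace_iff, map_smul, map_sub, map_smul, hL]
        module
      have h3 : u = (2 * μ)⁻¹ • (μ • u + L u) + (2 * μ)⁻¹ • (μ • u - L u) := by
        rw [← smul_add, add_add_sub_cancel, ← two_smul F, smul_smul, smul_smul, mul_assoc, inv_mul_cancel₀ (mul_ne_zero h2 hμ),
          one_smul]
      rw [h3]
      exact Submodule.add_mem_sup h1 h2'
  set A := finrank F C with hA
  set B := finrank F E with hB
  let bb : Basis (Fin A ⊕ Fin B) F (Fin n → F) :=
    ((finBasis F C).prod (finBasis F E)).map (Submodule.prodEquivOfIsCompl C E hcompl)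
  let gg : Fin A ⊕ Fin B → F := Sum.elim (fun _ => μ) fun _ => -μ
  have hbb : ∀ k, L (bb k) = gg k • bb k := by
    rintro (k | k)
    · have := Module.End.mem_eigenspace_iff.1 (finBasis F C k).2
      simpa [bb, gg] using this
    · have := Module.End.mem_eigenspace_iff.1 (finBasis F E k).2
      simpa [bb, gg] using this
  have hd : LinearMap.det L = μ ^ A * (-μ) ^ B := by
    have hM : LinearMap.toMatrix bb bb L = Matrix.diagonal gg := by
      ext i j
      rw [LinearMap.toMatrix_apply, hbb, map_smul, Basis.repr_self]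
      by_cases hij : i = j
      · subst hij; simp
      · simp [hij, Ne.symm hij]
    rw [← LinearMap.det_toMatrix bb, hM, Matrix.det_diagonal, Fintype.prod_sum_type]
    simp [gg]
  have hAB : A + B = n := by
    rw [← Fintype.card_fin A, ← Fintype.card_fin B, ← Fintype.card_sum, ← finrank_eq_card_basis bb,
      finrank_fin_fun]
  have hBe : Even B := by
    by_contra hodd
    rw [Nat.not_even_iff_odd] at hodd
    refine hgood ?_
    rw [hdet, hodd.neg_pow, mul_neg, ← pow_add, hAB] at hd
    linear_combination hd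
  have hAe : Even A := by
    have : Even (A + B) := by rw [hAB, hn]; exact ⟨d, by ring⟩
    exact (Nat.even_add.1 this).2 hBe
  obtain ⟨a', ha'⟩ := hAe
  obtain ⟨b', hb'⟩ := hBe
  let e : Fin A ⊕ Fin B ≃ Fin d × Fin 2 :=
    (Equiv.sumCongr ((finCongr (show A = a' * 2 by omega)).trans finProdFinEquiv.symm)
      ((finCongr (show B = b' * 2 by omega)).trans finProdFinEquiv.symm)).trans
      ((Equiv.sumProdDistrib (Fin a') (Fin b') (Fin 2)).symm.trans
        (Equiv.prodCongr (finSumFinEquiv.trans (finCongr (show a' + b' = d by omega))) (Equiv.refl _)))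
  refine ⟨gg ∘ e.symm, bb.reindex e, fun k => by simp [hbb], fun k => ?_, μ * μ, Or.inl rfl, fun i => ?_⟩
  · simp only [Function.comp_apply]
    generalize e.symm k = l
    rcases l with l | l <;> simp [gg]
  · simp only [e, Function.comp_apply, Equiv.symm_trans_apply, Equiv.prodCongr_symm, Equiv.prodCongr_apply,
      Equiv.refl_symm, Equiv.coe_refl, Prod.map_apply, id_eq, Equiv.symm_symm]
    generalize finSumFinEquiv.symm _ = l
    rcases l with l | l <;> simp [gg]

theorem exists_pow_eq_neg_one_iff (h2 : ringChar F ≠ 2) {n : ℕ} (hn : 0 < n) :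
    (∃ μ : F, μ ^ n = -1) ↔ padicValNat 2 n < padicValNat 2 (Fintype.card F - 1) := by
  haveI : Fact (Nat.Prime 2) := ⟨Nat.prime_two⟩
  have hM0 : Fintype.card F - 1 ≠ 0 := by have := Fintype.one_lt_card (α := F); omega
  have hne : (-1 : F) ≠ 1 := by
    intro h
    exact Ring.neg_one_ne_one_of_char_ne_two h2 h
  constructor
  · rintro ⟨μ, hμ⟩
    by_contra hle
    rw [not_lt] at hle
    have hμ0 : μ ≠ 0 := fun h0 => by
      rw [h0, zero_pow hn.ne'] at hμ
      exact neg_ne_zero.2 one_ne_zero hμ.symm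
    obtain ⟨M', hM'⟩ := pow_padicValNat_dvd (p := 2) (n := Fintype.card F - 1)
    have hodd : Odd M' := by
      rw [← Nat.not_even_iff_odd, even_iff_two_dvd]
      intro hd
      have : 2 ^ (padicValNat 2 (Fintype.card F - 1) + 1) ∣ Fintype.card F - 1 := by
        conv_rhs => rw [hM']
        rw [pow_succ]
        exact Nat.mul_dvd_mul_left _ hd
      exact pow_succ_padicValNat_not_dvd hM0 this
    obtain ⟨k, hk⟩ : Fintype.card F - 1 ∣ n * M' := by
      conv_lhs => rw [hM']
      exact Nat.mul_dvd_mul_right ((pow_dvd_pow 2 hle).trans pow_padicValNat_dvd) M'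
    have h1 : μ ^ (n * M') = 1 := by
      rw [hk, pow_mul, FiniteField.pow_card_sub_one_eq_one μ hμ0, one_pow]
    rw [pow_mul, hμ, hodd.neg_one_pow] at h1
    exact hne h1
  · intro hlt
    obtain ⟨g, hg⟩ := IsCyclic.exists_ofOrder_eq_natCard (α := Fˣ)
    rw [Nat.card_units, Nat.card_eq_fintype_card] at hg
    set t := padicValNat 2 n with ht
    have hdvd : 2 ^ (t + 1) ∣ Fintype.card F - 1 := (pow_dvd_pow 2 hlt).trans pow_padicValNat_dvd
    let w : Fˣ := g ^ ((Fintype.card F - 1) / 2 ^ (t + 1))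
    have hw1 : w ^ (2 ^ t) ≠ 1 := fun h => by
      rw [← pow_mul, ← orderOf_dvd_iff_pow_eq_one, hg] at h
      have h0 : 0 < (Fintype.card F - 1) / 2 ^ (t + 1) :=
        Nat.div_pos (Nat.le_of_dvd (Nat.pos_of_ne_zero hM0) hdvd) (by positivity)
      have h3 : (Fintype.card F - 1) / 2 ^ (t + 1) * 2 ^ t < Fintype.card F - 1 := by
        calc (Fintype.card F - 1) / 2 ^ (t + 1) * 2 ^ t < (Fintype.card F - 1) / 2 ^ (t + 1) * 2 ^ (t + 1) :=
              Nat.mul_lt_mul_of_pos_left (Nat.pow_lt_pow_right one_lt_two (Nat.lt_succ_self t)) h0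
          _ = _ := Nat.div_mul_cancel hdvd
      exact absurd (Nat.le_of_dvd (Nat.mul_pos h0 (by positivity)) h) (not_le.2 h3)
    have hw2 : (w ^ (2 ^ t)) ^ 2 = 1 := by
      rw [← pow_mul, ← pow_succ, ← pow_mul, Nat.div_mul_cancel hdvd, ← hg, pow_orderOf_eq_one]
    have hw : (w : F) ^ (2 ^ t) = -1 := by
      have h3 : ((w : F) ^ (2 ^ t)) ^ 2 = 1 := by simpa using congrArg Units.val hw2
      rcases sq_eq_one_iff.1 h3 with h | h
      · exact absurd (Units.ext (by simpa using h)) hw1
      · exact h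
    obtain ⟨n', hn'⟩ := pow_padicValNat_dvd (p := 2) (n := n)
    have hodd : Odd n' := by
      rw [← Nat.not_even_iff_odd, even_iff_two_dvd]
      intro hd
      have : 2 ^ (t + 1) ∣ n := by
        conv_rhs => rw [hn']
        rw [pow_succ]
        exact Nat.mul_dvd_mul_left _ hd
      exact pow_succ_padicValNat_not_dvd hn.ne' this
    exact ⟨w, by rw [hn', pow_mul, ← ht, hw, hodd.neg_one_pow]⟩

/-- The involution with a one-dimensional eigenspace for `-μ`. -/
theorem exists_bad_diagonal {μ : F} (hμ : μ ^ n = -1) (hn : 2 ≤ n) (h2 : (2 : F) ≠ 0) :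
    ∃ (x : Matrix.SpecialLinearGroup (Fin n) F) (i₀ : Fin n),
      ((x ^ 2 : Matrix.SpecialLinearGroup (Fin n) F) : Matrix (Fin n) (Fin n) F) =
        (μ * μ) • (1 : Matrix (Fin n) (Fin n) F) ∧
      (∀ z : F, (x : Matrix (Fin n) (Fin n) F) ≠ z • (1 : Matrix (Fin n) (Fin n) F)) ∧
      ∀ v i, (x : Matrix (Fin n) (Fin n) F).mulVec v i = (if i = i₀ then -μ else μ) * v i := by
  classical
  let i₀ : Fin n := ⟨0, by omega⟩
  let D : Fin n → F := fun i => if i = i₀ then -μ else μ
  have hμ0 : μ ≠ 0 := fun h0 => by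
    rw [h0, zero_pow (by omega)] at hμ
    exact neg_ne_zero.2 one_ne_zero hμ.symm
  have hdet : (Matrix.diagonal D).det = 1 := by
    rw [Matrix.det_diagonal, ← Finset.mul_prod_erase Finset.univ D (Finset.mem_univ i₀),
      Finset.prod_congr rfl (fun i hi => show D i = μ from if_neg (Finset.ne_of_mem_erase hi)),
      Finset.prod_const, Finset.card_erase_of_mem (Finset.mem_univ _), Finset.card_univ, Fintype.card_fin]
    simp only [D, if_true]
    rw [neg_mul, ← pow_succ', Nat.sub_add_cancel (by omega : 1 ≤ n), hμ, neg_neg]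
  refine ⟨⟨Matrix.diagonal D, hdet⟩, i₀, ?_, fun z hz => ?_, fun v i => Matrix.mulVec_diagonal D v i⟩
  · show Matrix.diagonal D ^ 2 = _
    rw [Matrix.diagonal_pow, Matrix.smul_one_eq_diagonal]
    congr 1
    funext i
    by_cases h : i = i₀ <;> simp [D, h, pow_two]
  · have h1 := congrFun (congrFun hz i₀) i₀
    have h3 := congrFun (congrFun hz ⟨1, by omega⟩) ⟨1, by omega⟩
    simp [D, i₀, Fin.ext_iff] at h1 h3
    rw [← h3] at h1
    refine hμ0 ((mul_eq_zero.1 (?_ : (2 : F) * μ = 0)).resolve_left h2)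
    linear_combination -h1

end CfsgLib.Derangements.InvCl
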