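import Cfsg.Agent.Lib.Derangements.JordanRanks

/-!
# Cyclic decomposition of nilpotent maps and unipotent examples
-/

set_option autoImplicit false

namespace CfsgLib.Derangements.JordanRanks

open Module

universe u v

/-- A nilpotent map splits off invariant subspaces for every sub-multiset of its block sizes. -/
theorem exists_invariant_compl {F : Type u} [Field F] {V : Type v} [AddCommGroup V] [Module F V]
    [FiniteDimensional F V] (N : Module.End F V) {m : ℕ} (hN : N ^ m = 0) :
    ∃ μ : Multiset ℕ, (∀ e ∈ μ, 0 < e ∧ e ≤ m) ∧ μ.sum = finrank F V ∧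
      ∀ ν ≤ μ, ∃ U W : Submodule F V, IsCompl U W ∧ finrank F U = ν.sum ∧ U.map N ≤ U ∧ W.map N ≤ W := by
  suffices h : ∀ n, ∀ (V : Type v) [AddCommGroup V] [Module F V] [FiniteDimensional F V],
      finrank F V = n → ∀ N : Module.End F V, N ^ m = 0 →
      ∃ μ : Multiset ℕ, (∀ e ∈ μ, 0 < e ∧ e ≤ m) ∧ μ.sum = finrank F V ∧
        ∀ ν ≤ μ, ∃ U W : Submodule F V, IsCompl U W ∧ finrank F U = ν.sum ∧ U.map N ≤ U ∧ W.map N ≤ W from
    h _ V rfl N hN
  intro n
  induction n using Nat.strong_induction_on with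
  | _ n ih =>
  intro V _ _ _ hn N hN
  rcases Nat.eq_zero_or_pos n with hn0 | hn0
  · refine ⟨0, by simp, by simp [hn, hn0], fun ν hν => ⟨⊥, ⊤, isCompl_bot_top, ?_, by simp, le_top⟩⟩
    rw [nonpos_iff_eq_zero.1 hν]
    simp
  have hex : ∃ k, N ^ k = 0 := ⟨m, hN⟩
  classical
  let k := Nat.find hex
  have hk : N ^ k = 0 := Nat.find_spec hex
  have hk0 : 0 < k := Nat.pos_of_ne_zero fun h0 => by
    haveI : Nontrivial V := (finrank_pos_iff (R := F)).1 (by omega)
    rw [h0, pow_zero] at hk
    exact one_ne_zero hk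
  have hkm : k ≤ m := Nat.find_min' hex hN
  obtain ⟨v, hv⟩ : ∃ v, (N ^ (k - 1)) v ≠ 0 := by
    by_contra hc
    push Not at hc
    exact Nat.find_min hex (show k - 1 < k by omega) (LinearMap.ext hc)
  obtain ⟨φ₀, hφ₀, -⟩ := Submodule.exists_dual_map_eq_bot_of_notMem (p := (⊥ : Submodule F V))
    (x := (N ^ (k - 1)) v) (by simpa using hv) inferInstance
  let φ : V →ₗ[F] F := (φ₀ ((N ^ (k - 1)) v))⁻¹ • φ₀
  have hφ : φ ((N ^ (k - 1)) v) = 1 := by simp [φ, hφ₀]
  let p : V →ₗ[F] (Fin k → F) := LinearMap.pi fun t => φ ∘ₗ (N ^ (k - 1 - t.1))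
  let C : Submodule F V := Submodule.span F (Set.range fun t : Fin k => (N ^ t.1) v)
  have hpow : ∀ l, k ≤ l → N ^ l = 0 := fun l hl => by
    obtain ⟨d, rfl⟩ := Nat.exists_eq_add_of_le hl
    rw [pow_add, hk, zero_mul]
  have hCinv : C.map N ≤ C := by
    rw [Submodule.map_span_le]
    rintro _ ⟨t, rfl⟩
    rw [← Module.End.mul_apply, ← pow_succ']
    rcases lt_or_ge (t.1 + 1) k with h | h
    · exact Submodule.subset_span ⟨⟨t.1 + 1, h⟩, rfl⟩
    · rw [hpow _ h]; exact zero_mem _
  have hKinv : (LinearMap.ker p).map N ≤ LinearMap.ker p := by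
    rintro _ ⟨u, hu, rfl⟩
    rw [SetLike.mem_coe, LinearMap.mem_ker] at hu
    rw [LinearMap.mem_ker]
    funext t
    show φ ((N ^ (k - 1 - t.1)) (N u)) = 0
    rw [← Module.End.mul_apply, ← pow_succ]
    rcases Nat.eq_zero_or_pos t.1 with h | h
    · rw [hpow _ (by omega)]; simp
    · have h1 := congrFun hu ⟨t.1 - 1, by omega⟩
      simp only [p, LinearMap.pi_apply, LinearMap.comp_apply, Pi.zero_apply] at h1
      rwa [show k - 1 - t.1 + 1 = k - 1 - (t.1 - 1) by omega]
  have hli : LinearIndependent F (fun t : Fin k => p ((N ^ t.1) v)) := by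
    let M : Matrix (Fin k) (Fin k) F := Matrix.of fun t s => p ((N ^ t.1) v) s
    have htri : Matrix.BlockTriangular M id := fun t s hts => by
      show φ ((N ^ (k - 1 - s.1)) ((N ^ t.1) v)) = 0
      rw [← Module.End.mul_apply, ← pow_add, hpow _ (by simp at hts; omega)]
      simp
    have hdet : M.det = 1 := by
      rw [Matrix.det_of_upperTriangular htri]
      refine Finset.prod_eq_one fun t _ => ?_
      show φ ((N ^ (k - 1 - t.1)) ((N ^ t.1) v)) = 1
      rw [← Module.End.mul_apply, ← pow_add, Nat.sub_add_cancel (by omega), hφ]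
    exact Matrix.linearIndependent_rows_of_det_ne_zero (A := M) (by rw [hdet]; exact one_ne_zero)
  have hCd : finrank F C = k := by
    rw [finrank_span_eq_card (LinearIndependent.of_comp p hli), Fintype.card_fin]
  have hsurj : (C.map p) = ⊤ := by
    refine Submodule.eq_top_of_finrank_eq ?_
    rw [Submodule.map_span, ← Set.range_comp, finrank_fin_fun]
    exact (finrank_span_eq_card hli).trans (Fintype.card_fin k)
  have hdisj : Disjoint C (LinearMap.ker p) := by
    have h1 := (p.domRestrict C).finrank_range_add_finrank_ker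
    rw [LinearMap.range_domRestrict, hsurj, finrank_top, finrank_fin_fun, hCd] at h1
    have h2 : LinearMap.ker (p.domRestrict C) = ⊥ := Submodule.finrank_eq_zero.1 (by omega)
    rw [Submodule.disjoint_def]
    intro u hu hu'
    have : (⟨u, hu⟩ : C) ∈ LinearMap.ker (p.domRestrict C) := hu'
    rw [h2, Submodule.mem_bot] at this
    exact congrArg Subtype.val this
  have hcompl : IsCompl C (LinearMap.ker p) := by
    refine ⟨hdisj, codisjoint_iff.2 (eq_top_iff.2 fun u _ => ?_)⟩
    obtain ⟨c, hc, hc'⟩ := Submodule.mem_map.1 (hsurj ▸ Submodule.mem_top : p u ∈ C.map p)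
    rw [← add_sub_cancel c u]
    exact Submodule.add_mem_sup hc (by rw [LinearMap.mem_ker, map_sub, hc', sub_self])
  have hdim := Submodule.finrank_add_eq_of_isCompl hcompl
  rw [hCd, hn] at hdim
  let N' : Module.End F (LinearMap.ker p) := N.restrict fun u hu => hKinv (Submodule.mem_map_of_mem hu)
  have hN' : N' ^ m = 0 := LinearMap.ext fun u => Subtype.ext (by
    rw [Module.End.pow_restrict]
    simp [hN])
  obtain ⟨μ, hμ, hμsum, hμsub⟩ := ih _ (by omega) (LinearMap.ker p) rfl N' hN'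
  refine ⟨k ::ₘ μ, ?_, ?_, fun ν hν => ?_⟩
  · intro e he
    rcases Multiset.mem_cons.1 he with rfl | he
    exacts [⟨hk0, hkm⟩, hμ e he]
  · rw [Multiset.sum_cons, hμsum, hdim, hn]
  have lift : ∀ A : Submodule F (LinearMap.ker p), A.map N' ≤ A →
      (A.map (LinearMap.ker p).subtype).map N ≤ A.map (LinearMap.ker p).subtype := fun A hA => by
    rintro _ ⟨_, ⟨a, ha, rfl⟩, rfl⟩
    exact ⟨N' a, hA (Submodule.mem_map_of_mem ha), rfl⟩
  have hfin : ∀ A : Submodule F (LinearMap.ker p),
      finrank F (A.map (LinearMap.ker p).subtype) = finrank F A := fun A =>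
    (Submodule.equivMapOfInjective _ (LinearMap.ker p).injective_subtype A).finrank_eq.symm
  by_cases hkν : k ∈ ν
  · obtain ⟨ν', rfl⟩ := Multiset.exists_cons_of_mem hkν
    obtain ⟨A, B, hAB, hA, hAi, hBi⟩ := hμsub ν' ((Multiset.cons_le_cons_iff k).1 hν)
    have hd : Disjoint C (A.map (LinearMap.ker p).subtype) :=
      hcompl.disjoint.mono_right (Submodule.map_subtype_le _ _)
    refine ⟨C ⊔ A.map (LinearMap.ker p).subtype, B.map (LinearMap.ker p).subtype, ⟨?_, ?_⟩, ?_, ?_, lift B hBi⟩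
    · rw [Submodule.disjoint_def]
      intro u hu hu'
      obtain ⟨c, hc, a, ha, rfl⟩ := Submodule.mem_sup.1 hu
      have ha' := Submodule.map_subtype_le _ _ ha
      have hb' := Submodule.map_subtype_le _ _ hu'
      have hc0 : c = 0 := Submodule.disjoint_def.1 hcompl.disjoint c hc
        (by simpa using (LinearMap.ker p).sub_mem hb' ha')
      subst hc0
      rw [zero_add] at hu' ⊢
      obtain ⟨a₀, ha₀, rfl⟩ := ha
      obtain ⟨b₀, hb₀, he⟩ := hu'
      rw [(LinearMap.ker p).injective_subtype he] at hb₀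
      rw [Submodule.disjoint_def.1 hAB.disjoint a₀ ha₀ hb₀, map_zero]
    · rw [codisjoint_iff, sup_assoc, ← Submodule.map_sup, hAB.sup_eq_top, Submodule.map_subtype_top,
        hcompl.sup_eq_top]
    · have := Submodule.finrank_sup_add_finrank_inf_eq C (A.map (LinearMap.ker p).subtype)
      rw [hd.eq_bot, finrank_bot, add_zero, hfin, hCd, hA] at this
      rw [this, Multiset.sum_cons]
    · rw [Submodule.map_sup]
      exact sup_le_sup hCinv (lift A hAi)
  · obtain ⟨A, B, hAB, hA, hAi, hBi⟩ := hμsub ν ((Multiset.le_cons_of_notMem hkν).1 hν)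
    refine ⟨A.map (LinearMap.ker p).subtype, C ⊔ B.map (LinearMap.ker p).subtype, ⟨?_, ?_⟩, ?_, lift A hAi, ?_⟩
    · rw [Submodule.disjoint_def]
      intro u hu' hu
      obtain ⟨c, hc, a, ha, rfl⟩ := Submodule.mem_sup.1 hu
      have ha' := Submodule.map_subtype_le _ _ ha
      have hb' := Submodule.map_subtype_le _ _ hu'
      have hc0 : c = 0 := Submodule.disjoint_def.1 hcompl.disjoint c hc
        (by simpa using (LinearMap.ker p).sub_mem hb' ha')
      subst hc0
      rw [zero_add] at hu' ⊢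
      obtain ⟨b₀, hb₀, rfl⟩ := ha
      obtain ⟨a₀, ha₀, he⟩ := hu'
      rw [(LinearMap.ker p).injective_subtype he] at ha₀
      rw [Submodule.disjoint_def.1 hAB.disjoint b₀ ha₀ hb₀, map_zero]
    · rw [codisjoint_iff, sup_left_comm, ← Submodule.map_sup, hAB.sup_eq_top, Submodule.map_subtype_top,
        hcompl.sup_eq_top]
    · rw [hfin, hA]
    · rw [Submodule.map_sup]
      exact sup_le_sup hCinv (lift B hBi)

/-- A unipotent element of determinant one with given block sizes. -/
theorem exists_unipotent {F : Type u} [Field F] {p : ℕ} [Fact p.Prime] [CharP F p] {n : ℕ} (hn : 0 < n)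
    {μ : Multiset ℕ} (hμ : ∀ b ∈ μ, b ≤ p) (hsum : μ.sum = n) :
    ∃ N : Module.End F (Fin n → F), N ^ p = 0 ∧ (1 + N) ^ p = 1 ∧ LinearMap.det (1 + N) = 1 ∧
      ∀ k, finrank F (LinearMap.range (N ^ k)) = rankSeq μ k := by
  classical
  obtain ⟨e, he⟩ : ∃ e : Fin μ.toList.length → ℕ, Finset.univ.val.map e = μ :=
    ⟨μ.toList.get, by rw [Fin.univ_val_map, List.ofFn_get]; exact Multiset.coe_toList μ⟩
  obtain ⟨N₀, hN₀⟩ := exists_shift (F := F) _ e
  have hcardκ : Fintype.card (Σ i, Fin (e i)) = n := by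
    rw [Fintype.card_sigma, ← hsum]
    simp only [Fintype.card_fin]
    rw [Finset.sum, he]
  let E : ((Σ i, Fin (e i)) → F) ≃ₗ[F] (Fin n → F) :=
    LinearEquiv.funCongrLeft F F (Fintype.equivFinOfCardEq hcardκ).symm
  let N : Module.End F (Fin n → F) := E.conjAlgEquiv F N₀
  have hN : ∀ k, finrank F (LinearMap.range (N ^ k)) = rankSeq μ k := fun k => by
    rw [← he, ← hN₀ k, ← map_pow, LinearEquiv.conjAlgEquiv_apply, LinearMap.range_comp,
      LinearEquiv.range_comp, LinearEquiv.finrank_map_eq]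
  have hNp : N ^ p = 0 := LinearMap.range_eq_bot.1 <| Submodule.finrank_eq_zero.1 <| by
    rw [hN]
    refine Multiset.sum_eq_zero fun b hb => ?_
    obtain ⟨c, hc, rfl⟩ := Multiset.mem_map.1 hb
    have := hμ c hc
    omega
  haveI : Nonempty (Fin n) := ⟨⟨0, hn⟩⟩
  haveI : CharP (Module.End F (Fin n → F)) p :=
    charP_of_injective_algebraMap (algebraMap F (Module.End F (Fin n → F))).injective p
  have hone : (1 + N) ^ p = 1 := by rw [add_pow_char_of_commute p (Commute.one_left N), hNp, one_pow, add_zero]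
  refine ⟨N, hNp, hone, ?_, hN⟩
  have h2 : (LinearMap.det (1 + N) - 1) ^ p = 0 := by
    rw [sub_pow_char, ← map_pow, hone, map_one, one_pow, sub_self]
  exact sub_eq_zero.1 (pow_eq_zero_iff (Fact.out : p.Prime).ne_zero |>.1 h2)

end CfsgLib.Derangements.JordanRanks
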