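import Cfsg.Agent.Lib.Derangements.LinearElusiveWitness

/-!
# The two kinds of elements of prime order of `PSL(n, q)` and their invariant subspaces
-/

set_option autoImplicit false

namespace CfsgLib.Derangements.LinElusive

open Module

variable {F : Type*} [Field F] [Fintype F] {n : ℕ}

theorem coe_toLinAlgEquiv' (M : Matrix (Fin n) (Fin n) F) :
    (Matrix.toLinAlgEquiv' M : Module.End F (Fin n → F)) = Matrix.toLin' M := rfl

/-- Quantifying over matrices of determinant one is quantifying over linear maps of determinant one. -/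
theorem forall_sl_iff {r : ℕ} (Φ : Module.End F (Fin n → F) → Prop) :
    (∀ x : Matrix.SpecialLinearGroup (Fin n) F,
      (∃ c : F, ((x ^ r : Matrix.SpecialLinearGroup (Fin n) F) : Matrix (Fin n) (Fin n) F) =
        c • (1 : Matrix (Fin n) (Fin n) F)) →
      (∀ c : F, (x : Matrix (Fin n) (Fin n) F) ≠ c • (1 : Matrix (Fin n) (Fin n) F)) →
      Φ (Matrix.toLin' (x : Matrix (Fin n) (Fin n) F))) ↔
    (∀ L : Module.End F (Fin n → F), LinearMap.det L = 1 → ∀ c : F,
      L ^ r = algebraMap F (Module.End F (Fin n → F)) c →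
      (∀ z : F, L ≠ algebraMap F (Module.End F (Fin n → F)) z) → Φ L) := by
  have key : ∀ (M : Matrix (Fin n) (Fin n) F) (c : F),
      M = c • (1 : Matrix (Fin n) (Fin n) F) ↔
        (Matrix.toLinAlgEquiv' M : Module.End F (Fin n → F)) = algebraMap F _ c := fun M c => by
    rw [← Matrix.toLinAlgEquiv'.injective.eq_iff, Algebra.algebraMap_eq_smul_one, map_smul, map_one]
  constructor
  · intro h L hdet c hc hns
    obtain ⟨M, rfl⟩ := (Matrix.toLinAlgEquiv' (R := F) (n := Fin n)).surjective L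
    have hM : M.det = 1 := by rw [← LinearMap.det_toLin']; exact hdet
    refine h ⟨M, hM⟩ ⟨c, ?_⟩ fun z hz => hns z ((key M z).1 hz)
    show M ^ r = _
    exact (key _ c).2 ((map_pow _ _ _).trans hc)
  · rintro h ⟨M, hM⟩ ⟨c, hc⟩ hns
    refine h (Matrix.toLinAlgEquiv' M) ((LinearMap.det_toLin' M).trans hM) c ?_ fun z hz => hns z ((key M z).2 hz)
    have hc' : M ^ r = c • (1 : Matrix (Fin n) (Fin n) F) := hc
    rw [← map_pow]
    exact (key _ c).1 hc'

theorem inv_smul_iff {L : Module.End F (Fin n → F)} {d : F} (hd : d ≠ 0) {U : Submodule F (Fin n → F)} :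
    Inv (d • L) U ↔ Inv L U := by
  rw [Inv, Inv, Submodule.map_smul L U d hd]

/-- An element of order `r` modulo scalars is a multiple of an element of order dividing `r`, or a root of a
scalar that is not an `r`-th power. -/
theorem cases_of_pow_eq {r : ℕ} [Fact r.Prime] (hr : (r : F) ≠ 0) (hn : 0 < n) {L : Module.End F (Fin n → F)}
    (hdet : LinearMap.det L = 1) {c : F} (hc : L ^ r = algebraMap F (Module.End F (Fin n → F)) c) :
    (∃ d : F, d ≠ 0 ∧ (d⁻¹ • L) ^ r = 1) ∨
      ((∀ d : F, d ^ r ≠ c) ∧ r ∣ Fintype.card F - 1 ∧ r ∣ n ∧ ((-1) ^ (r + 1) * c) ^ (n / r) = 1) := by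
  have hr0 : r ≠ 0 := (Fact.out : r.Prime).ne_zero
  have hc0 : c ≠ 0 := fun h0 => by
    have h := congrArg LinearMap.det hc
    rw [map_pow, hdet, one_pow, h0, map_zero, LinearMap.det_zero, finrank_fin_fun, zero_pow hn.ne'] at h
    exact one_ne_zero h
  by_cases hp : ∃ d, d ^ r = c
  · obtain ⟨d, rfl⟩ := hp
    have hd : d ≠ 0 := fun h0 => hc0 (by rw [h0, zero_pow hr0])
    refine Or.inl ⟨d, hd, ?_⟩
    rw [smul_pow, hc, Algebra.algebraMap_eq_smul_one, smul_smul, ← mul_pow, inv_mul_cancel₀ hd, one_pow, one_smul]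
  · push Not at hp
    have h1 : r ∣ n := by
      have := kummer_dvd hp hc (U := ⊤) (show Inv L ⊤ from le_top)
      rwa [finrank_top, finrank_fin_fun] at this
    refine Or.inr ⟨hp, ?_, h1, ?_⟩
    · by_contra hno
      obtain ⟨d, hd⟩ := exists_root_of_coprime hr0
        (((Fact.out : r.Prime).coprime_iff_not_dvd.2 hno).symm) c
      exact hp d hd
    · have := kummer_det hr hp hc
      rw [hdet, finrank_fin_fun] at this
      exact this.symm

theorem not_dvd_sub_of_le_mod {i m : ℕ} (h : m ≤ n % i) (t : ℕ) (ht : t < m) : ¬ i ∣ n - t := by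
  rintro ⟨k, hk⟩
  have h1 := Nat.div_add_mod n i
  rcases Nat.eq_zero_or_pos i with rfl | hi
  · have := Nat.mod_le n 0
    simp at *
    omega
  have h2 := Nat.mod_lt n hi
  rcases le_or_gt k (n / i) with h3 | h3
  · have := Nat.mul_le_mul_left i h3
    omega
  · have := Nat.mul_le_mul_left i h3
    rw [Nat.mul_succ] at this
    omega

/-- Fixed-space bounds used for all elements of order `r`. -/
theorem mod_le_fixed {i : ℕ} {L : Module.End F (Fin n → F)} {E : Submodule F (Fin n → F)}
    (hE : IsCompl (L.eigenspace 1) E) (hU : Uniform L E i) :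
    n % i ≤ finrank F (L.eigenspace 1) ∧ finrank F (L.eigenspace 1) + finrank F E = n ∧ i ∣ finrank F E := by
  have h1 := Submodule.finrank_add_eq_of_isCompl hE
  rw [finrank_fin_fun] at h1
  obtain ⟨k, hk⟩ := hU.dvd E le_rfl hU.inv
  refine ⟨?_, h1, ⟨k, hk⟩⟩
  have h2 : n % i = finrank F (L.eigenspace 1) % i := by
    conv_lhs => rw [← h1, hk, Nat.add_mul_mod_self_left]
  rw [h2]
  exact Nat.mod_le _ _

/-- Two disjoint invariant `m`-spaces, or one with an invariant complement. -/
theorem exists_two_of_structure {r : ℕ} [Fact r.Prime] (hr : (r : F) ≠ 0) {L : Module.End F (Fin n → F)}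
    (hL : L ^ r = 1) {m j : ℕ} (hj : j = 1 ∨ j = 2) (hmn : j * m ≤ n)
    (him : orderOf (Fintype.card F : ZMod r) ≤ m)
    (hmod : j * (m % orderOf (Fintype.card F : ZMod r)) ≤ n % orderOf (Fintype.card F : ZMod r)) :
    ∃ U X : Submodule F (Fin n → F), Inv L U ∧ Inv L X ∧ Disjoint U X ∧ finrank F U = m ∧
      finrank F X = (j - 1) * m := by
  obtain ⟨E, hE, hs, hU, -⟩ := exists_structure hr hL
  obtain ⟨hC, hsum, k, hk⟩ := mod_le_fixed hE hU
  set i := orderOf (Fintype.card F : ZMod r) with hi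
  have hC' : ∀ u ∈ L.eigenspace 1, L u = u := fun u hu => by
    rwa [Module.End.mem_eigenspace_iff, one_smul] at hu
  have hm1 := Nat.div_add_mod m i
  have hi0 := hU.pos
  -- multiples of `i` used
  have hk1 : min (m / i) k ≤ k := min_le_right _ _
  rcases hj with rfl | rfl
  · obtain ⟨U, X, h1, h2, h3, h4, h5⟩ := exists_inv_two hU hs hC' hE.disjoint
      (a₁ := m - min (m / i) k * i) (a₂ := 0) (k₁ := min (m / i) k) (k₂ := 0) (by
        rcases le_total (m / i) k with h | h
        · rw [min_eq_left h, add_zero]; rw [mul_comm (m / i)]; omega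
        · rw [min_eq_right h, add_zero, mul_comm k, ← hk]; omega)
      (by rw [add_zero, hk, mul_comm i k]; exact Nat.mul_le_mul_right i hk1)
    refine ⟨U, X, h1, h2, h3, ?_, by simpa using h5⟩
    have : min (m / i) k * i ≤ m := (Nat.mul_le_mul_right i (min_le_left _ _)).trans (Nat.div_mul_le_self m i)
    omega
  · obtain ⟨U, X, h1, h2, h3, h4, h5⟩ := exists_inv_two hU hs hC' hE.disjoint
      (a₁ := m - min (m / i) k * i) (a₂ := m - min (m / i) (k - min (m / i) k) * i)
      (k₁ := min (m / i) k) (k₂ := min (m / i) (k - min (m / i) k)) (by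
        rcases le_total (m / i) k with h | h
        · rw [min_eq_left h]
          rcases le_total (m / i) (k - m / i) with h' | h'
          · rw [min_eq_left h', mul_comm (m / i)]; omega
          · rw [min_eq_right h']
            have h6 : (m / i) * i + (k - m / i) * i = finrank F E := by
              rw [← add_mul, Nat.add_sub_cancel' h, hk, mul_comm]
            have h7 : (k - m / i) * i ≤ m / i * i := Nat.mul_le_mul_right i h'
            have h8 := Nat.div_mul_le_self m i
            omega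
        · rw [min_eq_right h, Nat.sub_self, min_eq_right (Nat.zero_le _), zero_mul, mul_comm k, ← hk]
          have : i * k ≤ i * (m / i) := Nat.mul_le_mul_left i h
          omega)
      (by
        rw [hk, mul_comm i k]
        refine Nat.mul_le_mul_right i ?_
        omega)
    refine ⟨U, X, h1, h2, h3, ?_, ?_⟩
    · have : min (m / i) k * i ≤ m := (Nat.mul_le_mul_right i (min_le_left _ _)).trans (Nat.div_mul_le_self m i)
      omega
    · have : min (m / i) (k - min (m / i) k) * i ≤ m :=
        (Nat.mul_le_mul_right i (min_le_left _ _)).trans (Nat.div_mul_le_self m i)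
      omega

theorem exists_two_of_kummer {r : ℕ} [Fact r.Prime] (hr : (r : F) ≠ 0) {L : Module.End F (Fin n → F)} {c : F}
    (hc : ∀ d : F, d ^ r ≠ c) (hL : L ^ r = algebraMap F (Module.End F (Fin n → F)) c) {m j : ℕ}
    (hj : j = 1 ∨ j = 2) (hmn : j * m ≤ n) (hrm : r ∣ m) :
    ∃ U X : Submodule F (Fin n → F), Inv L U ∧ Inv L X ∧ Disjoint U X ∧ finrank F U = m ∧
      finrank F X = (j - 1) * m := by
  have hc0 : c ≠ 0 := fun h0 => hc 0 (by rw [h0, zero_pow (Fact.out : r.Prime).ne_zero])
  obtain ⟨s, rfl⟩ := hrm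
  obtain ⟨U, X, h1, h2, h3, h4, h5⟩ := exists_inv_two (kummer_uniform hc hL) (split_of_pow hr hc0 hL)
    (C := ⊥) (fun u hu => by rw [(Submodule.mem_bot F).1 hu, map_zero]) disjoint_bot_left
    (a₁ := 0) (a₂ := 0) (k₁ := s) (k₂ := (j - 1) * s) (by simp) (by
      rw [finrank_top, finrank_fin_fun]
      refine le_trans (le_of_eq ?_) hmn
      rcases hj with rfl | rfl <;> simp <;> ring)
  exact ⟨U, X, h1, h2, h3, by rw [h4]; ring, by rw [h5]; ring⟩

/-- Data needed to exhibit the exceptional semisimple element. -/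
theorem mod_le_of_witness {r : ℕ} [Fact r.Prime] (hr : (r : F) ≠ 0) {T : Module.End F (Fin n → F)}
    (hT : T ^ r = 1) (hfix : finrank F (T.eigenspace 1) ≤ n % orderOf (Fintype.card F : ZMod r))
    {U X : Submodule F (Fin n → F)} (hU : Inv T U) (hX : Inv T X) (hd : Disjoint U X) {m : ℕ}
    (hUm : finrank F U = m) {j : ℕ} (hj : j = 1 ∨ j = 2) (hXm : finrank F X = (j - 1) * m) :
    j * (m % orderOf (Fintype.card F : ZMod r)) ≤ n % orderOf (Fintype.card F : ZMod r) ∧
      (m < orderOf (Fintype.card F : ZMod r) → j * m ≤ n % orderOf (Fintype.card F : ZMod r)) := by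
  obtain ⟨E, hE, -, hEu, hdec⟩ := exists_structure hr hT
  set i := orderOf (Fintype.card F : ZMod r) with hi
  obtain ⟨b, hb⟩ := hEu.dvd _ (inf_le_right : U ⊓ E ≤ E) (hU.inf hEu.inv)
  obtain ⟨b', hb'⟩ := hEu.dvd _ (inf_le_right : X ⊓ E ≤ E) (hX.inf hEu.inv)
  have h1 := hdec U hU
  have h2 := hdec X hX
  rw [hUm, hb] at h1
  rw [hXm, hb'] at h2
  have h3 := finrank_sup_of_disjoint (hd.mono (inf_le_left : U ⊓ T.eigenspace 1 ≤ U)
    (inf_le_left : X ⊓ T.eigenspace 1 ≤ X))
  have h4 : finrank F (U ⊓ T.eigenspace 1 ⊔ X ⊓ T.eigenspace 1 : Submodule F (Fin n → F)) ≤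
      finrank F (T.eigenspace 1) := Submodule.finrank_mono (sup_le inf_le_right inf_le_right)
  have hA : m % i ≤ finrank F (U ⊓ T.eigenspace 1 : Submodule F (Fin n → F)) := by
    rw [h1, Nat.add_mul_mod_self_left]; exact Nat.mod_le _ _
  have hB : ((j - 1) * m) % i ≤ finrank F (X ⊓ T.eigenspace 1 : Submodule F (Fin n → F)) := by
    rw [h2, Nat.add_mul_mod_self_left]; exact Nat.mod_le _ _
  have key : j * (m % i) ≤ n % i := by
    rcases hj with rfl | rfl
    · simp at hB ⊢; omega
    · simp at hB ⊢; omega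
  refine ⟨key, fun hlt => ?_⟩
  rwa [Nat.mod_eq_of_lt hlt] at key

end CfsgLib.Derangements.LinElusive
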