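import Mathlib
import Cfsg.Prelude.Def_GeometricClasses

/-!
# Linear maps with scalar square are monomial

A linear map `x` with `x ∘ x = z` is monomial for a suitable basis; if it preserves a nondegenerate alternating
form, the basis can be taken symplectic, so that `x` permutes an orthogonal family of hyperbolic planes.
An involutive permutation of `t * a` points permutes the blocks of some partition into `t` sets of size `a`.
-/

set_option autoImplicit false

namespace CfsgLib.Derangements.Mono

open Module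

universe u v

/-- A family with a left inverse, together with a basis of the kernel of the left inverse, gives a basis. -/
theorem exists_basis_extend {F : Type*} [Field F] {V : Type*} [AddCommGroup V] [Module F V]
    {κ ι : Type*} [Fintype κ] [DecidableEq κ] (v : κ → V) (p : V →ₗ[F] (κ → F))
    (hp : ∀ k, p (v k) = Pi.single k 1) (b' : Basis ι F (LinearMap.ker p)) :
    ∃ b : Basis (κ ⊕ ι) F V, (∀ k, b (Sum.inl k) = v k) ∧ ∀ i, b (Sum.inr i) = (b' i : V) := by
  let s : (κ → F) →ₗ[F] V := Fintype.linearCombination F v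
  have hs : ∀ c, p (s c) = c := fun c => by
    simp only [s, Fintype.linearCombination_apply, map_sum, map_smul, hp]
    funext k
    simp [Finset.sum_apply, Pi.single_apply]
  have hs1 : ∀ k, s (Pi.single k 1) = v k := fun k => by
    simp [s]
  let f : ((κ → F) × LinearMap.ker p) →ₗ[F] V := s.coprod (LinearMap.ker p).subtype
  have hf : Function.Bijective f := by
    refine ⟨(injective_iff_map_eq_zero f).2 ?_, fun u => ?_⟩
    · rintro ⟨c, k, hk⟩ h
      have h1 : s c + k = 0 := h
      have h2 := congrArg p h1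
      rw [map_add, hs, map_zero, LinearMap.mem_ker.1 hk, add_zero] at h2
      subst h2
      simp only [map_zero, zero_add] at h1
      simp [h1]
    · exact ⟨(p u, ⟨u - s (p u), by simp [hs]⟩), by simp [f]⟩
  refine ⟨((Pi.basisFun F κ).prod b').map (LinearEquiv.ofBijective f hf), fun k => ?_, fun i => ?_⟩
  · simp [f, hs1]
  · simp [f]

/-- A linear map whose square is a scalar is monomial in some basis. -/
theorem exists_monomial_basis {F : Type u} [Field F] {V : Type v} [AddCommGroup V] [Module F V]
    [FiniteDimensional F V] (x : V →ₗ[F] V) (z : F) (hx : ∀ u, x (x u) = z • u) :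
    ∃ (ι : Type) (_ : Fintype ι) (b : Basis ι F V) (τ : Equiv.Perm ι),
      (∀ i, τ (τ i) = i) ∧ ∀ i, ∃ c : F, x (b i) = c • b (τ i) := by
  suffices h : ∀ n, ∀ (V : Type v) [AddCommGroup V] [Module F V] [FiniteDimensional F V],
      finrank F V = n → ∀ x : V →ₗ[F] V, (∀ u, x (x u) = z • u) →
      ∃ (ι : Type) (_ : Fintype ι) (b : Basis ι F V) (τ : Equiv.Perm ι),
        (∀ i, τ (τ i) = i) ∧ ∀ i, ∃ c : F, x (b i) = c • b (τ i) from h _ V rfl x hx
  intro n
  induction n using Nat.strong_induction_on with
  | _ n ih =>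
  intro V _ _ _ hn x hx
  rcases Nat.eq_zero_or_pos n with hn0 | hn0
  · subst hn0
    haveI : Subsingleton V := finrank_zero_iff.1 hn
    exact ⟨Empty, inferInstance, Basis.empty V, 1, fun i => i.elim, fun i => i.elim⟩
  have step : ∀ (κ : Type) [Fintype κ] [DecidableEq κ] [Nonempty κ] (v : κ → V) (τ₀ : Equiv.Perm κ)
      (p : V →ₗ[F] (κ → F)), (∀ k, p (v k) = Pi.single k 1) → (∀ u, p u = 0 → p (x u) = 0) →
      (∀ k, τ₀ (τ₀ k) = k) → (∀ k, ∃ c : F, x (v k) = c • v (τ₀ k)) →
      ∃ (ι : Type) (_ : Fintype ι) (b : Basis ι F V) (τ : Equiv.Perm ι),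
        (∀ i, τ (τ i) = i) ∧ ∀ i, ∃ c : F, x (b i) = c • b (τ i) := by
    intro κ _ _ _ v τ₀ p hp hinv hτ₀ hv
    have hsurj : LinearMap.range p = ⊤ := by
      rw [eq_top_iff, ← (Pi.basisFun F κ).span_eq, Submodule.span_le]
      rintro _ ⟨k, rfl⟩
      exact ⟨v k, by rw [hp, Pi.basisFun_apply]⟩
    have hd := p.finrank_range_add_finrank_ker
    rw [hsurj, finrank_top, finrank_fintype_fun_eq_card, hn] at hd
    have hκ : 0 < Fintype.card κ := Fintype.card_pos
    obtain ⟨ι, _, b', τ', hτ', hb'⟩ := ih _ (by omega) (LinearMap.ker p) rfl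
      (x.restrict fun u hu => LinearMap.mem_ker.2 (hinv u (LinearMap.mem_ker.1 hu)))
      fun u => Subtype.ext (by simpa using hx u)
    obtain ⟨b, hb1, hb2⟩ := exists_basis_extend v p hp b'
    refine ⟨κ ⊕ ι, inferInstance, b, τ₀.sumCongr τ', ?_, ?_⟩
    · rintro (k | i)
      · simp [hτ₀]
      · simp [hτ']
    · rintro (k | i)
      · obtain ⟨c, hc⟩ := hv k
        exact ⟨c, by simpa [hb1] using hc⟩
      · obtain ⟨c, hc⟩ := hb' i
        exact ⟨c, by simpa [hb2] using congrArg Subtype.val hc⟩
  by_cases h : ∃ v, x v ∉ Submodule.span F {v}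
  · obtain ⟨v, hv⟩ := h
    obtain ⟨φ₀, hφ₀, hker⟩ := Submodule.exists_dual_map_eq_bot_of_notMem hv inferInstance
    obtain ⟨φ, hφv, hφ⟩ : ∃ φ : Dual F V, φ v = 0 ∧ φ (x v) = 1 := by
      refine ⟨(φ₀ (x v))⁻¹ • φ₀, ?_, by simp [hφ₀]⟩
      have : φ₀ v ∈ (Submodule.span F {v}).map φ₀ :=
        Submodule.mem_map_of_mem (Submodule.mem_span_singleton_self v)
      rw [hker, Submodule.mem_bot] at this
      simp [this]
    refine step (Fin 2) ![v, x v] (Equiv.swap 0 1) (LinearMap.pi ![φ ∘ₗ x, φ]) ?_ ?_ ?_ ?_
    · intro k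
      funext l
      fin_cases k <;> fin_cases l <;> simp [hφv, hφ, hx]
    · intro u hu
      have h0 := congrFun hu 0
      have h1 := congrFun hu 1
      simp at h0 h1
      funext l
      fin_cases l <;> simp [h0, h1, hx]
    · intro k; simp
    · intro k
      fin_cases k
      · exact ⟨1, by simp⟩
      · exact ⟨z, by simp [hx]⟩
  · push Not at h
    haveI : Nontrivial V := (finrank_pos_iff (R := F)).1 (by omega)
    obtain ⟨v, hv⟩ := exists_ne (0 : V)
    obtain ⟨φ₀, hφ₀, -⟩ := Submodule.exists_dual_map_eq_bot_of_notMem (p := (⊥ : Submodule F V)) (x := v) (by simpa using hv) inferInstance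
    refine step (Fin 1) (fun _ => v) 1 (LinearMap.pi fun _ => (φ₀ v)⁻¹ • φ₀) ?_ ?_ (fun k => rfl) ?_
    · intro k
      funext l
      simp [Subsingleton.elim l k, hφ₀]
    · intro u hu
      obtain ⟨c, hc⟩ := Submodule.mem_span_singleton.1 (h u)
      rw [← hc, map_smul, hu, smul_zero]
    · intro k
      obtain ⟨c, hc⟩ := Submodule.mem_span_singleton.1 (h v)
      exact ⟨c, hc.symm⟩

/-- If `x ∘ x = z` preserves a nondegenerate alternating form, then `x` is monomial in a symplectic basis. -/
theorem exists_symplectic_monomial_basis {F : Type u} [Field F] {V : Type v} [AddCommGroup V] [Module F V]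
    [FiniteDimensional F V] (B : V →ₗ[F] V →ₗ[F] F) (halt : ∀ u, B u u = 0)
    (hnd : ∀ u, (∀ w, B u w = 0) → u = 0) (x : V →ₗ[F] V) (z : F) (hz : z * z = 1)
    (hB : ∀ u w, B (x u) (x w) = B u w) (hx : ∀ u, x (x u) = z • u) :
    ∃ (ι : Type) (_ : Fintype ι) (b : Basis (ι × Fin 2) F V) (τ : Equiv.Perm ι) (π : ι → Equiv.Perm (Fin 2)),
      (∀ i, τ (τ i) = i) ∧ (∀ i j s s', i ≠ j → B (b (i, s)) (b (j, s')) = 0) ∧
      (∀ i, B (b (i, 0)) (b (i, 1)) = 1) ∧ (∀ i s, ∃ c : F, x (b (i, s)) = c • b (τ i, π i s)) ∧
      ((2 : F) ≠ 0 → z = 1 → ∀ i, π i = 1) ∧ ((2 : F) ≠ 0 → z = -1 → ∀ i, π i = Equiv.swap 0 1) := by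
  suffices h : ∀ n, ∀ (V : Type v) [AddCommGroup V] [Module F V] [FiniteDimensional F V],
      finrank F V = n → ∀ B : V →ₗ[F] V →ₗ[F] F, (∀ u, B u u = 0) → (∀ u, (∀ w, B u w = 0) → u = 0) →
      ∀ x : V →ₗ[F] V, (∀ u w, B (x u) (x w) = B u w) → (∀ u, x (x u) = z • u) →
      ∃ (ι : Type) (_ : Fintype ι) (b : Basis (ι × Fin 2) F V) (τ : Equiv.Perm ι) (π : ι → Equiv.Perm (Fin 2)),
        (∀ i, τ (τ i) = i) ∧ (∀ i j s s', i ≠ j → B (b (i, s)) (b (j, s')) = 0) ∧
        (∀ i, B (b (i, 0)) (b (i, 1)) = 1) ∧ (∀ i s, ∃ c : F, x (b (i, s)) = c • b (τ i, π i s)) ∧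
        ((2 : F) ≠ 0 → z = 1 → ∀ i, π i = 1) ∧ ((2 : F) ≠ 0 → z = -1 → ∀ i, π i = Equiv.swap 0 1) from
    h _ V rfl B halt hnd x hB hx
  intro n
  induction n using Nat.strong_induction_on with
  | _ n ih =>
  intro V _ _ _ hn B halt hnd x hB hx
  have hskew : ∀ u w, B w u = - B u w := fun u w => by
    have := halt (u + w)
    simp only [map_add, LinearMap.add_apply, halt, zero_add, add_zero] at this
    linear_combination this
  have hadj : ∀ u w, B (x u) w = z * B u (x w) := fun u w => by
    rw [← hB u (x w), hx, map_smul, smul_eq_mul, ← mul_assoc, hz, one_mul]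
  rcases Nat.eq_zero_or_pos n with hn0 | hn0
  · subst hn0
    haveI : Subsingleton V := finrank_zero_iff.1 hn
    exact ⟨Empty, inferInstance, Basis.empty V, 1, fun i => i.elim, fun i => i.elim, fun i => i.elim,
      fun i => i.elim, fun i => i.elim, fun _ _ i => i.elim, fun _ _ i => i.elim⟩
  haveI : Nontrivial V := (finrank_pos_iff (R := F)).1 (by omega)
  have step : ∀ (κ : Type) [Fintype κ] [DecidableEq κ] [Nonempty κ] (e : κ × Fin 2 → V) (τ₀ : Equiv.Perm κ)
      (π₀ : κ → Equiv.Perm (Fin 2)), (∀ k, τ₀ (τ₀ k) = k) →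
      (∀ i j s s', i ≠ j → B (e (i, s)) (e (j, s')) = 0) → (∀ i, B (e (i, 0)) (e (i, 1)) = 1) →
      (∀ i s, ∃ c : F, x (e (i, s)) = c • e (τ₀ i, π₀ i s)) →
      ((2 : F) ≠ 0 → z = 1 → ∀ i, π₀ i = 1) → ((2 : F) ≠ 0 → z = -1 → ∀ i, π₀ i = Equiv.swap 0 1) →
      ∃ (ι : Type) (_ : Fintype ι) (b : Basis (ι × Fin 2) F V) (τ : Equiv.Perm ι) (π : ι → Equiv.Perm (Fin 2)),
        (∀ i, τ (τ i) = i) ∧ (∀ i j s s', i ≠ j → B (b (i, s)) (b (j, s')) = 0) ∧
        (∀ i, B (b (i, 0)) (b (i, 1)) = 1) ∧ (∀ i s, ∃ c : F, x (b (i, s)) = c • b (τ i, π i s)) ∧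
        ((2 : F) ≠ 0 → z = 1 → ∀ i, π i = 1) ∧ ((2 : F) ≠ 0 → z = -1 → ∀ i, π i = Equiv.swap 0 1) := by
    intro κ _ _ _ e τ₀ π₀ hτ₀ horth hpair he hf1 hf2
    let p : V →ₗ[F] (κ × Fin 2 → F) :=
      LinearMap.pi fun k => (![1, -1] : Fin 2 → F) k.2 • B.flip (e (k.1, Equiv.swap 0 1 k.2))
    have hp : ∀ k, p (e k) = Pi.single k 1 := by
      rintro ⟨j, s⟩
      funext ⟨i, s'⟩
      by_cases hij : j = i
      · subst hij
        have h10 : B (e (j, 1)) (e (j, 0)) = -1 := by rw [hskew, hpair]
        fin_cases s <;> fin_cases s' <;>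
          simp [p, hpair, halt, h10]
      · simp [p, horth j i _ _ hij, Pi.single_apply, Ne.symm hij]
    have hker : ∀ u, p u = 0 ↔ ∀ k, B u (e k) = 0 := fun u => by
      refine ⟨fun h => ?_, fun h => ?_⟩
      · rintro ⟨i, s⟩
        have := congrFun h (i, Equiv.swap 0 1 s)
        fin_cases s <;> simpa [p] using this
      · funext k
        simp [p, h]
    have hinv : ∀ u, p u = 0 → p (x u) = 0 := fun u hu => by
      rw [hker] at hu ⊢
      rintro ⟨i, s⟩
      obtain ⟨c, hc⟩ := he i s
      rw [hadj, hc, map_smul, hu, smul_zero, mul_zero]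
    have hsurj : LinearMap.range p = ⊤ := by
      rw [eq_top_iff, ← (Pi.basisFun F (κ × Fin 2)).span_eq, Submodule.span_le]
      rintro _ ⟨k, rfl⟩
      exact ⟨e k, by rw [hp, Pi.basisFun_apply]⟩
    have hd := p.finrank_range_add_finrank_ker
    rw [hsurj, finrank_top, finrank_fintype_fun_eq_card, hn] at hd
    have hκ : 0 < Fintype.card (κ × Fin 2) := Fintype.card_pos
    have hperp : ∀ u ∈ LinearMap.ker p, ∀ k, B u (e k) = 0 := fun u hu => (hker u).1 (LinearMap.mem_ker.1 hu)
    obtain ⟨ι, _, b', τ', π', hτ', horth', hpair', hb', hf1', hf2'⟩ :=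
      ih _ (by omega) (LinearMap.ker p) rfl (B.compl₁₂ (LinearMap.ker p).subtype (LinearMap.ker p).subtype)
        (fun u => halt _)
        (fun u hu => Subtype.ext (hnd _ fun w => by
          let s : (κ × Fin 2 → F) →ₗ[F] V := Fintype.linearCombination F e
          have hs : p (w - s (p w)) = 0 := by
            simp only [s, map_sub, Fintype.linearCombination_apply, map_sum, map_smul, hp]
            funext k
            simp [Finset.sum_apply, Pi.single_apply]
          have h1 := hu ⟨w - s (p w), hs⟩
          simp only [LinearMap.compl₁₂_apply, Submodule.coe_subtype, map_sub] at h1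
          rw [sub_eq_zero] at h1
          rw [h1]
          simp only [s, Fintype.linearCombination_apply, map_sum, map_smul]
          exact Finset.sum_eq_zero fun k _ => by rw [hperp _ u.2, smul_zero]))
        (x.restrict fun u hu => LinearMap.mem_ker.2 (hinv u (LinearMap.mem_ker.1 hu)))
        (fun u w => hB u w) (fun u => Subtype.ext (by simpa using hx u))
    obtain ⟨b, hb1, hb2⟩ := exists_basis_extend e p hp b'
    refine ⟨κ ⊕ ι, inferInstance, b.reindex (Equiv.sumProdDistrib κ ι (Fin 2)).symm, τ₀.sumCongr τ',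
      Sum.elim π₀ π', ?_, ?_, ?_, ?_, ?_, ?_⟩
    · rintro (k | i)
      · simp [hτ₀]
      · simp [hτ']
    · rintro (i | i) (j | j) s s' hij
      · simpa [hb1] using horth i j s s' fun h => hij (by rw [h])
      · simp only [Basis.reindex_apply, Equiv.symm_symm, Equiv.sumProdDistrib_apply_left,
          Equiv.sumProdDistrib_apply_right, hb1, hb2]
        rw [hskew, hperp _ (b' (j, s')).2, neg_zero]
      · simp only [Basis.reindex_apply, Equiv.symm_symm, Equiv.sumProdDistrib_apply_left,
          Equiv.sumProdDistrib_apply_right, hb1, hb2]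
        exact hperp _ (b' (i, s)).2 _
      · simpa [hb2] using horth' i j s s' fun h => hij (by rw [h])
    · rintro (i | i)
      · simpa [hb1] using hpair i
      · simpa [hb2] using hpair' i
    · rintro (i | i) s
      · obtain ⟨c, hc⟩ := he i s
        exact ⟨c, by simpa [hb1] using hc⟩
      · obtain ⟨c, hc⟩ := hb' i s
        exact ⟨c, by simpa [hb2] using congrArg Subtype.val hc⟩
    · rintro h2 h1 (i | i)
      exacts [hf1 h2 h1 i, hf1' h2 h1 i]
    · rintro h2 h1 (i | i)
      exacts [hf2 h2 h1 i, hf2' h2 h1 i]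
  by_cases hA : ∃ v, B v (x v) ≠ 0
  · obtain ⟨v, hv⟩ := hA
    refine step (Fin 1) (fun k => ![v, (B v (x v))⁻¹ • x v] k.2) 1 (fun _ => Equiv.swap 0 1) (fun k => rfl)
      (fun i j _ _ h => absurd (Subsingleton.elim i j) h) (fun i => by simp [hv]) ?_ ?_ (fun _ _ _ => rfl)
    · intro i s
      fin_cases s
      · exact ⟨B v (x v), by simp [hv]⟩
      · exact ⟨(B v (x v))⁻¹ * z, by simp [hx, smul_smul]⟩
    · intro h2 h1
      refine absurd ?_ hv
      have h3 := hadj v v
      rw [h1, one_mul, hskew] at h3
      have h4 : (2 : F) * B v (x v) = 0 := by linear_combination -h3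
      exact (mul_eq_zero.1 h4).resolve_left h2
  push Not at hA
  have hf2 : (2 : F) ≠ 0 → z = -1 → False := fun h2 h1 => by
    obtain ⟨v, hv⟩ := exists_ne (0 : V)
    refine hv (hnd v fun w => ?_)
    have h3 := hA (v + x w)
    have h6 : B (x w) w = 0 := by rw [hadj, hA, mul_zero]
    simp only [map_add, LinearMap.add_apply, hA, hx, map_smul, smul_eq_mul, hB, h1, h6] at h3
    rw [hskew v w] at h3
    have h5 : (2 : F) * B v w = 0 := by linear_combination -h3
    exact (mul_eq_zero.1 h5).resolve_left h2
  by_cases hC : ∃ v, x v ∉ Submodule.span F {v}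
  · obtain ⟨v, hv⟩ := hC
    obtain ⟨w, hw1, hw2⟩ : ∃ w, B v w = 1 ∧ B (x v) w = 0 := by
      by_contra hcon
      push Not at hcon
      have hker : ∀ w, B (x v) w = 0 → B v w = 0 := fun w hw => by
        by_contra hne
        refine hcon ((B v w)⁻¹ • w) ?_ ?_ <;> simp [hne, hw]
      have hxv : x v ≠ 0 := fun h0 => hv (by rw [h0]; exact zero_mem _)
      obtain ⟨u, hu⟩ : ∃ u, B (x v) u ≠ 0 := by
        by_contra hu
        push Not at hu
        exact hxv (hnd _ hu)
      have hall : B v = (B v u * (B (x v) u)⁻¹) • B (x v) := LinearMap.ext fun w => by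
        have := hker (w - (B (x v) w * (B (x v) u)⁻¹) • u) (by simp [hu])
        simp only [map_sub, map_smul, smul_eq_mul, sub_eq_zero] at this
        rw [this, LinearMap.smul_apply, smul_eq_mul]
        ring
      have h0 : v - (B v u * (B (x v) u)⁻¹) • x v = 0 := hnd _ fun w => by
        rw [map_sub, map_smul, LinearMap.sub_apply, ← hall, sub_self]
      rw [sub_eq_zero] at h0
      have hc : B v u * (B (x v) u)⁻¹ ≠ 0 := fun hc => hv (by
        rw [hc, zero_smul] at h0
        rw [h0, map_zero]; exact zero_mem _)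
      refine hv (Submodule.mem_span_singleton.2 ⟨(B v u * (B (x v) u)⁻¹)⁻¹, ?_⟩)
      exact (congrArg _ h0).trans (inv_smul_smul₀ hc _)
    have hvxw : B v (x w) = 0 := by
      have := hadj v w
      rw [hw2] at this
      exact (mul_eq_zero.1 this.symm).resolve_left fun h0 => by simp [h0] at hz
    refine step (Fin 2) (fun k => ![![v, w], ![x v, x w]] k.1 k.2) (Equiv.swap 0 1) (fun _ => 1)
      (fun k => by simp) ?_ ?_ ?_ (fun _ _ _ => rfl) (fun h2 h1 => absurd h1 fun h => hf2 h2 h)
    · intro i j s s' hij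
      have h1 : B w (x v) = 0 := by rw [hskew, hw2, neg_zero]
      have h2 : B (x w) v = 0 := by rw [hskew, hvxw, neg_zero]
      have h3 : B (x v) v = 0 := by rw [hskew, hA, neg_zero]
      have h4 : B (x w) w = 0 := by rw [hskew, hA, neg_zero]
      fin_cases i <;> fin_cases j <;> first
        | exact absurd rfl hij
        | (fin_cases s <;> fin_cases s' <;> simp [hA, h1, h2, h3, h4, hvxw, hw2])
    · intro i
      fin_cases i <;> simp [hB, hw1]
    · intro i s
      fin_cases i <;> fin_cases s
      · exact ⟨1, by simp⟩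
      · exact ⟨1, by simp⟩
      · exact ⟨z, by simp [hx]⟩
      · exact ⟨z, by simp [hx]⟩
  push Not at hC
  obtain ⟨v, hv⟩ := exists_ne (0 : V)
  obtain ⟨w, hw⟩ : ∃ w, B v w ≠ 0 := by
    by_contra hw
    push Not at hw
    exact hv (hnd _ hw)
  refine step (Fin 1) (fun k => ![v, (B v w)⁻¹ • w] k.2) 1 (fun _ => 1) (fun k => rfl)
    (fun i j _ _ h => absurd (Subsingleton.elim i j) h) (fun i => by simp [hw]) ?_ (fun _ _ _ => rfl)
    (fun h2 h1 => absurd h1 fun h => hf2 h2 h)
  intro i s
  obtain ⟨c, hc⟩ := Submodule.mem_span_singleton.1 (hC (![v, (B v w)⁻¹ • w] s))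
  exact ⟨c, hc.symm⟩

/-- An involutive permutation of `t * a` points permutes the classes of some equipartition into `t` classes. -/
theorem exists_block_map {ι : Type*} [Fintype ι] [DecidableEq ι] (τ : Equiv.Perm ι) (hτ : ∀ i, τ (τ i) = i)
    {t a : ℕ} (ha : 0 < a) (hc : Fintype.card ι = t * a) :
    ∃ (f : ι → Fin t) (σ : Equiv.Perm (Fin t)),
      (∀ j, (Finset.univ.filter fun i => f i = j).card = a) ∧ ∀ i, f (τ i) = σ (f i) := by
  let o := Fintype.equivFin ι
  have key : ∀ t (s : Finset ι), (∀ i ∈ s, τ i ∈ s) → s.card = t * a →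
      ∃ (f : ι → ℕ) (g : ℕ → ℕ), (∀ i ∈ s, f i < t) ∧ (∀ j < t, (s.filter fun i => f i = j).card = a) ∧
        ∀ i ∈ s, f (τ i) = g (f i) := by
    intro t
    induction t using Nat.strong_induction_on with
    | _ t ih =>
    intro s hs hcard
    rcases Nat.eq_zero_or_pos t with rfl | ht
    · rw [zero_mul, Finset.card_eq_zero] at hcard
      subst hcard
      exact ⟨fun _ => 0, id, by simp, by simp, by simp⟩
    let R := s.filter fun i => o i < o (τ i)
    let L := s.filter fun i => o (τ i) < o i
    let X := s.filter fun i => τ i = i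
    have hRL : L = R.image τ := by
      ext i
      simp only [L, R, Finset.mem_filter, Finset.mem_image]
      constructor
      · rintro ⟨hi, hlt⟩
        exact ⟨τ i, ⟨hs i hi, by rwa [hτ]⟩, hτ i⟩
      · rintro ⟨j, ⟨hj, hlt⟩, rfl⟩
        exact ⟨hs j hj, by rwa [hτ]⟩
    have hsplit : R.card + L.card + X.card = s.card := by
      rw [← Finset.card_union_of_disjoint, ← Finset.card_union_of_disjoint]
      · congr 1
        ext i
        simp only [R, L, X, Finset.mem_union, Finset.mem_filter]
        rcases lt_trichotomy (o i) (o (τ i)) with h | h | h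
        · tauto
        · have := o.injective h
          tauto
        · tauto
      · simp only [R, L, X, Finset.disjoint_left, Finset.mem_union, Finset.mem_filter]
        rintro i (⟨_, h⟩ | ⟨_, h⟩) ⟨_, h'⟩ <;> rw [h'] at h <;> exact lt_irrefl _ h
      · simp only [R, L, Finset.disjoint_left, Finset.mem_filter]
        rintro i ⟨_, h⟩ ⟨_, h'⟩
        exact lt_asymm h h'
    have hLcard : L.card = R.card := by rw [hRL, Finset.card_image_of_injective _ τ.injective]
    rcases le_or_gt a R.card with hk | hk
    · obtain ⟨A, hA, hAc⟩ := Finset.exists_subset_card_eq hk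
      let A' := A.image τ
      have hA'c : A'.card = a := by rw [Finset.card_image_of_injective _ τ.injective, hAc]
      have hAs : A ⊆ s := hA.trans (Finset.filter_subset _ _)
      have hA's : A' ⊆ s := fun i hi => by
        obtain ⟨j, hj, rfl⟩ := Finset.mem_image.1 hi
        exact hs j (hAs hj)
      have hdis : Disjoint A A' := by
        rw [Finset.disjoint_left]
        intro i hi hi'
        obtain ⟨j, hj, rfl⟩ := Finset.mem_image.1 hi'
        have h1 := (Finset.mem_filter.1 (hA hj)).2
        have h2 := (Finset.mem_filter.1 (hA hi)).2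
        rw [hτ] at h2
        exact lt_asymm h1 h2
      have hmem' : ∀ i, τ i ∈ A' ↔ i ∈ A := fun i => by
        simp only [A', Finset.mem_image]
        exact ⟨fun ⟨j, hj, h⟩ => τ.injective h ▸ hj, fun h => ⟨i, h, rfl⟩⟩
      have hmem : ∀ i, τ i ∈ A ↔ i ∈ A' := fun i => by
        rw [← hmem', hτ]
      obtain ⟨u, rfl⟩ : ∃ u, t = u + 2 := ⟨t - 2, by
        rcases lt_or_ge t 2 with h | h
        · have : t = 1 := by omega
          subst this
          omega
        · omega⟩
      have hs'c : (s \ (A ∪ A')).card = u * a := by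
        rw [Finset.card_sdiff_of_subset (Finset.union_subset hAs hA's), Finset.card_union_of_disjoint hdis,
          hAc, hA'c, hcard, add_mul]
        omega
      obtain ⟨f, g, hf1, hf2, hf3⟩ := ih u (by omega) (s \ (A ∪ A')) (fun i hi => by
        simp only [Finset.mem_sdiff, Finset.mem_union] at hi ⊢
        refine ⟨hs i hi.1, ?_⟩
        rw [hmem, hmem']
        tauto) hs'c
      refine ⟨fun i => if i ∈ A then u else if i ∈ A' then u + 1 else f i,
        fun j => if j = u then u + 1 else if j = u + 1 then u else g j, ?_, ?_, ?_⟩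
      · intro i hi
        dsimp only
        split_ifs with h1 h2
        · omega
        · omega
        · have := hf1 i (by simp [hi, h1, h2])
          omega
      · intro j hj
        rcases (by omega : j < u ∨ j = u ∨ j = u + 1) with h | h | h
        · rw [← hf2 j h]
          congr 1
          ext i
          simp only [Finset.mem_filter, Finset.mem_sdiff, Finset.mem_union]
          split_ifs with h1 h2 <;> constructor <;> rintro ⟨h3, h4⟩ <;> first
            | omega
            | tauto
        · subst h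
          rw [← hAc]
          congr 1
          ext i
          simp only [Finset.mem_filter]
          split_ifs with h1 h2
          · simp [h1, hAs h1]
          · simp [h1]
          · refine iff_of_false (fun h3 => ?_) h1
            have := hf1 i (by simp [h3.1, h1, h2])
            omega
        · subst h
          rw [← hA'c]
          congr 1
          ext i
          simp only [Finset.mem_filter]
          split_ifs with h1 h2
          · simp [Finset.disjoint_left.1 hdis h1]
          · simp [h2, hA's h2]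
          · refine iff_of_false (fun h3 => ?_) h2
            have := hf1 i (by simp [h3.1, h1, h2])
            omega
      · intro i hi
        simp only [hmem, hmem']
        by_cases h1 : i ∈ A
        · simp [h1, Finset.disjoint_left.1 hdis h1]
        · by_cases h2 : i ∈ A'
          · simp [h1, h2]
          · have h3 : i ∈ s \ (A ∪ A') := by simp [hi, h1, h2]
            have h4 := hf1 i h3
            rw [if_neg h2, if_neg h1, if_neg h1, if_neg h2, if_neg (by omega), if_neg (by omega), hf3 i h3]
    · let j := min R.card (a / 2)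
      obtain ⟨A, hA, hAc⟩ := Finset.exists_subset_card_eq (s := R) (n := j) (min_le_left _ _)
      have hX : a - 2 * j ≤ X.card := by
        have h1 : a ≤ s.card := hcard ▸ Nat.le_mul_of_pos_left a ht
        rcases le_or_gt R.card (a / 2) with h | h
        · have : j = R.card := min_eq_left h
          omega
        · have : j = a / 2 := min_eq_right h.le
          rcases (by omega : t = 1 ∨ 2 ≤ t) with h2 | h2
          · subst h2
            omega
          · have h3 : 2 * a ≤ s.card := hcard ▸ Nat.mul_le_mul_right a h2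
            omega
      obtain ⟨Y, hY, hYc⟩ := Finset.exists_subset_card_eq hX
      let P := A ∪ A.image τ ∪ Y
      have hPs : P ⊆ s := by
        intro i hi
        simp only [P, Finset.mem_union, Finset.mem_image] at hi
        rcases hi with (hi | ⟨k, hk, rfl⟩) | hi
        · exact (Finset.mem_filter.1 (hA hi)).1
        · exact hs k (Finset.mem_filter.1 (hA hk)).1
        · exact (Finset.mem_filter.1 (hY hi)).1
      have hPc : P.card = a := by
        have hjle : j ≤ a / 2 := min_le_right _ _
        rw [Finset.card_union_of_disjoint, Finset.card_union_of_disjoint,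
          Finset.card_image_of_injective _ τ.injective, hAc, hYc]
        · omega
        · rw [Finset.disjoint_left]
          intro i hi hi'
          obtain ⟨k, hk, rfl⟩ := Finset.mem_image.1 hi'
          have h1 := (Finset.mem_filter.1 (hA hk)).2
          have h2 := (Finset.mem_filter.1 (hA hi)).2
          rw [hτ] at h2
          exact lt_asymm h1 h2
        · rw [Finset.disjoint_left]
          intro i hi hi'
          have h1 := (Finset.mem_filter.1 (hY hi')).2
          rcases Finset.mem_union.1 hi with hi | hi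
          · have := (Finset.mem_filter.1 (hA hi)).2
            rw [h1] at this
            exact lt_irrefl _ this
          · obtain ⟨k, hk, rfl⟩ := Finset.mem_image.1 hi
            have h2 := (Finset.mem_filter.1 (hA hk)).2
            rw [hτ] at h1
            rw [← h1] at h2
            exact lt_irrefl _ h2
      have hP : ∀ i, i ∈ P → τ i ∈ P := by
        intro i hi
        simp only [P, Finset.mem_union, Finset.mem_image] at hi ⊢
        rcases hi with (hi | ⟨k, hk, rfl⟩) | hi
        · exact Or.inl (Or.inr ⟨i, hi, rfl⟩)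
        · exact Or.inl (Or.inl (by rwa [hτ]))
        · exact Or.inr (by rwa [(Finset.mem_filter.1 (hY hi)).2])
      have hP' : ∀ i, τ i ∈ P ↔ i ∈ P := fun i => ⟨fun h => hτ i ▸ hP _ h, hP i⟩
      obtain ⟨u, rfl⟩ : ∃ u, t = u + 1 := ⟨t - 1, by omega⟩
      have hs'c : (s \ P).card = u * a := by
        rw [Finset.card_sdiff_of_subset hPs, hPc, hcard, add_mul]
        omega
      obtain ⟨f, g, hf1, hf2, hf3⟩ := ih u (by omega) (s \ P) (fun i hi => by
        simp only [Finset.mem_sdiff, hP'] at hi ⊢
        exact ⟨hs i hi.1, hi.2⟩) hs'c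
      refine ⟨fun i => if i ∈ P then u else f i, fun k => if k = u then u else g k, ?_, ?_, ?_⟩
      · intro i hi
        dsimp only
        split_ifs with h1
        · omega
        · have := hf1 i (by simp [hi, h1])
          omega
      · intro k hk
        rcases (by omega : k < u ∨ k = u) with h | h
        · rw [← hf2 k h]
          congr 1
          ext i
          simp only [Finset.mem_filter, Finset.mem_sdiff]
          split_ifs with h1 <;> constructor <;> rintro ⟨h3, h4⟩ <;> first
            | omega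
            | tauto
        · subst h
          rw [← hPc]
          congr 1
          ext i
          simp only [Finset.mem_filter]
          split_ifs with h1
          · simp [h1, hPs h1]
          · refine iff_of_false (fun h3 => ?_) h1
            have := hf1 i (by simp [h3.1, h1])
            omega
      · intro i hi
        simp only [hP']
        by_cases h1 : i ∈ P
        · simp [h1]
        · have h3 : i ∈ s \ P := by simp [hi, h1]
          have h4 := hf1 i h3
          rw [if_neg h1, if_neg h1, if_neg (by omega), hf3 i h3]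
  obtain ⟨f, g, hf1, hf2, hf3⟩ := key t Finset.univ (fun _ _ => Finset.mem_univ _) (by rwa [Finset.card_univ])
  have hsurj : ∀ j, j < t → ∃ i, f i = j := fun j hj => by
    obtain ⟨i, hi⟩ := Finset.card_pos.1 (by rw [hf2 j hj]; exact ha)
    exact ⟨i, (Finset.mem_filter.1 hi).2⟩
  have hg : ∀ j, j < t → g j < t ∧ g (g j) = j := fun j hj => by
    obtain ⟨i, rfl⟩ := hsurj j hj
    have h1 := hf3 i (Finset.mem_univ _)
    have h2 := hf3 (τ i) (Finset.mem_univ _)
    rw [hτ, h1] at h2
    exact ⟨h1 ▸ hf1 _ (Finset.mem_univ _), h2.symm⟩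
  refine ⟨fun i => ⟨f i, hf1 i (Finset.mem_univ _)⟩,
    ⟨fun j => ⟨g j, (hg j j.2).1⟩, fun j => ⟨g j, (hg j j.2).1⟩,
      fun j => Fin.ext (hg j j.2).2, fun j => Fin.ext (hg j j.2).2⟩, fun j => ?_,
    fun i => Fin.ext (hf3 i (Finset.mem_univ _))⟩
  rw [← hf2 j j.2]
  congr 1
  ext i
  simp [Fin.ext_iff]

/-- Spans of the classes of a basis form a decomposition; an injective map permuting the classes permutes them. -/
theorem exists_decomposition {F : Type*} [Field F] {ι : Type} [Fintype ι] {κ : Type*} [Fintype κ]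
    (b : Basis κ F (ι → F)) (x : (ι → F) →ₗ[F] (ι → F)) (hinj : Function.Injective x) {t a : ℕ} (ht : 2 ≤ t)
    (ha : 0 < a) (f : κ → Fin t) (hf : ∀ j, (Finset.univ.filter fun k => f k = j).card = a)
    (σ : Equiv.Perm (Fin t)) (hx : ∀ k, ∃ (c : F) (k' : κ), f k' = σ (f k) ∧ x (b k) = c • b k') :
    Cfsg.Geo.IsMDecomposition a (fun j => Submodule.span F (b '' {k | f k = j})) ∧
      ∀ j, (Submodule.span F (b '' {k | f k = j})).map x = Submodule.span F (b '' {k | f k = σ j}) := by
  classical
  have hfin : ∀ j, finrank F (Submodule.span F (b '' {k | f k = j})) = a := fun j => by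
    rw [Set.image_eq_range, finrank_span_eq_card (b := fun k : {k | f k = j} => b k)]
    · rw [← hf j, ← Fintype.card_subtype]
      exact Fintype.card_congr (Equiv.refl _)
    · exact b.linearIndependent.comp _ Subtype.val_injective
  refine ⟨⟨ht, ha, hfin, fun j => ?_, ?_⟩, fun j => ?_⟩
  · refine (b.linearIndependent.disjoint_span_image (s := {k | f k = j}) (t := {k | f k ≠ j}) ?_).mono_right ?_
    · exact Set.disjoint_left.2 fun k hk hk' => hk' hk
    · refine iSup₂_le fun i hi => Submodule.span_mono (Set.image_mono fun k (hk : f k = i) => ?_)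
      exact fun h => hi (hk.symm.trans h)
  · rw [eq_top_iff, ← b.span_eq, Submodule.span_le]
    rintro _ ⟨k, rfl⟩
    exact le_iSup (fun j => Submodule.span F (b '' {k | f k = j})) (f k)
      (Submodule.subset_span ⟨k, rfl, rfl⟩)
  · refine Submodule.eq_of_le_of_finrank_eq ?_ ?_
    · rw [Submodule.map_span_le]
      rintro _ ⟨k, hk, rfl⟩
      obtain ⟨c, k', hk', hc⟩ := hx k
      rw [hc]
      exact Submodule.smul_mem _ _ (Submodule.subset_span ⟨k', by rw [Set.mem_setOf_eq, hk', hk], rfl⟩)
    · rw [← (Submodule.equivMapOfInjective x hinj _).finrank_eq, hfin, hfin]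

/-- A bilinear map vanishing on generators vanishes on spans. -/
theorem bilin_eq_zero_of_mem_span {F : Type*} [Field F] {V : Type*} [AddCommGroup V] [Module F V]
    (B : V →ₗ[F] V →ₗ[F] F) {S T : Set V} (h : ∀ u ∈ S, ∀ v ∈ T, B u v = 0) {u v : V}
    (hu : u ∈ Submodule.span F S) (hv : v ∈ Submodule.span F T) : B u v = 0 := by
  have h1 : ∀ w ∈ T, B u w = 0 := fun w hw => by
    have : Submodule.span F S ≤ LinearMap.ker (B.flip w) := Submodule.span_le.2 fun s hs => h s hs w hw
    exact this hu
  have : Submodule.span F T ≤ LinearMap.ker (B u) := Submodule.span_le.2 h1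
  exact this hv

end CfsgLib.Derangements.Mono
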