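import Cfsg.Agent.Lib.Derangements.NullInvariant
import Cfsg.Agent.Lib.Classical.SympCount

/-!
# Non-degenerate invariant subspaces of isometries of prime order of alternating forms
-/

set_option autoImplicit false
set_option linter.unusedSectionVars false

namespace CfsgLib.Derangements.NondegInv

open Module Polynomial CfsgLib.Classical CfsgLib.Derangements.LinElusive CfsgLib.Derangements.NullInv

variable {F : Type*} [Field F] {V : Type*} [AddCommGroup V] [Module F V] [FiniteDimensional F V]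
  {B : V →ₗ[F] V →ₗ[F] F} {L : Module.End F V}

theorem sup_orth (hR : B.IsRefl) {U W : Submodule F V} (hU : NondegOn B U) (hW : NondegOn B W)
    (h : ∀ u ∈ U, ∀ w ∈ W, B u w = 0) : NondegOn B (U ⊔ W) := by
  rw [nondegOn_iff]
  intro x hx hx'
  obtain ⟨a, ha, b, hb, rfl⟩ := Submodule.mem_sup.1 hx
  rw [nondegOn_iff.1 hU a ha fun u hu => by
      have := hx' u (Submodule.mem_sup_left hu)
      rwa [map_add, h u hu b hb, add_zero] at this,
    nondegOn_iff.1 hW b hb fun w hw => by
      have := hx' w (Submodule.mem_sup_right hw)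
      rwa [map_add, hR _ _ (h a ha w hw), zero_add] at this, add_zero]

theorem disjoint_orth (hR : B.IsRefl) {U W : Submodule F V} (hU : NondegOn B U)
    (h : ∀ u ∈ U, ∀ w ∈ W, B u w = 0) : Disjoint U W :=
  Submodule.disjoint_def.2 fun x hx hx' => nondegOn_iff.1 hU x hx fun u hu => h u hu x hx'

/-- The orthogonal complement inside a non-degenerate space. -/
theorem exists_orth_compl (hR : B.IsRefl) (hinj : Function.Injective L) (hB : ∀ x y, B (L x) (L y) = B x y)
    {U X : Submodule F V} (hU : NondegOn B U) (hX : NondegOn B X) (hUi : Inv L U) (hXi : Inv L X) (hle : U ≤ X) :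
    NondegOn B (perp B U ⊓ X) ∧ Inv L (perp B U ⊓ X) ∧ U ⊔ perp B U ⊓ X = X ∧
      finrank F U + finrank F (perp B U ⊓ X : Submodule F V) = finrank F X := by
  have hUeq : U.map L = U := Submodule.eq_of_le_of_finrank_eq hUi
    (Submodule.equivMapOfInjective L hinj U).finrank_eq.symm
  have hsup : U ⊔ perp B U ⊓ X = X := by
    rw [← sup_inf_assoc_of_le _ hle, hU.isCompl.sup_eq_top, top_inf_eq]
  refine ⟨nondegOn_iff.2 fun x hx hx' => nondegOn_iff.1 hX x hx.2 fun w hw => ?_, Inv.of_mem fun y hy =>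
    ⟨mem_perp.2 fun w hw => ?_, hXi.mem hy.2⟩, hsup, ?_⟩
  · rw [← hsup] at hw
    obtain ⟨a, ha, b, hb, rfl⟩ := Submodule.mem_sup.1 hw
    rw [map_add, LinearMap.add_apply, mem_perp.1 hx.1 a ha, hx' b hb, add_zero]
  · rw [← hUeq] at hw
    obtain ⟨w', hw', rfl⟩ := Submodule.mem_map.1 hw
    rw [hB]
    exact mem_perp.1 hy.1 w' hw'
  · rw [← finrank_sup_of_disjoint (disjoint_orth hR hU (W := perp B U ⊓ X) fun u hu w hw => mem_perp.1 hw.1 u hu), hsup]

/-- Splitting into pieces, any selection of which spans a non-degenerate invariant subspace. -/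
theorem exists_pieces (hR : B.IsRefl) (hinj : Function.Injective L) (hB : ∀ x y, B (L x) (L y) = B x y)
    {α : Type*} (f : α → ℕ) (ok : α → Prop) {E : Submodule F V}
    (hstep : ∀ X ≤ E, Inv L X → NondegOn B X → X ≠ ⊥ → ∃ (U : Submodule F V) (a : α),
      U ≤ X ∧ Inv L U ∧ NondegOn B U ∧ ok a ∧ finrank F U = f a ∧ 0 < f a)
    (hE : Inv L E) (hEn : NondegOn B E) :
    ∃ P : Multiset α, (∀ a ∈ P, ok a) ∧ (P.map f).sum = finrank F E ∧
      ∀ Q ≤ P, ∃ U : Submodule F V, U ≤ E ∧ Inv L U ∧ NondegOn B U ∧ finrank F U = (Q.map f).sum := by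
  classical
  suffices H : ∀ n, ∀ X ≤ E, Inv L X → NondegOn B X → finrank F X = n →
      ∃ P : Multiset α, (∀ a ∈ P, ok a) ∧ (P.map f).sum = finrank F X ∧
      ∀ Q ≤ P, ∃ U : Submodule F V, U ≤ X ∧ Inv L U ∧ NondegOn B U ∧ finrank F U = (Q.map f).sum from
    H _ E le_rfl hE hEn rfl
  intro n
  induction n using Nat.strong_induction_on with
  | _ n ih =>
  intro X hXE hX hXn hn
  rcases eq_or_ne X ⊥ with rfl | hne
  · refine ⟨0, by simp, by simp, fun Q hQ => ⟨⊥, le_rfl, hX, hXn, ?_⟩⟩
    simp [Multiset.le_zero.1 hQ]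
  obtain ⟨U₀, a, hU₀X, hU₀, hU₀n, hok, hU₀d, hpos⟩ := hstep X hXE hX hXn hne
  obtain ⟨hn', hi', hsup, hfin⟩ := exists_orth_compl hR hinj hB hU₀n hXn hU₀ hX hU₀X
  obtain ⟨P, hP, hPs, hPsel⟩ := ih _ (by omega) _ (inf_le_right.trans hXE) hi' hn' rfl
  refine ⟨a ::ₘ P, Multiset.forall_mem_cons.2 ⟨hok, hP⟩, by rw [Multiset.map_cons, Multiset.sum_cons]; omega,
    fun Q hQ => ?_⟩
  by_cases ha : a ∈ Q
  · obtain ⟨U, hUX, hU, hUn, hUd⟩ := hPsel (Q.erase a) (Multiset.erase_le_iff_le_cons.2 hQ)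
    have ho : ∀ u ∈ U₀, ∀ w ∈ U, B u w = 0 := fun u hu w hw => mem_perp.1 (hUX hw).1 u hu
    refine ⟨U₀ ⊔ U, sup_le hU₀X (hUX.trans inf_le_right), hU₀.sup hU, sup_orth hR hU₀n hUn ho, ?_⟩
    rw [finrank_sup_of_disjoint (disjoint_orth hR hU₀n ho), hUd, hU₀d]
    conv_rhs => rw [← Multiset.cons_erase ha, Multiset.map_cons, Multiset.sum_cons]
  · obtain ⟨U, hUX, h⟩ := hPsel Q ((Multiset.le_cons_of_notMem ha).1 hQ)
    exact ⟨U, hUX.trans inf_le_right, h⟩

/-- Pieces of one size: all multiples. -/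
theorem exists_of_uniform (hR : B.IsRefl) (hinj : Function.Injective L) (hB : ∀ x y, B (L x) (L y) = B x y)
    {c : ℕ} (hc : 0 < c) {E : Submodule F V}
    (hstep : ∀ X ≤ E, Inv L X → NondegOn B X → X ≠ ⊥ →
      ∃ U : Submodule F V, U ≤ X ∧ Inv L U ∧ NondegOn B U ∧ finrank F U = c)
    (hE : Inv L E) (hEn : NondegOn B E) {a : ℕ} (ha : a * c ≤ finrank F E) :
    c ∣ finrank F E ∧ ∃ U : Submodule F V, U ≤ E ∧ Inv L U ∧ NondegOn B U ∧ finrank F U = a * c := by
  obtain ⟨P, -, hPs, hPsel⟩ := exists_pieces hR hinj hB (fun _ : Unit => c) (fun _ => True) (E := E)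
    (fun X h1 h2 h3 h4 => by
      obtain ⟨U, u1, u2, u3, u4⟩ := hstep X h1 h2 h3 h4
      exact ⟨U, (), u1, u2, u3, trivial, u4, hc⟩) hE hEn
  rw [Multiset.map_const', Multiset.sum_replicate, smul_eq_mul] at hPs
  refine ⟨⟨P.card, by rw [← hPs, mul_comm]⟩, ?_⟩
  have hcard : a ≤ P.card := Nat.le_of_mul_le_mul_right (hPs ▸ ha) hc
  obtain ⟨U, h1, h2, h3, h4⟩ := hPsel (Multiset.replicate a ()) (by
    rw [← Multiset.le_count_iff_replicate_le,
      Multiset.count_eq_card.2 fun b _ => Subsingleton.elim () b]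
    exact hcard)
  exact ⟨U, h1, h2, h3, by simpa using h4⟩

/-- Non-degenerate subspaces of a fixed non-degenerate space, of all even dimensions. -/
theorem exists_fixed_nondeg (hA : B.IsAlt) (hinj : Function.Injective L) (hB : ∀ x y, B (L x) (L y) = B x y)
    {C : Submodule F V} {z : F} (hC : ∀ v ∈ C, L v = z • v) (hCn : NondegOn B C) {a : ℕ}
    (ha : a * 2 ≤ finrank F C) :
    2 ∣ finrank F C ∧ ∃ U : Submodule F V, U ≤ C ∧ Inv L U ∧ NondegOn B U ∧ finrank F U = a * 2 :=
  exists_of_uniform hA.isRefl hinj hB two_pos (fun X hXC _ hXn hne => by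
    obtain ⟨u, hu, hu0⟩ := Submodule.exists_mem_ne_zero_of_ne_bot hne
    obtain ⟨v, hv, huv⟩ : ∃ v ∈ X, B u v ≠ 0 := by
      by_contra hcon
      push Not at hcon
      exact hu0 (nondegOn_iff.1 hXn u hu fun w hw => by rw [alt_swap hA, hcon w hw, neg_zero])
    have h1 : B u ((B u v)⁻¹ • v) = 1 := by rw [map_smul, smul_eq_mul, inv_mul_cancel₀ huv]
    have hle : Submodule.span F ({u, (B u v)⁻¹ • v} : Set V) ≤ X :=
      Submodule.span_le.2 (Set.insert_subset hu (Set.singleton_subset_iff.2 (X.smul_mem _ hv)))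
    exact ⟨_, hle, Inv.of_mem fun w hw => by rw [hC w (hXC (hle hw))]; exact Submodule.smul_mem _ _ hw,
      nondegOn_pair hA h1, finrank_pair hA h1⟩)
    (Inv.of_mem fun v hv => by rw [hC v hv]; exact C.smul_mem _ hv) hCn ha

variable [Fintype F] {r : ℕ} [Fact r.Prime]

theorem aeval_pow_card (g : F[X]) {A : Type*} [Ring A] [Algebra F A] (x : A) (e : ℕ) :
    aeval (x ^ Fintype.card F ^ e) g = aeval x g ^ Fintype.card F ^ e := by
  induction e generalizing x with
  | zero => simp
  | succ e ih =>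
    rw [pow_succ', pow_mul, ih, ← expand_aeval, FiniteField.expand_card, map_pow, ← pow_mul]

/-- A non-degenerate invariant piece of the least possible dimension. -/
theorem exists_piece_moved (hr : (r : F) ≠ 0) (hA : B.IsAlt) (hB : ∀ x y, B (L x) (L y) = B x y) (hL : L ^ r = 1)
    (hs : Split L) {E : Submodule F V} (hd : Disjoint (L.eigenspace 1) E)
    (hu : Uniform L E (orderOf (Fintype.card F : ZMod r))) {X : Submodule F V} (hXE : X ≤ E) (hX : Inv L X)
    (hXn : NondegOn B X) (hne : X ≠ ⊥) :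
    ∃ U : Submodule F V, U ≤ X ∧ Inv L U ∧ NondegOn B U ∧ finrank F U =
      if Even (orderOf (Fintype.card F : ZMod r)) then orderOf (Fintype.card F : ZMod r)
        else 2 * orderOf (Fintype.card F : ZMod r) := by
  set i := orderOf (Fintype.card F : ZMod r) with hi
  have hrp : r.Prime := Fact.out
  have hinv1 : ∀ v, (L ^ (r - 1)) (L v) = v := fun v => by
    rw [← Module.End.mul_apply, ← pow_succ, Nat.sub_add_cancel hrp.one_le, hL, Module.End.one_apply]
  have hinv2 : ∀ v, L ((L ^ (r - 1)) v) = v := fun v => by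
    rw [← Module.End.mul_apply, ← pow_succ', Nat.sub_add_cancel hrp.one_le, hL, Module.End.one_apply]
  have hinj : Function.Injective L := Function.LeftInverse.injective (g := ⇑(L ^ (r - 1))) hinv1
  by_cases hev : Even i
  swap
  · rw [if_neg hev]
    obtain ⟨U, hUX, hU, hUd⟩ := hu.exists_le X hXE hX hne
    have hUeq : U.map L = U := Submodule.eq_of_le_of_finrank_eq hU
      (Submodule.equivMapOfInjective L hinj U).finrank_eq.symm
    have hirr : ∀ W ≤ U, Inv L W → W = ⊥ ∨ W = U := fun W hW hWi => or_iff_not_imp_left.2 fun h0 => by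
      refine Submodule.eq_of_le_of_finrank_le hW ?_
      rw [hUd]
      exact Nat.le_of_dvd (Nat.pos_of_ne_zero fun h => h0 (Submodule.finrank_eq_zero.1 h))
        (hu.dvd W (hW.trans (hUX.trans hXE)) hWi)
    have hPU : ∀ {Z : Submodule F V}, Inv L Z → Z.map L = Z → Inv L (perp B Z) := fun {Z} _ hZeq =>
      Inv.of_mem fun y hy => mem_perp.2 fun w hw => by
        rw [← hZeq] at hw
        obtain ⟨w', hw', rfl⟩ := Submodule.mem_map.1 hw
        rw [hB]
        exact mem_perp.1 hy w' hw'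
    have hUnull : Null B U := by
      rcases hirr (U ⊓ perp B U) inf_le_left (hU.inf (hPU hU hUeq)) with h | h
      · exfalso
        have hUn : NondegOn B U := disjoint_iff.2 h
        obtain ⟨m, b, -⟩ := exists_sympBasis (restrictForm_isAlt hA U) (restrictForm_nondegenerate hA.isRefl hUn)
        refine hev ⟨m, ?_⟩
        rw [← hUd, Module.finrank_eq_card_basis b]
        simp
      · intro u hu' v hv
        rw [← h] at hv
        exact mem_perp.1 hv.2 u hu'
    obtain ⟨T, hTX, hT, hTdis, hTsup, -⟩ := hs.exists_rel ((hPU hU hUeq).inf hX) hX inf_le_right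
    have hTne : T ≠ ⊥ := fun h0 => by
      rw [h0, sup_bot_eq] at hTsup
      obtain ⟨u, huU, hu0⟩ := Submodule.exists_mem_ne_zero_of_ne_bot fun h1 : U = ⊥ => by
        rw [h1, finrank_bot] at hUd
        exact hu.pos.ne' hUd.symm
      refine hu0 (nondegOn_iff.1 hXn u (hUX huU) fun w hw => ?_)
      rw [← hTsup] at hw
      rw [alt_swap hA, mem_perp.1 hw.1 u huU, neg_zero]
    obtain ⟨U', hU'T, hU', hU'd⟩ := hu.exists_le T (hTX.trans hXE) hT hTne
    have hU'eq : U'.map L = U' := Submodule.eq_of_le_of_finrank_eq hU'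
      (Submodule.equivMapOfInjective L hinj U').finrank_eq.symm
    have hker' : U' ⊓ perp B U = ⊥ := eq_bot_iff.2 fun v hv =>
      Submodule.disjoint_def.1 hTdis v ⟨hv.2, hTX (hU'T hv.1)⟩ (hU'T hv.1)
    have hker : U ⊓ perp B U' = ⊥ := by
      rcases hirr (U ⊓ perp B U') inf_le_left (hU.inf (hPU hU' hU'eq)) with h | h
      · exact h
      exfalso
      obtain ⟨v, hv, hv0⟩ := Submodule.exists_mem_ne_zero_of_ne_bot fun h1 : U' = ⊥ => by
        rw [h1, finrank_bot] at hU'd
        exact hu.pos.ne' hU'd.symm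
      refine hv0 ((Submodule.mem_bot F).1 (hker' ▸ ⟨hv, mem_perp.2 fun u hu' => ?_⟩))
      rw [← h] at hu'
      rw [alt_swap hA, mem_perp.1 hu'.2 v hv, neg_zero]
    have hdisU : Disjoint U U' := Submodule.disjoint_def.2 fun v hv hv' =>
      (Submodule.mem_bot F).1 (hker' ▸ ⟨hv', mem_perp.2 fun u hu' => hUnull u hu' v hv⟩)
    refine ⟨U ⊔ U', sup_le hUX (hU'T.trans hTX), hU.sup hU', nondegOn_iff.2 fun x hx hx' => ?_, ?_⟩
    · obtain ⟨a, ha, b, hb, rfl⟩ := Submodule.mem_sup.1 hx
      have hb0 : b = 0 := (Submodule.mem_bot F).1 (hker' ▸ ⟨hb, mem_perp.2 fun u hu' => by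
        have := hx' u (Submodule.mem_sup_left hu')
        rwa [map_add, hUnull u hu' a ha, zero_add] at this⟩)
      subst hb0
      rw [add_zero] at hx' ⊢
      exact (Submodule.mem_bot F).1 (hker ▸ ⟨ha, mem_perp.2 fun u hu' => hx' u (Submodule.mem_sup_right hu')⟩)
    · rw [finrank_sup_of_disjoint hdisU, hUd, hU'd, two_mul]
  rw [if_pos hev]
  obtain ⟨h, hh⟩ := hev
  obtain ⟨S, -, hSprod, hS⟩ := exists_factors (F := F) (r := r) hr
  obtain ⟨g, hg, hgne⟩ : ∃ g ∈ S, X ⊓ LinearMap.ker (aeval L g) ≠ ⊥ := by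
    by_contra hcon
    push Not at hcon
    have h1 := finrank_ker_prod_le hX S
    rw [hSprod, inf_eq_left.2 (hXE.trans (le_ker_cyclotomic hL hu.inv hd)),
      Finset.sum_eq_zero fun g hg => Submodule.finrank_eq_zero.2 (hcon g hg)] at h1
    exact hne (Submodule.finrank_eq_zero.1 (by omega))
  obtain ⟨hgi, hgm, hgdeg, hgdvd⟩ := hS g hg
  set K := X ⊓ LinearMap.ker (aeval L g) with hK
  have hKi : Inv L K := hX.inf (inv_ker g)
  -- `r` divides `q ^ (i / 2) + 1`
  have hqh : ((Fintype.card F ^ h : ℕ) : ZMod r) = -1 := by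
    have h1 := pow_orderOf_eq_one (Fintype.card F : ZMod r)
    rw [← hi, hh, pow_add, mul_self_eq_one_iff] at h1
    rcases h1 with h1 | h1
    · have h2 := Nat.le_of_dvd (by have := hu.pos; omega) (orderOf_dvd_of_pow_eq_one h1)
      rw [← hi] at h2
      have := hu.pos
      omega
    · rw [Nat.cast_pow]; exact h1
  have hLq : L ^ Fintype.card F ^ h = L ^ (r - 1) := by
    have h2 : (Fintype.card F ^ h) % r = r - 1 := by
      have h3 : ((Fintype.card F ^ h : ℕ) : ZMod r) = ((r - 1 : ℕ) : ZMod r) := by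
        rw [hqh, Nat.cast_sub hrp.one_le, ZMod.natCast_self, zero_sub, Nat.cast_one]
      rw [ZMod.natCast_eq_natCast_iff'] at h3
      rw [h3, Nat.mod_eq_of_lt (by have := hrp.pos; omega)]
    rw [← Nat.mod_add_div (Fintype.card F ^ h) r, h2, pow_add, pow_mul, hL, one_pow, mul_one]
  have hkill : ∀ x, aeval L g x = 0 → aeval (L ^ (r - 1)) g x = 0 := fun x hx => by
    have hpos : 0 < Fintype.card F ^ h := pow_pos Fintype.card_pos _
    rw [← hLq, aeval_pow_card, show Fintype.card F ^ h = Fintype.card F ^ h - 1 + 1 by omega, pow_succ,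
      Module.End.mul_apply, hx, map_zero]
  have hadj : ∀ (j : ℕ) (x w : V), B x ((L ^ j) w) = B (((L ^ (r - 1)) ^ j) x) w := fun j => by
    induction j with
    | zero => intro x w; rfl
    | succ j ih =>
      intro x w
      rw [pow_succ L, Module.End.mul_apply, ih, pow_succ' (L ^ (r - 1)), Module.End.mul_apply]
      conv_lhs => rw [← hinv2 (((L ^ (r - 1)) ^ j) x)]
      rw [hB]
  have hgadj : ∀ x w, B x (aeval L g w) = B (aeval (L ^ (r - 1)) g x) w := fun x w => by
    simp only [aeval_eq_sum_range, LinearMap.sum_apply, map_sum, LinearMap.smul_apply, map_smul, hadj]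
  have hKn : NondegOn B K := nondegOn_iff.2 fun x hx hx' => nondegOn_iff.1 hXn x hx.1 fun v hv => by
    obtain ⟨R, hR⟩ := hgdvd
    have hdsq : Squarefree (cyclotomic r F) := by
      refine Squarefree.squarefree_of_dvd ⟨Polynomial.X - 1, (cyclotomic_prime_mul_X_sub_one F r).symm⟩ ?_
      simpa using (separable_X_pow_sub_C (1 : F) hr one_ne_zero).squarefree
    rw [hR] at hdsq
    obtain ⟨a, b, hab⟩ : IsCoprime g R := hgi.coprime_iff_not_dvd.2 fun ⟨R', hR'⟩ =>
      hgi.not_isUnit (hdsq g ⟨R', by rw [hR']; ring⟩)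
    have hv0 : aeval L (g * R) v = 0 := by rw [← hR]; exact le_ker_cyclotomic hL hu.inv hd (hXE hv)
    have hdec : v = aeval L g (aeval L a v) + aeval L (b * R) v := by
      rw [← Module.End.mul_apply, ← map_mul, ← LinearMap.add_apply, ← map_add, mul_comm g a, hab, map_one,
        Module.End.one_apply]
    rw [hdec, map_add, LinearMap.add_apply]
    have h2 : aeval L (b * R) v ∈ K := by
      refine ⟨hX.aeval_mem _ hv, ?_⟩
      rw [SetLike.mem_coe, LinearMap.mem_ker, ← Module.End.mul_apply, ← map_mul,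
        show g * (b * R) = b * (g * R) by ring, map_mul, Module.End.mul_apply, hv0, map_zero]
    rw [hx' _ h2, add_zero, alt_swap hA, hgadj, hkill x hx.2, map_zero, LinearMap.zero_apply, neg_zero]
  have hodd : Odd r := hrp.odd_of_ne_two fun hr2 => by
    have h4 : i ∣ 1 := orderOf_dvd_of_pow_eq_one (by
      have h5 : (Fintype.card F : ZMod r) ≠ 0 := fun h0 => by
        have h6 := pow_orderOf_eq_one (Fintype.card F : ZMod r)
        rw [← hi, h0, zero_pow hu.pos.ne'] at h6
        exact zero_ne_one h6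
      have h7 := ZMod.pow_card_sub_one_eq_one h5
      rwa [show r - 1 = 1 by omega] at h7)
    have := Nat.dvd_one.1 h4
    omega
  obtain ⟨u, huK, t, hut⟩ : ∃ u ∈ K, ∃ t : ℕ, B u ((L ^ t) u) ≠ 0 := by
    by_contra hcon
    push Not at hcon
    have h3 : ∀ a ∈ K, ∀ b ∈ K, B a (L b) = B (L a) b := fun a ha b hb => by
      have h1 := hcon (a + b) (K.add_mem ha hb) 1
      simp only [pow_one, map_add, LinearMap.add_apply] at h1
      have e1 := hcon a ha 1
      have e2 := hcon b hb 1
      rw [pow_one] at e1 e2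
      rw [e1, e2, zero_add, add_zero] at h1
      rw [alt_swap hA (L a), eq_neg_iff_add_eq_zero]
      linear_combination h1
    have hL2 : ∀ v ∈ K, L (L v) = v := fun v hv => by
      refine sub_eq_zero.1 (nondegOn_iff.1 hKn _ (K.sub_mem (hKi.mem (hKi.mem hv)) hv) fun w hw => ?_)
      rw [map_sub, h3 w hw _ (hKi.mem hv), hB, sub_self]
    obtain ⟨w, hw, hw0⟩ := Submodule.exists_mem_ne_zero_of_ne_bot hgne
    obtain ⟨k, hk⟩ := hodd
    have hpow : ∀ n : ℕ, (L ^ (2 * n)) w = w := fun n => by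
      induction n with
      | zero => simp
      | succ n ih =>
        rw [show 2 * (n + 1) = 2 + 2 * n by ring, pow_add, Module.End.mul_apply, ih, pow_two, Module.End.mul_apply,
          hL2 w hw]
    have hfix : L w = w := by
      have h4 := LinearMap.congr_fun hL w
      rw [hk, pow_succ', Module.End.mul_apply, hpow, Module.End.one_apply] at h4
      exact h4
    refine hw0 (Submodule.disjoint_def.1 hd w ?_ (hXE hw.1))
    rw [Module.End.mem_eigenspace_iff, one_smul]
    exact hfix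
  let ev : degreeLT F i →ₗ[F] V :=
    (LinearMap.applyₗ (R := F) u).comp ((aeval L).toLinearMap.comp (degreeLT F i).subtype)
  have hall : ∀ f : F[X], aeval L f u ∈ LinearMap.range ev := fun f => by
    refine ⟨⟨f %ₘ g, ?_⟩, ?_⟩
    · rw [mem_degreeLT]
      exact (degree_modByMonic_lt f hgm).trans_le (degree_le_natDegree.trans_eq (congrArg _ hgdeg))
    · show aeval L (f %ₘ g) u = aeval L f u
      conv_rhs => rw [← modByMonic_add_div f g]
      rw [map_add, LinearMap.add_apply, mul_comm g, map_mul, Module.End.mul_apply,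
        show aeval L g u = 0 from huK.2, map_zero, add_zero]
  set U := LinearMap.range ev
  have hUK : U ≤ K := by
    rintro _ ⟨f, rfl⟩
    exact hKi.aeval_mem _ huK
  have hUi : Inv L U := Inv.of_mem fun x hx => by
    obtain ⟨f, rfl⟩ := hx
    have h1 := hall (Polynomial.X * f.1)
    rw [map_mul, aeval_X, Module.End.mul_apply] at h1
    exact h1
  have hUd : finrank F U = i := by
    refine le_antisymm ((LinearMap.finrank_range_le ev).trans
      (le_of_eq (by rw [(degreeLTEquiv F i).finrank_eq, finrank_fin_fun]))) ?_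
    refine Nat.le_of_dvd (Nat.pos_of_ne_zero fun h0 => hut ?_)
      (hu.dvd U ((hUK.trans inf_le_left).trans hXE) hUi)
    have h1 := hall 1
    rw [map_one, Module.End.one_apply, Submodule.finrank_eq_zero.1 h0, Submodule.mem_bot] at h1
    simp [h1]
  refine ⟨U, hUK.trans inf_le_left, hUi, ?_, hUd⟩
  have hUeq : U.map L = U := Submodule.eq_of_le_of_finrank_eq hUi
    (Submodule.equivMapOfInjective L hinj U).finrank_eq.symm
  have hPi : Inv L (U ⊓ perp B U) := hUi.inf (Inv.of_mem fun y hy => mem_perp.2 fun w hw => by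
    rw [← hUeq] at hw
    obtain ⟨w', hw', rfl⟩ := Submodule.mem_map.1 hw
    rw [hB]
    exact mem_perp.1 hy w' hw')
  refine disjoint_iff.2 ?_
  by_contra hne'
  have hfull : U ⊓ perp B U = U := Submodule.eq_of_le_of_finrank_le inf_le_left (by
    rw [hUd]
    exact Nat.le_of_dvd (Nat.pos_of_ne_zero fun h0 => hne' (Submodule.finrank_eq_zero.1 h0))
      (hu.dvd _ ((inf_le_left.trans (hUK.trans inf_le_left)).trans hXE) hPi))
  refine hut ?_
  have h1 := hall 1
  rw [map_one, Module.End.one_apply] at h1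
  have h2 : (L ^ t) u ∈ U ⊓ perp B U := by
    rw [hfull]
    simpa using hall (Polynomial.X ^ t)
  exact mem_perp.1 h2.2 u h1

end CfsgLib.Derangements.NondegInv
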