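import Cfsg.Agent.Lib.Derangements.LinearElusive
import Cfsg.Agent.Lib.Classical.SympBasic
import Cfsg.Agent.Lib.Classical.SympWitt

/-!
# Totally isotropic invariant subspaces of isometries of prime order of alternating forms
-/

set_option autoImplicit false
set_option linter.unusedSectionVars false

namespace CfsgLib.Derangements.NullInv

open Module Polynomial CfsgLib.Classical CfsgLib.Derangements.LinElusive

variable {F : Type*} [Field F] [Fintype F] {V : Type*} [AddCommGroup V] [Module F V] [FiniteDimensional F V]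
  {B : V →ₗ[F] V →ₗ[F] F} {L : Module.End F V} {r : ℕ} [Fact r.Prime]

/-- The form vanishes on the subspace. -/
def Null (B : V →ₗ[F] V →ₗ[F] F) (U : Submodule F V) : Prop := ∀ u ∈ U, ∀ v ∈ U, B u v = 0

theorem Null.mono {U W : Submodule F V} (h : Null B W) (hle : U ≤ W) : Null B U :=
  fun u hu v hv => h u (hle hu) v (hle hv)

theorem Null.sup {U W : Submodule F V} (hU : Null B U) (hW : Null B W) (h1 : ∀ u ∈ U, ∀ w ∈ W, B u w = 0)
    (h2 : ∀ u ∈ U, ∀ w ∈ W, B w u = 0) : Null B (U ⊔ W) := by
  intro x hx y hy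
  obtain ⟨a, ha, b, hb, rfl⟩ := Submodule.mem_sup.1 hx
  obtain ⟨a', ha', b', hb', rfl⟩ := Submodule.mem_sup.1 hy
  simp only [map_add, LinearMap.add_apply, hU a ha a' ha', h1 a ha b' hb', h2 a' ha' b hb, hW b hb b' hb', add_zero]

/-- A null subspace of a non-degenerate space has at most half the dimension. -/
theorem Null.two_mul_le {V' : Type*} [AddCommGroup V'] [Module F V'] [FiniteDimensional F V']
    {B' : V' →ₗ[F] V' →ₗ[F] F} (hR : B'.IsRefl) (hN : B'.Nondegenerate) {W : Submodule F V'}
    (hW : ∀ u ∈ W, ∀ v ∈ W, B' u v = 0) : 2 * finrank F W ≤ finrank F V' := by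
  have h1 : W ≤ LinearMap.BilinForm.orthogonal B' W := fun v hv => fun u hu => hW u hu v hv
  have h2 := Submodule.finrank_mono h1
  rw [LinearMap.BilinForm.finrank_orthogonal hN W] at h2
  have := Submodule.finrank_le W
  omega

theorem Null.two_mul_le_on (hR : B.IsRefl) {X W : Submodule F V} (hX : NondegOn B X) (hWX : W ≤ X) (hW : Null B W) :
    2 * finrank F W ≤ finrank F X := by
  rw [← (Submodule.comapSubtypeEquivOfLe hWX).finrank_eq]
  exact Null.two_mul_le (B' := restrictForm B X) (fun a b => hR _ _) (restrictForm_nondegenerate hR hX)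
    fun u hu v hv => hW _ hu _ hv

/-- The irreducible factors of the `r`-th cyclotomic polynomial. -/
theorem exists_factors (hr : (r : F) ≠ 0) :
    ∃ S : Finset F[X], S.card * orderOf (Fintype.card F : ZMod r) = r - 1 ∧ ∏ g ∈ S, g = cyclotomic r F ∧
      ∀ g ∈ S, Irreducible g ∧ g.Monic ∧ g.natDegree = orderOf (Fintype.card F : ZMod r) ∧ g ∣ cyclotomic r F := by
  classical
  obtain ⟨p, hpc⟩ := CharP.exists F
  haveI := hpc
  obtain ⟨k, hp, hk⟩ := FiniteField.card F p
  haveI : Fact p.Prime := ⟨hp⟩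
  have hrp : r.Prime := Fact.out
  have hn : p.Coprime r := (Nat.coprime_primes hp hrp).2 fun h => hr (by rw [← h]; exact CharP.cast_eq_zero F p)
  have hord : orderOf (ZMod.unitOfCoprime _ (hn.pow_left k.1) : (ZMod r)ˣ) = orderOf (Fintype.card F : ZMod r) := by
    rw [← orderOf_units, ZMod.coe_unitOfCoprime, hk]
    try rfl
  have hne := cyclotomic_ne_zero r F
  set M := UniqueFactorizationMonoid.normalizedFactors (cyclotomic r F) with hM
  have hsq : Squarefree (cyclotomic r F) := by
    refine Squarefree.squarefree_of_dvd ⟨X - 1, (cyclotomic_prime_mul_X_sub_one F r).symm⟩ ?_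
    simpa using (separable_X_pow_sub_C (1 : F) hr one_ne_zero).squarefree
  have hnd : M.Nodup := (UniqueFactorizationMonoid.squarefree_iff_nodup_normalizedFactors hne).1 hsq
  refine ⟨M.toFinset, ?_, ?_, fun g hg => ?_⟩
  · have hdvd : orderOf (Fintype.card F : ZMod r) ∣ r - 1 := by
      rw [← hord, ← ZMod.card_units r]; exact orderOf_dvd_card
    simp only [hM, normalizedFactors_cyclotomic_card hk hn, Nat.totient_prime hrp]
    convert Nat.div_mul_cancel hdvd using 3
    exact hord
  · rw [Finset.prod_eq_multiset_prod, Multiset.toFinset_val, hnd.dedup, Multiset.map_id']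
    refine eq_of_monic_of_associated ?_ (cyclotomic.monic r F) (UniqueFactorizationMonoid.prod_normalizedFactors hne)
    rw [← Multiset.map_id' M]
    refine monic_multiset_prod_of_monic M id fun g hg => ?_
    rw [id, ← UniqueFactorizationMonoid.normalize_normalized_factor g hg]
    exact monic_normalize (UniqueFactorizationMonoid.ne_zero_of_mem_normalizedFactors hg)
  · rw [Multiset.mem_toFinset] at hg
    refine ⟨UniqueFactorizationMonoid.irreducible_of_normalized_factor g hg, ?_, ?_,
      UniqueFactorizationMonoid.dvd_of_mem_normalizedFactors hg⟩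
    · rw [← UniqueFactorizationMonoid.normalize_normalized_factor g hg]
      exact monic_normalize (UniqueFactorizationMonoid.ne_zero_of_mem_normalizedFactors hg)
    · rw [← hord]
      exact natDegree_of_dvd_cyclotomic_of_irreducible hk hn (UniqueFactorizationMonoid.dvd_of_mem_normalizedFactors hg)
        (UniqueFactorizationMonoid.irreducible_of_normalized_factor g hg)

theorem inv_ker (f : F[X]) : Inv L (LinearMap.ker (aeval L f)) := Inv.of_mem fun u hu => by
  rw [LinearMap.mem_ker] at hu ⊢
  have h1 : aeval L (f * X) u = aeval L (X * f) u := by rw [mul_comm]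
  simpa [hu] using h1

/-- The kernel of a product is no larger than the kernels of its factors. -/
theorem finrank_ker_prod_le {W : Submodule F V} (hW : Inv L W) (S : Finset F[X]) :
    finrank F (W ⊓ LinearMap.ker (aeval L (∏ g ∈ S, g)) : Submodule F V) ≤
      ∑ g ∈ S, finrank F (W ⊓ LinearMap.ker (aeval L g) : Submodule F V) := by
  classical
  induction S using Finset.induction_on with
  | empty =>
    have h : W ⊓ LinearMap.ker (aeval L (∏ g ∈ (∅ : Finset F[X]), g)) = ⊥ := by
      rw [eq_bot_iff]; intro x hx; simpa using hx.2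
    rw [h, finrank_bot]
    exact Nat.zero_le _
  | insert a S ha ih =>
    rw [Finset.prod_insert ha, Finset.sum_insert ha]
    set f := ∏ g ∈ S, g
    let φ := (aeval L a).domRestrict (W ⊓ LinearMap.ker (aeval L (a * f)) : Submodule F V)
    let ψ := (aeval L f).domRestrict (W ⊓ LinearMap.ker (aeval L (a * f)) : Submodule F V)
    have hrange : LinearMap.range ψ ≤ W ⊓ LinearMap.ker (aeval L a) := by
      rintro _ ⟨x, rfl⟩
      refine ⟨hW.aeval_mem f x.2.1, ?_⟩
      rw [SetLike.mem_coe, LinearMap.mem_ker]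
      have := x.2.2
      simp only [SetLike.mem_coe, LinearMap.mem_ker, map_mul, Module.End.mul_apply] at this
      exact this
    have hker : (LinearMap.ker ψ).map (Submodule.subtype _) ≤ W ⊓ LinearMap.ker (aeval L f) := by
      rintro _ ⟨x, hx, rfl⟩
      exact ⟨x.2.1, hx⟩
    have h := LinearMap.finrank_range_add_finrank_ker ψ
    have h1 := Submodule.finrank_mono hrange
    have h2 := Submodule.finrank_mono hker
    rw [← (Submodule.equivMapOfInjective _ (Submodule.injective_subtype _) _).finrank_eq] at h2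
    omega

/-- The moved part is killed by the cyclotomic polynomial. -/
theorem le_ker_cyclotomic (hL : L ^ r = 1) {E : Submodule F V} (hE : Inv L E)
    (hd : Disjoint (L.eigenspace 1) E) : E ≤ LinearMap.ker (aeval L (cyclotomic r F)) := by
  intro x hx
  rw [LinearMap.mem_ker]
  refine Submodule.disjoint_def.1 hd _ ?_ (hE.aeval_mem _ hx)
  have h := congrArg (fun f => aeval L f x) ((mul_comm _ _).trans (cyclotomic_prime_mul_X_sub_one F r))
  simp only [map_mul, map_sub, aeval_X, map_one, map_pow, hL, sub_self, LinearMap.zero_apply, Module.End.mul_apply,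
    LinearMap.sub_apply, Module.End.one_apply] at h
  rw [Module.End.mem_eigenspace_iff, one_smul]
  exact sub_eq_zero.1 h

theorem pow_isom (hB : ∀ x y, B (L x) (L y) = B x y) (j : ℕ) (x y : V) : B ((L ^ j) x) ((L ^ j) y) = B x y := by
  induction j with
  | zero => rfl
  | succ j ih => rw [pow_succ', Module.End.mul_apply, Module.End.mul_apply, hB, ih]

/-- A null invariant subspace of a space killed by a polynomial of small degree. -/
theorem exists_null (hA : B.IsAlt) (hB : ∀ x y, B (L x) (L y) = B x y) {X : Submodule F V} (hX : Inv L X)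
    {g : F[X]} (hg : g.Monic) (hgX : ∀ x ∈ X, aeval L g x = 0) (hlt : 2 * (g.natDegree / 2) < finrank F X) :
    ∃ U : Submodule F V, U ≤ X ∧ Inv L U ∧ Null B U ∧ U ≠ ⊥ := by
  classical
  obtain ⟨p, hpc⟩ := CharP.exists F
  haveI := hpc
  haveI : Fact p.Prime := ⟨CharP.char_is_prime F p⟩
  set h := g.natDegree / 2
  let b := finBasis F X
  let P : Fin h → MvPolynomial (Fin (finrank F X)) F := fun t => ∑ i, ∑ j,
    MvPolynomial.C (B (b i) ((L ^ (t.1 + 1)) (b j))) * MvPolynomial.X i * MvPolynomial.X j
  have hdeg : ∀ t, (P t).totalDegree ≤ 2 := fun t => MvPolynomial.totalDegree_finsetSum_le fun i _ =>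
    MvPolynomial.totalDegree_finsetSum_le fun j _ => by
      refine (MvPolynomial.totalDegree_mul _ _).trans ?_
      have h1 := MvPolynomial.totalDegree_mul (MvPolynomial.C (B (b i) ((L ^ (t.1 + 1)) (b j))))
        (MvPolynomial.X i (R := F))
      simp only [MvPolynomial.totalDegree_C, MvPolynomial.totalDegree_X] at h1 ⊢
      omega
  have hsum : ∑ t, (P t).totalDegree < Fintype.card (Fin (finrank F X)) := by
    refine (Finset.sum_le_card_nsmul _ _ 2 fun t _ => hdeg t).trans_lt ?_
    simp only [Finset.card_univ, Fintype.card_fin, smul_eq_mul]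
    omega
  have hcw := char_dvd_card_solutions_of_fintype_sum_lt p hsum
  have h0 : ∀ t, MvPolynomial.eval (0 : Fin (finrank F X) → F) (P t) = 0 := fun t => by simp [P]
  have hone : 1 < Fintype.card {x : Fin (finrank F X) → F // ∀ t, MvPolynomial.eval x (P t) = 0} := by
    refine lt_of_lt_of_le (Fact.out : p.Prime).one_lt (Nat.le_of_dvd (Fintype.card_pos_iff.2 ⟨⟨0, h0⟩⟩) ?_)
    convert! hcw
  obtain ⟨⟨x, hx⟩, hne⟩ := Fintype.exists_ne_of_one_lt_card hone ⟨0, h0⟩
  let v : X := b.equivFun.symm x
  let u : V := v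
  have hu0 : u ≠ 0 := fun h1 => hne (Subtype.ext (b.equivFun.symm.injective (by
    rw [map_zero]; exact Subtype.ext h1)))
  have hsmall : ∀ t : ℕ, t ≤ h → B u ((L ^ t) u) = 0 := fun t ht => by
    rcases Nat.eq_zero_or_pos t with rfl | hpos
    · simpa using hA u
    obtain ⟨t', rfl⟩ : ∃ k, t = k + 1 := ⟨t - 1, by omega⟩
    have hu' : u = ∑ i, x i • (b i : V) := by
      simp [u, v, Basis.equivFun_symm_apply]
    rw [← hx ⟨t', by omega⟩, hu']
    simp only [P, map_sum, LinearMap.sum_apply, map_smul, LinearMap.smul_apply, smul_eq_mul, map_mul,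
      MvPolynomial.eval_C, MvPolynomial.eval_X, Finset.mul_sum]
    rw [Finset.sum_comm]
    exact Finset.sum_congr rfl fun i _ => Finset.sum_congr rfl fun j _ => by ring
  have hshift : ∀ a c, a ≤ c → B ((L ^ a) u) ((L ^ c) u) = B u ((L ^ (c - a)) u) := fun a c hac => by
    conv_lhs => rw [show c = a + (c - a) by omega]
    rw [pow_add, Module.End.mul_apply, pow_isom hB]
  have hmem : ∀ a, (L ^ a) u ∈ X := fun a => by simpa using hX.aeval_mem (Polynomial.X ^ a) v.2
  have hall : ∀ t, B u ((L ^ t) u) = 0 := fun t => by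
    induction t using Nat.strong_induction_on with
    | _ t ih =>
    rcases Nat.lt_or_ge h t with ht | ht
    swap
    · exact hsmall t ht
    set D := g.natDegree
    have hk : ∀ k < D, B ((L ^ (D - t)) u) ((L ^ (k + (t - D))) u) = 0 := fun k hk => by
      rcases Nat.le_total (D - t) (k + (t - D)) with hle | hle
      · rw [hshift _ _ hle, ih _ (by omega)]
      · rw [alt_swap hA, hshift _ _ hle, ih _ (by omega), neg_zero]
    have h1 : B ((L ^ (D - t)) u) (aeval L g ((L ^ (t - D)) u)) = 0 := by rw [hgX _ (hmem _), map_zero]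
    rw [aeval_eq_sum_range, LinearMap.sum_apply, map_sum, Finset.sum_range_succ, Finset.sum_eq_zero fun k hk' => ?_,
      zero_add] at h1
    · rw [LinearMap.smul_apply, hg.coeff_natDegree, one_smul, ← Module.End.mul_apply, ← pow_add,
        hshift _ _ (by omega)] at h1
      rwa [show D + (t - D) - (D - t) = t by omega] at h1
    · rw [LinearMap.smul_apply, map_smul, ← Module.End.mul_apply, ← pow_add, hk k (Finset.mem_range.1 hk'),
        smul_zero]
  let U := Submodule.span F (Set.range fun a : ℕ => (L ^ a) u)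
  refine ⟨U, Submodule.span_le.2 (by rintro _ ⟨a, rfl⟩; exact hmem a), ?_, ?_, ?_⟩
  · unfold LinElusive.Inv
    rw [Submodule.map_span_le]
    rintro _ ⟨a, rfl⟩
    exact Submodule.subset_span ⟨a + 1, by simp [pow_succ']⟩
  · intro y hy z hz
    have h1 : ∀ a c, B ((L ^ a) u) ((L ^ c) u) = 0 := fun a c => by
      rcases Nat.le_total a c with hle | hle
      · rw [hshift _ _ hle, hall]
      · rw [alt_swap hA, hshift _ _ hle, hall, neg_zero]
    refine Submodule.span_induction (p := fun y _ => B y z = 0) ?_ (by simp) ?_ ?_ hy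
    · rintro _ ⟨a, rfl⟩
      refine Submodule.span_induction (p := fun z _ => B ((L ^ a) u) z = 0) ?_ (map_zero _) ?_ ?_ hz
      · rintro _ ⟨c, rfl⟩
        exact h1 a c
      · intro a b _ _ ha hb; rw [map_add, ha, hb, add_zero]
      · intro c a _ ha; rw [map_smul, ha, smul_zero]
    · intro a b _ _ ha hb; rw [map_add, LinearMap.add_apply, ha, hb, add_zero]
    · intro c a _ ha; rw [map_smul, LinearMap.smul_apply, ha, smul_zero]
  · intro hb
    refine hu0 ?_
    have h1 : u ∈ U := Submodule.subset_span ⟨0, rfl⟩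
    rwa [hb, Submodule.mem_bot] at h1

/-- A maximal null invariant subspace is large. -/
theorem exists_null_large (hR : B.IsRefl) (hB : ∀ x y, B (L x) (L y) = B x y)
    (hinj : Function.Injective L) (hs : Split L) {E : Submodule F V} {σ : ℕ}
    (hex : ∀ X ≤ E, Inv L X → NondegOn B X → σ < finrank F X →
      ∃ U : Submodule F V, U ≤ X ∧ Inv L U ∧ Null B U ∧ U ≠ ⊥)
    (hE : Inv L E) (hEn : NondegOn B E) :
    ∃ W : Submodule F V, W ≤ E ∧ Inv L W ∧ Null B W ∧ finrank F E ≤ 2 * finrank F W + σ := by
  suffices H : ∀ n, ∀ X ≤ E, Inv L X → NondegOn B X → finrank F X = n →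
      ∃ W : Submodule F V, W ≤ X ∧ Inv L W ∧ Null B W ∧ finrank F X ≤ 2 * finrank F W + σ from
    H _ E le_rfl hE hEn rfl
  intro n
  induction n using Nat.strong_induction_on with
  | _ n ih =>
  intro X hXE hX hXn hn
  rcases Nat.lt_or_ge σ (finrank F X) with hlt | hge
  swap
  · exact ⟨⊥, bot_le, Inv.of_mem (by simp), fun u hu v _ => by simp [(Submodule.mem_bot F).1 hu], by simp [hge]⟩
  obtain ⟨U, hUX, hU, hUn, hU0⟩ := hex X hXE hX hXn hlt
  have hUeq : U.map L = U := Submodule.eq_of_le_of_finrank_eq hU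
    (Submodule.equivMapOfInjective L hinj U).finrank_eq.symm
  set Y := perp B U ⊓ X
  have hY : Inv L Y := Inv.of_mem fun y hy => ⟨mem_perp.2 fun w hw => by
    rw [← hUeq] at hw
    obtain ⟨w', hw', rfl⟩ := Submodule.mem_map.1 hw
    rw [hB]
    exact mem_perp.1 hy.1 w' hw', hX.mem hy.2⟩
  have hUY : U ≤ Y := le_inf (fun v hv => mem_perp.2 fun w hw => hUn w hw v hv) hUX
  obtain ⟨X', hX'Y, hX', hdis, hsup, hfin⟩ := hs.exists_rel hU hY hUY
  let U' : Submodule F X := U.comap X.subtype
  have hYperp : Y.comap X.subtype = perp (restrictForm B X) U' := by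
    ext v
    rw [Submodule.mem_comap, mem_perp]
    exact ⟨fun h w hw => mem_perp.1 h.1 _ hw, fun h => ⟨mem_perp.2 fun w hw => h ⟨w, hUX hw⟩ hw, v.2⟩⟩
  have hdim : finrank F X ≤ finrank F Y + finrank F U := by
    have h1 := finrank_le_finrank_perp_add (restrictForm B X) U'
    rw [← hYperp, (Submodule.comapSubtypeEquivOfLe (inf_le_right : Y ≤ X)).finrank_eq,
      (Submodule.comapSubtypeEquivOfLe hUX).finrank_eq] at h1
    exact h1
  have hX'n : NondegOn B X' := nondegOn_iff.2 fun x hx hx' => by
    have hxY := hX'Y hx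
    have h1 : (⟨x, hxY.2⟩ : X) ∈ perp (restrictForm B X) (perp (restrictForm B X) U') := mem_perp.2 fun y hy => by
      rw [← hYperp, Submodule.mem_comap, ← hsup] at hy
      obtain ⟨a, ha, c, hc, hac⟩ := Submodule.mem_sup.1 hy
      show B (y : V) x = 0
      rw [show (y : V) = a + c from hac.symm, map_add, LinearMap.add_apply, mem_perp.1 hxY.1 a ha, hx' c hc, add_zero]
    rw [perp_perp_eq (B := restrictForm B X) (fun a b => hR _ _) (restrictForm_separatingRight hXn)] at h1
    exact Submodule.disjoint_def.1 hdis _ h1 hx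
  have hUpos : 0 < finrank F U := Nat.pos_of_ne_zero fun h0 => hU0 (Submodule.finrank_eq_zero.1 h0)
  have hlt' : finrank F X' < n := by
    have : finrank F Y ≤ finrank F X := Submodule.finrank_mono inf_le_right
    omega
  obtain ⟨W, hWX', hW, hWn, hWd⟩ := ih _ hlt' X' ((hX'Y.trans inf_le_right).trans hXE) hX' hX'n rfl
  have hperp : ∀ u ∈ U, ∀ w ∈ W, B u w = 0 := fun u hu w hw => mem_perp.1 (hX'Y (hWX' hw)).1 u hu
  refine ⟨U ⊔ W, sup_le hUX ((hWX'.trans hX'Y).trans inf_le_right), hU.sup hW,
    hUn.sup hWn hperp (fun u hu w hw => hR _ _ (hperp u hu w hw)), ?_⟩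
  rw [finrank_sup_of_disjoint (hdis.mono_right hWX')]
  omega

/-- The fixed space and the moved part are orthogonal and non-degenerate. -/
theorem moved_facts (hA : B.IsAlt) (hN : B.Nondegenerate) (hB : ∀ x y, B (L x) (L y) = B x y)
    {E : Submodule F V} (hc : IsCompl (L.eigenspace 1) E) (hE : Inv L E) :
    (∀ e ∈ E, ∀ z ∈ L.eigenspace 1, B e z = 0) ∧ NondegOn B E ∧ NondegOn B (L.eigenspace 1) := by
  have horth : ∀ e ∈ E, ∀ z ∈ L.eigenspace 1, B e z = 0 := fun e he z hz => by
    let T : E →ₗ[F] E := (L.restrict fun u hu' => hE.mem hu') - LinearMap.id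
    have hTa : ∀ y : E, (T y : V) = L y - y := fun y => rfl
    have hT : Function.Injective T := (injective_iff_map_eq_zero _).2 fun y hy => Subtype.ext <| by
      refine Submodule.disjoint_def.1 hc.disjoint _ ?_ y.2
      rw [Module.End.mem_eigenspace_iff, one_smul, ← sub_eq_zero, ← hTa, hy]
      rfl
    obtain ⟨y, hy⟩ := LinearMap.injective_iff_surjective.1 hT ⟨e, he⟩
    have h1 : L (y : V) - y = e := congrArg Subtype.val hy
    rw [Module.End.mem_eigenspace_iff, one_smul] at hz
    rw [← h1, map_sub, LinearMap.sub_apply]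
    conv_lhs => arg 1; rw [← hz]
    rw [hB, sub_self]
  have horth' : ∀ e ∈ E, ∀ z ∈ L.eigenspace 1, B z e = 0 := fun e he z hz => by
    rw [alt_swap hA, horth e he z hz, neg_zero]
  refine ⟨horth, nondegOn_iff.2 fun x hx hx' => hN.2 x fun v => ?_, nondegOn_iff.2 fun x hx hx' => hN.2 x fun v => ?_⟩ <;>
    obtain ⟨z, hz, e, he, rfl⟩ := Submodule.mem_sup.1 (hc.sup_eq_top ▸ Submodule.mem_top (x := v)) <;>
    rw [map_add, LinearMap.add_apply]
  · rw [horth' x hx z hz, hx' e he, add_zero]
  · rw [hx' z hz, horth e he x hx, add_zero]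

/-- A large null invariant subspace of the moved part. -/
theorem exists_null_moved (hr : (r : F) ≠ 0) (hA : B.IsAlt) (hB : ∀ x y, B (L x) (L y) = B x y) (hL : L ^ r = 1)
    (hs : Split L) {E : Submodule F V} (hd : Disjoint (L.eigenspace 1) E)
    (hu : Uniform L E (orderOf (Fintype.card F : ZMod r))) (hEn : NondegOn B E) :
    ∃ W : Submodule F V, W ≤ E ∧ Inv L W ∧ Null B W ∧
      finrank F E ≤ 2 * finrank F W + if Even (orderOf (Fintype.card F : ZMod r)) then r - 1 else 0 := by
  set i := orderOf (Fintype.card F : ZMod r) with hi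
  have hinj : Function.Injective L := Function.LeftInverse.injective (g := ⇑(L ^ (r - 1))) fun v => by
    rw [← Module.End.mul_apply, ← pow_succ, Nat.sub_add_cancel (Fact.out : r.Prime).one_le, hL, Module.End.one_apply]
  refine exists_null_large hA.isRefl hB hinj hs (fun X hXE hX hXn hlt => ?_) hu.inv hEn
  obtain ⟨S, hScard, hSprod, hS⟩ := exists_factors (F := F) (r := r) hr
  simp only [← hi] at hScard hS
  have hle : finrank F X ≤ ∑ g ∈ S, finrank F (X ⊓ LinearMap.ker (aeval L g) : Submodule F V) := by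
    refine le_trans ?_ (finrank_ker_prod_le hX S)
    rw [hSprod, inf_eq_left.2 (hXE.trans (le_ker_cyclotomic hL hu.inv hd))]
  by_contra hcon
  push Not at hcon
  have hbound : ∀ g ∈ S, finrank F (X ⊓ LinearMap.ker (aeval L g) : Submodule F V) ≤ if Even i then i else 0 := by
    intro g hg
    by_contra hgt
    have hK := hX.inf (inv_ker (L := L) g)
    refine absurd (exists_null hA hB hK (hS g hg).2.1 (fun x hx => hx.2) ?_) fun ⟨U, hUK, hU1, hU2, hU3⟩ =>
      hU3 (hcon U (hUK.trans inf_le_left) hU1 hU2)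
    rw [(hS g hg).2.2.1]
    split_ifs at hgt with hev
    · omega
    · have := Nat.le_of_dvd (by omega) (hu.dvd _ (inf_le_left.trans hXE) hK)
      have : i % 2 = 1 := Nat.odd_iff.1 (Nat.not_even_iff_odd.1 hev)
      omega
  have hsum := hle.trans (Finset.sum_le_card_nsmul _ _ _ hbound)
  rw [smul_eq_mul] at hsum
  split_ifs at hsum hlt with hev
  · omega
  · omega

/-- Null subspaces of the fixed space of all dimensions up to half. -/
theorem exists_null_fixed (hA : B.IsAlt) (hC : NondegOn B (L.eigenspace 1)) {b : ℕ}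
    (hb : 2 * b ≤ finrank F (L.eigenspace 1)) :
    ∃ U : Submodule F V, U ≤ L.eigenspace 1 ∧ Inv L U ∧ Null B U ∧ finrank F U = b := by
  set C := L.eigenspace 1
  obtain ⟨W, hWC, -, hWn, hWd⟩ := exists_null_large (L := (1 : Module.End F V)) (E := C) (σ := 0) hA.isRefl
    (fun x y => rfl) Function.injective_id
    (fun U _ => by obtain ⟨W, hW⟩ := exists_isCompl U; exact ⟨W, Inv.of_mem (fun u hu => hu), hW⟩)
    (fun X _ _ _ hlt => by
      obtain ⟨v, hv, hv0⟩ := Submodule.exists_mem_ne_zero_of_ne_bot fun h0 : X = ⊥ => by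
        rw [h0, finrank_bot] at hlt; exact lt_irrefl _ hlt
      refine ⟨Submodule.span F {v}, (Submodule.span_singleton_le_iff_mem _ _).2 hv, Inv.of_mem fun u hu => hu,
        fun x hx y hy => ?_, by simpa using hv0⟩
      obtain ⟨a, rfl⟩ := Submodule.mem_span_singleton.1 hx
      obtain ⟨c, rfl⟩ := Submodule.mem_span_singleton.1 hy
      simp [hA v])
    (Inv.of_mem fun u hu => hu) hC
  obtain ⟨f, hf⟩ := exists_linearIndependent_of_le_finrank (R := F) (M := W) (n := b) (by omega)
  let U := Submodule.span F (Set.range fun k => (f k : V))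
  have hUW : U ≤ W := Submodule.span_le.2 (by rintro _ ⟨k, rfl⟩; exact (f k).2)
  refine ⟨U, hUW.trans hWC, Inv.of_mem fun u hu => ?_, hWn.mono hUW,
    (finrank_span_eq_card (hf.map' W.subtype W.ker_subtype)).trans (Fintype.card_fin b)⟩
  have := hWC (hUW hu)
  rw [Module.End.mem_eigenspace_iff, one_smul] at this
  rwa [this]

/-- Existence of null invariant subspaces of a given dimension. -/
theorem exists_null_invariant (hr : (r : F) ≠ 0) (hA : B.IsAlt) (hN : B.Nondegenerate)
    (hB : ∀ x y, B (L x) (L y) = B x y) (hL : L ^ r = 1) {d m : ℕ} (hd : finrank F V = 2 * d)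
    (hmod : 2 * (m % orderOf (Fintype.card F : ZMod r)) ≤ (2 * d) %
      (if Even (orderOf (Fintype.card F : ZMod r)) then orderOf (Fintype.card F : ZMod r)
        else 2 * orderOf (Fintype.card F : ZMod r)))
    (hcount : Odd (orderOf (Fintype.card F : ZMod r)) ∨
      (r - 1) / orderOf (Fintype.card F : ZMod r) + 2 * (m / orderOf (Fintype.card F : ZMod r)) ≤
        (2 * d) / orderOf (Fintype.card F : ZMod r))
    (hmd : m ≤ d) :
    ∃ W : Submodule F V, finrank F W = m ∧ Null B W ∧ Inv L W := by
  obtain ⟨E, hc, hs, hu, -⟩ := exists_structure hr hL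
  obtain ⟨horth, hEn, hCn⟩ := moved_facts hA hN hB hc hu.inv
  obtain ⟨W₁, hW₁E, hW₁, hW₁n, hW₁d⟩ := exists_null_moved hr hA hB hL hs hc.disjoint hu hEn
  have hhalf := hW₁n.two_mul_le_on hA.isRefl hEn hW₁E
  have hdim := Submodule.finrank_add_eq_of_isCompl hc
  obtain ⟨j, hj⟩ := exists_sympBasis (restrictForm_isAlt hA E) (restrictForm_nondegenerate hA.isRefl hEn) |>.imp
    fun j h => (show Even (finrank F E) from by
      obtain ⟨bb, -⟩ := h; exact ⟨j, by rw [Module.finrank_eq_card_basis bb]; simp⟩)
  set i := orderOf (Fintype.card F : ZMod r) with hi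
  have hipos : 0 < i := hu.pos
  obtain ⟨T, hT⟩ := hu.dvd W₁ hW₁E hW₁
  obtain ⟨N, hNE⟩ := hu.dvd E le_rfl hu.inv
  have key : ∃ a, a * i ≤ m ∧ a ≤ T ∧ 2 * (m - a * i) + finrank F E ≤ 2 * d := by
    refine ⟨min (m / i) T, (Nat.mul_le_mul_right i (min_le_left _ _)).trans (Nat.div_mul_le_self m i),
      min_le_right _ _, ?_⟩
    have hm := Nat.div_add_mod m i
    rcases Nat.le_total (m / i) T with hle | hle
    · rw [min_eq_left hle]
      have : m - m / i * i = m % i := by rw [mul_comm] at hm; omega
      rw [this]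
      split_ifs at hmod with hev
      · obtain ⟨h, hh⟩ := hev
        have h1 := Nat.div_add_mod (2 * d) i
        have hNle : i * N ≤ i * ((2 * d) / i) :=
          Nat.mul_le_mul_left i ((Nat.le_div_iff_mul_le hipos).2 (by rw [mul_comm N i]; omega))
        omega
      · obtain ⟨g, hg⟩ : Even N := by
          obtain ⟨e, he⟩ := hj
          have h2 : Even (i * N) := ⟨e, by omega⟩
          rcases Nat.even_mul.1 h2 with h3 | h3
          · exact absurd h3 hev
          · exact h3
        have h1 := Nat.div_add_mod (2 * d) (2 * i)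
        have h4 : 2 * i * g ≤ 2 * i * ((2 * d) / (2 * i)) :=
          Nat.mul_le_mul_left _ ((Nat.le_div_iff_mul_le (by omega)).2 (by
            rw [show g * (2 * i) = i * N by rw [hg]; ring]; omega))
        rw [show 2 * i * g = i * N by rw [hg]; ring] at h4
        omega
    · rw [min_eq_right hle]
      have hTm : T * i ≤ m := (Nat.mul_le_mul_right i hle).trans (Nat.div_mul_le_self m i)
      rw [mul_comm i T] at hT
      rcases hcount with hodd | hcount
      · rw [if_neg (Nat.not_even_iff_odd.2 hodd)] at hW₁d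
        omega
      · split_ifs at hmod hW₁d with hev
        · have h1 := Nat.div_add_mod (2 * d) i
          have h2 := Nat.mul_le_mul_right i hcount
          rw [add_mul, Nat.div_mul_cancel, mul_assoc, mul_comm (m / i) i, mul_comm (2 * d / i) i] at h2
          · omega
          · exact orderOf_dvd_of_pow_eq_one (ZMod.pow_card_sub_one_eq_one fun h0 => by
              obtain ⟨n, hn, hn1⟩ := isOfFinOrder_iff_pow_eq_one.1 (orderOf_pos_iff.1 hipos)
              rw [h0, zero_pow hn.ne'] at hn1
              exact zero_ne_one hn1)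
        · omega
  obtain ⟨a, ham, haT, hab⟩ := key
  obtain ⟨U₁, hU₁W, hU₁, hU₁d⟩ := hu.exists_sub hs hW₁E hW₁ (k := a)
    (by rw [hT, mul_comm i T]; exact Nat.mul_le_mul_right i haT)
  obtain ⟨U₂, hU₂C, hU₂, hU₂n, hU₂d⟩ := exists_null_fixed hA hCn (b := m - a * i) (by omega)
  refine ⟨U₁ ⊔ U₂, ?_, (hW₁n.mono hU₁W).sup hU₂n (fun u hu' w hw => horth u (hW₁E (hU₁W hu')) w (hU₂C hw))
    (fun u hu' w hw => by rw [alt_swap hA, horth u (hW₁E (hU₁W hu')) w (hU₂C hw), neg_zero]), hU₁.sup hU₂⟩
  rw [finrank_sup_of_disjoint (hc.disjoint.symm.mono (hU₁W.trans hW₁E) hU₂C), hU₁d, hU₂d]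
  omega

end CfsgLib.Derangements.NullInv
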