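import Cfsg.Agent.Lib.Orth.Classify
import Cfsg.Agent.Lib.Orth.Stab
import Mathlib.Algebra.QuadraticAlgebra.Basic
import Mathlib.FieldTheory.Finite.Basic

/-!
# Self-adjoint square roots of a non-square: the form over the quadratic extension
-/

set_option autoImplicit false
set_option linter.unusedSectionVars false

namespace CfsgLib.Derangements.OrthField

open Module QuadraticMap

/-- A self-adjoint map with scalar square. -/
def IsSJ {F V : Type*} [Field F] [AddCommGroup V] [Module F V] (Q : QuadraticForm F V) (δ : F)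
    (J : Module.End F V) : Prop :=
  (∀ v, J (J v) = δ • v) ∧ ∀ u v, polar Q (J u) v = polar Q u (J v)

section Field

variable {F : Type*} [Field F] {δ : F}

/-- The quadratic extension. -/
abbrev Ext (δ : F) : Type _ := QuadraticAlgebra F δ 0

theorem fact_ext (hδ : ¬ IsSquare δ) : Fact (∀ r : F, r ^ 2 ≠ δ + 0 * r) :=
  ⟨fun r h => hδ ⟨r, by linear_combination -h⟩⟩

instance [Finite F] : Finite (Ext δ) := Finite.of_equiv (F × F) (QuadraticAlgebra.equivProd δ 0).symm

theorem natCard_ext : Nat.card (Ext δ) = Nat.card F ^ 2 := by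
  rw [Nat.card_congr (QuadraticAlgebra.equivProd δ 0), Nat.card_prod, _root_.sq]

theorem two_ne_zero_ext [Fact (∀ r : F, r ^ 2 ≠ δ + 0 * r)] (h2 : (2 : F) ≠ 0) : (2 : Ext δ) ≠ 0 := fun h => h2 <| by
  have h' : algebraMap F (Ext δ) 2 = 0 := by rw [map_ofNat]; exact h
  exact (algebraMap F (Ext δ)).injective (h'.trans (map_zero _).symm)

theorem isSquare_neg_one_ext [Finite F] [Fact (∀ r : F, r ^ 2 ≠ δ + 0 * r)] (h2 : (2 : F) ≠ 0) :
    IsSquare (-1 : Ext δ) := by
  haveI := Fintype.ofFinite (Ext δ)
  haveI := Fintype.ofFinite F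
  rw [FiniteField.isSquare_neg_one_iff, ← Nat.card_eq_fintype_card, natCard_ext, Nat.card_eq_fintype_card]
  have hodd := FiniteField.odd_card_of_char_ne_two (F := F) fun e => h2 (by
    have := ringChar.Nat.cast_ringChar (R := F)
    rw [e] at this
    simpa using this)
  intro h
  rw [Nat.pow_mod] at h
  rcases (by omega : Fintype.card F % 4 = 1 ∨ Fintype.card F % 4 = 3) with h1 | h1 <;> rw [h1] at h <;> simp at h

/-- Squares are detected by the norm. -/
theorem isSquare_norm_iff [Finite F] [Fact (∀ r : F, r ^ 2 ≠ δ + 0 * r)] (h2 : (2 : F) ≠ 0) {w : Ext δ} (hw : w ≠ 0) :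
    IsSquare (QuadraticAlgebra.norm w) ↔ IsSquare w := by
  classical
  constructor
  · intro hN
    by_contra hw'
    haveI := Fintype.ofFinite (Ext δ)
    haveI := Fintype.ofFinite F
    have hδ : ¬ IsSquare δ := fun ⟨r, hr⟩ => (Fact.out : ∀ r : F, r ^ 2 ≠ δ + 0 * r) r (by rw [hr]; ring)
    have hδ0 : δ ≠ 0 := fun e => hδ (e ▸ IsSquare.zero)
    obtain ⟨a, b, hab⟩ := FiniteField.exists_root_sum_quadratic (R := F)
      (f := Polynomial.C (1 : F) * Polynomial.X ^ 2) (g := Polynomial.C (-δ) * Polynomial.X ^ 2 - Polynomial.C δ)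
      (Polynomial.degree_C_mul_X_pow 2 one_ne_zero)
      (by rw [Polynomial.degree_sub_C (by rw [Polynomial.degree_C_mul_X_pow 2 (neg_ne_zero.2 hδ0)]; norm_num),
        Polynomial.degree_C_mul_X_pow 2 (neg_ne_zero.2 hδ0)]; rfl)
      (FiniteField.odd_card_of_char_ne_two fun e => h2 (by
        have := ringChar.Nat.cast_ringChar (R := F)
        rw [e] at this
        simpa using this))
    simp only [Polynomial.eval_sub, Polynomial.eval_mul, Polynomial.eval_C, Polynomial.eval_pow,
      Polynomial.eval_X] at hab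
    set z : Ext δ := ⟨a, b⟩
    have hz : QuadraticAlgebra.norm z = δ := by rw [QuadraticAlgebra.norm_def]; linear_combination hab
    have hz0 : z ≠ 0 := fun e => hδ0 (by rw [← hz, e, QuadraticAlgebra.norm_zero])
    have hz' : ¬ IsSquare z := fun hs => hδ (hz ▸ hs.map (QuadraticAlgebra.norm (R := F) (a := δ) (b := 0)))
    have hzw : IsSquare (z * w) := by
      rw [← quadraticChar_one_iff_isSquare (mul_ne_zero hz0 hw), map_mul,
        quadraticChar_neg_one_iff_not_isSquare.2 hz', quadraticChar_neg_one_iff_not_isSquare.2 hw']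
      norm_num
    obtain ⟨s, hs⟩ := hzw.map (QuadraticAlgebra.norm (R := F) (a := δ) (b := 0))
    obtain ⟨t, ht⟩ := hN
    rw [map_mul, hz, ht] at hs
    have ht0 : t ≠ 0 := fun e => hw (QuadraticAlgebra.norm_eq_zero_iff_eq_zero.1 (by rw [ht, e, mul_zero]))
    exact hδ ⟨s / t, by field_simp; linear_combination hs⟩
  · exact fun h => h.map (QuadraticAlgebra.norm (R := F) (a := δ) (b := 0))

end Field

section Diag

variable {K : Type*} [Field K] [Fintype K]

/-- An orthogonal basis with all values one but the last, which is one or a prescribed non-square. -/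
theorem exists_diag (h2 : (2 : K) ≠ 0) {ν : K} (hν : ¬ IsSquare ν) : ∀ (n : ℕ) {W : Type*} [AddCommGroup W] [Module K W]
    [FiniteDimensional K W] (Φ : QuadraticForm K W), (polarBilin Φ).Nondegenerate → finrank K W = n + 1 →
    ∃ b : Basis (Fin (n + 1)) K W, (∀ i j, i ≠ j → polar Φ (b i) (b j) = 0) ∧
      (∀ i, i ≠ Fin.last n → Φ (b i) = 1) ∧ (Φ (b (Fin.last n)) = 1 ∨ Φ (b (Fin.last n)) = ν)
  | 0, W, _, _, _, Φ, hΦ, hd => by
    classical
    obtain ⟨v, hv⟩ : ∃ v, Φ v ≠ 0 := by
      by_contra! hall
      haveI : Nontrivial W := Module.nontrivial_of_finrank_pos (R := K) (by omega)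
      obtain ⟨u, hu⟩ := exists_ne (0 : W)
      exact hu (hΦ.1 u fun z => by rw [polarBilin_apply_apply]; simp [polar, hall])
    have hν0 : ν ≠ 0 := fun e => hν (e ▸ IsSquare.zero)
    obtain ⟨s, hs0, hs⟩ : ∃ s : K, s ≠ 0 ∧ (Φ (s • v) = 1 ∨ Φ (s • v) = ν) := by
      by_cases hsq : IsSquare (Φ v)
      · obtain ⟨t, ht⟩ := hsq
        have ht0 : t ≠ 0 := fun e => hv (by rw [ht, e, mul_zero])
        exact ⟨t⁻¹, inv_ne_zero ht0, Or.inl (by rw [QuadraticMap.map_smul, ht, smul_eq_mul]; field_simp)⟩
      · obtain ⟨t, ht⟩ : IsSquare (ν * Φ v) := by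
          rw [← quadraticChar_one_iff_isSquare (mul_ne_zero hν0 hv), map_mul,
            quadraticChar_neg_one_iff_not_isSquare.2 hν, quadraticChar_neg_one_iff_not_isSquare.2 hsq]
          norm_num
        have ht0 : t ≠ 0 := fun e => mul_ne_zero hν0 hv (by rw [ht, e, mul_zero])
        refine ⟨t / Φ v, div_ne_zero ht0 hv, Or.inr ?_⟩
        rw [QuadraticMap.map_smul, smul_eq_mul]
        field_simp
        linear_combination -ht
    have hv0 : s • v ≠ 0 := fun e => by
      rw [e, QuadraticMap.map_zero] at hs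
      exact hs.elim zero_ne_one (fun e => hν0 e.symm)
    haveI : Unique (Fin (0 + 1)) := inferInstanceAs (Unique (Fin 1))
    refine ⟨Basis.mk (v := fun _ : Fin (0 + 1) => s • v) (linearIndependent_unique_iff.2 hv0) ?_, ?_, ?_, ?_⟩
    · refine le_of_eq (Eq.symm (Submodule.eq_top_of_finrank_eq ?_))
      rw [Set.range_const, finrank_span_singleton hv0, hd]
    · exact fun i j h => absurd (Subsingleton.elim i j) h
    · exact fun i h => absurd (Subsingleton.elim i _) h
    · rw [Basis.coe_mk]; exact hs
  | n + 1, W, _, _, _, Φ, hΦ, hd => by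
    classical
    obtain ⟨v, -, hv⟩ := Orth.exists_value (Q := Φ) ⊤ (by
      have hbot : (⊤ : Submodule K W) ⊓ LinearMap.BilinForm.orthogonal (polarBilin Φ) ⊤ = ⊥ := by
        rw [Submodule.eq_bot_iff]
        rintro x ⟨-, hx⟩
        exact hΦ.2 x fun z => hx z trivial
      rw [hbot, finrank_bot, finrank_top, hd]; omega) 1
    have hv2 : polar Φ v v = 2 := by rw [Orth.polar_self', hv, mul_one]
    have hv0 : v ≠ 0 := fun e => zero_ne_one (α := K) (by rw [← hv, e, QuadraticMap.map_zero])
    set P : Submodule K W := LinearMap.ker (polarBilin Φ v)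
    have hmemP : ∀ x, x ∈ P ↔ polar Φ v x = 0 := fun x => LinearMap.mem_ker
    have hdec : ∀ x, x - (polar Φ v x / 2) • v ∈ P := fun x => by
      rw [hmemP, polar_sub_right, Orth.polar_smul_r', hv2, div_mul_cancel₀ _ h2, sub_self]
    have hdP : finrank K P = n + 1 := by
      have hsurj : LinearMap.range (polarBilin Φ v) = ⊤ := LinearMap.range_eq_top.2 fun c =>
        ⟨(c / 2) • v, by rw [map_smul, polarBilin_apply_apply, hv2, smul_eq_mul, div_mul_cancel₀ _ h2]⟩
      have := LinearMap.finrank_range_add_finrank_ker (polarBilin Φ v)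
      rw [hsurj, finrank_top, Module.finrank_self, hd] at this
      change 1 + finrank K P = _ at this
      omega
    have hPn : (polarBilin (Φ.comp P.subtype)).Nondegenerate := Orth.nondegenerate_of_left fun x hx =>
      Subtype.ext (hΦ.1 _ fun z => by
        rw [polarBilin_apply_apply]
        have h1 := hx ⟨_, hdec z⟩
        change polar Φ (x : W) (z - (polar Φ v z / 2) • v) = 0 at h1
        rw [polar_sub_right, Orth.polar_smul_r'] at h1
        rw [show polar Φ (x : W) v = 0 by rw [polar_comm]; exact (hmemP _).1 x.2, mul_zero, sub_zero] at h1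
        exact h1)
    obtain ⟨b, hbo, hb1, hbl⟩ := exists_diag h2 hν n (Φ.comp P.subtype) hPn hdP
    refine ⟨Basis.mkFinCons v b (fun c x hx h => ?_) (fun z => ⟨-(polar Φ v z / 2), ?_⟩), ?_, ?_, ?_⟩
    · have h1 := congrArg (polar Φ v) h
      rw [polar_add_right, Orth.polar_smul_r', hv2, (hmemP x).1 hx, add_zero, polar_zero_right] at h1
      exact (mul_eq_zero.1 h1).resolve_right h2
    · rw [neg_smul, ← sub_eq_add_neg]; exact hdec z
    · intro i j hij
      rw [Basis.coe_mkFinCons]
      cases i using Fin.cases with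
      | zero =>
        cases j using Fin.cases with
        | zero => exact absurd rfl hij
        | succ j => exact (hmemP _).1 (b j).2
      | succ i =>
        cases j using Fin.cases with
        | zero => rw [polar_comm]; exact (hmemP _).1 (b i).2
        | succ j =>
          have := hbo i j fun e => hij (congrArg Fin.succ e)
          exact this
    · intro i hi
      rw [Basis.coe_mkFinCons]
      cases i using Fin.cases with
      | zero => exact hv
      | succ i => exact hb1 i fun e => hi (by rw [e, Fin.succ_last])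
    · rw [Basis.coe_mkFinCons, ← Fin.succ_last, Fin.cons_succ]
      exact hbl

end Diag

section Module

variable {F : Type*} [Field F] {δ : F} {V : Type*} [AddCommGroup V] [Module F V]
  [Module (Ext δ) V] [IsScalarTower F (Ext δ) V] {Q : QuadraticForm F V} {J : Module.End F V}

theorem smul_eq (hω : ∀ v, (⟨0, 1⟩ : Ext δ) • v = J v) (c : Ext δ) (v : V) : c • v = c.re • v + c.im • J v := by
  have : c = algebraMap F (Ext δ) c.re + algebraMap F (Ext δ) c.im * ⟨0, 1⟩ := by ext <;> simp
  conv_lhs => rw [this]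
  rw [add_smul, mul_smul, hω, algebraMap_smul, algebraMap_smul]

variable (hJ : IsSJ Q δ J) (hω : ∀ v, (⟨0, 1⟩ : Ext δ) • v = J v)
include hJ hω

/-- The bilinear form over the quadratic extension. -/
def extBil : LinearMap.BilinForm (Ext δ) V :=
  LinearMap.mk₂ (Ext δ) (fun u v => ⟨polar Q u (J v), polar Q u v⟩)
    (fun u u' v => by ext <;> simp [polar_add_left])
    (fun c u v => by
      ext <;> simp [smul_eq hω c u, polar_add_left, Orth.polar_smul_l', hJ.2 u, hJ.1, Orth.polar_smul_r'] <;> ring)
    (fun u v v' => by ext <;> simp [polar_add_right, map_add])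
    (fun c u v => by
      ext <;> simp [smul_eq hω c v, polar_add_right, map_add, map_smul, Orth.polar_smul_r', hJ.1] <;> ring)

theorem extBil_apply (u v : V) : extBil hJ hω u v = ⟨polar Q u (J v), polar Q u v⟩ := rfl

theorem extBil_comm (u v : V) : extBil hJ hω u v = extBil hJ hω v u := by
  rw [extBil_apply, extBil_apply]
  ext
  · show polar Q u (J v) = polar Q v (J u)
    rw [← hJ.2, polar_comm]
  · exact polar_comm _ _ _

/-- The quadratic form over the quadratic extension. -/
noncomputable def extForm : QuadraticForm (Ext δ) V := LinearMap.BilinMap.toQuadraticMap (extBil hJ hω)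

theorem extForm_apply (v : V) : extForm hJ hω v = ⟨polar Q v (J v), polar Q v v⟩ := rfl

theorem extForm_polar (u v : V) : polar (extForm hJ hω) u v = 2 * extBil hJ hω u v := by
  rw [extForm, LinearMap.BilinMap.polar_toQuadraticMap, extBil_comm hJ hω v u, two_mul]

theorem extForm_nondeg [Fact (∀ r : F, r ^ 2 ≠ δ + 0 * r)] (h2 : (2 : F) ≠ 0) (hQ : (polarBilin Q).Nondegenerate) :
    (polarBilin (extForm hJ hω)).Nondegenerate :=
  Orth.nondegenerate_of_left fun u hu => hQ.1 u fun v => by
    have h := (mul_eq_zero.1 ((extForm_polar hJ hω u v).symm.trans (hu v))).resolve_left (two_ne_zero_ext h2)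
    exact congrArg QuadraticAlgebra.im h

end Module

end CfsgLib.Derangements.OrthField
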