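import Cfsg.Agent.Lib.Derangements.OrthFieldExtBasic
import Cfsg.Agent.Lib.Derangements.OrthInvariantWitness
import Mathlib.FieldTheory.Galois.Basic

/-!
# A self-adjoint square root of a non-square commutes with no small fixed-point-free block
-/

set_option autoImplicit false
set_option linter.unusedSectionVars false

namespace CfsgLib.Derangements.OrthField

open Module Polynomial CfsgLib.Classical CfsgLib.Derangements.LinElusive CfsgLib.Derangements.NullInv
  CfsgLib.Derangements.OrthInv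

variable {F : Type*} [Field F] [Fintype F] {W : Type*} [AddCommGroup W] [Module F W] [FiniteDimensional F W]
  {r : ℕ} [Fact r.Prime] {Y J : Module.End F W} {δ : F}

theorem aeval_comm (hJ : ∀ w, J (Y w) = Y (J w)) (P : F[X]) (w : W) : J (aeval Y P w) = aeval Y P (J w) := by
  induction P using Polynomial.induction_on' with
  | add f g hf hg => simp [map_add, hf, hg]
  | monomial k c =>
    simp only [aeval_monomial, Module.End.mul_apply, Module.algebraMap_end_apply, map_smul]
    congr 1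
    induction k with
    | zero => rfl
    | succ k ih => rw [pow_succ', Module.End.mul_apply, Module.End.mul_apply, hJ, ih]

/-- A commuting map on an irreducible module is a polynomial. -/
theorem exists_poly (hirr : ∀ U, Inv Y U → U ≠ ⊥ → U = ⊤) (hJ : ∀ w, J (Y w) = Y (J w)) :
    ∃ P : F[X], J = aeval Y P := by
  by_cases hW : ∀ w : W, w = 0
  · exact ⟨0, LinearMap.ext fun w => by rw [hW w, map_zero, map_zero]⟩
  push Not at hW
  obtain ⟨u, hu⟩ := hW
  let ev : F[X] →ₗ[F] W :=
    { toFun := fun P => aeval Y P u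
      map_add' := fun P P' => by simp
      map_smul' := fun t P => by simp }
  have htop : LinearMap.range ev = ⊤ := by
    refine hirr _ (Inv.of_mem ?_) fun h => hu ?_
    · rintro _ ⟨P, rfl⟩
      exact ⟨X * P, by simp [ev, map_mul]⟩
    · have h1 : ev 1 ∈ LinearMap.range ev := ⟨1, rfl⟩
      rw [h] at h1
      simpa [ev] using h1
  have hcomm := aeval_comm (J := J) hJ
  obtain ⟨P, hP⟩ : J u ∈ LinearMap.range ev := htop ▸ Submodule.mem_top
  refine ⟨P, LinearMap.ext fun w => ?_⟩
  obtain ⟨R, rfl⟩ : w ∈ LinearMap.range ev := htop ▸ Submodule.mem_top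
  show J (aeval Y R u) = aeval Y P (aeval Y R u)
  rw [hcomm]
  have hP' : aeval Y P u = J u := hP
  rw [← hP', ← Module.End.mul_apply, ← map_mul, mul_comm, map_mul, Module.End.mul_apply]

theorem aeval_pow_card {A : Type*} [Ring A] [Algebra F A] (x : A) (P : F[X]) :
    ∀ k : ℕ, aeval x P ^ (Fintype.card F ^ k) = aeval (x ^ (Fintype.card F ^ k)) P
  | 0 => by simp
  | k + 1 => by
    rw [pow_succ, pow_mul, aeval_pow_card x P k, ← map_pow, ← FiniteField.expand_card, expand_aeval, ← pow_mul]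

theorem pow_card_of_sq (h2 : (2 : F) ≠ 0) (hδ : ¬ IsSquare δ) {A : Type*} [Ring A] [Algebra F A] {j : A}
    (hj : j * j = δ • (1 : A)) : ∀ k : ℕ, j ^ (Fintype.card F ^ k) = (-1 : F) ^ k • j
  | 0 => by simp
  | k + 1 => by
    have hchar : ringChar F ≠ 2 := fun e => h2 (by
      have := ringChar.Nat.cast_ringChar (R := F)
      rw [e] at this
      simpa using this)
    have hodd := FiniteField.odd_card_of_char_ne_two hchar
    have hδ0 : δ ≠ 0 := fun e => hδ (e ▸ IsSquare.zero)
    have hδq : δ ^ (Fintype.card F / 2) = -1 :=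
      (FiniteField.pow_dichotomy hchar hδ0).resolve_left fun e => hδ ((FiniteField.isSquare_iff hchar hδ0).2 e)
    have hj1 : j ^ Fintype.card F = -j := by
      rw [show Fintype.card F = 2 * (Fintype.card F / 2) + 1 by omega, pow_succ, pow_mul, pow_two, hj, _root_.smul_pow,
        one_pow, hδq, Algebra.smul_mul_assoc, one_mul, neg_one_smul]
    rw [pow_succ, pow_mul, pow_card_of_sq h2 hδ hj k, _root_.smul_pow, hj1, ← pow_mul, mul_comm k, pow_mul,
      FiniteField.pow_card, smul_neg, pow_succ, mul_neg, mul_one, neg_smul]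

theorem pow_eq_of_cast {M : Type*} [Monoid M] {y : M} (hy : y ^ r = 1) {m n : ℕ} (h : (m : ZMod r) = n) :
    y ^ m = y ^ n := pow_eq_pow_of_modEq ((ZMod.natCast_eq_natCast_iff _ _ _).1 h) hy

theorem false_of_smul_neg [Nontrivial W] (h2 : (2 : F) ≠ 0) (hδ : ¬ IsSquare δ) (hJ : ∀ w, J (J w) = δ • w)
    (h : (-1 : F) • J = J) : False := by
  obtain ⟨w, hw⟩ := exists_ne (0 : W)
  have h1 := LinearMap.congr_fun h w
  rw [LinearMap.smul_apply, neg_one_smul] at h1
  have h0 : J w = 0 := by
    have h3 : (2 : F) • J w = 0 := by rw [two_smul]; nth_rewrite 1 [← h1]; exact neg_add_cancel _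
    exact (smul_eq_zero.1 h3).resolve_left h2
  have h4 := hJ w
  rw [h0, map_zero, eq_comm, smul_eq_zero] at h4
  exact h4.elim (fun e => hδ (e ▸ IsSquare.zero)) hw

variable {R : QuadraticForm F W}

theorem polar_aeval (hR : ∀ w, R (Y w) = R w) (hY : Y ^ r = 1) (P : F[X]) (u v : W) :
    QuadraticMap.polar R (aeval (Y ^ (r - 1)) P u) v = QuadraticMap.polar R u (aeval Y P v) := by
  have h1 : ∀ u v, QuadraticMap.polar R ((Y ^ (r - 1)) u) v = QuadraticMap.polar R u (Y v) := fun u v => by
    have h := polar_map (Q := R) hR ((Y ^ (r - 1)) u) v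
    simp only [QuadraticMap.polarBilin_apply_apply] at h
    rw [← h, ← Module.End.mul_apply, ← pow_succ', Nat.sub_add_cancel (Fact.out : r.Prime).one_le, hY,
      Module.End.one_apply]
  induction P using Polynomial.induction_on' generalizing u v with
  | add f g hf hg =>
    simp only [map_add, LinearMap.add_apply, QuadraticMap.polar_add_left, QuadraticMap.polar_add_right, hf, hg]
  | monomial k c =>
    simp only [aeval_monomial, Module.End.mul_apply, Module.algebraMap_end_apply, Orth.polar_smul_l',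
      Orth.polar_smul_r']
    congr 1
    induction k generalizing u v with
    | zero => rfl
    | succ k ih =>
      rw [pow_succ', pow_succ, Module.End.mul_apply, Module.End.mul_apply, h1, ih]

/-- No odd-degree factor kills a fixed-point-free isometry. -/
theorem aeval_ne_zero_of_odd [Nontrivial W] (hr2 : Odd r) (hN : (QuadraticMap.polarBilin R).Nondegenerate)
    (hR : ∀ w, R (Y w) = R w) (hY : Y ^ r = 1) (hfix : ∀ w, Y w = w → w = 0) {g : F[X]} (hg : Irreducible g)
    (hodd : Odd g.natDegree) : aeval Y g ≠ 0 := by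
  intro h0
  haveI := Fact.mk hg
  have hr1 := (Fact.out : r.Prime).one_le
  have hdvd : ∀ P : F[X], aeval Y P = 0 → g ∣ P := fun P hP => by
    by_contra hnd
    obtain ⟨a, b, hab⟩ := hg.coprime_iff_not_dvd.2 hnd
    have := congrArg (aeval Y) hab
    rw [map_add, map_mul, map_mul, h0, hP, mul_zero, mul_zero, add_zero, map_one] at this
    exact zero_ne_one this
  have h0' : aeval (Y ^ (r - 1)) g = 0 := LinearMap.ext fun u => hN.1 _ fun v => by
    rw [QuadraticMap.polarBilin_apply_apply, polar_aeval hR hY, h0, LinearMap.zero_apply,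
      QuadraticMap.polar_zero_right]
  set ρ := AdjoinRoot.root g
  have hroot : aeval (ρ ^ (r - 1)) g = 0 := by
    have h1 : g ∣ g.comp (X ^ (r - 1)) := hdvd _ (by rw [aeval_comp, map_pow, aeval_X]; exact h0')
    have h2 : aeval ρ (g.comp (X ^ (r - 1))) = 0 := by rw [AdjoinRoot.aeval_eq]; exact AdjoinRoot.mk_eq_zero.2 h1
    rwa [aeval_comp, map_pow, aeval_X] at h2
  let σ : AdjoinRoot g →ₐ[F] AdjoinRoot g := AdjoinRoot.liftAlgHom g (Algebra.ofId F _) (ρ ^ (r - 1)) hroot
  have hσ : σ ρ = ρ ^ (r - 1) := AdjoinRoot.liftAlgHom_root g (Algebra.ofId F _) _ hroot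
  have hρr : ρ ^ r = 1 := by
    have h1 : g ∣ X ^ r - 1 := hdvd _ (by simp [hY])
    have h2 : aeval ρ (X ^ r - 1 : F[X]) = 0 := by rw [AdjoinRoot.aeval_eq]; exact AdjoinRoot.mk_eq_zero.2 h1
    simpa [sub_eq_zero] using h2
  have hσσ : σ.comp σ = AlgHom.id F _ := AdjoinRoot.algHom_ext (by
    show σ (σ ρ) = ρ
    rw [hσ, map_pow, hσ, ← pow_mul]
    refine (pow_eq_of_cast (n := 1) hρr ?_).trans (pow_one ρ)
    push_cast [Nat.cast_sub hr1]
    simp)
  let τ : AdjoinRoot g ≃ₐ[F] AdjoinRoot g := AlgEquiv.ofAlgHom σ σ hσσ hσσ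
  haveI : Module.Finite F (AdjoinRoot g) := (AdjoinRoot.powerBasis hg.ne_zero).finite
  haveI : Finite (AdjoinRoot g) := Module.finite_of_finite F
  have hcard : Nat.card (AdjoinRoot g ≃ₐ[F] AdjoinRoot g) = g.natDegree := by
    rw [IsGalois.card_aut_eq_finrank, (AdjoinRoot.powerBasis hg.ne_zero).finrank, AdjoinRoot.powerBasis_dim]
  have hτ2 : τ ^ 2 = 1 := by rw [pow_two]; exact AlgEquiv.ext fun x => AlgHom.congr_fun hσσ x
  have hτ : τ = 1 := by
    have h1 : orderOf τ ∣ g.natDegree := hcard ▸ orderOf_dvd_natCard τ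
    have h2 := Nat.dvd_gcd (orderOf_dvd_of_pow_eq_one hτ2) h1
    rw [(Nat.coprime_two_left.2 hodd).gcd_eq_one] at h2
    exact orderOf_eq_one_iff.1 (Nat.dvd_one.1 h2)
  have hfixρ : ρ ^ (r - 1) = ρ := hσ.symm.trans (AlgEquiv.congr_fun hτ ρ)
  have h3 : aeval Y (X ^ (r - 1) - X : F[X]) = 0 := by
    have h4 : g ∣ X ^ (r - 1) - X := by
      rw [← AdjoinRoot.mk_eq_zero, ← AdjoinRoot.aeval_eq]
      simp [ρ, hfixρ]
    obtain ⟨c, hc⟩ := h4
    rw [hc, map_mul, h0, zero_mul]
  rw [map_sub, map_pow, aeval_X, sub_eq_zero] at h3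
  have hY2 : Y ^ 2 = 1 := by
    rw [pow_two]; nth_rewrite 1 [← h3]
    rw [← pow_succ, Nat.sub_add_cancel hr1, hY]
  have hY1 : Y = 1 := by
    have := pow_gcd_eq_one.2 ⟨hY2, hY⟩
    rwa [(Nat.coprime_two_left.2 hr2).gcd_eq_one, pow_one] at this
  obtain ⟨w, hw⟩ := exists_ne (0 : W)
  exact hw (hfix w (by rw [hY1, Module.End.one_apply]))

theorem top_of_fix (hr : (r : F) ≠ 0) (hY : Y ^ r = 1) (hfix : ∀ w, Y w = w → w = 0) :
    Uniform Y ⊤ (orderOf (Fintype.card F : ZMod r)) := by
  obtain ⟨E, hc, -, hu, -⟩ := exists_structure hr hY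
  have hbot : Y.eigenspace 1 = ⊥ := eq_bot_iff.2 fun v hv => by
    rw [Module.End.mem_eigenspace_iff, one_smul] at hv
    exact hfix v hv
  have hE : E = ⊤ := by simpa [hbot] using hc.sup_eq_top
  exact hE ▸ hu

/-- A block of twice odd dimension. -/
theorem false_of_odd (h2 : (2 : F) ≠ 0) (hr : (r : F) ≠ 0) (hr2 : Odd r) (hδ : ¬ IsSquare δ)
    (hN : (QuadraticMap.polarBilin R).Nondegenerate) (hR : ∀ w, R (Y w) = R w) (hY : Y ^ r = 1)
    (hfix : ∀ w, Y w = w → w = 0) (hJ : IsSJ R δ J) (hJY : ∀ w, J (Y w) = Y (J w))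
    (he : Odd (orderOf (Fintype.card F : ZMod r)))
    (hd : finrank F W = 2 * orderOf (Fintype.card F : ZMod r)) : False := by
  classical
  set e := orderOf (Fintype.card F : ZMod r)
  haveI : Nontrivial W := Module.nontrivial_of_finrank_pos (R := F) (by have := he.pos; omega)
  have hu := top_of_fix hr hY hfix
  obtain ⟨S, -, hSprod, hS⟩ := exists_factors (F := F) (r := r) hr
  obtain ⟨g, hg, hne⟩ : ∃ g ∈ S, LinearMap.ker (aeval Y g) ≠ ⊥ := by
    by_contra hcon
    push Not at hcon
    have h1 := finrank_ker_prod_le hu.inv S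
    have hd1 : Disjoint (Y.eigenspace 1) ⊤ := Submodule.disjoint_def.2 fun w hw _ => hfix w (by
      rwa [Module.End.mem_eigenspace_iff, one_smul] at hw)
    rw [hSprod, inf_eq_left.2 (le_ker_cyclotomic hY hu.inv hd1),
      Finset.sum_eq_zero fun g hg => Submodule.finrank_eq_zero.2 (by rw [top_inf_eq]; exact hcon g hg),
      finrank_top, hd] at h1
    have := he.pos
    omega
  set K := LinearMap.ker (aeval Y g)
  have hKY : Inv Y K := inv_ker g
  have hKtop : K ≠ ⊤ := fun h =>
    aeval_ne_zero_of_odd hr2 hN hR hY hfix (hS g hg).1 (by rw [(hS g hg).2.2.1]; exact he) (LinearMap.ker_eq_top.1 h)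
  have hKd : finrank F K = e := by
    obtain ⟨t, ht⟩ := hu.dvd K le_top hKY
    have hlt : finrank F K < finrank F W := Submodule.finrank_lt hKtop
    have hpos : 0 < finrank F K := Nat.pos_of_ne_zero fun h0 => hne (Submodule.finrank_eq_zero.1 h0)
    change finrank F K = e * t at ht
    have h1 : t < 2 := by
      by_contra h'
      have : e * 2 ≤ e * t := Nat.mul_le_mul_left e (by omega)
      omega
    rcases (by omega : t = 0 ∨ t = 1) with rfl | rfl <;> omega
  have hJK : ∀ w ∈ K, J w ∈ K := fun w hw => by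
    rw [LinearMap.mem_ker] at hw ⊢
    rw [← aeval_comm hJY, hw, map_zero]
  set Y' := Y.restrict fun w hw => hKY.mem (u := w) hw
  set J' := J.restrict hJK
  have hirr : ∀ U, Inv Y' U → U ≠ ⊥ → U = ⊤ := fun U hU hU0 => by
    have hUm : Inv Y (U.map K.subtype) := Inv.of_mem (by
      rintro _ ⟨u, hu', rfl⟩
      exact ⟨Y' u, hU.mem hu', rfl⟩)
    have h1 := hu.dvd _ le_top hUm
    rw [← (Submodule.equivMapOfInjective K.subtype K.injective_subtype U).finrank_eq] at h1
    have h3 : finrank F U ≠ 0 := fun h => hU0 (Submodule.finrank_eq_zero.1 h)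
    have h4 := Submodule.finrank_le U
    have h5 := Nat.le_of_dvd (Nat.pos_of_ne_zero h3) h1
    exact Submodule.eq_top_of_finrank_eq (by omega)
  obtain ⟨P, hP⟩ := exists_poly (Y := Y') (J := J') hirr (fun w => Subtype.ext (hJY w))
  have hY' : Y' ^ r = 1 := LinearMap.ext fun w => Subtype.ext (by
    rw [Module.End.pow_restrict]
    show (Y ^ r) w = w
    rw [hY, Module.End.one_apply])
  have hJ' : ∀ w, J' (J' w) = δ • w := fun w => Subtype.ext (hJ.1 w)
  haveI : Nontrivial K := Module.nontrivial_of_finrank_pos (R := F) (by have := he.pos; omega)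
  refine false_of_smul_neg h2 hδ hJ' ?_
  have hjj : J' * J' = δ • (1 : Module.End F K) := LinearMap.ext fun w => hJ' w
  have h1 := pow_card_of_sq h2 hδ hjj e
  rw [he.neg_one_pow] at h1
  rw [← h1]
  conv_rhs => rw [hP]
  rw [hP, aeval_pow_card, pow_eq_of_cast (n := 1) hY' (by push_cast; exact pow_orderOf_eq_one _), pow_one]

/-- An irreducible block of dimension twice an odd number. -/
theorem false_of_twice_odd (h2 : (2 : F) ≠ 0) (hr : (r : F) ≠ 0) (hδ : ¬ IsSquare δ)
    (hN : (QuadraticMap.polarBilin R).Nondegenerate) (hR : ∀ w, R (Y w) = R w) (hY : Y ^ r = 1)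
    (hfix : ∀ w, Y w = w → w = 0) (hJ : IsSJ R δ J) (hJY : ∀ w, J (Y w) = Y (J w)) {h : ℕ} (hh : Odd h)
    (he : orderOf (Fintype.card F : ZMod r) = 2 * h) (hd : finrank F W = 2 * h) : False := by
  have hu := top_of_fix hr hY hfix
  haveI : Nontrivial W := Module.nontrivial_of_finrank_pos (R := F) (by have := hh.pos; omega)
  have hirr : ∀ U, Inv Y U → U ≠ ⊥ → U = ⊤ := fun U hU hU0 => by
    have h1 := hu.dvd U le_top hU
    rw [he] at h1
    have h4 := Submodule.finrank_le U
    have h5 := Nat.le_of_dvd (Nat.pos_of_ne_zero fun h => hU0 (Submodule.finrank_eq_zero.1 h)) h1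
    exact Submodule.eq_top_of_finrank_eq (by omega)
  obtain ⟨P, hP⟩ := exists_poly hirr hJY
  have hadj : J = aeval (Y ^ (r - 1)) P := LinearMap.ext fun u => by
    rw [← sub_eq_zero]
    refine hN.1 _ fun v => ?_
    rw [QuadraticMap.polarBilin_apply_apply, QuadraticMap.polar_sub_left, sub_eq_zero, polar_aeval hR hY, hJ.2, hP]
  refine false_of_smul_neg h2 hδ hJ.1 ?_
  have hjj : J * J = δ • (1 : Module.End F W) := LinearMap.ext fun w => hJ.1 w
  have h1 := pow_card_of_sq h2 hδ hjj h
  rw [hh.neg_one_pow] at h1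
  rw [← h1]
  conv_rhs => rw [hadj]
  rw [hP, aeval_pow_card]
  refine congrArg (fun z => aeval z P) (pow_eq_of_cast hY ?_)
  have hne : (Fintype.card F : ZMod r) ^ h ≠ 1 := fun h1 => by
    have := Nat.le_of_dvd hh.pos (orderOf_dvd_of_pow_eq_one h1)
    rw [he] at this
    have := hh.pos
    omega
  have hsq : ((Fintype.card F : ZMod r) ^ h) * ((Fintype.card F : ZMod r) ^ h) = 1 := by
    rw [← pow_add, ← two_mul, ← he, pow_orderOf_eq_one]
  push_cast [Nat.cast_sub (Fact.out : r.Prime).one_le]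
  rw [(mul_self_eq_one_iff.1 hsq).resolve_left hne]
  simp

end CfsgLib.Derangements.OrthField
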