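import Cfsg.Agent.Lib.Derangements.OrthFieldExtBasic
import Cfsg.Agent.Lib.Derangements.EvenForms
import Cfsg.Agent.Lib.Classical.Discriminant
import Cfsg.Agent.Lib.Classical.OrthCount
import Cfsg.Agent.Lib.Orth.WittIndex

/-!
# Self-adjoint square roots of a non-square: conjugacy and centralisers
-/

set_option autoImplicit false
set_option linter.unusedSectionVars false

namespace CfsgLib.Derangements.OrthField

open Module QuadraticMap CfsgLib.Classical CfsgLib.Orth

variable {F : Type*} [Field F] [Fintype F] {V : Type*} [AddCommGroup V] [Module F V] [FiniteDimensional F V]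
  {δ : F} {Q : QuadraticForm F V} {J J' : Module.End F V}

/-- The scalar action of the quadratic extension through a square root. -/
noncomputable def extModule (hJ : IsSJ Q δ J) : Module (Ext δ) V :=
  Module.compHom V (QuadraticAlgebra.lift (R := F) (a := δ) (b := 0) (A := Module.End F V)
    ⟨J, LinearMap.ext fun v => by simp [hJ.1 v]⟩).toRingHom

theorem extModule_tower (hJ : IsSJ Q δ J) :
    letI := extModule hJ
    IsScalarTower F (Ext δ) V := by
  letI := extModule hJ
  refine ⟨fun a c v => ?_⟩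
  show (QuadraticAlgebra.lift (R := F) (a := δ) (b := 0) (A := Module.End F V) ⟨J, _⟩) (a • c) v = _
  rw [map_smul, LinearMap.smul_apply]
  rfl

theorem extModule_omega (hJ : IsSJ Q δ J) :
    letI := extModule hJ
    ∀ v, (⟨0, 1⟩ : Ext δ) • v = J v := by
  letI := extModule hJ
  intro v
  show (QuadraticAlgebra.lift (R := F) (a := δ) (b := 0) (A := Module.End F V) ⟨J, _⟩) ⟨0, 1⟩ v = _
  simp

theorem basis_zero : QuadraticAlgebra.basis δ (0 : F) 0 = 1 := by
  refine (QuadraticAlgebra.basis δ (0 : F)).repr.injective ?_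
  rw [Basis.repr_self]
  refine DFunLike.coe_injective ?_
  rw [QuadraticAlgebra.basis_repr_apply]
  funext i; fin_cases i <;> simp [QuadraticAlgebra.re_one, QuadraticAlgebra.im_one]

theorem basis_one : QuadraticAlgebra.basis δ (0 : F) 1 = ⟨0, 1⟩ := by
  refine (QuadraticAlgebra.basis δ (0 : F)).repr.injective ?_
  rw [Basis.repr_self]
  refine DFunLike.coe_injective ?_
  rw [QuadraticAlgebra.basis_repr_apply]
  funext i; fin_cases i <;> simp

theorem finrank_ext [Fact (∀ r : F, r ^ 2 ≠ δ + 0 * r)] [Module (Ext δ) V] [IsScalarTower F (Ext δ) V] {n : ℕ}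
    (hd : finrank F V = 2 * n) : finrank (Ext δ) V = n := by
  have := Module.finrank_mul_finrank F (Ext δ) V
  rw [QuadraticAlgebra.finrank_eq_two, hd] at this
  omega

/-- The Gram matrix of an orthogonal basis over the extension, over the base field. -/
theorem frame_matrix [Fact (∀ r : F, r ^ 2 ≠ δ + 0 * r)] [Module (Ext δ) V] [IsScalarTower F (Ext δ) V]
    (h2 : (2 : F) ≠ 0) (hJ : IsSJ Q δ J) (hω : ∀ v, (⟨0, 1⟩ : Ext δ) • v = J v) {κ : Type*} [Fintype κ] [DecidableEq κ]
    (bK : Basis κ (Ext δ) V) (hbo : ∀ i j, i ≠ j → polar (extForm hJ hω) (bK i) (bK j) = 0) :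
    (∀ i, ((QuadraticAlgebra.basis δ (0 : F)).smulTower bK) (0, i) = bK i) ∧
    (∀ i, ((QuadraticAlgebra.basis δ (0 : F)).smulTower bK) (1, i) = J (bK i)) ∧
    LinearMap.BilinForm.toMatrix ((QuadraticAlgebra.basis δ (0 : F)).smulTower bK) (polarBilin Q) =
      Matrix.blockDiagonal fun i => !![(extForm hJ hω (bK i)).im, (extForm hJ hω (bK i)).re;
        (extForm hJ hω (bK i)).re, δ * (extForm hJ hω (bK i)).im] := by
  set b := (QuadraticAlgebra.basis δ (0 : F)).smulTower bK
  have h0 : ∀ i, b (0, i) = bK i := fun i => by rw [Basis.smulTower_apply, basis_zero, one_smul]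
  have h1 : ∀ i, b (1, i) = J (bK i) := fun i => by rw [Basis.smulTower_apply, basis_one, hω]
  refine ⟨h0, h1, ?_⟩
  have horth : ∀ i j, i ≠ j → polar Q (bK i) (J (bK j)) = 0 ∧ polar Q (bK i) (bK j) = 0 := fun i j h => by
    have e := (mul_eq_zero.1 ((extForm_polar hJ hω _ _).symm.trans (hbo i j h))).resolve_left (two_ne_zero_ext h2)
    exact ⟨congrArg QuadraticAlgebra.re e, congrArg QuadraticAlgebra.im e⟩
  refine Matrix.ext ?_
  rintro ⟨s, i⟩ ⟨t, j⟩
  rw [LinearMap.BilinForm.toMatrix_apply, polarBilin_apply_apply, Matrix.blockDiagonal_apply]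
  by_cases hij : i = j
  · subst hij
    rw [if_pos rfl]
    simp only [extForm_apply]
    fin_cases s <;> fin_cases t <;>
      simp [h0, h1, hJ.2, hJ.1, Orth.polar_smul_r', polar_comm (⇑Q) (J (bK i)) (bK i)]
  · rw [if_neg hij]
    obtain ⟨e1, e2⟩ := horth i j hij
    obtain ⟨e3, -⟩ := horth j i (Ne.symm hij)
    fin_cases s <;> fin_cases t
    · simpa [h0] using e2
    · simpa [h0, h1] using e1
    · simp only [Fin.zero_eta, Fin.mk_one, h0, h1]; rw [polar_comm]; exact e3
    · simp only [Fin.mk_one, h1]; rw [hJ.2, hJ.1, Orth.polar_smul_r', e2, mul_zero]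

/-- A basis adapted to a square root. -/
theorem exists_frame (hQ : (polarBilin Q).Nondegenerate) (h2 : (2 : F) ≠ 0) [Fact (∀ r : F, r ^ 2 ≠ δ + 0 * r)]
    {n : ℕ} (hd : finrank F V = 2 * (n + 1)) (hJ : IsSJ Q δ J) {ν : Ext δ} (hν : ¬ IsSquare ν) :
    ∃ (b : Basis (Fin 2 × Fin (n + 1)) F V) (w : Fin (n + 1) → Ext δ),
      (∀ i, b (1, i) = J (b (0, i))) ∧ (∀ i, i ≠ Fin.last n → w i = 1) ∧ (w (Fin.last n) = 1 ∨ w (Fin.last n) = ν) ∧
      LinearMap.BilinForm.toMatrix b (polarBilin Q) =
        Matrix.blockDiagonal fun i => !![(w i).im, (w i).re; (w i).re, δ * (w i).im] := by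
  classical
  letI := extModule hJ
  haveI := extModule_tower hJ
  have hω := extModule_omega hJ
  haveI : Module.Finite (Ext δ) V := Module.Finite.of_restrictScalars_finite F (Ext δ) V
  haveI := Fintype.ofFinite (Ext δ)
  obtain ⟨bK, hbo, hb1, hbl⟩ := exists_diag (two_ne_zero_ext h2) hν n (extForm hJ hω)
    (extForm_nondeg hJ hω h2 hQ) (finrank_ext hd)
  obtain ⟨h0, h1, hM⟩ := frame_matrix h2 hJ hω bK hbo
  exact ⟨_, fun i => extForm hJ hω (bK i), fun i => by rw [h1, h0], hb1, hbl, hM⟩

theorem plus_iff_null (h2 : (2 : F) ≠ 0) {d : ℕ} :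
    EvenForms.Plus Q d ↔ ∃ X : Submodule F V, finrank F X = d ∧ ∀ x ∈ X, ∀ y ∈ X, polarBilin Q x y = 0 := by
  constructor
  · rintro ⟨U, hU, hd⟩
    exact ⟨U, hd, fun x hx y hy => by simp [polar, hU _ (U.add_mem hx hy), hU _ hx, hU _ hy]⟩
  · rintro ⟨X, hd, hX⟩
    exact ⟨X, fun x hx => by
      have := hX x hx x hx
      rw [polarBilin_apply_apply, Orth.polar_self'] at this
      exact (mul_eq_zero.1 this).resolve_left h2, hd⟩

/-- The type of the form read from an adapted basis. -/
theorem plus_iff (hQ : (polarBilin Q).Nondegenerate) (h2 : (2 : F) ≠ 0) [Fact (∀ r : F, r ^ 2 ≠ δ + 0 * r)]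
    {n : ℕ} (hd : finrank F V = 2 * (n + 1)) {b : Basis (Fin 2 × Fin (n + 1)) F V} {w : Fin (n + 1) → Ext δ}
    {ν : Ext δ} (hν : ¬ IsSquare ν) (hw1 : ∀ i, i ≠ Fin.last n → w i = 1)
    (hwl : w (Fin.last n) = 1 ∨ w (Fin.last n) = ν)
    (hb : LinearMap.BilinForm.toMatrix b (polarBilin Q) =
        Matrix.blockDiagonal fun i => !![(w i).im, (w i).re; (w i).re, δ * (w i).im]) :
    EvenForms.Plus Q (n + 1) ↔ w (Fin.last n) = 1 := by
  classical
  have hS : LinearMap.BilinForm.IsSymm (polarBilin Q) := ⟨fun x y => by simp only [polarBilin_apply_apply]; exact polar_comm _ x y⟩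
  have hdet : (LinearMap.BilinForm.toMatrix b (polarBilin Q)).det =
      (-1) ^ (n + 1) * QuadraticAlgebra.norm (w (Fin.last n)) := by
    rw [hb, Matrix.det_blockDiagonal, Finset.prod_congr rfl (fun i _ => show _ = (-1) * QuadraticAlgebra.norm (w i) by
      rw [Matrix.det_fin_two_of, QuadraticAlgebra.norm_def]; ring), Finset.prod_mul_distrib, Finset.prod_const,
      Finset.card_univ, Fintype.card_fin, Finset.prod_eq_single (Fin.last n) (fun i _ h => by rw [hw1 i h, map_one])
        (fun h => absurd (Finset.mem_univ _) h)]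
  have key : EvenForms.Plus Q (n + 1) ↔ IsSquare (QuadraticAlgebra.norm (w (Fin.last n))) := by
    have hsgn : (-1 : F) ^ (n + 1) * ((-1) ^ (n + 1) * QuadraticAlgebra.norm (w (Fin.last n))) =
        QuadraticAlgebra.norm (w (Fin.last n)) := by
      rw [← mul_assoc, ← mul_pow, neg_one_mul, neg_neg, one_pow, one_mul]
    rw [plus_iff_null h2]
    constructor
    · rintro ⟨X, hX, hX0⟩
      have := Discriminant.isSquare_of_lagrangian (polarBilin Q) hS hd X hX hX0 b
      rwa [hdet, hsgn] at this
    · intro hsq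
      exact Discriminant.exists_lagrangian_of_isSquare h2 (polarBilin Q) hQ hS hd b (by rwa [hdet, hsgn])
  rw [key]
  constructor
  · intro hsq
    refine hwl.resolve_right fun e => hν ?_
    rw [← isSquare_norm_iff h2 (fun h0 => hν (by rw [h0]; exact IsSquare.zero)), ← e]
    exact hsq
  · intro e
    rw [e, map_one]
    exact IsSquare.one

theorem exists_nonsquare_ext [Fact (∀ r : F, r ^ 2 ≠ δ + 0 * r)] (h2 : (2 : F) ≠ 0) : ∃ ν : Ext δ, ¬ IsSquare ν := by
  refine FiniteField.exists_nonsquare fun h => two_ne_zero_ext (δ := δ) h2 ?_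
  have := ringChar.Nat.cast_ringChar (R := Ext δ)
  rw [h] at this
  simpa using this

/-- All self-adjoint square roots of a non-square are conjugate. -/
theorem exists_conj (hQ : (polarBilin Q).Nondegenerate) (h2 : (2 : F) ≠ 0) (hδ : ¬ IsSquare δ)
    {d : ℕ} (hd0 : 0 < d) (hd : finrank F V = 2 * d) (hJ : IsSJ Q δ J) (hJ' : IsSJ Q δ J') :
    ∃ g : orthGroup Q, ∀ v, g.1 (J v) = J' (g.1 v) := by
  classical
  haveI := fact_ext hδ
  obtain ⟨n, rfl⟩ : ∃ n, d = n + 1 := ⟨d - 1, by omega⟩
  obtain ⟨ν, hν⟩ := exists_nonsquare_ext (δ := δ) h2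
  obtain ⟨b, w, hbJ, hw1, hwl, hb⟩ := exists_frame hQ h2 hd hJ hν
  obtain ⟨b', w', hbJ', hw1', hwl', hb'⟩ := exists_frame hQ h2 hd hJ' hν
  have hlast : w (Fin.last n) = w' (Fin.last n) := by
    have h1 := (plus_iff hQ h2 hd hν hw1 hwl hb).symm.trans (plus_iff hQ h2 hd hν hw1' hwl' hb')
    rcases hwl with e | e <;> rcases hwl' with e' | e'
    · rw [e, e']
    · rw [e, e'] at h1; rw [e, e']; exact (h1.1 rfl).symm
    · rw [e, e'] at h1; rw [e, e']; exact h1.2 rfl
    · rw [e, e']
  have hw : w = w' := funext fun i => by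
    rcases eq_or_ne i (Fin.last n) with rfl | h
    · exact hlast
    · rw [hw1 i h, hw1' i h]
  subst hw
  let g := b.equiv b' (Equiv.refl _)
  have hg : ∀ s, g (b s) = b' s := fun s => by simp [g]
  have hB : (polarBilin Q).compl₁₂ (g : V →ₗ[F] V) (g : V →ₗ[F] V) = polarBilin Q := by
    refine LinearMap.ext_basis b b fun s t => ?_
    rw [LinearMap.compl₁₂_apply]
    show polarBilin Q (g (b s)) (g (b t)) = _
    rw [hg, hg]
    have h1 := congrFun (congrFun hb' s) t
    have h3 := congrFun (congrFun hb s) t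
    rw [LinearMap.BilinForm.toMatrix_apply] at h1 h3
    rw [h1, h3]
  refine ⟨⟨g, fun v => ?_⟩, fun v => ?_⟩
  · have := LinearMap.congr_fun₂ hB v v
    rw [LinearMap.compl₁₂_apply, polarBilin_apply_apply, polarBilin_apply_apply, Orth.polar_self',
      Orth.polar_self'] at this
    exact mul_left_cancel₀ h2 this
  · show g (J v) = J' (g v)
    refine LinearMap.congr_fun (b.ext (f₁ := (g : V →ₗ[F] V).comp J) (f₂ := J'.comp (g : V →ₗ[F] V)) ?_) v
    rintro ⟨s, i⟩
    show g (J (b (s, i))) = J' (g (b (s, i)))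
    fin_cases s
    · show g (J (b (0, i))) = J' (g (b (0, i)))
      rw [← hbJ, hg, hg, hbJ']
    · show g (J (b (1, i))) = J' (g (b (1, i)))
      rw [hbJ, hJ.1, map_smul, hg, ← hbJ, hg, hbJ', hJ'.1]

/-- The unit-scaled form has the same orthogonal group. -/
theorem orthGroup_smul {K W : Type*} [Field K] [AddCommGroup W] [Module K W] (R : QuadraticForm K W) {α : K}
    (hα : α ≠ 0) : orthGroup (α • R) = orthGroup R := by
  ext g
  refine forall_congr' fun v => ?_
  simp only [smul_apply, smul_eq_mul]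
  exact ⟨fun h => mul_left_cancel₀ hα h, fun h => by rw [h]⟩

/-- The order of a group containing the centraliser of a square root. -/
theorem card_centralizer_dvd (hQ : (polarBilin Q).Nondegenerate) (h2 : (2 : F) ≠ 0) (hδ : ¬ IsSquare δ)
    {d : ℕ} (hd : finrank F V = 2 * d) (hJ : IsSJ Q δ J) (H : Subgroup (orthGroup Q))
    (hH : ∀ g : orthGroup Q, (∀ v, g.1 (J v) = J (g.1 v)) → g ∈ H) (c : ℕ) :
    (d = 2 * c + 1 → (∏ i ∈ Finset.range c, (Fintype.card F ^ (4 * (i + 1)) - 1)) ∣ Nat.card H) ∧
    (d = 2 * (c + 1) →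
      (EvenForms.Plus Q d → (Fintype.card F ^ d - 1) * (∏ i ∈ Finset.range c, (Fintype.card F ^ (4 * (i + 1)) - 1)) ∣
        Nat.card H) ∧
      (¬ EvenForms.Plus Q d → (Fintype.card F ^ d + 1) * (∏ i ∈ Finset.range c, (Fintype.card F ^ (4 * (i + 1)) - 1)) ∣
        Nat.card H)) := by
  classical
  haveI := fact_ext hδ
  letI := extModule hJ
  haveI := extModule_tower hJ
  have hω := extModule_omega hJ
  haveI : Module.Finite (Ext δ) V := Module.Finite.of_restrictScalars_finite F (Ext δ) V
  haveI := Fintype.ofFinite (Ext δ)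
  set Φ := extForm hJ hω
  have hΦ : (polarBilin Φ).Nondegenerate := extForm_nondeg hJ hω h2 hQ
  have hdK : finrank (Ext δ) V = d := finrank_ext hd
  have h2K := two_ne_zero_ext (δ := δ) h2
  set q := Fintype.card F
  have hcard : Fintype.card (Ext δ) = q ^ 2 := by
    rw [← Nat.card_eq_fintype_card, natCard_ext, Nat.card_eq_fintype_card]
  have hpow : ∀ i : ℕ, (q ^ 2) ^ (2 * (i + 1)) = q ^ (4 * (i + 1)) := fun i => by rw [← pow_mul]; ring_nf
  haveI : Finite V := Module.finite_of_finite F
  let ι : orthGroup Φ →* H :=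
    { toFun := fun g => ⟨⟨g.1.restrictScalars F, fun v => by
          have e := congrArg QuadraticAlgebra.im (g.2 v)
          rw [extForm_apply, extForm_apply] at e
          simp only [Orth.polar_self'] at e
          exact mul_left_cancel₀ h2 e⟩, hH _ fun v => by
          show g.1 (J v) = J (g.1 v)
          rw [← hω, map_smul, hω]⟩
      map_one' := Subtype.ext (Subtype.ext (LinearEquiv.ext fun x => rfl))
      map_mul' := fun a c => Subtype.ext (Subtype.ext (LinearEquiv.ext fun x => rfl)) }
  have hinj : Function.Injective ι := fun a c e => Subtype.ext (LinearEquiv.ext fun x =>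
    congrArg (fun z : H => z.1.1 x) e)
  have hdvd := Subgroup.card_dvd_of_injective ι hinj
  refine ⟨fun hc => ?_, fun hc => ?_⟩
  · -- odd dimension over the extension
    obtain ⟨m, A, T, hT, hTA, hdim, hA2, hanis, hAn⟩ := Orth.exists_decomposition hΦ
    have hA1 : finrank (Ext δ) A = 1 := by omega
    obtain rfl : m = c := by omega
    obtain ⟨a, ha, ha0⟩ := Submodule.exists_mem_ne_zero_of_ne_bot (p := A) fun h => by
      rw [h, finrank_bot] at hA1; omega
    set α := Φ a with hαdef
    have hα : α ≠ 0 := fun h => ha0 (hanis a ha h)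
    let S : (Unit ⊕ (Fin m ⊕ Fin m) → Ext δ) →ₗ[Ext δ] (Fin m ⊕ Fin m → Ext δ) :=
      { toFun := fun v => Sum.elim (fun i => v (.inr (.inl i))) fun i => α * v (.inr (.inr i))
        map_add' := fun u v => funext fun s => by rcases s with i | i <;> simp [mul_add]
        map_smul' := fun t v => funext fun s => by rcases s with i | i <;> simp [mul_left_comm] }
    let L : (Unit ⊕ (Fin m ⊕ Fin m) → Ext δ) →ₗ[Ext δ] V :=
      (LinearMap.proj (Sum.inl ())).smulRight a + T.comp S
    have hL : ∀ v, Φ (L v) = (α • Orth.oddForm (Ext δ) m) v := fun v => by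
      simp only [L, LinearMap.add_apply, LinearMap.comp_apply, LinearMap.smulRight_apply, LinearMap.proj_apply]
      rw [Orth.quad_add', Orth.quad_smul', polar_comm, Orth.polar_smul_r', hTA _ a ha, ← hαdef, hT, smul_apply,
        ← Orth.plusForm_apply, ← Orth.oddForm_apply]
      simp only [Cfsg.quadFormPlus, Cfsg.quadFormOdd, S, LinearMap.coe_mk, AddHom.coe_mk, Sum.elim_inl,
        Sum.elim_inr, smul_eq_mul, mul_add, Finset.mul_sum]
      ring_nf
    have hLn : (polarBilin (α • Orth.oddForm (Ext δ) m)).Nondegenerate := Orth.nondegenerate_of_left fun u hu =>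
      (Orth.oddForm_nondeg m h2K).1 u fun z => by
        have h1 := hu z
        rw [QuadraticMap.coeFn_smul, QuadraticMap.polar_smul, smul_eq_mul] at h1
        exact (mul_eq_zero.1 h1).resolve_left hα
    have hLi := Orth.injective_of_preserving hLn L hL
    let e := LinearEquiv.ofBijective L ⟨hLi, (LinearMap.injective_iff_surjective_of_finrank_eq_finrank (by
      rw [hdK, Module.finrank_fintype_fun_eq_card, Fintype.card_sum, Fintype.card_sum, Fintype.card_fin,
        Fintype.card_unit]; omega)).1 hLi⟩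
    have hc' := Nat.card_congr (orthGroupCongr (Q := α • Orth.oddForm (Ext δ) m) (Q' := Φ) e hL).toEquiv
    rw [orthGroup_smul _ hα, card_orth_odd hcard h2K] at hc'
    rw [← hc', Finset.prod_congr rfl (fun i _ => congrArg (fun z => z - 1) (hpow i))] at hdvd
    exact (dvd_mul_left _ _).trans hdvd
  · subst hc
    obtain ⟨ν, hν⟩ := exists_nonsquare_ext (δ := δ) h2
    -- the type over the extension
    have htype : EvenForms.Plus Φ (c + 1) ↔ EvenForms.Plus Q (2 * (c + 1)) := by
      constructor
      · rintro ⟨U, hU, hUd⟩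
        refine ⟨U.restrictScalars F, fun u hu => ?_, ?_⟩
        · have e := congrArg QuadraticAlgebra.im (hU u hu)
          rw [extForm_apply] at e
          simp only [Orth.polar_self'] at e
          exact (mul_eq_zero.1 e).resolve_left h2
        · have h4 := Module.finrank_mul_finrank F (Ext δ) U
          rw [QuadraticAlgebra.finrank_eq_two, hUd] at h4
          rw [h4]
          exact ((U.restrictScalarsEquiv F (Ext δ) V).restrictScalars F).finrank_eq
      · intro hP
        obtain ⟨b, w, -, hw1, hwl, hb⟩ := exists_frame (n := 2 * c + 1) hQ h2 hd hJ hν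
        have hlast := (plus_iff hQ h2 hd hν hw1 hwl hb).1 hP
        obtain ⟨bK, hbo, hb1, hbl⟩ := exists_diag h2K hν (2 * c + 1) Φ hΦ hdK
        -- the last value of any diagonal basis is one
        have hlastK : Φ (bK (Fin.last (2 * c + 1))) = 1 := by
          obtain ⟨-, -, hb₂⟩ := frame_matrix h2 hJ hω bK hbo
          exact (plus_iff hQ h2 hd hν hb1 hbl hb₂).1 hP
        have hone : ∀ i, Φ (bK i) = 1 := fun i => by
          rcases eq_or_ne i (Fin.last (2 * c + 1)) with rfl | h
          · exact hlastK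
          · exact hb1 i h
        rw [plus_iff_null h2K]
        refine Discriminant.exists_lagrangian_of_isSquare h2K (polarBilin Φ) hΦ
          ⟨fun x y => by simp only [polarBilin_apply_apply]; exact polar_comm _ x y⟩ hdK bK ?_
        have hM : LinearMap.BilinForm.toMatrix bK (polarBilin Φ) = Matrix.diagonal fun _ => 2 := by
          refine Matrix.ext fun i j => ?_
          rw [LinearMap.BilinForm.toMatrix_apply, polarBilin_apply_apply]
          rcases eq_or_ne i j with rfl | h
          · rw [Matrix.diagonal_apply_eq, Orth.polar_self', hone, mul_one]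
          · rw [Matrix.diagonal_apply_ne _ h, hbo i j h]
        rw [hM, Matrix.det_diagonal, Finset.prod_const, Finset.card_univ, Fintype.card_fin]
        refine IsSquare.mul ((isSquare_neg_one_ext h2).pow _) ?_
        exact ⟨2 ^ (c + 1), by rw [← pow_add]; congr 1; omega⟩
    have hexp : (q ^ 2) ^ (c + 1) = q ^ (2 * (c + 1)) := by rw [← pow_mul]
    rcases Orth.classify_even hΦ (m := c + 1) hdK with ⟨e, he⟩ | ⟨-, e, ζ, hζ, he⟩
    · have hP : EvenForms.Plus Q (2 * (c + 1)) := by
        refine htype.1 (EvenForms.plus_congr e he ?_)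
        let ι₁ : (Fin (c + 1) → Ext δ) →ₗ[Ext δ] (Fin (c + 1) ⊕ Fin (c + 1) → Ext δ) :=
          { toFun := fun u => Sum.elim u 0
            map_add' := fun u w => by funext i; cases i <;> simp
            map_smul' := fun t u => by funext i; cases i <;> simp }
        refine ⟨LinearMap.range ι₁, ?_, ?_⟩
        · rintro _ ⟨u, rfl⟩
          rw [← Orth.plusForm_apply]; simp [Cfsg.quadFormPlus, ι₁]
        · rw [LinearMap.finrank_range_of_inj, Module.finrank_fin_fun]
          exact fun u w h => funext fun i => congrFun h (Sum.inl i)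
      refine ⟨fun _ => ?_, fun h => absurd hP h⟩
      have hc' := Nat.card_congr (orthGroupCongr (Q := Orth.plusForm (Ext δ) (c + 1)) (Q' := Φ) e he).toEquiv
      rw [card_orth_plus hcard] at hc'
      rw [← hc', hexp, Finset.prod_congr rfl (fun i _ => congrArg (fun z => z - 1) (hpow i)), mul_assoc] at hdvd
      exact (dvd_mul_left _ _).trans hdvd
    · have hab : ∀ z₁ z₂ : Ext δ, z₁ ^ 2 + 1 * z₁ * z₂ + ζ * z₂ ^ 2 = 0 → z₁ = 0 ∧ z₂ = 0 := fun z₁ z₂ h => by
        by_cases hz : z₂ = 0
        · subst hz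
          exact ⟨by simpa using h, rfl⟩
        · refine absurd ?_ (hζ (z₁ / z₂))
          field_simp
          linear_combination h
      have hP : ¬ EvenForms.Plus Q (2 * (c + 1)) := fun h => by
        obtain ⟨U, hU, hUd⟩ := htype.2 h
        have h3 := Orth.minus_singular_finrank_le hab (U.comap e.toLinearMap) (fun u hu => by
          rw [← he]; exact hU _ hu)
        rw [(LinearEquiv.ofSubmodules e (U.comap e.toLinearMap) U
          (Submodule.map_comap_eq_of_surjective e.surjective U)).finrank_eq, hUd] at h3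
        omega
      refine ⟨fun h => absurd h hP, fun _ => ?_⟩
      have hc' := Nat.card_congr (orthGroupCongr (Q := Orth.minusForm (Ext δ) c 1 ζ) (Q' := Φ) e he).toEquiv
      rw [card_orth_minus hcard 1 ζ hab] at hc'
      rw [← hc', hexp, Finset.prod_congr rfl (fun i _ => congrArg (fun z => z - 1) (hpow i)), mul_assoc] at hdvd
      exact (dvd_mul_left _ _).trans hdvd

end CfsgLib.Derangements.OrthField
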