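import Cfsg.Agent.Lib.Derangements.OrthFieldExtBlock
import Cfsg.Agent.Lib.Derangements.OrthNegation
import Cfsg.Agent.Lib.Classical.OrthSimple
import Cfsg.Agent.Lib.Classical.OrthSiegel

/-!
# Elements of odd prime order with no conjugate commuting with a self-adjoint square root
-/

set_option autoImplicit false
set_option linter.unusedSectionVars false

namespace CfsgLib.Derangements.OrthField

open Module QuadraticMap CfsgLib.Classical CfsgLib.Orth CfsgLib.Derangements.LinElusive CfsgLib.Derangements.NullInv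
  CfsgLib.Derangements.OrthInv

variable {F : Type*} [Field F] [Fintype F] {V : Type*} [AddCommGroup V] [Module F V] [FiniteDimensional F V]
  {δ : F} {Q : QuadraticForm F V} {J : Module.End F V} {r : ℕ} [Fact r.Prime]

/-- An element of odd order mapping a root to plus or minus itself commutes with it. -/
theorem comm_of_odd (h2 : (2 : F) ≠ 0) (hr2 : Odd r) (hJ : IsSJ Q δ J) (hδ : ¬ IsSquare δ) {y : orthGroup Q}
    (hy : y ^ r = 1) (h : (∀ v, y.1 (J v) = J (y.1 v)) ∨ ∀ v, y.1 (J v) = -J (y.1 v)) :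
    ∀ v, y.1 (J v) = J (y.1 v) := by
  intro u
  rcases h with hc | hanti
  · exact hc u
  by_cases hu : u = 0
  · simp [hu]
  exfalso
  have hpow : ∀ (n : ℕ) v, (y ^ n).1 (J v) = (-1 : F) ^ n • J ((y ^ n).1 v) := by
    intro n
    induction n with
    | zero => intro v; simp
    | succ n ih =>
      intro v
      rw [pow_succ' y n]
      show y.1 ((y ^ n).1 (J v)) = (-1 : F) ^ (n + 1) • J (y.1 ((y ^ n).1 v))
      rw [ih, map_smul, hanti, smul_neg, pow_succ, mul_smul, neg_one_smul, smul_neg]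
  obtain ⟨v, hv⟩ : ∃ v : V, v ≠ 0 := ⟨u, hu⟩
  have h1 := hpow r v
  rw [hy, hr2.neg_one_pow, neg_one_smul] at h1
  change J v = -J v at h1
  have h0 : (2 : F) • J v = 0 := by rw [two_smul]; exact eq_neg_iff_add_eq_zero.1 h1
  have h4 := hJ.1 v
  rw [(smul_eq_zero.1 h0).resolve_left h2, map_zero, eq_comm, smul_eq_zero] at h4
  exact h4.elim (fun e => hδ (e ▸ IsSquare.zero)) hv

/-- A non-trivial element of odd order is not scalar. -/
theorem not_scalar (hQ : (polarBilin Q).Nondegenerate) (hr2 : Odd r) {x : orthGroup Q} (hx : x ^ r = 1) (hx1 : x ≠ 1)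
    (z : F) : ∃ v, x.1 v ≠ z • v := by
  by_contra hz
  push Not at hz
  apply hx1
  refine Subtype.ext (LinearEquiv.ext fun u => ?_)
  show x.1 u = u
  by_cases hu : u = 0
  · rw [hu, map_zero]
  obtain ⟨w, hw⟩ : ∃ w, polar Q u w ≠ 0 := by
    by_contra! hall
    exact hu (hQ.1 u hall)
  have hzz : z * z = 1 := by
    have h1 := polar_isom x u w
    rw [hz, hz, Orth.polar_smul_l', Orth.polar_smul_r', ← mul_assoc] at h1
    exact (mul_eq_right₀ hw).1 h1
  have hpow : ∀ n : ℕ, (x ^ n).1 u = z ^ n • u := fun n => by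
    induction n with
    | zero => simp
    | succ n ih =>
      rw [pow_succ']
      show x.1 ((x ^ n).1 u) = _
      rw [ih, map_smul, hz, smul_smul, ← pow_succ]
  have hzr : z ^ r = 1 := by
    have := hpow r
    rw [hx] at this
    exact smul_left_injective F hu ((this.symm.trans rfl).trans (one_smul F u).symm)
  have hz1 : z = 1 := by
    have := pow_gcd_eq_one.2 ⟨(pow_two z).trans hzz, hzr⟩
    rwa [(Nat.coprime_two_left.2 hr2).gcd_eq_one, pow_one] at this
  rw [hz, hz1, one_smul]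

/-- In characteristic `r`: a Siegel transformation. -/
theorem exists_unipotent_witness (hQ : (polarBilin Q).Nondegenerate) (h2 : (2 : F) ≠ 0) (hr0 : (r : F) = 0)
    (hn : 5 ≤ finrank F V) (hδ : ¬ IsSquare δ) (hJ : IsSJ Q δ J) :
    ∃ x ∈ commutator (orthGroup Q), x ^ r = 1 ∧ x ≠ 1 ∧
      ∀ g : orthGroup Q, ¬ ∀ v, (g⁻¹ * x * g).1 (J v) = J ((g⁻¹ * x * g).1 v) := by
  obtain ⟨hp⟩ := exists_hypPairs hQ hn
  obtain ⟨x, hx⟩ := exists_isSiegel hQ hp.he₀ (u := hp.e₁) hp.hee
  have hpow : ∀ n : ℕ, IsSiegel (x ^ n) hp.e₀ ((n : F) • hp.e₁) := fun n => by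
    induction n with
    | zero => rw [pow_zero, Nat.cast_zero, zero_smul]; exact isSiegel_one hp.he₀
    | succ n ih => rw [pow_succ, Nat.cast_succ, add_smul, one_smul]; exact ih.mul hx
  refine ⟨x, hx.mem_commutator hQ (good_of_two_ne h2) hp hn, ?_, fun h => ?_, fun g hg => ?_⟩
  · have := hpow r
    rw [hr0, zero_smul] at this
    exact this.unique (isSiegel_one hp.he₀)
  · have h1 := hx.2.2 hp.f₀
    rw [h, hp.h00, hp.cfe, hp.he₁] at h1
    change hp.f₀ = _ at h1
    simp only [one_smul, neg_zero, zero_mul, sub_zero, zero_smul, add_zero, left_eq_add] at h1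
    have := hp.h11
    rw [h1, polar_zero_left] at this
    exact zero_ne_one this
  · have hc := hx.conj g⁻¹
    rw [inv_inv] at hc
    obtain ⟨hd, hdu, hf⟩ := hc
    set d := (g⁻¹).1 hp.e₀
    set u := (g⁻¹).1 hp.e₁
    have hu : Q u = 0 := (apply_quad _ _).trans hp.he₁
    set v₁ := (g⁻¹).1 hp.f₁
    set v₀ := (g⁻¹).1 hp.f₀
    have a1 : polar Q d v₁ = 0 := (polar_isom _ _ _).trans hp.hef
    have a2 : polar Q u v₁ = 1 := (polar_isom _ _ _).trans hp.h11
    have a3 : polar Q d v₀ = 1 := (polar_isom _ _ _).trans hp.h00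
    have a4 : polar Q u v₀ = 0 := (polar_isom _ _ _).trans (by rw [polar_comm]; exact hp.hfe)
    have hN : ∀ v, polar Q (J d) v • u - polar Q (J u) v • d = polar Q d v • J u - polar Q u v • J d := fun v => by
      have h1 := hg v
      rw [hf, hf, hu, hJ.2 d, hJ.2 u, map_add, map_add, map_smul, map_smul] at *
      simp only [zero_mul, sub_zero, neg_smul] at h1
      linear_combination (norm := module) h1
    have b1 := hN v₁
    rw [a1, a2, zero_smul, one_smul, zero_sub] at b1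
    have b0 := hN v₀
    rw [a3, a4, zero_smul, one_smul, sub_zero] at b0
    obtain ⟨α, β, hJd⟩ : ∃ α β : F, J d = α • d + β • u := ⟨_, -polar Q (J d) v₁,
      show J d = polar Q (J u) v₁ • d + _ by linear_combination (norm := module) b1⟩
    obtain ⟨γ, ε, hJu⟩ : ∃ γ ε : F, J u = γ • d + ε • u := ⟨-polar Q (J u) v₀, _,
      show J u = _ + polar Q (J d) v₀ • u by linear_combination (norm := module) (-1 : F) • b0⟩
    have hli : ∀ a c : F, a • d + c • u = 0 → a = 0 ∧ c = 0 := fun a c h => by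
      constructor
      · have := congrArg (fun w => polar Q w v₀) h
        simpa [polar_add_left, Orth.polar_smul_l', a3, a4] using this
      · have := congrArg (fun w => polar Q w v₁) h
        simpa [polar_add_left, Orth.polar_smul_l', a1, a2] using this
    rw [hJd, hJu] at b1
    simp only [polar_add_left, Orth.polar_smul_l', a1, a2, mul_zero, mul_one, zero_add] at b1
    have hc := hli (α - ε) (2 * β) (by linear_combination (norm := module) b1)
    have hβ : β = 0 := (mul_eq_zero.1 hc.2).resolve_left h2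
    rw [hβ, zero_smul, add_zero] at hJd
    have h3 := hJ.1 d
    rw [hJd, map_smul, hJd, smul_smul] at h3
    have hd0 : d ≠ 0 := fun e => by rw [e, polar_zero_left] at a3; exact zero_ne_one a3
    exact hδ ⟨α, (smul_left_injective F hd0 h3).symm⟩

/-- No element extending a small fixed-point-free block commutes with a root. -/
theorem exists_block_witness (hQ : (polarBilin Q).Nondegenerate) (h2 : (2 : F) ≠ 0) (hr : (r : F) ≠ 0) (hr2 : Odd r)
    (hδ : ¬ IsSquare δ) (hJ : IsSJ Q δ J) {m : ℕ}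
    (hm : (Odd (orderOf (Fintype.card F : ZMod r)) ∧ m = orderOf (Fintype.card F : ZMod r)) ∨
      (Odd m ∧ orderOf (Fintype.card F : ZMod r) = 2 * m))
    (hfit : 2 * m + 2 ≤ finrank F V ∨ (2 * m = finrank F V ∧ (EvenForms.Plus Q m ↔ Odd (orderOf (Fintype.card F : ZMod r))))) :
    ∃ x ∈ commutator (orthGroup Q), x ^ r = 1 ∧ x ≠ 1 ∧
      ∀ g : orthGroup Q, ¬ ∀ v, (g⁻¹ * x * g).1 (J v) = J ((g⁻¹ * x * g).1 v) := by
  set e := orderOf (Fintype.card F : ZMod r) with he
  have hm0 : 0 < m := by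
    rcases hm with ⟨h1, rfl⟩ | ⟨h1, -⟩
    · exact h1.pos
    · exact h1.pos
  have hdvd : e ∣ 2 * m := by
    rcases hm with ⟨-, rfl⟩ | ⟨-, h⟩
    · exact dvd_mul_left _ _
    · rw [h]
  obtain ⟨R, Y, hR, hY, hfix, hRY⟩ := exists_fpf_form (F := F) hr hr2 hm0 hdvd
  have hW : finrank F (Fin m ⊕ Fin m → F) = 2 * m := by simp [two_mul]
  obtain ⟨T, hT⟩ := exists_embed hQ hR hW (hfit.imp_right fun ⟨h1, h3⟩ => Or.inr ⟨h1, by
    rw [plusOn_top_iff (Q := Q) h1.symm, h3]
    rcases hm with ⟨ho, hme⟩ | ⟨-, hme⟩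
    · rw [plus_fpf_iff hr hr2 hR hY hfix hRY (N := 2) (by rw [hW, hme])]
      exact ⟨fun _ => ho, fun _ => Or.inl ho⟩
    · rw [plus_fpf_iff hr hr2 hR hY hfix hRY (N := 1) (by rw [hW, one_mul]; exact hme.symm)]
      exact ⟨fun h => h.resolve_right (by simp), Or.inl⟩⟩)
  obtain ⟨L, hL, hQL, hLT, hEn, hC⟩ := exists_extend hQ hR T hT hY hfix hRY
  have hr1 := (Fact.out : r.Prime).one_le
  let x : orthGroup Q := ⟨LinearEquiv.ofLinearMap L (L ^ (r - 1))
    (by rw [← Module.End.mul_eq_comp, ← pow_succ', Nat.sub_add_cancel hr1, hL]; rfl)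
    (by rw [← Module.End.mul_eq_comp, ← pow_succ, Nat.sub_add_cancel hr1, hL]; rfl), hQL⟩
  have hxn : ∀ (n : ℕ) v, (x ^ n).1 v = (L ^ n) v := fun n => by
    induction n with
    | zero => intro v; rfl
    | succ n ih => intro v; rw [pow_succ', pow_succ', Module.End.mul_apply, ← ih]; rfl
  have hxr : x ^ r = 1 := Subtype.ext (LinearEquiv.ext fun v => by rw [hxn, hL]; rfl)
  have hinj := Orth.injective_of_preserving hR T hT
  haveI : Nontrivial (Fin m ⊕ Fin m → F) := Module.nontrivial_of_finrank_pos (R := F) (by omega)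
  have hx1 : x ≠ 1 := fun h => by
    obtain ⟨w, hw⟩ := exists_ne (0 : Fin m ⊕ Fin m → F)
    refine hw (hfix w (hinj ?_))
    rw [← hLT]
    exact LinearEquiv.congr_fun (congrArg Subtype.val h) (T w)
  refine ⟨x, ?_, hxr, hx1, fun g hg => ?_⟩
  · obtain ⟨k, hk⟩ := hr2
    have hx2 : x = x ^ (k + 1) * x ^ (k + 1) := by
      rw [← pow_add, show k + 1 + (k + 1) = r + 1 by omega, pow_succ, hxr, one_mul]
    rw [hx2]
    exact Orth.sq_mem_commutator hQ (good_of_two_ne h2) _
  -- move the root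
  set J₁ : Module.End F V := (g.1 : V →ₗ[F] V).comp (J.comp ((g⁻¹).1 : V →ₗ[F] V)) with hJ₁
  have hgg : ∀ v, (g⁻¹).1 (g.1 v) = v := fun v => g.1.symm_apply_apply v
  have hgg' : ∀ v, g.1 ((g⁻¹).1 v) = v := fun v => g.1.apply_symm_apply v
  have hJ₁a : ∀ v, J₁ v = g.1 (J ((g⁻¹).1 v)) := fun v => rfl
  have hJ₁s : IsSJ Q δ J₁ := ⟨fun v => by rw [hJ₁a, hJ₁a, hgg, hJ.1, map_smul, hgg'], fun a c => by
    rw [hJ₁a, hJ₁a]
    conv_lhs => rw [← hgg' c]
    conv_rhs => rw [← hgg' a]
    rw [polar_isom, polar_isom, hJ.2]⟩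
  have hJL : ∀ v, J₁ (L v) = L (J₁ v) := fun v => by
    have h1 := hg ((g⁻¹).1 v)
    change (g⁻¹).1 (x.1 (g.1 (J ((g⁻¹).1 v)))) = J ((g⁻¹).1 (x.1 (g.1 ((g⁻¹).1 v)))) at h1
    rw [hgg'] at h1
    have h3 := congrArg g.1 h1
    rw [hgg'] at h3
    exact h3.symm
  -- the block is the moved space
  have hsurj : Function.Surjective (fun w => Y w - w) := by
    have hi : Function.Injective (Y - 1 : Module.End F (Fin m ⊕ Fin m → F)) :=
      LinearMap.ker_eq_bot.1 (eq_bot_iff.2 fun w hw => hfix w (sub_eq_zero.1 (LinearMap.mem_ker.1 hw)))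
    intro w
    obtain ⟨w', hw'⟩ := LinearMap.injective_iff_surjective.1 hi w
    exact ⟨w', by simpa using hw'⟩
  have hmoved : ∀ v, L v - v ∈ LinearMap.range T := fun v => by
    obtain ⟨a, ha, c, hc, rfl⟩ := Submodule.mem_sup.1 (hEn.isCompl.sup_eq_top ▸ Submodule.mem_top (x := v))
    obtain ⟨w, rfl⟩ := ha
    rw [← hC, Module.End.mem_eigenspace_iff, one_smul] at hc
    rw [map_add, hLT, hc, add_sub_add_right_eq_sub, ← map_sub]
    exact ⟨_, rfl⟩
  have hJT : ∀ w, J₁ (T w) ∈ LinearMap.range T := fun w => by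
    obtain ⟨w', hw'⟩ := hsurj w
    rw [← hw', map_sub, ← hLT, map_sub, hJL]
    exact hmoved _
  choose Jf hJf using hJT
  let JW : Module.End F (Fin m ⊕ Fin m → F) :=
    { toFun := Jf
      map_add' := fun a c => hinj (by rw [map_add, hJf, hJf, hJf, map_add, map_add])
      map_smul' := fun t a => hinj (by simp only [map_smul, hJf, RingHom.id_apply]) }
  have hJWa : ∀ w, T (JW w) = J₁ (T w) := hJf
  have hJW : IsSJ R δ JW := ⟨fun w => hinj (by rw [hJWa, hJWa, hJ₁s.1, map_smul]), fun a c => by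
    rw [← Orth.polar_of_preserving T hT, ← Orth.polar_of_preserving T hT, hJWa, hJWa, hJ₁s.2]⟩
  have hJY : ∀ w, JW (Y w) = Y (JW w) := fun w => hinj (by rw [hJWa, ← hLT, ← hLT, hJL, hJWa])
  rcases hm with ⟨ho, hme⟩ | ⟨ho, hme⟩
  · exact false_of_odd h2 hr hr2 hδ hR hRY hY hfix hJW hJY ho (by rw [hW, hme])
  · exact false_of_twice_odd h2 hr hδ hR hRY hY hfix hJW hJY ho hme hW

end CfsgLib.Derangements.OrthField
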