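import Cfsg.Agent.Lib.Derangements.OrthFieldExtTwo
import Cfsg.Agent.Lib.Derangements.OrthFieldExtWitness
import Cfsg.Agent.Lib.Classical.QuadExtension
import Cfsg.Agent.Lib.Orth.Bridge

/-!
# Elements of prime order and the normaliser of a self-adjoint quadratic extension field
-/

set_option autoImplicit false
set_option linter.unusedSectionVars false

namespace CfsgLib.Derangements.OrthField

open Module QuadraticMap CfsgLib.Classical CfsgLib.Orth
open scoped Matrix

section Abstract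

variable {F : Type*} [Field F] [Fintype F] {V : Type*} [AddCommGroup V] [Module F V] [FiniteDimensional F V]
  {δ : F} {Q : QuadraticForm F V} {J : Module.End F V} {r : ℕ} [Fact r.Prime]

/-- The order of the orthogonal group of an even-dimensional space. -/
theorem card_orth_even (hQ : (polarBilin Q).Nondegenerate) {d : ℕ} (hd : finrank F V = 2 * (d + 1)) :
    ∃ N : ℕ, (EvenForms.Plus Q (d + 1) → Nat.card (orthGroup Q) = 2 * Fintype.card F ^ N *
        (Fintype.card F ^ (d + 1) - 1) * ∏ i ∈ Finset.range d, (Fintype.card F ^ (2 * (i + 1)) - 1)) ∧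
      (¬ EvenForms.Plus Q (d + 1) → Nat.card (orthGroup Q) = 2 * Fintype.card F ^ N *
        (Fintype.card F ^ (d + 1) + 1) * ∏ i ∈ Finset.range d, (Fintype.card F ^ (2 * (i + 1)) - 1)) := by
  refine ⟨(d + 1) * d, ?_⟩
  rcases Orth.classify_even hQ hd with ⟨e, he⟩ | ⟨-, e, ζ, hζ, he⟩
  · have hP : EvenForms.Plus Q (d + 1) := by
      refine EvenForms.plus_congr e he ?_
      let ι₁ : (Fin (d + 1) → F) →ₗ[F] (Fin (d + 1) ⊕ Fin (d + 1) → F) :=
        { toFun := fun u => Sum.elim u 0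
          map_add' := fun u w => by funext i; cases i <;> simp
          map_smul' := fun t u => by funext i; cases i <;> simp }
      refine ⟨LinearMap.range ι₁, ?_, ?_⟩
      · rintro _ ⟨u, rfl⟩
        rw [← Orth.plusForm_apply]; simp [Cfsg.quadFormPlus, ι₁]
      · rw [LinearMap.finrank_range_of_inj, Module.finrank_fin_fun]
        exact fun u w h => funext fun i => congrFun h (Sum.inl i)
    exact ⟨fun _ => (Nat.card_congr (orthGroupCongr e he).toEquiv).symm.trans (card_orth_plus rfl d),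
      fun h => absurd hP h⟩
  · have hab : ∀ z₁ z₂ : F, z₁ ^ 2 + 1 * z₁ * z₂ + ζ * z₂ ^ 2 = 0 → z₁ = 0 ∧ z₂ = 0 := fun z₁ z₂ h => by
      by_cases hz : z₂ = 0
      · subst hz
        exact ⟨by simpa using h, rfl⟩
      · refine absurd ?_ (hζ (z₁ / z₂))
        field_simp
        linear_combination h
    have hP : ¬ EvenForms.Plus Q (d + 1) := fun h => by
      obtain ⟨U, hU, hUd⟩ := h
      have h3 := Orth.minus_singular_finrank_le hab (U.comap e.toLinearMap) (fun u hu => by
        rw [← he]; exact hU _ hu)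
      rw [(LinearEquiv.ofSubmodules e (U.comap e.toLinearMap) U
        (Submodule.map_comap_eq_of_surjective e.surjective U)).finrank_eq, hUd] at h3
      omega
    exact ⟨fun h => absurd h hP,
      fun _ => (Nat.card_congr (orthGroupCongr e he).toEquiv).symm.trans (card_orth_minus rfl 1 ζ hab d)⟩

theorem prod_split_odd (f : ℕ → ℕ) : ∀ c : ℕ, ∏ i ∈ Finset.range (2 * c + 1), f i =
    (∏ j ∈ Finset.range c, f (2 * j + 1)) * ∏ j ∈ Finset.range (c + 1), f (2 * j)
  | 0 => by simp
  | c + 1 => by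
    rw [show 2 * (c + 1) + 1 = 2 * c + 1 + 1 + 1 by omega, Finset.prod_range_succ, Finset.prod_range_succ,
      prod_split_odd f c, Finset.prod_range_succ (f := fun j => f (2 * j + 1)),
      Finset.prod_range_succ (f := fun j => f (2 * j)) (n := c + 1)]
    ring_nf

theorem prod_split_even (f : ℕ → ℕ) (c : ℕ) : ∏ i ∈ Finset.range (2 * c), f i =
    (∏ j ∈ Finset.range c, f (2 * j + 1)) * ∏ j ∈ Finset.range c, f (2 * j) := by
  induction c with
  | zero => simp
  | succ c ih =>
    rw [show 2 * (c + 1) = 2 * c + 1 + 1 by omega, Finset.prod_range_succ, Finset.prod_range_succ, ih,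
      Finset.prod_range_succ, Finset.prod_range_succ]
    ring

theorem cast_eq_one_of_dvd {q n : ℕ} (hq : 1 ≤ q) (h : r ∣ q ^ n - 1) : (q : ZMod r) ^ n = 1 := by
  have := (ZMod.natCast_eq_zero_iff _ _).2 h
  rw [Nat.cast_sub (Nat.one_le_pow _ _ hq), sub_eq_zero] at this
  push_cast at this
  exact this

theorem cast_eq_neg_one_of_dvd {q n : ℕ} (h : r ∣ q ^ n + 1) : (q : ZMod r) ^ n = -1 := by
  have := (ZMod.natCast_eq_zero_iff _ _).2 h
  push_cast at this
  linear_combination this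

/-- A prime other than two dividing the index divides the index in the whole orthogonal group. -/
theorem mul_card_dvd (hQ : (polarBilin Q).Nondegenerate) (h2 : (2 : F) ≠ 0) (hr2 : r ≠ 2)
    (H : Subgroup (orthGroup Q)) (hr : r ∣ H.relIndex (commutator (orthGroup Q))) :
    r * Nat.card H ∣ Nat.card (orthGroup Q) := by
  haveI : Finite V := Module.finite_of_finite F
  set C := commutator (orthGroup Q)
  have hC : ¬ r ∣ C.index := fun hd => by
    obtain ⟨y, hy⟩ := exists_prime_orderOf_dvd_card' (G := orthGroup Q ⧸ C) r (by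
      rwa [← Subgroup.index_eq_card])
    obtain ⟨g, rfl⟩ := QuotientGroup.mk'_surjective C y
    have h1 : (QuotientGroup.mk' C g) ^ 2 = 1 := by
      rw [← map_pow, pow_two]
      exact (QuotientGroup.eq_one_iff _).2 (Orth.sq_mem_commutator hQ (good_of_two_ne h2) g)
    have h3 := orderOf_dvd_of_pow_eq_one h1
    rw [hy] at h3
    exact hr2 ((Nat.prime_dvd_prime_iff_eq Fact.out Nat.prime_two).1 h3)
  have h1 : H.relIndex C * C.index = C.relIndex H * H.index := by
    rw [← Subgroup.inf_relIndex_right H C, Subgroup.relIndex_mul_index inf_le_right, ← Subgroup.inf_relIndex_right C H,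
      inf_comm C H, Subgroup.relIndex_mul_index inf_le_left]
  have h3 : r ∣ C.relIndex H * H.index := h1 ▸ hr.mul_right _
  rcases (Fact.out : r.Prime).dvd_mul.1 h3 with h | h
  · exact absurd (h.trans (Subgroup.relIndex_dvd_index_of_normal C H)) hC
  · rw [← Subgroup.index_mul_card H]
    exact mul_dvd_mul_right h _

/-- Elements of prime order fixing a point on the cosets of the normaliser of a square root. -/
theorem main (hQ : (polarBilin Q).Nondegenerate) (h2 : (2 : F) ≠ 0) (hδ : ¬ IsSquare δ) {d : ℕ} (hd3 : 3 ≤ d)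
    (hd : finrank F V = 2 * d) (hJ : IsSJ Q δ J) (H : Subgroup (orthGroup Q))
    (hH : ∀ g : orthGroup Q, g ∈ H ↔ (∀ v, g.1 (J v) = J (g.1 v)) ∨ ∀ v, g.1 (J v) = -J (g.1 v))
    (hr : r ∣ H.relIndex (commutator (orthGroup Q))) :
    (∀ x ∈ commutator (orthGroup Q), (∃ z : F, ∀ v, (x ^ r).1 v = z • v) → (∀ z : F, ∃ v, x.1 v ≠ z • v) →
      ∃ g ∈ commutator (orthGroup Q), g⁻¹ * x * g ∈ H) ↔ r = 2 := by
  have hrp : r.Prime := Fact.out
  constructor
  · intro hall
    by_contra hr2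
    have hodd : Odd r := hrp.odd_of_ne_two hr2
    have finish : (∃ x ∈ commutator (orthGroup Q), x ^ r = 1 ∧ x ≠ 1 ∧
        ∀ g : orthGroup Q, ¬ ∀ v, (g⁻¹ * x * g).1 (J v) = J ((g⁻¹ * x * g).1 v)) → False := by
      rintro ⟨x, hxc, hxr, hx1, hno⟩
      obtain ⟨g, -, hg⟩ := hall x hxc ⟨1, fun v => by rw [hxr, one_smul]; rfl⟩ (not_scalar hQ hodd hxr hx1)
      refine hno g (comm_of_odd h2 hodd hJ hδ ?_ ((hH _).1 hg))
      rw [show g⁻¹ * x * g = g⁻¹ * x * g⁻¹⁻¹ by rw [inv_inv], conj_pow, hxr, mul_one, mul_inv_cancel]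
    by_cases hr0 : (r : F) = 0
    · exact finish (exists_unipotent_witness hQ h2 hr0 (by omega) hδ hJ)
    set q := Fintype.card F with hq
    have hq1 : 1 ≤ q := Fintype.card_pos
    have hrq : ¬ r ∣ q := fun hdv => by
      obtain ⟨p, hp⟩ := CharP.exists F
      haveI := hp
      obtain ⟨n, hpp, hn⟩ := FiniteField.card F p
      have : r = p := (Nat.prime_dvd_prime_iff_eq hrp hpp).1 (hrp.dvd_of_dvd_pow (n := (n : ℕ)) (by rw [← hn]; exact hdv))
      exact hr0 (this ▸ CharP.cast_eq_zero F p)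
    obtain ⟨d', rfl⟩ : ∃ d', d = d' + 1 := ⟨d - 1, by omega⟩
    set e := orderOf (q : ZMod r) with he
    have he0 : 0 < e := by
      refine Nat.pos_of_ne_zero fun h0 => ?_
      have h1 : (q : ZMod r) ^ (r - 1) = 1 := ZMod.pow_card_sub_one_eq_one
        fun h => hrq ((ZMod.natCast_eq_zero_iff _ _).1 h)
      rw [he, orderOf_eq_zero_iff'] at h0
      exact h0 (r - 1) (by have := hrp.two_le; omega) h1
    have hne1 : (-1 : ZMod r) ≠ 1 := by
      haveI : Fact (2 < r) := ⟨lt_of_le_of_ne hrp.two_le (Ne.symm hr2)⟩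
      exact ZMod.neg_one_ne_one
    obtain ⟨N, hplus, hminus⟩ := card_orth_even hQ hd
    have hmain := mul_card_dvd hQ h2 hr2 H hr
    have hC := fun c => card_centralizer_dvd hQ h2 hδ hd hJ H (fun g hg => (hH g).2 (Or.inl hg)) c
    -- the factor distinguishing the two types
    obtain ⟨T, hT, hcardO, hTcases⟩ : ∃ T : ℕ, 0 < T ∧
        Nat.card (orthGroup Q) = 2 * q ^ N * T * (∏ i ∈ Finset.range d', (q ^ (2 * (i + 1)) - 1)) ∧
        ((EvenForms.Plus Q (d' + 1) ∧ T = q ^ (d' + 1) - 1) ∨ (¬ EvenForms.Plus Q (d' + 1) ∧ T = q ^ (d' + 1) + 1)) := by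
      have hq2 : 2 ≤ q ^ (d' + 1) := le_trans Fintype.one_lt_card (Nat.le_self_pow (by omega) _)
      by_cases hP : EvenForms.Plus Q (d' + 1)
      · exact ⟨q ^ (d' + 1) - 1, by omega, hplus hP, Or.inl ⟨hP, rfl⟩⟩
      · exact ⟨_, Nat.succ_pos _, hminus hP, Or.inr ⟨hP, rfl⟩⟩
    have hTe : r ∣ T → e ∣ 2 * (d' + 1) := fun h => by
      refine orderOf_dvd_of_pow_eq_one ?_
      rw [mul_comm, pow_mul]
      rcases hTcases with ⟨-, rfl⟩ | ⟨-, rfl⟩
      · rw [cast_eq_one_of_dvd hq1 h, one_pow]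
      · rw [cast_eq_neg_one_of_dvd h, neg_one_sq]
    have hfactor : r ∣ T ∨ ∃ i < d', e ∣ 2 * (i + 1) := by
      have h1 : r ∣ Nat.card (orthGroup Q) := (dvd_mul_right _ _).trans hmain
      rw [hcardO] at h1
      rcases hrp.dvd_mul.1 h1 with h1 | h1
      · refine Or.inl ((hrp.dvd_mul.1 h1).resolve_left fun h => ?_)
        rcases hrp.dvd_mul.1 h with h | h
        · exact hr2 ((Nat.prime_dvd_prime_iff_eq hrp Nat.prime_two).1 h)
        · exact hrq (hrp.dvd_of_dvd_pow h)
      · obtain ⟨i, hi, hd'⟩ := (hrp.prime.dvd_finsetProd_iff _).1 h1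
        exact Or.inr ⟨i, Finset.mem_range.1 hi, orderOf_dvd_of_pow_eq_one (cast_eq_one_of_dvd hq1 hd')⟩
    -- the order of the field element is not divisible by four
    have h4 : ¬ 4 ∣ e := fun h4 => by
      have hev : ∀ j, ¬ r ∣ q ^ (2 * (2 * j + 1)) - 1 := fun j hdv => by
        have := h4.trans (orderOf_dvd_of_pow_eq_one (cast_eq_one_of_dvd hq1 hdv))
        omega
      have hodd' : ∀ c, (∏ j ∈ Finset.range c, (q ^ (2 * (2 * j + 1 + 1)) - 1)) =
          ∏ j ∈ Finset.range c, (q ^ (4 * (j + 1)) - 1) :=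
        fun c => Finset.prod_congr rfl fun j _ => by
          rw [show 2 * (2 * j + 1 + 1) = 4 * (j + 1) by ring]
      have hEven : ∀ c, ¬ r ∣ ∏ j ∈ Finset.range c, (q ^ (2 * (2 * j + 1)) - 1) := fun c hdv => by
        obtain ⟨j, -, hj⟩ := (hrp.prime.dvd_finsetProd_iff _).1 hdv
        exact hev j hj
      have h2q : ¬ r ∣ 2 * q ^ N := fun h => by
        rcases hrp.dvd_mul.1 h with h | h
        · exact hr2 ((Nat.prime_dvd_prime_iff_eq hrp Nat.prime_two).1 h)
        · exact hrq (hrp.dvd_of_dvd_pow h)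
      have hpos : ∀ c, 0 < ∏ j ∈ Finset.range c, (q ^ (4 * (j + 1)) - 1) := fun c => Finset.prod_pos fun j _ => by
        have : 2 ≤ q ^ (4 * (j + 1)) := le_trans Fintype.one_lt_card (Nat.le_self_pow (by omega) _)
        omega
      rcases Nat.even_or_odd' (d' + 1) with ⟨c, hc | hc⟩
      · obtain ⟨c, rfl⟩ : ∃ c', c = c' + 1 := ⟨c - 1, by omega⟩
        obtain rfl : d' = 2 * c + 1 := by omega
        set A := T * ∏ j ∈ Finset.range c, (q ^ (4 * (j + 1)) - 1)
        have hA : A ∣ Nat.card H := by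
          rcases hTcases with ⟨hP, hT'⟩ | ⟨hP, hT'⟩
          · simpa only [A, hT', hc] using ((hC c).2 hc).1 hP
          · simpa only [A, hT', hc] using ((hC c).2 hc).2 hP
        have h1 := (mul_dvd_mul_left r hA).trans hmain
        rw [hcardO, prod_split_odd (fun i => q ^ (2 * (i + 1)) - 1) c, hodd',
          show ∀ a b f g : ℕ, a * b * (f * g) = a * g * (b * f) from fun a b f g => by ring] at h1
        rcases hrp.dvd_mul.1 (Nat.dvd_of_mul_dvd_mul_right (Nat.mul_pos hT (hpos c)) h1) with h | h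
        · exact h2q h
        · exact hEven _ h
      · obtain rfl : d' = 2 * c := by omega
        have h1 := (mul_dvd_mul_left r ((hC c).1 hc)).trans hmain
        rw [hcardO, prod_split_even (fun i => q ^ (2 * (i + 1)) - 1) c, hodd',
          show ∀ a f g : ℕ, a * (f * g) = a * g * f from fun a f g => by ring] at h1
        rcases hrp.dvd_mul.1 (Nat.dvd_of_mul_dvd_mul_right (hpos c) h1) with h | h
        · refine (hrp.dvd_mul.1 h).elim h2q fun h => ?_
          have := h4.trans (hTe h)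
          omega
        · exact hEven _ h
    refine finish ?_
    rcases Nat.even_or_odd e with heven | heodd
    · obtain ⟨m, hm⟩ := heven
      have hm' : e = 2 * m := by omega
      have hmo : Odd m := Nat.not_even_iff_odd.1 fun ⟨k, hk⟩ => h4 ⟨k, by omega⟩
      refine exists_block_witness hQ h2 hr0 hodd hδ hJ (m := m) (Or.inr ⟨hmo, hm'⟩) ?_
      rcases hfactor with hTd | ⟨i, hi, hdi⟩
      · rcases hTcases with ⟨-, rfl⟩ | ⟨hP, rfl⟩
        · have := Nat.le_of_dvd (by omega) (orderOf_dvd_of_pow_eq_one (cast_eq_one_of_dvd hq1 hTd))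
          have := hmo.pos
          left; omega
        · have := Nat.le_of_dvd (by omega) (hTe hTd)
          by_cases hmd : m = d' + 1
          · subst hmd
            exact Or.inr ⟨hd.symm, ⟨fun h => absurd h hP, fun h => absurd h (Nat.not_odd_iff_even.2 ⟨_, hm⟩)⟩⟩
          · left; omega
      · have := Nat.le_of_dvd (by omega) hdi
        left; omega
    · refine exists_block_witness hQ h2 hr0 hodd hδ hJ (m := e) (Or.inl ⟨heodd, rfl⟩) ?_
      have hdiv : ∀ n, e ∣ 2 * n → e ∣ n := fun n h => (Nat.coprime_two_right.2 heodd).dvd_of_dvd_mul_left h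
      rcases hfactor with hTd | ⟨i, hi, hdi⟩
      · rcases hTcases with ⟨hP, rfl⟩ | ⟨hP, rfl⟩
        · have := Nat.le_of_dvd (by omega) (hdiv _ (hTe hTd))
          by_cases hed : e = d' + 1
          · right
            refine ⟨by omega, ?_⟩
            rw [hed]
            exact ⟨fun _ => heodd, fun _ => hP⟩
          · left; omega
        · exfalso
          obtain ⟨k, hk⟩ := hdiv _ (hTe hTd)
          have h1 := cast_eq_neg_one_of_dvd hTd
          rw [hk, pow_mul, pow_orderOf_eq_one, one_pow] at h1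
          exact hne1 h1.symm
      · have := Nat.le_of_dvd (by omega) (hdiv _ hdi)
        left; omega
  · rintro rfl x hx ⟨z, hz⟩ -
    obtain ⟨g, hg, hgx⟩ := exists_two hQ h2 hδ (by omega) hd hJ hx (z := z) fun v => by
      have := hz v
      rwa [pow_two] at this
    exact ⟨g, hg, (hH _).2 hgx⟩

end Abstract

section Matrices

variable {F : Type*} [Field F] [Fintype F] {ι : Type} [Fintype ι] [DecidableEq ι] [Nonempty ι] {Qf : (ι → F) → F}
  {r : ℕ} [Fact r.Prime]

/-- The statement for the normaliser in `Ω` of a self-adjoint quadratic extension field. -/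
theorem matrix_main (P : QuadraticForm F (ι → F)) (hQf : ∀ v, Qf v = P v) (hP : (polarBilin P).Nondegenerate)
    (h2 : (2 : F) ≠ 0) {d : ℕ} (hd3 : 3 ≤ d) (hdim : finrank F (ι → F) = 2 * d) (K : Subalgebra F (Matrix ι ι F))
    (hK : Cfsg.Geo.IsFieldSubalgebra 2 K) (hKf : Cfsg.Geo.IsSelfAdjointFor (QuadraticMap.polar Qf) K)
    (hΩ : r ∣ (Cfsg.Geo.subalgebraNormalizer K).relIndex (Cfsg.Geo.omegaGL Qf)) :
    (∀ x ∈ Cfsg.Geo.omegaGL Qf, (∃ z : F, ((x ^ r : GL ι F) : Matrix ι ι F) = z • (1 : Matrix ι ι F)) →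
      (∀ z : F, (x : Matrix ι ι F) ≠ z • (1 : Matrix ι ι F)) →
      ∃ g ∈ Cfsg.Geo.omegaGL Qf, g⁻¹ * x * g ∈ Cfsg.Geo.subalgebraNormalizer K) ↔ r = 2 := by
  classical
  have hfun : Qf = ⇑P := funext hQf
  -- a root of a non-square in the field
  haveI : FiniteDimensional F K := Module.finite_of_finrank_eq_succ hK.finrank_eq
  obtain ⟨Jm, hJK, hJs⟩ : ∃ Jm ∈ K, ∀ c : F, Jm ≠ c • (1 : Matrix ι ι F) := by
    by_contra hall
    push Not at hall
    have hle : Subalgebra.toSubmodule K ≤ Submodule.span F {(1 : Matrix ι ι F)} := fun k hk => by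
      obtain ⟨c, rfl⟩ := hall k hk
      exact Submodule.smul_mem _ _ (Submodule.mem_span_singleton_self _)
    have h1 := Submodule.finrank_mono hle
    rw [finrank_span_singleton (one_ne_zero (α := Matrix ι ι F))] at h1
    have h3 : finrank F (Subalgebra.toSubmodule K) = 2 := hK.finrank_eq
    omega
  obtain ⟨δ₀, b, hJJ₀⟩ := QuadExtension.exists_repr hK hJK hJs (K.mul_mem hJK hJK)
  set J' := Jm - (b / 2) • (1 : Matrix ι ι F) with hJ'
  have hJ'K : J' ∈ K := K.sub_mem hJK (K.smul_mem K.one_mem _)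
  have hJ's : ∀ c : F, J' ≠ c • (1 : Matrix ι ι F) := fun c h => hJs (c + b / 2) (by
    rw [add_smul, ← h, hJ', sub_add_cancel])
  set δ := δ₀ + b * b / 4
  have hJJ : J' * J' = δ • (1 : Matrix ι ι F) := by
    have h4 : (4 : F) ≠ 0 := by rw [show (4 : F) = 2 * 2 by norm_num]; exact mul_ne_zero h2 h2
    simp only [hJ', δ, sub_mul, mul_sub, Matrix.smul_mul, Matrix.mul_smul, one_mul, mul_one, hJJ₀]
    match_scalars <;> field_simp <;> ring
  have hδ : ¬ IsSquare δ := by
    rintro ⟨s, hs⟩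
    have hz : (J' - s • (1 : Matrix ι ι F)) * (J' + s • (1 : Matrix ι ι F)) = 0 := by
      simp only [sub_mul, mul_add, Matrix.smul_mul, Matrix.mul_smul, one_mul, mul_one, hJJ, hs, smul_smul]
      abel
    obtain ⟨y, hyK, hy⟩ := hK.inv _ (K.sub_mem hJ'K (K.smul_mem K.one_mem s)) (fun h => hJ's s (sub_eq_zero.1 h))
    have := congrArg (y * ·) hz
    rw [← mul_assoc, hK.comm y hyK _ (K.sub_mem hJ'K (K.smul_mem K.one_mem s)), hy, one_mul, mul_zero] at this
    exact hJ's (-s) (by rw [neg_smul]; exact eq_neg_of_add_eq_zero_left this)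
  have hδ0 : δ ≠ 0 := fun e => hδ (e ▸ IsSquare.zero)
  set J : Module.End F (ι → F) := Matrix.toLin' J' with hJdef
  have hJa : ∀ v, J v = J' *ᵥ v := fun v => Matrix.toLin'_apply _ _
  have hJ : IsSJ P δ J := ⟨fun v => by rw [hJa, hJa, Matrix.mulVec_mulVec, hJJ, Matrix.smul_mulVec, Matrix.one_mulVec],
    fun u v => by rw [hJa, hJa, ← hfun]; exact hKf J' hJ'K u v⟩
  let ψ : orthGroup P →* GL ι F := (Cfsg.isometryGroup F Qf).subtype.comp (toOrth P hQf).symm.toMonoidHom
  have hψ : ∀ g v, ((ψ g : GL ι F) : Matrix ι ι F) *ᵥ v = g.1 v := fun g v => matOf_mulVec P g v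
  have hψi : Function.Injective ψ := fun a c e => Subtype.ext (LinearEquiv.ext fun x => by rw [← hψ, ← hψ, e])
  have hmap : (commutator (orthGroup P)).map ψ = Cfsg.Geo.omegaGL Qf := by
    ext x
    constructor
    · rintro ⟨g, hg, rfl⟩
      refine ⟨(toOrth P hQf).symm g, ?_, rfl⟩
      rw [SetLike.mem_coe, mem_Omega_iff P hQf, MulEquiv.apply_symm_apply]
      exact hg
    · rintro ⟨g, hg, rfl⟩
      refine ⟨toOrth P hQf g, (mem_Omega_iff P hQf g).1 hg, ?_⟩
      show (((toOrth P hQf).symm (toOrth P hQf g) : _) : GL ι F) = _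
      rw [MulEquiv.symm_apply_apply]
      rfl
  have hNrm : ∀ g, g ∈ (Cfsg.Geo.subalgebraNormalizer K).comap ψ ↔
      (∀ v, g.1 (J v) = J (g.1 v)) ∨ ∀ v, g.1 (J v) = -J (g.1 v) := by
    intro g
    rw [Subgroup.mem_comap, QuadExtension.mem_normalizer_iff h2 hK hJ'K hJ's hJJ hδ0 (ψ g)]
    refine or_congr ⟨fun h v => ?_, fun h => ?_⟩ ⟨fun h v => ?_, fun h => ?_⟩
    · rw [hJa, hJa, ← hψ, ← hψ, Matrix.mulVec_mulVec, h, Matrix.mulVec_mulVec]
    · refine Matrix.ext_of_mulVec_single fun i => ?_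
      have := h (Pi.single i 1)
      rw [hJa, hJa, ← hψ, ← hψ] at this
      rwa [← Matrix.mulVec_mulVec, ← Matrix.mulVec_mulVec]
    · rw [hJa, hJa, ← hψ, ← hψ, Matrix.mulVec_mulVec, h, Matrix.neg_mulVec, Matrix.mulVec_mulVec]
    · refine Matrix.ext_of_mulVec_single fun i => ?_
      have := h (Pi.single i 1)
      rw [hJa, hJa, ← hψ, ← hψ] at this
      rwa [← Matrix.mulVec_mulVec, Matrix.neg_mulVec, ← Matrix.mulVec_mulVec]
  have hscal : ∀ (g : orthGroup P) (z : F),
      ((ψ g : GL ι F) : Matrix ι ι F) = z • (1 : Matrix ι ι F) ↔ ∀ v, g.1 v = z • v := fun g z =>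
    ⟨fun h v => by rw [← hψ, h, Matrix.smul_mulVec, Matrix.one_mulVec],
      fun h => Matrix.ext_of_mulVec_single fun i => by rw [hψ, h, Matrix.smul_mulVec, Matrix.one_mulVec]⟩
  rw [← main (r := r) hP h2 hδ hd3 hdim hJ ((Cfsg.Geo.subalgebraNormalizer K).comap ψ) hNrm
    (by rw [Subgroup.relIndex_comap, hmap]; exact hΩ), ← hmap]
  constructor
  · intro h x hx ⟨z, hz⟩ hns
    obtain ⟨_, ⟨g, hg, rfl⟩, hmem⟩ := h (ψ x) ⟨x, hx, rfl⟩ ⟨z, by rw [← map_pow]; exact (hscal _ _).2 hz⟩
      (fun z' hz' => by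
        obtain ⟨v, hv⟩ := hns z'
        exact hv ((hscal _ _).1 hz' v))
    exact ⟨g, hg, by rw [Subgroup.mem_comap, map_mul, map_mul, map_inv]; exact hmem⟩
  · rintro h _ ⟨x, hx, rfl⟩ ⟨z, hz⟩ hns
    rw [← map_pow] at hz
    obtain ⟨g, hg, hmem⟩ := h x hx ⟨z, (hscal _ _).1 hz⟩ (fun z' => by
      by_contra hall
      push Not at hall
      exact hns z' ((hscal _ _).2 hall))
    rw [Subgroup.mem_comap, map_mul, map_mul, map_inv] at hmem
    exact ⟨ψ g, ⟨g, hg, rfl⟩, hmem⟩

end Matrices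

end CfsgLib.Derangements.OrthField
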