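import Cfsg.Agent.Lib.Derangements.OrthFieldExtBasic
import Cfsg.Agent.Lib.Derangements.OrthNegation

/-!
# Self-adjoint square roots adapted to an isometry of order at most two modulo scalars
-/

set_option autoImplicit false
set_option linter.unusedSectionVars false

namespace CfsgLib.Derangements.OrthField

open Module QuadraticMap CfsgLib.Classical CfsgLib.Orth CfsgLib.Derangements.OrthInv

variable {F : Type*} [Field F] {V : Type*} [AddCommGroup V] [Module F V] [FiniteDimensional F V]
  {Q : QuadraticForm F V}

/-- An orthogonal family of anisotropic vectors. -/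
def OrthFam {κ : Type*} (Q : QuadraticForm F V) (f : κ → V) : Prop :=
  (∀ i, Q (f i) ≠ 0) ∧ ∀ i j, i ≠ j → polar Q (f i) (f j) = 0

theorem OrthFam.linearIndependent {κ : Type*} {f : κ → V} (hf : OrthFam Q f) (h2 : (2 : F) ≠ 0) :
    LinearIndependent F f := by
  classical
  rw [linearIndependent_iff']
  intro s g hg i hi
  have h := congrArg (polar Q (f i)) hg
  rw [polar_zero_right, show polar Q (f i) (∑ j ∈ s, g j • f j) = polarBilin Q (f i) (∑ j ∈ s, g j • f j) from rfl,
    map_sum, Finset.sum_eq_single i (fun j _ hj => by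
      rw [map_smul, polarBilin_apply_apply, hf.2 i j hj.symm, smul_zero]) (fun h => absurd hi h),
    map_smul, polarBilin_apply_apply, Orth.polar_self', smul_eq_mul] at h
  exact (mul_eq_zero.1 h).resolve_right (mul_ne_zero h2 (hf.1 i))

theorem OrthFam.exists_basis {κ : Type*} [Fintype κ] {f : κ → V} (hf : OrthFam Q f) (h2 : (2 : F) ≠ 0)
    (hk : finrank F V = Fintype.card κ) : ∃ b : Basis κ F V, ⇑b = f :=
  ⟨Basis.mk (hf.linearIndependent h2) (le_of_eq ((hf.linearIndependent h2).span_eq_top_of_card_eq_finrank'
    hk.symm).symm), Basis.coe_mk _ _⟩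

theorem exists_orth_family [Fintype F] (h2 : (2 : F) ≠ 0) {X : Submodule F V} (hX : NondegOn (polarBilin Q) X) {k : ℕ}
    (hk : finrank F X = k + k) :
    ∃ f : Fin k ⊕ Fin k → V, (∀ i, f i ∈ X) ∧ OrthFam Q f := by
  classical
  haveI : Invertible (2 : F) := invertibleOfNonzero h2
  set BX : LinearMap.BilinForm F X := polarBilin (Q.comp X.subtype)
  have hBn : BX.Nondegenerate := comp_nondeg hX
  obtain ⟨b, hb⟩ := LinearMap.BilinForm.exists_orthogonal_basis (B := BX) ⟨fun x y => by
    simp only [BX, polarBilin_apply_apply]; exact polar_comm _ x y⟩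
  let e : Fin k ⊕ Fin k ≃ Fin (finrank F X) := finSumFinEquiv.trans (finCongr hk.symm)
  refine ⟨fun i => (b (e i) : V), fun i => (b (e i)).2, fun i h => ?_, fun i j h => ?_⟩
  · refine LinearMap.BilinForm.iIsOrtho.not_isOrtho_basis_self_of_nondegenerate hb hBn (e i) ?_
    show polar (Q.comp X.subtype) (b (e i)) (b (e i)) = 0
    rw [Orth.polar_self']
    exact mul_eq_zero_of_right _ h
  · have h1 := hb (fun e' => h (e.injective e'))
    exact h1

/-- Orthogonal planes adapted to an isometry of square minus one. -/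
theorem exists_pairs_anti [Fintype F] (h2 : (2 : F) ≠ 0) : ∀ (n : ℕ) {W : Type*} [AddCommGroup W] [Module F W]
    [FiniteDimensional F W] (R : QuadraticForm F W) (T : Module.End F W), (polarBilin R).Nondegenerate →
    finrank F W ≤ n → (∀ w, R (T w) = R w) → (∀ w, T (T w) = -w) →
    ∃ (k : ℕ) (e : Fin k → W), finrank F W = k + k ∧ OrthFam R (Sum.elim e fun i => T (e i))
  | 0, W, _, _, _, R, T, _, hn, _, _ => ⟨0, Fin.elim0, by omega, fun i => by rcases i with i | i <;> exact i.elim0,
      fun i => by rcases i with i | i <;> exact i.elim0⟩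
  | n + 1, W, _, _, _, R, T, hR, hn, hT, hsq => by
    classical
    by_cases hW : ∀ w : W, R w = 0
    · have h0 : ∀ w : W, w = 0 := fun w => hR.1 w fun z => by
        rw [polarBilin_apply_apply]; simp [polar, hW]
      haveI : Subsingleton W := ⟨fun a c => (h0 a).trans (h0 c).symm⟩
      exact ⟨0, Fin.elim0, by rw [Module.finrank_zero_of_subsingleton], fun i => by rcases i with i | i <;> exact i.elim0,
        fun i => by rcases i with i | i <;> exact i.elim0⟩
    push Not at hW
    obtain ⟨v, hv⟩ := hW
    have hskew : ∀ a c, polar R (T a) c = -polar R a (T c) := fun a c => by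
      have h1 : polar R (T a) (T (T c)) = polar R a (T c) := by
        simp only [polar, ← map_add, hT]
      rw [hsq, polar_neg_right] at h1
      linear_combination -h1
    have hvT : polar R v (T v) = 0 := by
      have h1 := hskew v v
      rw [polar_comm _ (T v) v] at h1
      exact (mul_eq_zero.1 (show (2 : F) * polar R v (T v) = 0 by linear_combination h1)).resolve_left h2
    have hvv : polar R v v = 2 * R v := Orth.polar_self' R v
    have hTT : polar R (T v) (T v) = 2 * R v := by rw [Orth.polar_self', hT]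
    have hv2 : (2 : F) * R v ≠ 0 := mul_ne_zero h2 hv
    set P : Submodule F W := LinearMap.ker (polarBilin R v) ⊓ LinearMap.ker (polarBilin R (T v))
    have hmemP : ∀ x, x ∈ P ↔ polar R v x = 0 ∧ polar R (T v) x = 0 := fun x => Iff.rfl
    have hdec : ∀ x, x - (polar R v x / (2 * R v)) • v - (polar R (T v) x / (2 * R v)) • T v ∈ P := fun x => by
      rw [hmemP]
      constructor
      · rw [polar_sub_right, polar_sub_right, Orth.polar_smul_r', Orth.polar_smul_r', hvT, hvv,
          div_mul_cancel₀ _ hv2, mul_zero, sub_self, sub_zero]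
      · rw [polar_sub_right, polar_sub_right, Orth.polar_smul_r', Orth.polar_smul_r', polar_comm _ (T v) v, hvT, hTT,
          div_mul_cancel₀ _ hv2, mul_zero, sub_zero, sub_self]
    have hTP : ∀ x ∈ P, T x ∈ P := fun x hx => by
      rw [hmemP] at hx ⊢
      constructor
      · have h1 := hskew v x
        rw [hx.2] at h1
        linear_combination h1
      · have h1 : polar R (T v) (T x) = polar R v x := by simp only [polar, ← map_add, hT]
        rw [h1, hx.1]
    have hPn : (polarBilin (R.comp P.subtype)).Nondegenerate := Orth.nondegenerate_of_left fun x hx =>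
      Subtype.ext (hR.1 _ fun z => by
        rw [polarBilin_apply_apply]
        have h1 := hx ⟨_, hdec z⟩
        change polar R (x : W) (z - _ - _) = 0 at h1
        rw [polar_sub_right, polar_sub_right, Orth.polar_smul_r', Orth.polar_smul_r', polar_comm _ (x : W) v,
          polar_comm _ (x : W) (T v), ((hmemP _).1 x.2).1, ((hmemP _).1 x.2).2, mul_zero, mul_zero, sub_zero,
          sub_zero] at h1
        exact h1)
    have hvP : finrank F P + 2 = finrank F W := by
      let π : W →ₗ[F] (Fin 2 → F) := LinearMap.pi ![polarBilin R v, polarBilin R (T v)]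
      have hker : LinearMap.ker π = P := by
        ext x
        rw [LinearMap.mem_ker, hmemP]
        simp [π, funext_iff, Fin.forall_fin_two]
      have hsurj : LinearMap.range π = ⊤ := LinearMap.range_eq_top.2 fun c =>
        ⟨(c 0 / (2 * R v)) • v + (c 1 / (2 * R v)) • T v, by
          funext i; fin_cases i <;>
            simp [π, hvT, hvv, hTT, polar_comm (⇑R) (T v) v, div_mul_cancel₀ _ hv2]⟩
      have := LinearMap.finrank_range_add_finrank_ker π
      rw [hsurj, finrank_top, Module.finrank_fin_fun, hker] at this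
      omega
    obtain ⟨k, e, hk, hf1, hf2⟩ := exists_pairs_anti h2 n (R.comp P.subtype) (T.restrict hTP) hPn (by omega)
      (fun w => hT w) (fun w => Subtype.ext (hsq w))
    refine ⟨k + 1, Fin.cons v fun i => (e i : W), by omega, ?_, ?_⟩
    · rintro (i | i) <;> cases i using Fin.cases with
      | zero => simpa [hT] using hv
      | succ i =>
        first
        | simpa using hf1 (.inl i)
        | simpa using hf1 (.inr i)
    · have hvp : ∀ x : P, polar R v (x : W) = 0 ∧ polar R (T v) (x : W) = 0 := fun x => (hmemP _).1 x.2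
      have hvp' : ∀ x : P, polar R (x : W) v = 0 ∧ polar R (x : W) (T v) = 0 := fun x =>
        ⟨by rw [polar_comm]; exact (hvp x).1, by rw [polar_comm]; exact (hvp x).2⟩
      have hrec : ∀ i j, i ≠ j → polar R ((Sum.elim e (fun i => T.restrict hTP (e i)) i : P) : W)
          ((Sum.elim e (fun i => T.restrict hTP (e i)) j : P) : W) = 0 := hf2
      rintro (i | i) (j | j) hij <;> cases i using Fin.cases <;> cases j using Fin.cases <;>
        simp only [Sum.elim_inl, Sum.elim_inr, Fin.cons_zero, Fin.cons_succ]
      all_goals first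
        | exact absurd rfl hij
        | exact hvT
        | (rw [polar_comm]; exact hvT)
        | exact (hvp _).1
        | exact (hvp _).2
        | exact (hvp ⟨_, hTP _ (e _).2⟩).1
        | exact (hvp ⟨_, hTP _ (e _).2⟩).2
        | exact (hvp' _).1
        | exact (hvp' _).2
        | exact (hvp' ⟨_, hTP _ (e _).2⟩).1
        | exact (hvp' ⟨_, hTP _ (e _).2⟩).2
        | exact hrec (.inl _) (.inl _) (fun h => hij (by rw [Sum.inl.inj h]))
        | exact hrec (.inl _) (.inr _) (by simp)
        | exact hrec (.inr _) (.inl _) (by simp)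
        | exact hrec (.inr _) (.inr _) (fun h => hij (by rw [Sum.inr.inj h]))

/-- A family of pairs adapted to an element of the commutator subgroup with scalar square. -/
theorem exists_pairs [Fintype F] (hQ : (polarBilin Q).Nondegenerate) (h2 : (2 : F) ≠ 0) {d : ℕ}
    (hd : finrank F V = 2 * d) (x : orthGroup Q) (hx : x ∈ commutator (orthGroup Q)) {z : F}
    (hz : ∀ v, x.1 (x.1 v) = z • v) :
    ∃ f : Fin d ⊕ Fin d → V, OrthFam Q f ∧
      ((∀ i, ∃ σ : F, x.1 (f (.inl i)) = σ • f (.inl i) ∧ x.1 (f (.inr i)) = σ • f (.inr i)) ∨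
        ∀ i, x.1 (f (.inl i)) = f (.inr i) ∧ x.1 (f (.inr i)) = -f (.inl i) ∧ Q (f (.inr i)) = Q (f (.inl i))) := by
  classical
  haveI : Finite V := Module.finite_of_finite F
  by_cases hV : ∀ v : V, v = 0
  · haveI : Subsingleton V := ⟨fun a c => (hV a).trans (hV c).symm⟩
    rw [Module.finrank_zero_of_subsingleton] at hd
    obtain rfl : d = 0 := by omega
    exact ⟨fun i => 0, ⟨fun i => by rcases i with i | i <;> exact i.elim0,
      fun i => by rcases i with i | i <;> exact i.elim0⟩, Or.inl fun i => i.elim0⟩
  have hzz : z * z = 1 := by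
    obtain ⟨v, hv⟩ : ∃ v : V, Q v ≠ 0 := by
      by_contra! hall
      exact hV fun w => hQ.1 w fun u => by rw [polarBilin_apply_apply]; simp [polar, hall]
    have h1 : Q (x.1 (x.1 v)) = Q v := by rw [apply_quad, apply_quad]
    rw [hz, QuadraticMap.map_smul, smul_eq_mul] at h1
    exact (mul_eq_right₀ hv).1 h1
  rcases mul_self_eq_one_iff.1 hzz with rfl | rfl
  · have hL : ∀ v, (x.1 : Module.End F V) ((x.1 : Module.End F V) v) = v := fun v => (hz v).trans (one_smul F v)
    obtain ⟨hc, horth, hEn, hCn⟩ := involution_facts hQ h2 (L := (x.1 : Module.End F V)) (fun v => apply_quad x v) hL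
    set E := Module.End.eigenspace (x.1 : Module.End F V) (-1 : F)
    set C := Module.End.eigenspace (x.1 : Module.End F V) (1 : F)
    have hxE : ∀ v ∈ E, x.1 v = -v := fun v hv => by
      rw [Module.End.mem_eigenspace_iff, neg_one_smul] at hv; exact hv
    have hxC : ∀ v ∈ C, x.1 v = v := fun v hv => by
      rw [Module.End.mem_eigenspace_iff, one_smul] at hv; exact hv
    obtain ⟨g, hgE, hgC, heven, -⟩ := exists_negation hQ h2 hEn
    have hg : x = g := Subtype.ext <| LinearEquiv.ext fun v => by
      obtain ⟨a, ha, c, hc', rfl⟩ := Submodule.mem_sup.1 (hc.sup_eq_top ▸ Submodule.mem_top (x := v))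
      rw [map_add, map_add, hgE a ha, hgC c (mem_perp.2 fun w hw => horth w hw c hc'), hxE a ha, hxC c hc']
    obtain ⟨k, hk⟩ := heven (hg ▸ hx)
    have hsum := Submodule.finrank_add_eq_of_isCompl hc
    obtain ⟨l, hl⟩ : ∃ l, finrank F C = l + l := ⟨d - k, by omega⟩
    obtain ⟨f₁, hf₁m, hf₁⟩ := exists_orth_family h2 hEn hk
    obtain ⟨f₂, hf₂m, hf₂⟩ := exists_orth_family h2 hCn hl
    let ε : Fin d ≃ Fin k ⊕ Fin l := (finCongr (by omega : d = k + l)).trans finSumFinEquiv.symm
    let f : Fin d ⊕ Fin d → V := Sum.elim (fun i => Sum.elim (f₁ ∘ Sum.inl) (f₂ ∘ Sum.inl) (ε i))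
      fun i => Sum.elim (f₁ ∘ Sum.inr) (f₂ ∘ Sum.inr) (ε i)
    have key : ∀ s t, polar Q (f₁ s) (f₂ t) = 0 := fun s t => horth _ (hf₁m s) _ (hf₂m t)
    refine ⟨f, ⟨fun i => ?_, fun i j hij => ?_⟩, Or.inl fun i => ?_⟩
    · rcases i with i | i <;> rcases h : ε i with a | a <;> simp only [f, Sum.elim_inl, Sum.elim_inr, h, Function.comp_apply]
      all_goals first | exact hf₁.1 _ | exact hf₂.1 _
    · rcases i with i | i <;> rcases j with j | j <;> rcases h : ε i with a | a <;> rcases h' : ε j with c | c <;>
        simp only [f, Sum.elim_inl, Sum.elim_inr, h, h', Function.comp_apply]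
      all_goals first
        | exact key _ _
        | (rw [polar_comm]; exact key _ _)
        | exact hf₁.2 _ _ Sum.inl_ne_inr
        | exact hf₁.2 _ _ Sum.inr_ne_inl
        | exact hf₂.2 _ _ Sum.inl_ne_inr
        | exact hf₂.2 _ _ Sum.inr_ne_inl
        | (refine hf₁.2 _ _ fun e => hij ?_
           simp only [Sum.inl.injEq, Sum.inr.injEq, reduceCtorEq] at e
           subst e
           rw [ε.injective (h.trans h'.symm)])
        | (refine hf₂.2 _ _ fun e => hij ?_
           simp only [Sum.inl.injEq, Sum.inr.injEq, reduceCtorEq] at e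
           subst e
           rw [ε.injective (h.trans h'.symm)])
    · rcases h : ε i with a | a
      · exact ⟨-1, by simp [f, h, hxE _ (hf₁m _)], by simp [f, h, hxE _ (hf₁m _)]⟩
      · exact ⟨1, by simp [f, h, hxC _ (hf₂m _)], by simp [f, h, hxC _ (hf₂m _)]⟩
  · have hT : ∀ v, (x.1 : Module.End F V) ((x.1 : Module.End F V) v) = -v := fun v =>
      (hz v).trans (neg_one_smul F v)
    obtain ⟨k, e, hk, hf⟩ := exists_pairs_anti h2 (finrank F V) Q (x.1 : Module.End F V) hQ le_rfl
      (fun w => apply_quad x w) hT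
    obtain rfl : k = d := by omega
    exact ⟨_, hf, Or.inr fun i => ⟨rfl, hT _, apply_quad x _⟩⟩

end CfsgLib.Derangements.OrthField
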