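import Cfsg.Agent.Lib.Derangements.OrthFieldExtClass
import Cfsg.Agent.Lib.Derangements.OrthFieldExtPairs

/-!
# Elements with scalar square normalise a conjugate square root
-/

set_option autoImplicit false
set_option linter.unusedSectionVars false

namespace CfsgLib.Derangements.OrthField

open Module QuadraticMap CfsgLib.Classical CfsgLib.Orth

variable {F : Type*} [Field F] [Fintype F] {V : Type*} [AddCommGroup V] [Module F V] [FiniteDimensional F V]
  {δ : F} {Q : QuadraticForm F V} {J : Module.End F V}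

/-- A product of two reflections commuting with a square root, outside the commutator subgroup. -/
theorem exists_spinor_comm (hQ : (polarBilin Q).Nondegenerate) (h2 : (2 : F) ≠ 0) (hδ : ¬ IsSquare δ) {d : ℕ}
    (hd2 : 2 ≤ d) (hd : finrank F V = 2 * d) (hJ : IsSJ Q δ J) :
    ∃ c : orthGroup Q, (∀ v, c.1 (J v) = J (c.1 v)) ∧ LinearMap.det (c.1 : V →ₗ[F] V) = 1 ∧
      c ∉ commutator (orthGroup Q) := by
  classical
  haveI : Finite V := Module.finite_of_finite F
  haveI := fact_ext hδ
  letI := extModule hJ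
  haveI := extModule_tower hJ
  have hω := extModule_omega hJ
  haveI : Module.Finite (Ext δ) V := Module.Finite.of_restrictScalars_finite F (Ext δ) V
  haveI := Fintype.ofFinite (Ext δ)
  have hΦ := extForm_nondeg hJ hω h2 hQ
  obtain ⟨e, -, he⟩ := Orth.exists_value (Q := extForm hJ hω) ⊤ (by
    have hbot : (⊤ : Submodule (Ext δ) V) ⊓
        LinearMap.BilinForm.orthogonal (polarBilin (extForm hJ hω)) ⊤ = ⊥ := by
      rw [Submodule.eq_bot_iff]
      rintro x ⟨-, hx⟩
      exact hΦ.2 x fun z => hx z trivial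
    rw [hbot, finrank_bot, finrank_top, finrank_ext hd]; omega) (⟨0, 1⟩ : Ext δ)
  have he0 : polar Q e (J e) = 0 := congrArg QuadraticAlgebra.re he
  have he1 : (2 : F) * Q e = 1 := (Orth.polar_self' Q e).symm.trans (congrArg QuadraticAlgebra.im he)
  have hQe : Q e ≠ 0 := fun h => by rw [h, mul_zero] at he1; exact zero_ne_one he1
  have hQJ : Q (J e) = δ * Q e := by
    have h1 : polar Q (J e) (J e) = δ * polar Q e e := by rw [hJ.2, hJ.1, Orth.polar_smul_r']
    rw [Orth.polar_self', Orth.polar_self', mul_left_comm] at h1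
    exact mul_left_cancel₀ h2 h1
  have hδ0 : δ ≠ 0 := fun h => hδ (h ▸ IsSquare.zero)
  have hQJ0 : Q (J e) ≠ 0 := by rw [hQJ]; exact mul_ne_zero hδ0 hQe
  refine ⟨refl Q e * refl Q (J e), fun v => ?_, ?_, fun hmem => ?_⟩
  · show (refl Q e).1 ((refl Q (J e)).1 (J v)) = J ((refl Q e).1 ((refl Q (J e)).1 v))
    simp only [refl_apply, map_sub, map_smul, hJ.1, hQJ, polar_sub_right, Orth.polar_smul_r', he0, mul_zero, sub_zero]
    rw [hJ.2, hJ.1, Orth.polar_smul_r', ← hJ.2 e v]
    match_scalars <;> field_simp <;> ring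
  · show LinearMap.det (((refl Q e).1 : V →ₗ[F] V) * ((refl Q (J e)).1 : V →ₗ[F] V)) = 1
    rw [map_mul, det_refl Q hQe, det_refl Q hQJ0]; ring
  · have h := (prod_refl_mem_commutator_iff hQ h2 [e, J e] (by simp [hQe, hQJ0])).1 (by simpa using hmem)
    obtain ⟨s, hs⟩ := h.2
    simp only [List.map_cons, List.map_nil, List.prod_cons, List.prod_nil, mul_one, hQJ] at hs
    exact hδ ⟨s / Q e, by field_simp; linear_combination hs⟩

section Pairs

variable {κ : Type*} [Fintype κ] [DecidableEq κ]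

/-- The square root attached to planes with prescribed coefficients. -/
noncomputable def pairJ (Q : QuadraticForm F V) (b : Basis (κ ⊕ κ) F V) (u v : κ → F) : Module.End F V :=
  b.constr F (Sum.elim (fun i => u i • b (.inl i) + v i • b (.inr i))
    fun i => (Q (b (.inr i)) * v i / Q (b (.inl i))) • b (.inl i) - u i • b (.inr i))

theorem pairJ_inl (b : Basis (κ ⊕ κ) F V) (u v : κ → F) (i : κ) :
    pairJ Q b u v (b (.inl i)) = u i • b (.inl i) + v i • b (.inr i) := b.constr_basis F _ _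

theorem pairJ_inr (b : Basis (κ ⊕ κ) F V) (u v : κ → F) (i : κ) :
    pairJ Q b u v (b (.inr i)) = (Q (b (.inr i)) * v i / Q (b (.inl i))) • b (.inl i) - u i • b (.inr i) :=
  b.constr_basis F _ _

variable {b : Basis (κ ⊕ κ) F V} {u v : κ → F}

theorem pairJ_isSJ (hb : OrthFam Q b)
    (huv : ∀ i, u i * u i + Q (b (.inr i)) / Q (b (.inl i)) * (v i * v i) = δ) : IsSJ Q δ (pairJ Q b u v) := by
  constructor
  · intro w
    refine LinearMap.congr_fun (b.ext (f₁ := (pairJ Q b u v).comp (pairJ Q b u v)) (f₂ := δ • LinearMap.id) ?_) w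
    rintro (i | i) <;> rw [LinearMap.comp_apply, LinearMap.smul_apply, LinearMap.id_apply]
    · rw [pairJ_inl, map_add, map_smul, map_smul, pairJ_inl, pairJ_inr, ← huv i]
      match_scalars <;> ring
    · rw [pairJ_inr, map_sub, map_smul, map_smul, pairJ_inl, pairJ_inr, ← huv i]
      match_scalars <;> ring
  · intro x y
    have e : (polarBilin Q).compl₁₂ (pairJ Q b u v) LinearMap.id =
        (polarBilin Q).compl₁₂ LinearMap.id (pairJ Q b u v) := by
      refine LinearMap.ext_basis b b fun s t => ?_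
      simp only [LinearMap.compl₁₂_apply, LinearMap.id_apply, polarBilin_apply_apply]
      have o1 : ∀ i j, polar Q (b (.inl i)) (b (.inr j)) = 0 := fun i j => hb.2 _ _ Sum.inl_ne_inr
      have o2 : ∀ i j, polar Q (b (.inr i)) (b (.inl j)) = 0 := fun i j => hb.2 _ _ Sum.inr_ne_inl
      have o3 : ∀ i j, polar Q (b (.inl i)) (b (.inl j)) = if i = j then 2 * Q (b (.inl i)) else 0 := fun i j => by
        split_ifs with h
        · subst h; exact Orth.polar_self' Q _
        · exact hb.2 _ _ fun e => h (Sum.inl.inj e)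
      have o4 : ∀ i j, polar Q (b (.inr i)) (b (.inr j)) = if i = j then 2 * Q (b (.inr i)) else 0 := fun i j => by
        split_ifs with h
        · subst h; exact Orth.polar_self' Q _
        · exact hb.2 _ _ fun e => h (Sum.inr.inj e)
      rcases s with i | i <;> rcases t with j | j <;>
        simp only [pairJ_inl, pairJ_inr, polar_add_left, polar_add_right, polar_sub_left, polar_sub_right,
          Orth.polar_smul_l', Orth.polar_smul_r', o1, o2, o3, o4] <;>
        by_cases hij : i = j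
      all_goals
        first
        | subst hij
        | skip
        simp [hb.1, *]
      all_goals field_simp [hb.1]
    exact LinearMap.congr_fun₂ e x y

/-- A scalar on each plane commutes. -/
theorem pairJ_comm {x : Module.End F V}
    (hx : ∀ i, ∃ σ : F, x (b (.inl i)) = σ • b (.inl i) ∧ x (b (.inr i)) = σ • b (.inr i)) (w : V) :
    x (pairJ Q b u v w) = pairJ Q b u v (x w) := by
  refine LinearMap.congr_fun (b.ext (f₁ := x.comp (pairJ Q b u v)) (f₂ := (pairJ Q b u v).comp x) ?_) w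
  rintro (i | i) <;> obtain ⟨σ, h1, h2⟩ := hx i <;> simp only [LinearMap.comp_apply]
  · rw [pairJ_inl, map_add, map_smul, map_smul, h1, h2, map_smul, pairJ_inl]; module
  · rw [pairJ_inr, map_sub, map_smul, map_smul, h1, h2, map_smul, pairJ_inr]; module

/-- A quarter turn on each plane anticommutes. -/
theorem pairJ_anti (hb : OrthFam Q b) {x : Module.End F V}
    (hx : ∀ i, x (b (.inl i)) = b (.inr i) ∧ x (b (.inr i)) = -b (.inl i) ∧ Q (b (.inr i)) = Q (b (.inl i)))
    (w : V) : x (pairJ Q b u v w) = -pairJ Q b u v (x w) := by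
  refine LinearMap.congr_fun (b.ext (f₁ := x.comp (pairJ Q b u v)) (f₂ := -((pairJ Q b u v).comp x)) ?_) w
  rintro (i | i) <;> obtain ⟨h1, h2, h3⟩ := hx i <;> simp only [LinearMap.comp_apply, LinearMap.neg_apply]
  · rw [pairJ_inl, map_add, map_smul, map_smul, h1, h2, pairJ_inr, h3, mul_div_assoc, mul_comm (Q _),
      div_mul_cancel₀ _ (hb.1 _)]
    module
  · rw [pairJ_inr, map_sub, map_smul, map_smul, h1, h2, map_neg, pairJ_inl, h3, mul_div_assoc, mul_comm (Q _),
      div_mul_cancel₀ _ (hb.1 _)]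
    module

/-- Reflecting one plane changes the sign of one coefficient. -/
theorem pairJ_flip (h2 : (2 : F) ≠ 0) (hb : OrthFam Q b) (i₀ : κ) (w : V) :
    (refl Q (b (.inr i₀))).1 (pairJ Q b u v w) =
      pairJ Q b u (fun i => if i = i₀ then -v i else v i) ((refl Q (b (.inr i₀))).1 w) := by
  set s := (refl Q (b (.inr i₀))).1
  refine LinearMap.congr_fun (b.ext (f₁ := (s : V →ₗ[F] V).comp (pairJ Q b u v))
    (f₂ := (pairJ Q b u (fun i => if i = i₀ then -v i else v i)).comp (s : V →ₗ[F] V)) ?_) w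
  have hl : ∀ i, s (b (.inl i)) = b (.inl i) := fun i => refl_fix Q (hb.2 _ _ Sum.inr_ne_inl)
  have hr : ∀ i, s (b (.inr i)) = if i = i₀ then -b (.inr i) else b (.inr i) := fun i => by
    rcases eq_or_ne i i₀ with rfl | h
    · rw [if_pos rfl]; exact refl_self Q (hb.1 _)
    · rw [if_neg h]; exact refl_fix Q (hb.2 _ _ fun e => h (Sum.inr.inj e).symm)
  rintro (i | i) <;> simp only [LinearMap.comp_apply, LinearEquiv.coe_coe]
  · rw [pairJ_inl, map_add, map_smul, map_smul, hl, hr, pairJ_inl]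
    rcases eq_or_ne i i₀ with rfl | h
    · rw [if_pos rfl, if_pos rfl]; module
    · rw [if_neg h, if_neg h]
  · rw [pairJ_inr, map_sub, map_smul, map_smul, hl, hr]
    rcases eq_or_ne i i₀ with rfl | h
    · rw [if_pos rfl, map_neg, pairJ_inr, if_pos rfl, mul_neg, neg_div]; module
    · rw [if_neg h, pairJ_inr, if_neg h]

end Pairs

theorem exists_coeff (h2 : (2 : F) ≠ 0) {t : F} (ht : t ≠ 0) (δ : F) : ∃ u v : F, u * u + t * (v * v) = δ := by
  obtain ⟨a, b, hab⟩ := FiniteField.exists_root_sum_quadratic (R := F)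
    (f := Polynomial.C (1 : F) * Polynomial.X ^ 2) (g := Polynomial.C t * Polynomial.X ^ 2 - Polynomial.C δ)
    (Polynomial.degree_C_mul_X_pow 2 one_ne_zero)
    (by rw [Polynomial.degree_sub_C (by rw [Polynomial.degree_C_mul_X_pow 2 ht]; norm_num),
      Polynomial.degree_C_mul_X_pow 2 ht]; rfl)
    (FiniteField.odd_card_of_char_ne_two fun e => h2 (by
      have := ringChar.Nat.cast_ringChar (R := F)
      rw [e] at this
      simpa using this))
  simp only [Polynomial.eval_sub, Polynomial.eval_mul, Polynomial.eval_C, Polynomial.eval_pow, Polynomial.eval_X] at hab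
  exact ⟨a, b, by linear_combination hab⟩

theorem det_sq (g : orthGroup Q) (hQ : (polarBilin Q).Nondegenerate) (h2 : (2 : F) ≠ 0) :
    LinearMap.det (g.1 : V →ₗ[F] V) = 1 ∨ LinearMap.det (g.1 : V →ₗ[F] V) = -1 := by
  have hg : g ∈ (⊤ : Subgroup (orthGroup Q)) := trivial
  rw [← Orth.reflGroup_eq_top hQ (Orth.good_of_two_ne h2)] at hg
  induction hg using Subgroup.closure_induction with
  | mem y hy =>
    obtain ⟨a, rfl⟩ := hy
    by_cases ha : Q a = 0
    · refine Or.inl ?_
      have h1 : ((refl Q a).1 : V →ₗ[F] V) = LinearMap.id := LinearMap.ext fun w => by simp [refl_apply, ha]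
      rw [h1]
      exact LinearMap.det_id
    · exact Or.inr (det_refl Q ha)
  | one => exact Or.inl LinearMap.det_id
  | mul y z _ _ hy hz =>
    show LinearMap.det ((y.1 : V →ₗ[F] V) * (z.1 : V →ₗ[F] V)) = 1 ∨
      LinearMap.det ((y.1 : V →ₗ[F] V) * (z.1 : V →ₗ[F] V)) = -1
    rw [map_mul]
    rcases hy with hy | hy <;> rcases hz with hz | hz <;> simp [hy, hz]
  | inv y _ hy =>
    have h1 : LinearMap.det ((y⁻¹).1 : V →ₗ[F] V) * LinearMap.det (y.1 : V →ₗ[F] V) = 1 := by
      rw [← map_mul]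
      show LinearMap.det (((y⁻¹ * y : orthGroup Q)).1 : V →ₗ[F] V) = 1
      rw [inv_mul_cancel]
      exact LinearMap.det_id
    rcases hy with hy | hy <;> rw [hy] at h1
    · exact Or.inl (by linear_combination h1)
    · exact Or.inr (by linear_combination -h1)

/-- An element of the commutator subgroup with scalar square normalises a conjugate of a square root. -/
theorem exists_two (hQ : (polarBilin Q).Nondegenerate) (h2 : (2 : F) ≠ 0) (hδ : ¬ IsSquare δ) {d : ℕ} (hd2 : 2 ≤ d)
    (hd : finrank F V = 2 * d) (hJ : IsSJ Q δ J) {x : orthGroup Q} (hx : x ∈ commutator (orthGroup Q)) {z : F}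
    (hz : ∀ v, x.1 (x.1 v) = z • v) :
    ∃ g ∈ commutator (orthGroup Q), (∀ v, (g⁻¹ * x * g).1 (J v) = J ((g⁻¹ * x * g).1 v)) ∨
      ∀ v, (g⁻¹ * x * g).1 (J v) = -J ((g⁻¹ * x * g).1 v) := by
  classical
  haveI : Finite V := Module.finite_of_finite F
  obtain ⟨f, hf, hcase⟩ := exists_pairs hQ h2 hd x hx hz
  obtain ⟨b, hb⟩ := hf.exists_basis h2 (by rw [hd, Fintype.card_sum, Fintype.card_fin]; omega)
  subst hb
  choose u v huv using fun i => exists_coeff h2 (div_ne_zero (hf.1 (.inr i)) (hf.1 (.inl i))) δ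
  set i₀ : Fin d := ⟨0, by omega⟩
  set v' : Fin d → F := fun i => if i = i₀ then -v i else v i
  have huv' : ∀ i, u i * u i + Q (b (.inr i)) / Q (b (.inl i)) * (v' i * v' i) = δ := fun i => by
    simp only [v']; split_ifs <;> linear_combination huv i
  set s := refl Q (b (.inr i₀)) with hs
  -- conjugate roots compatible with the element, with both determinants
  have hcompat : ∀ w : Fin d → F,
      (∀ y, x.1 (pairJ Q b u w y) = pairJ Q b u w (x.1 y)) ∨ ∀ y, x.1 (pairJ Q b u w y) = -pairJ Q b u w (x.1 y) :=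
    fun w => hcase.imp (fun h y => pairJ_comm (x := (x.1 : Module.End F V)) h y)
      fun h y => pairJ_anti hf (x := (x.1 : Module.End F V)) h y
  obtain ⟨g₀, hg₀⟩ := exists_conj hQ h2 hδ (by omega) hd hJ (pairJ_isSJ hf huv)
  obtain ⟨g₁, w, hg₁, hdet⟩ : ∃ (g₁ : orthGroup Q) (w : Fin d → F),
      (∀ y, g₁.1 (J y) = pairJ Q b u w (g₁.1 y)) ∧ LinearMap.det (g₁.1 : V →ₗ[F] V) = 1 := by
    rcases det_sq g₀ hQ h2 with h | h
    · exact ⟨g₀, v, hg₀, h⟩
    · refine ⟨s * g₀, v', fun y => ?_, ?_⟩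
      · show s.1 (g₀.1 (J y)) = _
        rw [hg₀, pairJ_flip h2 hf i₀]
        rfl
      · show LinearMap.det ((s.1 : V →ₗ[F] V) * (g₀.1 : V →ₗ[F] V)) = 1
        rw [map_mul, det_refl Q (hf.1 _), h, neg_mul_neg, one_mul]
  obtain ⟨c, hc, hcdet, hcn⟩ := exists_spinor_comm hQ h2 hδ hd2 hd hJ
  obtain ⟨g, hg, hgJ⟩ : ∃ g ∈ commutator (orthGroup Q), ∀ y, g.1 (J y) = pairJ Q b u w (g.1 y) := by
    by_cases hmem : g₁ ∈ commutator (orthGroup Q)
    · exact ⟨g₁, hmem, hg₁⟩
    refine ⟨g₁ * c, ?_, fun y => ?_⟩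
    · rw [mem_commutator_odd hQ h2] at hmem hcn ⊢
      push Not at hmem hcn
      refine ⟨?_, ?_⟩
      · show LinearMap.det ((g₁.1 : V →ₗ[F] V) * (c.1 : V →ₗ[F] V)) = 1
        rw [map_mul, hdet, hcdet, one_mul]
      · rw [map_mul, (Int.units_eq_one_or _).resolve_left (hmem hdet),
          (Int.units_eq_one_or _).resolve_left (hcn hcdet)]
        rfl
    · show g₁.1 (c.1 (J y)) = _
      rw [hc, hg₁]
      rfl
  have hgi : ∀ y, (g⁻¹).1 (pairJ Q b u w y) = J ((g⁻¹).1 y) := fun y => by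
    refine g.1.injective ?_
    rw [hgJ]
    show (g * g⁻¹).1 (pairJ Q b u w y) = pairJ Q b u w ((g * g⁻¹).1 y)
    rw [mul_inv_cancel]
    rfl
  refine ⟨g, hg, (hcompat w).imp (fun h y => ?_) fun h y => ?_⟩
  · show (g⁻¹).1 (x.1 (g.1 (J y))) = J ((g⁻¹).1 (x.1 (g.1 y)))
    rw [hgJ, h, hgi]
  · show (g⁻¹).1 (x.1 (g.1 (J y))) = -J ((g⁻¹).1 (x.1 (g.1 y)))
    rw [hgJ, h, map_neg, hgi]

end CfsgLib.Derangements.OrthField
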