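import Cfsg.Agent.Lib.Derangements.OrthNondegInvariant

/-!
# Numbers of pieces for non-degenerate invariant subspaces
-/

set_option autoImplicit false

namespace CfsgLib.Derangements.OrthInv

variable {d μ h i : ℕ} {ε τ : Prop}

theorem scaled_lt {a b h : ℕ} (hab : a < b) : a * h + h ≤ b * h := by
  rw [← Nat.succ_mul]; exact Nat.mul_le_mul_right h hab

theorem le_div_of_scaled {a h d : ℕ} (hh : 0 < h) (h1 : a * h ≤ d) : a ≤ d / h :=
  (Nat.le_div_iff_mul_le hh).2 h1

theorem div_unique_scaled {a h μ : ℕ} (hh : 0 < h) (h1 : a * h ≤ μ) (h2 : μ < a * h + h) : a = μ / h := by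
  refine le_antisymm (le_div_of_scaled hh h1) (Nat.lt_succ_iff.1 ((Nat.div_lt_iff_lt_mul hh).2 ?_))
  rw [Nat.succ_mul]; exact h2

theorem fit_iff_half (hc : blockLen i = 2 * h) {A a : ℕ} :
    Fit (2 * d) (2 * μ) i ε τ A a ↔ (a ≤ A ∧ a * h ≤ μ ∧ μ - a * h + A * h ≤ d ∧
      (μ = a * h → (τ ↔ BlockPlus i a)) ∧
      (μ - a * h + A * h = d → (τ ↔ (BlockPlus i a ↔ (BlockPlus i A ↔ ε))))) := by
  have h1 : a * (2 * h) = 2 * (a * h) := by ring
  have h2 : A * (2 * h) = 2 * (A * h) := by ring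
  rw [Fit, hc, h1, h2]
  refine and_congr_right' (and_congr (by omega) (and_congr (by omega) (and_congr ?_ ?_)))
  · exact ⟨fun H h' => H (by omega), fun H h' => H (by omega)⟩
  · exact ⟨fun H h' => H (even_two_mul d) (by omega), fun H _ h' => H (by omega)⟩

theorem valid_iff_half (hc : blockLen i = 2 * h) {A : ℕ} :
    Valid (2 * d) i ε A ↔ (A * h ≤ d ∧ (A * h = d → (BlockPlus i A ↔ ε))) := by
  have h2 : A * (2 * h) = 2 * (A * h) := by ring
  rw [Valid, hc, h2]
  exact and_congr (by omega) ⟨fun H h' => H (by omega), fun H h' => H (by omega)⟩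

theorem type_step {L K : ℕ} (hL : ¬ (τ ↔ BlockPlus i (L + 1))) (hK : ¬ (BlockPlus i (K + 1) ↔ ε)) :
    τ ↔ (BlockPlus i L ↔ (BlockPlus i K ↔ ε)) := by
  unfold BlockPlus at *
  by_cases ho : Odd i <;> by_cases hl : Even L <;> by_cases hk : Even K <;> by_cases he : ε <;>
    by_cases ht : τ <;> simp_all [Nat.even_add_one]

/-- Even dimension, even subspaces. -/
theorem all_fit_even_iff (hh : 0 < h) (hc : blockLen i = 2 * h) (hμ : 1 ≤ μ) (hμd : μ < d)
    (hcount : d % h ≠ 0 → h ≤ d ∧ (μ < h → d % h ≤ μ ∧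
      (d % h = μ → ¬ (τ ↔ (BlockPlus i 0 ↔ (BlockPlus i (d / h) ↔ ε)))))) :
    (∀ A, 1 ≤ A → Valid (2 * d) i ε A → ∃ a, Fit (2 * d) (2 * μ) i ε τ A a) ↔
      ((d % h = 0 ∧ (¬ (BlockPlus i (d / h) ↔ ε) ∨ (μ % h = 0 ∧ (τ ↔ BlockPlus i (μ / h))))) ∨
      (0 < d % h ∧ h ≤ μ ∧ μ % h ≤ d % h ∧ (μ % h = 0 → (τ ↔ BlockPlus i (μ / h))) ∧
        (μ % h = d % h → (τ ↔ (BlockPlus i (μ / h) ↔ (BlockPlus i (d / h) ↔ ε)))))) := by
  simp only [fit_iff_half hc, valid_iff_half hc]
  have hdd := Nat.div_add_mod' d h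
  have hμμ := Nat.div_add_mod' μ h
  have hk := Nat.mod_lt d hh
  have hl := Nat.mod_lt μ hh
  constructor
  · intro H
    rcases Nat.eq_zero_or_pos (d % h) with hd0 | hdpos
    · refine Or.inl ⟨hd0, ?_⟩
      by_cases hK : BlockPlus i (d / h) ↔ ε
      · have hK1 : 1 ≤ d / h := Nat.pos_of_ne_zero fun h0 => by rw [h0, zero_mul] at hdd; omega
        obtain ⟨a, -, ha, hb, hb0, -⟩ := H (d / h) hK1 ⟨by omega, fun _ => hK⟩
        have he : μ = a * h := by omega
        obtain rfl : a = μ / h := div_unique_scaled hh ha (by omega)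
        exact Or.inr ⟨by omega, hb0 he⟩
      · exact Or.inl hK
    · obtain ⟨hhd, hsmall⟩ := hcount (by omega)
      obtain ⟨a, -, ha, hb, hb0, hbD⟩ := H (d / h) (Nat.div_pos hhd hh) ⟨by omega, fun h' => by omega⟩
      obtain rfl : a = μ / h := div_unique_scaled hh ha (by omega)
      refine Or.inr ⟨hdpos, ?_, by omega, fun h' => hb0 (by omega), fun h' => hbD (by omega)⟩
      by_contra hlt
      obtain ⟨h1, h2⟩ := hsmall (by omega)
      rw [Nat.div_eq_of_lt (show μ < h by omega)] at hb hbD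
      simp only [zero_mul, Nat.sub_zero] at hb hbD
      exact h2 (by omega) (hbD (by omega))
  · intro H A hA hv
    obtain ⟨hAd, hAtype⟩ := hv
    have hAK := le_div_of_scaled hh hAd
    rcases Nat.lt_or_ge A (μ / h) with hAL | hAL
    · have := scaled_lt (h := h) hAL
      exact ⟨A, le_rfl, by omega, by omega, fun h' => by omega, fun h' => by omega⟩
    have hLA : μ / h * h ≤ A * h := Nat.mul_le_mul_right h hAL
    rcases eq_or_lt_of_le hAK with rfl | hAK
    · rcases H with ⟨hd0, H⟩ | ⟨hdpos, -, h1, h2, h3⟩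
      · obtain ⟨hl0, hτ⟩ := H.resolve_left fun hne => hne (hAtype (by omega))
        have := hAtype (by omega)
        exact ⟨_, hAL, by omega, by omega, fun _ => hτ, fun _ => by rw [hτ]; simp [this]⟩
      · exact ⟨_, hAL, by omega, by omega, fun h' => h2 (by omega), fun h' => h3 (by omega)⟩
    have hstep := scaled_lt (h := h) hAK
    by_cases hgood : μ % h = 0 → (τ ↔ BlockPlus i (μ / h))
    · exact ⟨_, hAL, by omega, by omega, fun h' => hgood (by omega), fun h' => by omega⟩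
    rw [Classical.not_imp] at hgood
    obtain ⟨hl0, hτ⟩ := hgood
    rcases H with ⟨hd0, H⟩ | ⟨-, -, -, h2, -⟩
    swap
    · exact absurd (h2 hl0) hτ
    have hK := H.resolve_right fun hh' => hτ hh'.2
    obtain ⟨L', hL'⟩ : ∃ L', μ / h = L' + 1 :=
      Nat.exists_eq_succ_of_ne_zero fun h0 => by rw [h0, zero_mul] at hμμ; omega
    have hμL : μ = L' * h + h := by rw [← hμμ, hl0, hL']; ring
    refine ⟨L', by omega, by omega, by omega, fun h' => by omega, fun h' => ?_⟩
    have hA' : A + 1 = d / h := by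
      refine Nat.eq_of_mul_eq_mul_right hh ?_
      rw [add_mul, one_mul]
      omega
    rw [← hA'] at hK
    rw [hL'] at hτ
    exact type_step hτ hK

/-- Odd dimension, even subspaces. -/
theorem all_fit_odd_iff (hh : 0 < h) (hc : blockLen i = 2 * h) (hμ : 1 ≤ μ) (hμd : μ ≤ d)
    (hcount : h ≤ d ∧ (μ < h → d % h < μ)) :
    (∀ A, 1 ≤ A → Valid (2 * d + 1) i ε A → ∃ a, Fit (2 * d + 1) (2 * μ) i ε τ A a) ↔
      (h ≤ μ ∧ μ % h ≤ d % h ∧ (μ % h = 0 → (τ ↔ BlockPlus i (μ / h)))) := by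
  have hfit : ∀ A a, Fit (2 * d + 1) (2 * μ) i ε τ A a ↔
      (a ≤ A ∧ a * h ≤ μ ∧ μ - a * h + A * h ≤ d ∧ (μ = a * h → (τ ↔ BlockPlus i a))) := fun A a => by
    have h1 : a * (2 * h) = 2 * (a * h) := by ring
    have h2 : A * (2 * h) = 2 * (A * h) := by ring
    rw [Fit, hc, h1, h2]
    have hne : ¬ Even (2 * d + 1) := Nat.not_even_two_mul_add_one d
    simp only [hne, false_implies, and_true]
    exact and_congr_right' (and_congr (by omega) (and_congr (by omega)
      ⟨fun H h' => H (by omega), fun H h' => H (by omega)⟩))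
  have hvalid : ∀ A, Valid (2 * d + 1) i ε A ↔ A * h ≤ d := fun A => by
    have h2 : A * (2 * h) = 2 * (A * h) := by ring
    rw [Valid, hc, h2]
    exact ⟨fun H => by omega, fun H => ⟨by omega, fun h' => by omega⟩⟩
  simp only [hfit, hvalid]
  have hdd := Nat.div_add_mod' d h
  have hμμ := Nat.div_add_mod' μ h
  have hk := Nat.mod_lt d hh
  have hl := Nat.mod_lt μ hh
  constructor
  · intro H
    obtain ⟨a, -, ha, hb, hb0⟩ := H (d / h) (Nat.div_pos hcount.1 hh) (by omega)
    obtain rfl : a = μ / h := div_unique_scaled hh ha (by omega)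
    refine ⟨?_, by omega, fun h' => hb0 (by omega)⟩
    by_contra hlt
    rw [Nat.div_eq_of_lt (show μ < h by omega), zero_mul] at hb
    have := hcount.2 (by omega)
    omega
  · rintro ⟨-, h1, h2⟩ A - hAd
    have hAK := Nat.mul_le_mul_right h (le_div_of_scaled hh hAd)
    rcases Nat.lt_or_ge A (μ / h) with hAL | hAL
    · have := scaled_lt (h := h) hAL
      exact ⟨A, le_rfl, by omega, by omega, fun h' => by omega⟩
    · have hLA : μ / h * h ≤ A * h := Nat.mul_le_mul_right h hAL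
      exact ⟨_, hAL, by omega, by omega, fun h' => h2 (by omega)⟩

/-- Even dimension, odd subspaces. -/
theorem all_fit_parabolic_iff (hh : 0 < h) (hc : blockLen i = 2 * h) (hμd : μ < d)
    (hcount : d % h ≠ 0 → h ≤ d ∧ (μ < h → d % h ≤ μ)) :
    (∀ A, 1 ≤ A → Valid (2 * d) i ε A → ∃ a, Fit (2 * d) (2 * μ + 1) i ε τ A a) ↔
      ((d % h = 0 ∧ ¬ (BlockPlus i (d / h) ↔ ε)) ∨ (0 < d % h ∧ h ≤ μ ∧ μ % h < d % h)) := by
  have hfit : ∀ A a, Fit (2 * d) (2 * μ + 1) i ε τ A a ↔ (a ≤ A ∧ a * h ≤ μ ∧ μ - a * h + A * h < d) := fun A a => by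
    have h1 : a * (2 * h) = 2 * (a * h) := by ring
    have h2 : A * (2 * h) = 2 * (A * h) := by ring
    rw [Fit, hc, h1, h2]
    refine and_congr_right' ⟨fun H => by omega, fun H => ⟨by omega, by omega, fun h' => by omega, fun _ h' => by omega⟩⟩
  simp only [hfit, valid_iff_half hc]
  have hdd := Nat.div_add_mod' d h
  have hμμ := Nat.div_add_mod' μ h
  have hk := Nat.mod_lt d hh
  have hl := Nat.mod_lt μ hh
  constructor
  · intro H
    rcases Nat.eq_zero_or_pos (d % h) with hd0 | hdpos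
    · refine Or.inl ⟨hd0, fun hK => ?_⟩
      have hK1 : 1 ≤ d / h := Nat.pos_of_ne_zero fun h0 => by rw [h0, zero_mul] at hdd; omega
      obtain ⟨a, -, ha, hb⟩ := H (d / h) hK1 ⟨by omega, fun _ => hK⟩
      omega
    · obtain ⟨hhd, hsmall⟩ := hcount (by omega)
      obtain ⟨a, -, ha, hb⟩ := H (d / h) (Nat.div_pos hhd hh) ⟨by omega, fun h' => by omega⟩
      obtain rfl : a = μ / h := div_unique_scaled hh ha (by omega)
      refine Or.inr ⟨hdpos, ?_, by omega⟩
      by_contra hlt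
      rw [Nat.div_eq_of_lt (show μ < h by omega), zero_mul] at hb
      have := hsmall (by omega)
      omega
  · intro H A _ hv
    have hAK := le_div_of_scaled hh hv.1
    rcases Nat.lt_or_ge A (μ / h) with hAL | hAL
    · have := scaled_lt (h := h) hAL
      exact ⟨A, le_rfl, by omega, by omega⟩
    have hLA : μ / h * h ≤ A * h := Nat.mul_le_mul_right h hAL
    refine ⟨_, hAL, by omega, ?_⟩
    rcases eq_or_lt_of_le hAK with rfl | hlt
    · rcases H with ⟨hd0, hK⟩ | ⟨-, -, h1⟩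
      · exact absurd (hv.2 (by omega)) hK
      · omega
    · have := scaled_lt (h := h) hlt
      omega

end CfsgLib.Derangements.OrthInv
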