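import Cfsg.Agent.Lib.Derangements.OrthNondegTwo

/-!
# Non-degenerate invariant subspaces of involutions in characteristic two
-/

set_option autoImplicit false
set_option linter.unusedSectionVars false

namespace CfsgLib.Derangements.OrthInv

open Module QuadraticMap CfsgLib.Classical CfsgLib.Derangements.LinElusive CfsgLib.Derangements.NullInv

variable {F : Type*} [Field F] [Fintype F] {V : Type*} [AddCommGroup V] [Module F V] [FiniteDimensional F V]
  {Q : QuadraticForm F V} {L : Module.End F V}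

theorem alt_of_two (h2 : (2 : F) = 0) (Q : QuadraticForm F V) : (polarBilin Q).IsAlt := fun v => by
  rw [polarBilin_apply_apply, Orth.polar_self', h2, zero_mul]

/-- A smallest piece: a plane, or a four-dimensional piece of plus type. -/
theorem exists_piece_two (h2 : (2 : F) = 0) (hQL : ∀ v, Q (L v) = Q v) (hL : ∀ v, L (L v) = v) {X : Submodule F V}
    (hX : Inv L X) (hXn : NondegOn (polarBilin Q) X) (hne : X ≠ ⊥) :
    ∃ U : Submodule F V, U ≤ X ∧ Inv L U ∧ NondegOn (polarBilin Q) U ∧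
      (finrank F U = 2 ∨ (finrank F U = 4 ∧ PlusOn Q U)) := by
  have hA := alt_of_two h2 Q
  set B := polarBilin Q with hB
  set N := L - 1 with hN
  have hLN : ∀ v, L v = v + N v := fun v => by simp [hN]
  have hNN : ∀ v, N (N v) = 0 := fun v => by
    simp only [hN, LinearMap.sub_apply, Module.End.one_apply, map_sub, hL]
    rw [show v - L v - (L v - v) = (2 : F) • v - (2 : F) • L v by rw [two_smul, two_smul]; abel, h2, zero_smul,
      zero_smul, sub_zero]
  by_cases hdiag : ∃ v ∈ X, B v (N v) ≠ 0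
  · obtain ⟨v, hv, hvN⟩ := hdiag
    have h1 : B v ((B v (N v))⁻¹ • L v) = 1 := by
      rw [map_smul, hLN, map_add, hA v, zero_add, smul_eq_mul, inv_mul_cancel₀ hvN]
    refine ⟨_, Submodule.span_le.2 (Set.insert_subset hv (Set.singleton_subset_iff.2 (X.smul_mem _ (hX.mem hv)))),
      Inv.of_mem fun u hu => ?_, nondegOn_pair hA h1, Or.inl (finrank_pair hA h1)⟩
    obtain ⟨a, b, rfl⟩ := Submodule.mem_span_pair.1 hu
    refine Submodule.mem_span_pair.2 ⟨b * (B v (N v))⁻¹, a * B v (N v), ?_⟩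
    rw [map_add, map_smul, map_smul, map_smul, hL, smul_smul, smul_smul, mul_inv_cancel_right₀ hvN]
    abel
  push Not at hdiag
  obtain ⟨u, hu, hu0⟩ := Submodule.exists_mem_ne_zero_of_ne_bot hne
  by_cases hfix : ∀ x ∈ X, N x = 0
  · obtain ⟨w, hw, huw⟩ : ∃ w ∈ X, B u w ≠ 0 := by
      by_contra! hall
      exact hu0 (nondegOn_iff.1 hXn u hu fun w hw => polar_refl Q _ _ (hall w hw))
    have h1 : B u ((B u w)⁻¹ • w) = 1 := by rw [map_smul, smul_eq_mul, inv_mul_cancel₀ huw]
    have hle : Submodule.span F ({u, (B u w)⁻¹ • w} : Set V) ≤ X :=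
      Submodule.span_le.2 (Set.insert_subset hu (Set.singleton_subset_iff.2 (X.smul_mem _ hw)))
    exact ⟨_, hle, Inv.of_mem fun x hx => by rw [hLN, hfix x (hle hx), add_zero]; exact hx, nondegOn_pair hA h1,
      Or.inl (finrank_pair hA h1)⟩
  push Not at hfix
  obtain ⟨v, hv, hv0⟩ := hfix
  have hNX : ∀ x ∈ X, N x ∈ X := fun x hx => X.sub_mem (hX.mem hx) hx
  obtain ⟨w, hw, hw1⟩ : ∃ w ∈ X, B (N v) w = 1 := by
    obtain ⟨w, hw, h⟩ : ∃ w ∈ X, B (N v) w ≠ 0 := by
      by_contra! hall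
      exact hv0 (nondegOn_iff.1 hXn _ (hNX v hv) fun w hw => polar_refl Q _ _ (hall w hw))
    exact ⟨(B (N v) w)⁻¹ • w, X.smul_mem _ hw, by rw [map_smul, smul_eq_mul, inv_mul_cancel₀ h]⟩
  have hadj : ∀ x y, B (N x) y = B x (N y) := fun x y => by
    have h := polar_map hQL x (L y)
    rw [hL] at h
    rw [hLN x, hLN y, map_add, map_add, LinearMap.add_apply] at h
    linear_combination h
  have hsing : ∀ x ∈ X, Q (N x) = 0 := fun x hx => by
    have h := hQL x
    rw [hLN, QuadraticMap.map_add Q, ← polarBilin_apply_apply, ← hB, hdiag x hx, add_zero] at h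
    exact add_left_cancel (h.trans (add_zero _).symm)
  have b1 : B v (N w) = 1 := (hadj v w).symm.trans hw1
  have b2 : B w (N v) = 1 := by
    rw [alt_swap hA, hw1]
    linear_combination -h2
  have b3 : ∀ x y, B (N x) (N y) = 0 := fun x y => by rw [hadj, hNN, map_zero]
  have b4 : B (N v) v = 0 := by rw [hadj]; exact hdiag v hv
  have b5 : B (N w) w = 0 := by rw [hadj]; exact hdiag w hw
  have b6 : B (N w) v = 1 := by rw [hadj]; exact b2
  let f : (Fin 4 → F) →ₗ[F] V := Fintype.linearCombination F ![v, N v, w, N w]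
  have hf : ∀ c, f c = c 0 • v + c 1 • N v + c 2 • w + c 3 • N w := fun c => by
    simp [f, Fintype.linearCombination_apply, Fin.sum_univ_four]
  have hcoef : ∀ c, B (N v) (f c) = c 2 ∧ B (N w) (f c) = c 0 := fun c => by
    constructor <;> simp [hf, b3, b4, b5, b6, hw1]
  have hzero : ∀ c, (∀ y ∈ LinearMap.range f, B y (f c) = 0) → c = 0 := fun c hc => by
    have m : ∀ s : Fin 4, (![v, N v, w, N w] s) ∈ LinearMap.range f := fun s =>
      ⟨Pi.single s 1, by simp [f]⟩
    have h0 : c 2 = 0 := (hcoef c).1.symm.trans (hc _ (m 1))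
    have h3 : c 0 = 0 := (hcoef c).2.symm.trans (hc _ (m 3))
    have e0 : B v (f c) = 0 := hc _ (m 0)
    have e2 : B w (f c) = 0 := hc _ (m 2)
    simp [hf, h0, h3, b1, b2, hdiag v hv, hdiag w hw] at e0 e2
    exact funext fun s => by fin_cases s <;> assumption
  have hinj : Function.Injective f := (injective_iff_map_eq_zero _).2 fun c hc => hzero c fun y _ => by
    rw [hc, map_zero]
  have hd : finrank F (LinearMap.range f) = 4 := by rw [LinearMap.finrank_range_of_inj hinj]; simp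
  refine ⟨LinearMap.range f, ?_, Inv.of_mem ?_, nondegOn_iff.2 ?_, Or.inr ⟨hd, ?_⟩⟩
  · rintro _ ⟨c, rfl⟩
    rw [hf]
    exact X.add_mem (X.add_mem (X.add_mem (X.smul_mem _ hv) (X.smul_mem _ (hNX v hv))) (X.smul_mem _ hw))
      (X.smul_mem _ (hNX w hw))
  · rintro _ ⟨c, rfl⟩
    refine ⟨![c 0, c 1 + c 0, c 2, c 3 + c 2], ?_⟩
    rw [hLN (f c)]
    simp only [hf, map_add, map_smul, hNN, smul_zero, add_zero, Matrix.cons_val]
    module
  · rintro _ ⟨c, rfl⟩ h
    rw [hzero c h, map_zero]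
  · let g : (Fin 2 → F) →ₗ[F] (Fin 4 → F) :=
      LinearMap.pi ![0, LinearMap.proj 0, 0, LinearMap.proj 1]
    refine ⟨LinearMap.range (f.comp g), LinearMap.range_comp_le_range g f, ?_, ?_⟩
    · rintro _ ⟨c, rfl⟩
      have : (f.comp g) c = N (c 0 • v + c 1 • w) := by simp [hf, g]
      rw [this]
      exact hsing _ (X.add_mem (X.smul_mem _ hv) (X.smul_mem _ hw))
    · have hg : Function.Injective g := fun a b e => funext fun s => by
        fin_cases s
        · simpa [g] using congrFun e 1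
        · simpa [g] using congrFun e 3
      rw [LinearMap.finrank_range_of_inj (f := f.comp g) (hinj.comp hg), hd]
      simp

/-- Decomposition into pieces with the types of all selections. -/
theorem exists_selection (h2 : (2 : F) = 0) (hQL : ∀ v, Q (L v) = Q v) (hL : ∀ v, L (L v) = v) :
    ∀ (n : ℕ) (X : Submodule F V), finrank F X = n → Inv L X → NondegOn (polarBilin Q) X →
      ∃ P M A : ℕ, n = 2 * (P + M + 2 * A) ∧ (PlusOn Q X ↔ Even M) ∧ ∀ p m a, p ≤ P → m ≤ M → a ≤ A →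
        ∃ W : Submodule F V, W ≤ X ∧ Inv L W ∧ NondegOn (polarBilin Q) W ∧
          finrank F W = 2 * (p + m + 2 * a) ∧ (PlusOn Q W ↔ Even m) := by
  intro n
  induction n using Nat.strong_induction_on with
  | _ n ih =>
  intro X hXd hX hXn
  have hA := alt_of_two h2 Q
  rcases eq_or_ne X ⊥ with rfl | hne
  · have hplus : PlusOn Q (⊥ : Submodule F V) := ⟨⊥, le_rfl, sing_bot, by simp⟩
    refine ⟨0, 0, 0, by simpa using hXd.symm, iff_of_true hplus Even.zero, fun p m a hp hm ha => ?_⟩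
    obtain rfl : p = 0 := by omega
    obtain rfl : m = 0 := by omega
    obtain rfl : a = 0 := by omega
    exact ⟨⊥, le_rfl, hX, hXn, by simp, iff_of_true hplus Even.zero⟩
  obtain ⟨U, hUX, hU, hUn, hUd⟩ := exists_piece_two h2 hQL hL hX hXn hne
  obtain ⟨hYn, hYi, hsup, hfin⟩ := NondegInv.exists_orth_compl (polar_refl Q)
    (Function.LeftInverse.injective (g := L) hL) (polar_map hQL) hUn hXn hU hX hUX
  obtain ⟨P, M, A, hn, hYtype, hsel⟩ := ih _ (by omega) _ rfl hYi hYn
  have ho : ∀ u ∈ U, ∀ y ∈ (perp (polarBilin Q) U ⊓ X : Submodule F V), polarBilin Q u y = 0 :=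
    fun u hu y hy => mem_perp.1 hy.1 u hu
  have hUe : Even (finrank F U) := by rcases hUd with h | ⟨h, -⟩ <;> rw [h] <;> decide
  have hXtype := plus_sup_iff hUn hYn ho hUe (hn ▸ even_two_mul _)
  rw [hsup, hYtype] at hXtype
  have hjoin : ∀ p m a, p ≤ P → m ≤ M → a ≤ A → ∃ W : Submodule F V, W ≤ X ∧ Inv L W ∧
      NondegOn (polarBilin Q) W ∧ finrank F W = finrank F U + 2 * (p + m + 2 * a) ∧
      (PlusOn Q W ↔ (PlusOn Q U ↔ Even m)) := fun p m a hp hm ha => by
    obtain ⟨W, hWY, hW, hWn, hWd, hWt⟩ := hsel p m a hp hm ha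
    have ho' : ∀ u ∈ U, ∀ w ∈ W, polarBilin Q u w = 0 := fun u hu w hw => ho u hu w (hWY hw)
    refine ⟨U ⊔ W, sup_le hUX (hWY.trans inf_le_right), hU.sup hW, NondegInv.sup_orth (polar_refl Q) hUn hWn ho', ?_,
      (plus_sup_iff hUn hWn ho' hUe (hWd ▸ even_two_mul _)).trans (by rw [hWt])⟩
    rw [finrank_sup_of_disjoint (NondegInv.disjoint_orth (polar_refl Q) hUn ho'), hWd]
  have hlow : ∀ p m a, p ≤ P → m ≤ M → a ≤ A → ∃ W : Submodule F V, W ≤ X ∧ Inv L W ∧
      NondegOn (polarBilin Q) W ∧ finrank F W = 2 * (p + m + 2 * a) ∧ (PlusOn Q W ↔ Even m) := fun p m a hp hm ha => by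
    obtain ⟨W, hWY, h⟩ := hsel p m a hp hm ha
    exact ⟨W, hWY.trans inf_le_right, h⟩
  rcases hUd with hUd | ⟨hUd, hUp⟩
  · by_cases hUp : PlusOn Q U
    · simp only [hUp, true_iff] at hXtype hjoin
      refine ⟨P + 1, M, A, by omega, hXtype, fun p m a hp hm ha => ?_⟩
      rcases Nat.lt_or_ge p (P + 1) with h | h
      · exact hlow p m a (by omega) hm ha
      · obtain ⟨W, a1, a2, a3, a4, a5⟩ := hjoin P m a le_rfl hm ha
        exact ⟨W, a1, a2, a3, by omega, a5⟩
    · simp only [hUp, false_iff] at hXtype hjoin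
      refine ⟨P, M + 1, A, by omega, hXtype.trans Nat.even_add_one.symm, fun p m a hp hm ha => ?_⟩
      rcases Nat.lt_or_ge m (M + 1) with h | h
      · exact hlow p m a hp (by omega) ha
      · obtain rfl : m = M + 1 := by omega
        obtain ⟨W, a1, a2, a3, a4, a5⟩ := hjoin p M a hp le_rfl ha
        exact ⟨W, a1, a2, a3, by omega, a5.trans Nat.even_add_one.symm⟩
  · simp only [hUp, true_iff] at hXtype hjoin
    refine ⟨P, M, A + 1, by omega, hXtype, fun p m a hp hm ha => ?_⟩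
    rcases Nat.lt_or_ge a (A + 1) with h | h
    · exact hlow p m a hp hm (by omega)
    · obtain ⟨W, a1, a2, a3, a4, a5⟩ := hjoin p m A hp hm le_rfl
      exact ⟨W, a1, a2, a3, by omega, a5⟩

theorem select_units {P M A u : ℕ} (hM : Even M) (hu : u ≤ P + M + 2 * A) (h : Even u ∨ 1 ≤ P) :
    ∃ p m a, p ≤ P ∧ m ≤ M ∧ a ≤ A ∧ Even m ∧ p + m + 2 * a = u := by
  simp only [Nat.even_iff] at hM h ⊢
  let t := min (u / 2) (M / 2)
  let a := min ((u - 2 * t) / 2) A
  exact ⟨u - 2 * t - 2 * a, 2 * t, a, by omega, by omega, by omega, by omega, by omega⟩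

/-- Involutions fix subspaces of the type of the whole space, unless a parity fails. -/
theorem exists_inv_same_type (h2 : (2 : F) = 0) (hN : (polarBilin Q).Nondegenerate) (hQL : ∀ v, Q (L v) = Q v)
    (hL : ∀ v, L (L v) = v) {d μ : ℕ} (hd : finrank F V = 2 * d) (hμ : 1 ≤ μ) (hμd : μ ≤ d)
    (h : (PlusOn Q ⊤ → Odd d ∨ Even μ) ∧ (¬ PlusOn Q ⊤ → Even d ∨ Odd μ)) :
    ∃ W : Submodule F V, finrank F W = 2 * μ ∧ NondegOn (polarBilin Q) W ∧ (PlusOn Q W ↔ PlusOn Q ⊤) ∧ Inv L W := by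
  obtain ⟨P, M, A, hn, htype, hsel⟩ := exists_selection h2 hQL hL _ ⊤ rfl (Inv.of_mem fun _ _ => trivial)
    (top_nondegOn hN)
  rw [finrank_top, hd] at hn
  by_cases hV : PlusOn Q ⊤
  · have h := h.1 hV
    have hM := htype.1 hV
    obtain ⟨p, m, a, hp, hm, ha, hme, hsum⟩ := select_units (u := μ) (A := A) (P := P) hM (by omega) (by
      rw [Nat.even_iff] at hM
      simp only [Nat.odd_iff, Nat.even_iff] at h ⊢
      omega)
    obtain ⟨W, -, hW, hWn, hWd, hWt⟩ := hsel p m a hp hm ha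
    exact ⟨W, by omega, hWn, iff_of_true (hWt.2 hme) hV, hW⟩
  · have h := h.2 hV
    have hM : M % 2 = 1 := Nat.odd_iff.1 (Nat.not_even_iff_odd.1 fun hM => hV (htype.2 hM))
    obtain ⟨p, m, a, hp, hm, ha, hme, hsum⟩ := select_units (u := μ - 1) (A := A) (P := P) (M := M - 1)
      (by rw [Nat.even_iff]; omega) (by omega) (by
      simp only [Nat.odd_iff, Nat.even_iff] at h ⊢
      omega)
    obtain ⟨W, -, hW, hWn, hWd, hWt⟩ := hsel p (m + 1) a hp (by omega) ha
    exact ⟨W, by omega, hWn, iff_of_false (fun hp' => Nat.even_add_one.1 (hWt.1 hp') hme) hV, hW⟩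

end CfsgLib.Derangements.OrthInv
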