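import Cfsg.Agent.Lib.Derangements.OrthSingularCount
import Cfsg.Agent.Lib.Derangements.OrthInvariantWitness

/-!
# Embeddings of quadratic spaces into orthogonal sums
-/

set_option autoImplicit false
set_option linter.unusedSectionVars false

namespace CfsgLib.Derangements.OrthInv

open Module QuadraticMap CfsgLib.Classical CfsgLib.Derangements.LinElusive CfsgLib.Derangements.NullInv

variable {F : Type*} [Field F] [Fintype F] {V : Type*} [AddCommGroup V] [Module F V] [FiniteDimensional F V]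
  {W : Type*} [AddCommGroup W] [Module F W] [FiniteDimensional F W]
  {Q : QuadraticForm F V} {R : QuadraticForm F W}

/-- Forms of both types exist. -/
theorem exists_typed_model (e : ℕ) (τ : Prop) (h : τ ∨ 1 ≤ e) :
    ∃ R : QuadraticForm F (Fin e ⊕ Fin e → F), (polarBilin R).Nondegenerate ∧ (PlusOn R ⊤ ↔ τ) := by
  have hd : finrank F (Fin e ⊕ Fin e → F) = 2 * e := by simp [two_mul]
  by_cases ht : τ
  · exact ⟨Orth.plusForm F e, Orth.plusForm_nondeg e, iff_of_true ((plusOn_top_iff hd).2 (EvenForms.plus_plusForm e)) ht⟩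
  have he : 1 ≤ e := h.resolve_left ht
  obtain ⟨ζ, hζ⟩ : ∃ ζ : F, ∀ t : F, t ^ 2 + t + ζ ≠ 0 := by
    by_contra h
    push Not at h
    have hsurj : Function.Surjective (fun t : F => -(t ^ 2 + t)) := fun z => by
      obtain ⟨t, ht⟩ := h z
      exact ⟨t, by show -(t ^ 2 + t) = z; linear_combination -ht⟩
    have := @Finite.injective_iff_surjective.2 hsurj 0 (-1) (by ring)
    exact one_ne_zero (neg_eq_zero.1 this.symm)
  have hab := Orth.anisotropic_of_no_root hζ
  have hM : finrank F ((Fin (e - 1) ⊕ Fin (e - 1)) ⊕ Fin 2 → F) = 2 * e := by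
    rw [Module.finrank_fintype_fun_eq_card]; simp; omega
  let φ : (Fin e ⊕ Fin e → F) ≃ₗ[F] ((Fin (e - 1) ⊕ Fin (e - 1)) ⊕ Fin 2 → F) :=
    LinearEquiv.ofFinrankEq _ _ (hd.trans hM.symm)
  have hpol : ∀ u v, polarBilin ((Orth.minusForm F (e - 1) 1 ζ).comp φ.toLinearMap) u v =
      polarBilin (Orth.minusForm F (e - 1) 1 ζ) (φ u) (φ v) := fun u v => by simp [polar]
  refine ⟨(Orth.minusForm F (e - 1) 1 ζ).comp φ.toLinearMap, ⟨fun u hu => ?_, fun u hu => ?_⟩,
    iff_of_false (fun hp => ?_) ht⟩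
  · refine φ.injective ((map_zero φ).symm ▸ (Orth.minusForm_nondeg (e - 1) 1 ζ hab).1 _ fun v => ?_)
    rw [← φ.apply_symm_apply v, ← hpol]; exact hu _
  · refine φ.injective ((map_zero φ).symm ▸ (Orth.minusForm_nondeg (e - 1) 1 ζ hab).2 _ fun v => ?_)
    rw [← φ.apply_symm_apply v, ← hpol]; exact hu _
  · have h1 := EvenForms.plus_congr (Q' := Orth.minusForm F (e - 1) 1 ζ) φ (fun v => rfl) ((plusOn_top_iff hd).1 hp)
    exact EvenForms.not_plus_minusForm (k := e - 1) hab (by rwa [show e - 1 + 1 = e by omega])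

/-- A space of smaller dimension embeds. -/
theorem exists_embed_lt (hN : (polarBilin Q).Nondegenerate) (hR : (polarBilin R).Nondegenerate)
    (h : finrank F W < finrank F V)
    (h' : (2 : F) ≠ 0 ∨ (Even (finrank F W) ∧ finrank F W + 2 ≤ finrank F V)) :
    ∃ T : W →ₗ[F] V, ∀ w, Q (T w) = R w := by
  rcases Nat.even_or_odd (finrank F W) with ⟨e, he⟩ | ⟨e, he⟩
  · refine exists_embed hN hR (e := e) (by omega) ?_
    rcases h' with h' | ⟨-, h'⟩
    · rcases Nat.lt_or_ge (2 * e + 1) (finrank F V) with h1 | h1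
      · exact Or.inl (by omega)
      · exact Or.inr (Or.inl ⟨by omega, h'⟩)
    · exact Or.inl (by omega)
  have h2 : (2 : F) ≠ 0 := h'.resolve_right fun ⟨h1, _⟩ => Nat.not_even_iff_odd.2 ⟨e, he⟩ h1
  obtain ⟨α, φ, hα, hφ⟩ := exists_odd_iso hR he
  obtain ⟨T₀, hT₀⟩ := exists_embed hN (Orth.plusForm_nondeg (F := F) e) (e := e) (by simp [two_mul])
    (Or.inl (by omega))
  obtain ⟨hn, hd, -⟩ := range_facts (Orth.plusForm_nondeg (F := F) e) T₀ hT₀
  have hYn := nondegOn_perp hN.2 hn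
  have hYd := hn.finrank_perp
  obtain ⟨y, hy, hQy⟩ := Orth.exists_value (Q := Q) (perp (polarBilin Q) (LinearMap.range T₀)) (by
    rw [Submodule.finrank_eq_zero.2 ((Submodule.eq_bot_iff
      (perp (polarBilin Q) (LinearMap.range T₀) ⊓ LinearMap.BilinForm.orthogonal (polarBilin Q)
        (perp (polarBilin Q) (LinearMap.range T₀)))).2 fun x hx =>
      nondegOn_iff.1 hYn x hx.1 fun w hw => hx.2 w hw)]
    rw [show finrank F (Fin e ⊕ Fin e → F) = 2 * e by simp [two_mul]] at hd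
    omega) α
  let ψ : (Unit ⊕ (Fin e ⊕ Fin e) → F) →ₗ[F] (Fin e ⊕ Fin e → F) := LinearMap.pi
    (Sum.elim (fun i => α • LinearMap.proj (Sum.inr (Sum.inl i))) (fun i => LinearMap.proj (Sum.inr (Sum.inr i))))
  let T : W →ₗ[F] V := ((LinearMap.proj (Sum.inl ())).smulRight y + T₀.comp ψ).comp φ.symm.toLinearMap
  refine ⟨T, fun w => ?_⟩
  obtain ⟨v, rfl⟩ := φ.surjective w
  rw [hφ, ← Orth.oddForm_apply]
  simp only [T, ψ, LinearMap.comp_apply, LinearEquiv.coe_coe, φ.symm_apply_apply, LinearMap.add_apply,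
    LinearMap.smulRight_apply, LinearMap.proj_apply]
  rw [QuadraticMap.map_add Q, QuadraticMap.map_smul, hQy, hT₀, Orth.polar_smul_l', polar_comm,
    ← polarBilin_apply_apply, mem_perp.1 hy _ ⟨_, rfl⟩, mul_zero, add_zero, ← Orth.plusForm_apply]
  simp only [Cfsg.quadFormPlus, Cfsg.quadFormOdd, LinearMap.pi_apply, Sum.elim_inl, Sum.elim_inr,
    LinearMap.smul_apply, LinearMap.proj_apply, smul_eq_mul, mul_add, Finset.mul_sum]
  congr 1
  · ring
  · exact Finset.sum_congr rfl fun i _ => by ring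

/-- An embedding with image in a given non-degenerate subspace. -/
theorem exists_embed_in {X : Submodule F V} (hX : NondegOn (polarBilin Q) X) (hR : (polarBilin R).Nondegenerate)
    (h : finrank F W < finrank F X)
    (h' : (2 : F) ≠ 0 ∨ (Even (finrank F W) ∧ finrank F W + 2 ≤ finrank F X)) :
    ∃ T : W →ₗ[F] V, (∀ w, Q (T w) = R w) ∧ LinearMap.range T ≤ X := by
  obtain ⟨T, hT⟩ := exists_embed_lt (comp_nondeg hX) hR h h'
  exact ⟨X.subtype.comp T, hT, by rintro _ ⟨w, rfl⟩; exact (T w).2⟩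

/-- Non-degenerate subspaces of smaller dimension, of both types. -/
theorem exists_sub_typed {X : Submodule F V} (hX : NondegOn (polarBilin Q) X) {e : ℕ} (τ : Prop)
    (he : τ ∨ 1 ≤ e) (h : 2 * e < finrank F X) (h' : (2 : F) ≠ 0 ∨ Even (finrank F X)) :
    ∃ B ≤ X, NondegOn (polarBilin Q) B ∧ finrank F B = 2 * e ∧ (PlusOn Q B ↔ τ) := by
  obtain ⟨R, hR, hτ⟩ := exists_typed_model (F := F) e τ he
  have hd : finrank F (Fin e ⊕ Fin e → F) = 2 * e := by simp [two_mul]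
  obtain ⟨T, hT, hTX⟩ := exists_embed_in hX hR (by rwa [hd]) (h'.imp_right fun hev => ⟨by rw [hd]; exact even_two_mul e,
    by rw [hd]; obtain ⟨x, hx⟩ := hev; omega⟩)
  obtain ⟨h1, h2, h3⟩ := range_facts hR T hT
  exact ⟨_, hTX, h1, h2.trans hd, h3.trans hτ⟩

theorem exists_sub_nondeg {X : Submodule F V} (hX : NondegOn (polarBilin Q) X) {k : ℕ} (h2 : (2 : F) ≠ 0)
    (hk : k < finrank F X) : ∃ B ≤ X, NondegOn (polarBilin Q) B ∧ finrank F B = k := by
  rcases Nat.even_or_odd k with ⟨e, he⟩ | ⟨e, he⟩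
  · obtain ⟨B, h1, h3, h4, -⟩ := exists_sub_typed hX (e := e) True (Or.inl trivial) (by omega) (Or.inl h2)
    exact ⟨B, h1, h3, by omega⟩
  · have hd : finrank F (Unit ⊕ (Fin e ⊕ Fin e) → F) = k := by simp; omega
    obtain ⟨T, hT, hTX⟩ := exists_embed_in hX (Orth.oddForm_nondeg e h2) (by rwa [hd]) (Or.inl h2)
    obtain ⟨h1, h3, -⟩ := range_facts (Orth.oddForm_nondeg e h2) T hT
    exact ⟨_, hTX, h1, h3.trans hd⟩

/-- An embedding extending a given subspace by a subspace of an orthogonal one. -/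
theorem exists_glue {A Y : Submodule F V} (hA : NondegOn (polarBilin Q) A) (hY : NondegOn (polarBilin Q) Y)
    (ho : ∀ a ∈ A, ∀ y ∈ Y, polarBilin Q a y = 0) (hR : (polarBilin R).Nondegenerate)
    (hlt : finrank F A < finrank F W) (hd : finrank F W < finrank F A + finrank F Y)
    (h' : (2 : F) ≠ 0 ∨ (Even (finrank F A) ∧ Even (finrank F W) ∧ Even (finrank F Y))) :
    ∃ (T : W →ₗ[F] V) (B : Submodule F V), B ≤ Y ∧ (∀ w, Q (T w) = R w) ∧ LinearMap.range T = A ⊔ B := by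
  obtain ⟨S, hS⟩ := exists_embed_lt hR (comp_nondeg hA) hlt (h'.imp_right fun ⟨⟨a, ha⟩, ⟨w, hw⟩, _⟩ =>
    ⟨⟨a, ha⟩, by omega⟩)
  obtain ⟨hPn, hPd, -⟩ := range_facts (comp_nondeg hA) S hS
  have hQd := hPn.finrank_perp
  have hSinj := Orth.injective_of_preserving (comp_nondeg hA) S hS
  obtain ⟨T₂, hT₂, hT₂Y⟩ := exists_embed_in hY (comp_nondeg (nondegOn_perp hR.2 hPn)) (by omega)
    (h'.imp_right fun ⟨⟨a, ha⟩, ⟨w, hw⟩, ⟨y, hy⟩⟩ => ⟨⟨w - a, by omega⟩, by omega⟩)
  let σ : (A × perp (polarBilin R) (LinearMap.range S) : Type _) ≃ₗ[F] W :=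
    ((LinearEquiv.ofInjective S hSinj).prodCongr (LinearEquiv.refl F _)).trans
      (Submodule.prodEquivOfIsCompl _ _ hPn.isCompl)
  refine ⟨(A.subtype.coprod T₂).comp σ.symm.toLinearMap, LinearMap.range T₂, hT₂Y, fun w => ?_, ?_⟩
  · obtain ⟨⟨a, b⟩, rfl⟩ := σ.surjective w
    simp only [LinearMap.comp_apply, LinearEquiv.coe_coe, σ.symm_apply_apply, LinearMap.coprod_apply,
      Submodule.coe_subtype]
    have hσ : σ (a, b) = S a + (b : W) := rfl
    rw [hσ, QuadraticMap.map_add Q, QuadraticMap.map_add R, hT₂, hS, ← polarBilin_apply_apply,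
      ← polarBilin_apply_apply, ho a a.2 _ (hT₂Y ⟨b, rfl⟩), mem_perp.1 b.2 _ ⟨a, rfl⟩]
    simp
  · rw [LinearMap.range_comp, LinearEquiv.range, Submodule.map_top, LinearMap.range_coprod, Submodule.range_subtype]

/-- An embedding adapted to an orthogonal sum. -/
theorem exists_split_embed {X Y : Submodule F V} (hX : NondegOn (polarBilin Q) X) (hY : NondegOn (polarBilin Q) Y)
    (ho : ∀ x ∈ X, ∀ y ∈ Y, polarBilin Q x y = 0) (h2 : (2 : F) ≠ 0) (hR : (polarBilin R).Nondegenerate)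
    (hd : finrank F W < finrank F X + finrank F Y) (hW : 2 ≤ finrank F W) :
    ∃ (T : W →ₗ[F] V) (A B : Submodule F V), A ≤ X ∧ B ≤ Y ∧ (∀ w, Q (T w) = R w) ∧
      LinearMap.range T = A ⊔ B := by
  rcases lt_trichotomy (finrank F X) (finrank F W) with h | h | h
  · obtain ⟨T, B, h1, h3, h4⟩ := exists_glue hX hY ho hR h hd (Or.inl h2)
    exact ⟨T, X, B, le_rfl, h1, h3, h4⟩
  · rcases lt_trichotomy (finrank F Y) (finrank F W) with h' | h' | h'
    · obtain ⟨T, A, h1, h3, h4⟩ := exists_glue hY hX (fun y hy x hx => polar_refl Q _ _ (ho x hx y hy)) hR h'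
        (by omega) (Or.inl h2)
      exact ⟨T, A, Y, h1, le_rfl, h3, h4.trans (sup_comm _ _)⟩
    · obtain ⟨A, hAX, hAn, hAd⟩ := exists_sub_nondeg hX h2 (k := finrank F W - 1) (by omega)
      obtain ⟨T, B, h1, h3, h4⟩ := exists_glue hAn hY (fun a ha => ho a (hAX ha)) hR (by omega) (by omega) (Or.inl h2)
      exact ⟨T, A, B, hAX, h1, h3, h4⟩
    · obtain ⟨T, h1, h3⟩ := exists_embed_in hY hR h' (Or.inl h2)
      exact ⟨T, ⊥, _, bot_le, h3, h1, (bot_sup_eq _).symm⟩
  · obtain ⟨T, h1, h3⟩ := exists_embed_in hX hR h (Or.inl h2)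
    exact ⟨T, _, ⊥, h3, bot_le, h1, (sup_bot_eq _).symm⟩

end CfsgLib.Derangements.OrthInv
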