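import Cfsg.Agent.Lib.Derangements.OrthNondegElusive

/-!
# Fixed non-degenerate subspaces in even dimension: elements of odd order prime to the characteristic
-/

set_option autoImplicit false
set_option linter.unusedSectionVars false

namespace CfsgLib.Derangements.OrthInv

open Module QuadraticMap CfsgLib.Classical CfsgLib.Derangements.LinElusive CfsgLib.Derangements.NullInv
open scoped Matrix

variable {F : Type*} [Field F] [Fintype F] {r : ℕ} [Fact r.Prime] {ι : Type} [Fintype ι] [DecidableEq ι]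
  {Qf : (ι → F) → F}

theorem isometric_symm_iff (P : QuadraticForm F (ι → F)) (hQf : ∀ v, Qf v = P v) {W W₀ : Submodule F (ι → F)} :
    Cfsg.Geo.AreIsometricFor Qf W W₀ ↔ ∃ φ : W₀ ≃ₗ[F] W, ∀ w : W₀, P (φ w : ι → F) = P (w : ι → F) := by
  constructor
  · rintro ⟨e, he⟩
    refine ⟨e.symm, fun w => ?_⟩
    have := he (e.symm w)
    rw [e.apply_symm_apply, hQf, hQf] at this
    exact this.symm
  · rintro ⟨φ, hφ⟩
    refine ⟨φ.symm, fun w => ?_⟩
    rw [hQf, hQf, ← hφ (φ.symm w), φ.apply_symm_apply]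

theorem isometric_range (P : QuadraticForm F (ι → F)) (hQf : ∀ v, Qf v = P v) {W₀ : Submodule F (ι → F)}
    (hW₀ : NondegOn (polarBilin P) W₀) {T : W₀ →ₗ[F] (ι → F)} (hT : ∀ w, P (T w) = P (w : ι → F)) :
    finrank F (LinearMap.range T) = finrank F W₀ ∧ NondegOn (polarBilin P) (LinearMap.range T) ∧
      Cfsg.Geo.AreIsometricFor Qf (LinearMap.range T) W₀ := by
  obtain ⟨h1, h3, -⟩ := range_facts (comp_nondeg hW₀) T hT
  exact ⟨h3, h1, (isometric_symm_iff P hQf).2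
    ⟨LinearEquiv.ofInjective T (Orth.injective_of_preserving (comp_nondeg hW₀) T hT), fun w => hT w⟩⟩

/-- The divisibility coming from the orbit of a given subspace. -/
theorem orbit_given (P : QuadraticForm F (ι → F)) (hQf : ∀ v, Qf v = P v) (hP : (polarBilin P).Nondegenerate)
    {W₀ : Submodule F (ι → F)} (hW₀ : NondegOn (polarBilin P) W₀) {m : ℕ} (hW₀d : finrank F W₀ = m)
    (hr : r ∣ Nat.card {W : Submodule F (ι → F) //
      finrank F W = m ∧ NondegOn (polarBilin P) W ∧ Cfsg.Geo.AreIsometricFor Qf W W₀}) :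
    r * (Nat.card (Orth.orthGroup (P.comp W₀.subtype)) *
      Nat.card (Orth.orthGroup (P.comp (perp (polarBilin P) W₀).subtype))) ∣ Nat.card (Orth.orthGroup P) := by
  refine mul_dvd_orbit hP hW₀ (fun W hW => (isometric_symm_iff P hQf).1 hW.2.2) (fun g => ?_) hr
  obtain ⟨a, b, c⟩ := isometric_range P hQf hW₀ (T := (g.1 : (ι → F) →ₗ[F] (ι → F)).comp W₀.subtype)
    fun w => Orth.apply_quad g (w : ι → F)
  rw [LinearMap.range_comp, Submodule.range_subtype] at a b c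
  exact ⟨a.trans hW₀d, b, c⟩

theorem fit_irrelevant {n m i : ℕ} {ε τ τ' : Prop} {A a : ℕ} (hm : Odd m) (hn : Even n)
    (h : Fit n m i ε τ A a) : Fit n m i ε τ' A a := by
  obtain ⟨h1, h2, h3, -, -⟩ := h
  have ha := Nat.even_iff.1 ((blockLen_even i).mul_left a)
  have hA := Nat.even_iff.1 ((blockLen_even i).mul_left A)
  rw [Nat.odd_iff] at hm
  have hn' := Nat.even_iff.1 hn
  exact ⟨h1, h2, h3, fun h' => by omega, fun _ h' => by omega⟩

/-- The criterion for subspaces of even dimension. -/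
theorem typed_even_iff (P : QuadraticForm F (ι → F)) (hQf : ∀ v, Qf v = P v) (hP : (polarBilin P).Nondegenerate)
    (h4 : Orth.Good F (ι → F)) (hr : (r : F) ≠ 0) (hr2 : Odd r) (hrq : ¬ r ∣ Fintype.card F) {d μ h : ℕ}
    (hd : finrank F (ι → F) = 2 * d) (hμ : 1 ≤ μ) (hμd : μ < d) (hh : 0 < h)
    (hc : blockLen (orderOf (Fintype.card F : ZMod r)) = 2 * h) (τ : Prop)
    (hcount : r ∣ Nat.card {W : Submodule F (ι → F) //
      finrank F W = 2 * μ ∧ NondegOn (polarBilin P) W ∧ (PlusOn P W ↔ τ)}) :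
    (∀ x : GL ι F, x ∈ Cfsg.Geo.omegaGL Qf →
      (∃ z : F, ((x ^ r : GL ι F) : Matrix ι ι F) = z • (1 : Matrix ι ι F)) →
      (∀ z : F, (x : Matrix ι ι F) ≠ z • (1 : Matrix ι ι F)) →
      ∃ W : Submodule F (ι → F), (finrank F W = 2 * μ ∧ NondegOn (polarBilin P) W ∧ (PlusOn P W ↔ τ)) ∧
        W.map (Matrix.toLin' (x : Matrix ι ι F)) ≤ W) ↔
    ((d % h = 0 ∧ (¬ (BlockPlus (orderOf (Fintype.card F : ZMod r)) (d / h) ↔ PlusOn P ⊤) ∨
        (μ % h = 0 ∧ (τ ↔ BlockPlus (orderOf (Fintype.card F : ZMod r)) (μ / h))))) ∨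
      (0 < d % h ∧ h ≤ μ ∧ μ % h ≤ d % h ∧
        (μ % h = 0 → (τ ↔ BlockPlus (orderOf (Fintype.card F : ZMod r)) (μ / h))) ∧
        (μ % h = d % h → (τ ↔ (BlockPlus (orderOf (Fintype.card F : ZMod r)) (μ / h) ↔
          (BlockPlus (orderOf (Fintype.card F : ZMod r)) (d / h) ↔ PlusOn P ⊤)))))) := by
  have h' : (2 : F) ≠ 0 ∨ Even (finrank F (ι → F)) := Or.inr (hd ▸ even_two_mul d)
  rw [← all_fit_even_iff hh hc hμ hμd (count_data_even hr hr2 hrq hP h' hd hμ hμd hh hc τ hcount), ← hd]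
  constructor
  · intro hall
    by_contra hbad
    obtain ⟨x, hx, hxr, -, hns, hW⟩ := exists_bad_typed P hQf hP h4 hr hr2 h' _ τ hbad
    obtain ⟨W, ⟨a, b, c⟩, hWi⟩ := hall x hx ⟨1, by rw [hxr, Units.val_one, one_smul]⟩ hns
    exact hW W a b c hWi
  · intro hall x hx ⟨z, hz⟩ _
    have hMr : Matrix.toLin' (x : Matrix ι ι F) ^ r = z • (1 : Module.End F (ι → F)) := by
      change Matrix.toLinAlgEquiv' (x : Matrix ι ι F) ^ r = _
      rw [← map_pow, ← Units.val_pow_eq_pow_val, hz, map_smul, map_one]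
    obtain ⟨W, a, b, c, e⟩ := fixed_typed P hQf hP hr hr2 h' (even_two_mul μ) (by omega) (by omega) τ hall hx hz
      (scalar_sq hP hd (by omega) (pow_quad (isometry_omega P hQf hx) r) hMr)
    exact ⟨W, ⟨a, b, c⟩, e⟩

/-- The criterion for subspaces of odd dimension. -/
theorem parabolic_iff (P : QuadraticForm F (ι → F)) (hQf : ∀ v, Qf v = P v) (hP : (polarBilin P).Nondegenerate)
    (h2 : (2 : F) ≠ 0) (hr : (r : F) ≠ 0) (hr2 : Odd r) (hrq : ¬ r ∣ Fintype.card F) {d μ h : ℕ}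
    (hd : finrank F (ι → F) = 2 * d) (hμd : μ < d) (hh : 0 < h)
    (hc : blockLen (orderOf (Fintype.card F : ZMod r)) = 2 * h) {W₀ : Submodule F (ι → F)}
    (hW₀ : NondegOn (polarBilin P) W₀) (hW₀d : finrank F W₀ = 2 * μ + 1)
    (hcount : r ∣ Nat.card {W : Submodule F (ι → F) //
      finrank F W = 2 * μ + 1 ∧ NondegOn (polarBilin P) W ∧ Cfsg.Geo.AreIsometricFor Qf W W₀}) :
    (∀ x : GL ι F, x ∈ Cfsg.Geo.omegaGL Qf →
      (∃ z : F, ((x ^ r : GL ι F) : Matrix ι ι F) = z • (1 : Matrix ι ι F)) →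
      (∀ z : F, (x : Matrix ι ι F) ≠ z • (1 : Matrix ι ι F)) →
      ∃ W : Submodule F (ι → F), (finrank F W = 2 * μ + 1 ∧ NondegOn (polarBilin P) W ∧
        Cfsg.Geo.AreIsometricFor Qf W W₀) ∧ W.map (Matrix.toLin' (x : Matrix ι ι F)) ≤ W) ↔
    ((d % h = 0 ∧ ¬ (BlockPlus (orderOf (Fintype.card F : ZMod r)) (d / h) ↔ PlusOn P ⊤)) ∨
      (0 < d % h ∧ h ≤ μ ∧ μ % h < d % h)) := by
  have hV : Even (finrank F (ι → F)) := hd ▸ even_two_mul d
  have hdvd := orbit_given P hQf hP hW₀ hW₀d hcount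
  have hr2' : r ≠ 2 := fun h => Nat.not_even_iff_odd.2 hr2 (h ▸ even_two)
  have hdata : d % h ≠ 0 → h ≤ d ∧ (μ < h → d % h ≤ μ) := fun hdh => by
    have hno : ∀ z, (Fintype.card F : ZMod r) ^ d = z → z * z = 1 → False := fun z hz hzz => hdh
      (Nat.mod_eq_zero_of_dvd (half_dvd hr hc (by rw [two_mul, pow_add, hz, hzz])))
    rcases count_parabolic hP h2 hrq hr2' hd hμd hW₀ hW₀d hdvd with ⟨hp, hm⟩ | ⟨j, hj1, hjμ, hj⟩
    · by_cases hVp : PlusOn P ⊤
      · exact (hno 1 (hp hVp) (one_mul 1)).elim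
      · exact (hno (-1) (hm hVp) (by ring)).elim
    · obtain ⟨u, hu⟩ := half_dvd hr hc hj
      refine ⟨(Nat.le_of_dvd (by omega) ⟨u, hu⟩).trans (Nat.sub_le _ _), fun hlt => ?_⟩
      rw [show d = j + h * u by omega, Nat.add_mul_mod_self_left, Nat.mod_eq_of_lt (by omega)]
      exact hjμ
  rw [← all_fit_parabolic_iff (ε := PlusOn P ⊤) (τ := True) hh hc hμd hdata, ← hd]
  constructor
  · intro hall
    by_contra hbad
    push Not at hbad
    obtain ⟨A, hA, hv, hno⟩ := hbad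
    obtain ⟨L, hL, hQL, hne, hW⟩ := exists_blocks_witness hr hr2 hP (Or.inl h2) (order_pos hr) hA hv (2 * μ + 1)
    obtain ⟨x, hx, hxL, hxr, -, hns⟩ := exists_omega P hQf hP (Orth.good_of_two_ne h2) hr2 hL hQL hne
    obtain ⟨W, ⟨a, b, -⟩, hWi⟩ := hall x hx ⟨1, by rw [hxr, Units.val_one, one_smul]⟩ hns
    rw [hxL] at hWi
    obtain ⟨t, ht⟩ := hW W hWi b a
    exact hno t (fit_irrelevant ⟨μ, rfl⟩ hV ht)
  · intro hall x hx ⟨z, hz⟩ _
    have hMr : Matrix.toLin' (x : Matrix ι ι F) ^ r = z • (1 : Module.End F (ι → F)) := by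
      change Matrix.toLinAlgEquiv' (x : Matrix ι ι F) ^ r = _
      rw [← map_pow, ← Units.val_pow_eq_pow_val, hz, map_smul, map_one]
    obtain ⟨hLr, hQL, hinv⟩ := unscale P hQf hr2 hx hz
      (scalar_sq hP hd (by omega) (pow_quad (isometry_omega P hQf hx) r) hMr)
    obtain ⟨T, hT, hTi⟩ := exists_inv_embed hr hr2 hP hQL hLr h2 hV (comp_nondeg hW₀) (hW₀d ▸ odd_two_mul_add_one μ)
      True fun A hA => by
        rw [hW₀d]
        rcases Nat.eq_zero_or_pos A with rfl | hA0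
        · refine ⟨0, le_rfl, by simp, by simp only [Nat.zero_mul, Nat.sub_zero, Nat.add_zero]; omega, fun h0 => ?_,
            fun _ h0 => ?_⟩ <;>
          · simp only [Nat.zero_mul, Nat.sub_zero, Nat.add_zero] at h0; omega
        · exact hall A hA0 hA
    obtain ⟨a, b, c⟩ := isometric_range P hQf hW₀ hT
    exact ⟨_, ⟨a.trans hW₀d, b, c⟩, hinv _ hTi⟩

end CfsgLib.Derangements.OrthInv
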