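import Cfsg.Agent.Lib.Derangements.OrthNondegWitness
import Cfsg.Agent.Lib.Derangements.OrthNondegCharTwo

/-!
# Glue for the statements on fixed non-degenerate subspaces
-/

set_option autoImplicit false
set_option linter.unusedSectionVars false

namespace CfsgLib.Derangements.OrthInv

open Module QuadraticMap CfsgLib.Classical CfsgLib.Derangements.LinElusive CfsgLib.Derangements.NullInv CfsgLib.Orth

variable {F : Type*} [Field F] [Fintype F] {p r : ℕ} [Fact p.Prime] [CharP F p] [Fact r.Prime]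

theorem prime_facts (hrp : r ≠ p) : (r : F) ≠ 0 ∧ ¬ r ∣ Fintype.card F := by
  refine ⟨fun h => hrp ((Nat.prime_dvd_prime_iff_eq Fact.out Fact.out).1
    ((CharP.cast_eq_zero_iff F p r).1 h)).symm, fun h => ?_⟩
  obtain ⟨k, hp, hk⟩ := FiniteField.card F p
  rw [hk] at h
  exact hrp ((Nat.prime_dvd_prime_iff_eq Fact.out hp).1 ((Fact.out : r.Prime).dvd_of_dvd_pow h))

theorem two_ne_of_char (hp : p ≠ 2) : (2 : F) ≠ 0 := Ring.two_ne_zero (by rwa [ringChar.eq F p])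

theorem card_odd_of (hp : p ≠ 2) : Fintype.card F % 2 = 1 :=
  FiniteField.odd_card_of_char_ne_two (by rwa [ringChar.eq F p])

theorem card_even_of (hp : p = 2) : Fintype.card F % 2 = 0 :=
  FiniteField.even_card_iff_char_two.1 (by rw [ringChar.eq F p, hp])

theorem sq_neg_one_iff (hodd : Fintype.card F % 2 = 1) : IsSquare (-1 : F) ↔ Fintype.card F % 4 = 1 := by
  rw [FiniteField.isSquare_neg_one_iff]; omega

theorem sq_two_pow_iff (hodd : Fintype.card F % 2 = 1) (d : ℕ) :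
    IsSquare ((2 : F) ^ d) ↔ (Even d ∨ Fintype.card F % 8 = 1 ∨ Fintype.card F % 8 = 7) := by
  have h2 : (2 : F) ≠ 0 := Ring.two_ne_zero fun h => by
    have := FiniteField.even_card_iff_char_two.1 h
    omega
  rcases Nat.even_or_odd d with ⟨e, rfl⟩ | ⟨e, rfl⟩
  · exact iff_of_true ⟨2 ^ e, pow_add _ _ _⟩ (Or.inl ⟨e, rfl⟩)
  · simp only [Nat.not_even_two_mul_add_one, false_or]
    rw [show (Fintype.card F % 8 = 1 ∨ Fintype.card F % 8 = 7) ↔ IsSquare (2 : F) by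
      rw [FiniteField.isSquare_two_iff]; omega]
    constructor
    · rintro ⟨t, ht⟩
      exact ⟨t / 2 ^ e, by field_simp; linear_combination ht⟩
    · rintro ⟨t, ht⟩
      exact ⟨t * 2 ^ e, by rw [pow_succ, two_mul, pow_add]; linear_combination ((2 : F) ^ e * 2 ^ e) * ht⟩

theorem half_arith (h d μ : ℕ) (hh : 0 < h) :
    (2 * d) % (2 * h) = 2 * (d % h) ∧ (2 * μ + 1) % (2 * h) = 2 * (μ % h) + 1 ∧
      (2 * d) / (2 * h) = d / h ∧ (2 * μ) / (2 * h) = μ / h ∧ (1 ≤ μ → μ % h = 0 → h ≤ μ) ∧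
      (μ % h = d % h → (2 * d + 2 * μ - 2 * (2 * (d % h))) / (2 * h) = d / h + μ / h) := by
  refine ⟨Nat.mul_mod_mul_left 2 d h, ?_, Nat.mul_div_mul_left d h two_pos, Nat.mul_div_mul_left μ h two_pos,
    fun h1 h0 => Nat.le_of_dvd h1 (Nat.dvd_of_mod_eq_zero h0), fun he => ?_⟩
  · have := Nat.mod_lt μ hh
    conv_lhs => rw [show 2 * μ + 1 = 2 * (μ % h) + 1 + 2 * h * (μ / h) by
      have := Nat.mod_add_div μ h; rw [mul_assoc]; omega]
    rw [Nat.add_mul_mod_self_left, Nat.mod_eq_of_lt (by omega)]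
  · have h1 := Nat.div_add_mod d h
    have h2 := Nat.div_add_mod μ h
    rw [show 2 * d + 2 * μ - 2 * (2 * (d % h)) = 2 * h * (d / h + μ / h) by rw [mul_add, mul_assoc, mul_assoc]; omega,
      Nat.mul_div_cancel_left _ (by omega)]

variable {ι : Type} [Fintype ι] [DecidableEq ι] {Qf : (ι → F) → F}

theorem explicit_hyperbolic_iff (P : QuadraticForm F (ι → F)) (hQf : ∀ v, Qf v = P v) (W : Submodule F (ι → F))
    (m : ℕ) :
    (finrank F W = m ∧ (∀ u ∈ W, u ≠ 0 → ∃ v ∈ W, polar Qf u v ≠ 0) ∧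
        ∃ U : Submodule F (ι → F), U ≤ W ∧ 2 * finrank F U = m ∧ ∀ u ∈ U, Qf u = 0) ↔
      (finrank F W = m ∧ NondegOn (polarBilin P) W ∧ (PlusOn P W ↔ True)) := by
  rw [← isNondegenerateOn_iff P hQf]
  refine and_congr_right fun hd => ?_
  subst hd
  rw [iff_true]
  refine and_congr ⟨fun h w hw hw0 => ?_, fun h u hu hu0 => (h u hu hu0).2⟩ ?_
  · obtain ⟨v, hv, hne⟩ := h w hw hw0
    exact ⟨⟨v, hv, by rwa [polar_comm]⟩, v, hv, hne⟩
  · simp only [hQf]
    exact ⟨fun ⟨U, a, b, c⟩ => ⟨U, a, c, b⟩, fun ⟨U, a, b, c⟩ => ⟨U, a, c, b⟩⟩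

theorem involution_char_two (P : QuadraticForm F (ι → F)) (hQf : ∀ v, Qf v = P v) (hP : (polarBilin P).Nondegenerate)
    (h2 : (2 : F) = 0) {d : ℕ} (hd : finrank F (ι → F) = 2 * d) (hd0 : 0 < d) {x : GL ι F}
    (hx : x ∈ Cfsg.Geo.omegaGL Qf) {z : F} (hz : ((x ^ 2 : GL ι F) : Matrix ι ι F) = z • (1 : Matrix ι ι F)) (v : ι → F) :
    Matrix.toLin' (x : Matrix ι ι F) (Matrix.toLin' (x : Matrix ι ι F) v) = v := by
  rcases two_apply P hQf hP hd hd0 hx hz with h | h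
  · exact h v
  · rw [h v, neg_eq_iff_add_eq_zero, ← two_smul F v, h2, zero_smul]

theorem plusForm_data (d : ℕ) :
    (polarBilin (plusForm F d)).Nondegenerate ∧ finrank F (Fin d ⊕ Fin d → F) = 2 * d ∧
      PlusOn (plusForm F d) ⊤ := by
  have hd : finrank F (Fin d ⊕ Fin d → F) = 2 * d := by simp [two_mul]
  exact ⟨plusForm_nondeg d, hd, (plusOn_top_iff hd).2 (EvenForms.plus_plusForm d)⟩

theorem minusForm_data {d : ℕ} (hd : 1 ≤ d) {a b : F}
    (hab : ∀ x y : F, x ^ 2 + a * x * y + b * y ^ 2 = 0 → x = 0 ∧ y = 0) :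
    (polarBilin (minusForm F (d - 1) a b)).Nondegenerate ∧
      finrank F ((Fin (d - 1) ⊕ Fin (d - 1)) ⊕ Fin 2 → F) = 2 * d ∧ ¬ PlusOn (minusForm F (d - 1) a b) ⊤ := by
  have hd' : finrank F ((Fin (d - 1) ⊕ Fin (d - 1)) ⊕ Fin 2 → F) = 2 * d := by
    rw [Module.finrank_fintype_fun_eq_card]; simp; omega
  refine ⟨minusForm_nondeg (d - 1) a b hab, hd', fun hp => ?_⟩
  exact EvenForms.not_plus_minusForm (k := d - 1) hab
    ((show d - 1 + 1 = d by omega).symm ▸ (plusOn_top_iff hd').1 hp)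

theorem real_minus (h2 : (2 : F) ≠ 0) {d : ℕ} (hd : 1 ≤ d) {a b : F}
    (hab : ∀ x y : F, x ^ 2 + a * x * y + b * y ^ 2 = 0 → x = 0 ∧ y = 0) {μ : Multiset ℕ}
    (heven : ∀ e, Even e → Even (μ.count e)) (hsum : μ.sum = 2 * d) (hodd : ∃ e ∈ μ, Odd e) :
    OrthUnipotent.Real (fun u v => polar (minusForm F (d - 1) a b) u v) μ := by
  have hne : b - a ^ 2 / 4 ≠ 0 := fun h => by
    have h4 : (4 : F) ≠ 0 := by rw [show (4 : F) = 2 * 2 by norm_num]; exact mul_ne_zero h2 h2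
    exact one_ne_zero (hab (-a / 2) 1 (by field_simp at h ⊢; linear_combination h)).2
  exact (OrthUnipotent.real_plane h2 one_ne_zero hne hd heven hsum hodd).of_iso
    (OrthUnipotent.iso_minusForm h2 (d - 1) a b)

theorem even_count_blocks {o₁ o₂ k : ℕ} (h1 : Odd o₁) (h2 : Odd o₂) (hk : Even k) :
    ∀ e, Even e → Even ((o₁ ::ₘ o₂ ::ₘ Multiset.replicate k 2).count e) := fun e he => by
  rw [Multiset.count_cons_of_ne (fun h : e = o₁ => Nat.not_even_iff_odd.2 h1 (by rw [← h]; exact he)),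
    Multiset.count_cons_of_ne (fun h : e = o₂ => Nat.not_even_iff_odd.2 h2 (by rw [← h]; exact he)), Multiset.count_replicate]
  split_ifs
  · exact hk
  · exact Even.zero

end CfsgLib.Derangements.OrthInv
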