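import Cfsg.Agent.Lib.Derangements.OrthNegation
import Cfsg.Agent.Lib.Derangements.OrthInvariantWitness

/-!
# Isometries with square minus one over fields where minus one is not a square
-/

set_option autoImplicit false
set_option linter.unusedSectionVars false

namespace CfsgLib.Derangements.OrthInv

open Module QuadraticMap CfsgLib.Classical CfsgLib.Derangements.LinElusive CfsgLib.Derangements.NullInv CfsgLib.Orth

variable {F : Type*} [Field F] [Fintype F] {V : Type*} [AddCommGroup V] [Module F V] [FiniteDimensional F V]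
  {Q : QuadraticForm F V} {L : Module.End F V}

theorem plusOn_comp {X Y : Submodule F V} (h : Y ≤ X) :
    PlusOn (Q.comp X.subtype) (Y.comap X.subtype) ↔ PlusOn Q Y := by
  constructor
  · rintro ⟨U, hUY, hU, hUd⟩
    refine ⟨U.map X.subtype, Submodule.map_le_iff_le_comap.2 hUY, ?_, ?_⟩
    · rintro _ ⟨u, hu, rfl⟩; exact hU u hu
    · rw [← (Submodule.equivMapOfInjective _ X.injective_subtype U).finrank_eq, hUd,
        (Submodule.comapSubtypeEquivOfLe h).finrank_eq]
  · rintro ⟨U, hUY, hU, hUd⟩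
    refine ⟨U.comap X.subtype, Submodule.comap_mono hUY, fun u hu => hU _ hu, ?_⟩
    rw [(Submodule.comapSubtypeEquivOfLe (hUY.trans h)).finrank_eq, hUd,
      (Submodule.comapSubtypeEquivOfLe h).finrank_eq]

/-- The type of an orthogonal sum of two subspaces. -/
theorem plus_sup_iff {X Y : Submodule F V} (hXn : NondegOn (polarBilin Q) X) (hYn : NondegOn (polarBilin Q) Y)
    (ho : ∀ x ∈ X, ∀ y ∈ Y, polarBilin Q x y = 0) (hXe : Even (finrank F X)) (hYe : Even (finrank F Y)) :
    PlusOn Q (X ⊔ Y) ↔ (PlusOn Q X ↔ PlusOn Q Y) := by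
  have hd : Disjoint X Y := Submodule.disjoint_def.2 fun v hv hv' => nondegOn_iff.1 hXn v hv fun w hw => ho w hw v hv'
  set S := X ⊔ Y with hS
  have hSn : NondegOn (polarBilin Q) S := nondegOn_iff.2 fun v hv h => by
    obtain ⟨x, hx, y, hy, rfl⟩ := Submodule.mem_sup.1 hv
    have h1 : x = 0 := nondegOn_iff.1 hXn x hx fun w hw => by
      have := h w (Submodule.mem_sup_left hw)
      rwa [map_add, ho w hw y hy, add_zero] at this
    have h2 : y = 0 := nondegOn_iff.1 hYn y hy fun w hw => by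
      have := h w (Submodule.mem_sup_right hw)
      rwa [map_add, polar_refl Q _ _ (ho x hx w hw), zero_add] at this
    rw [h1, h2, add_zero]
  have hnd : ∀ Z ≤ S, NondegOn (polarBilin Q) Z → NondegOn (polarBilin (Q.comp S.subtype)) (Z.comap S.subtype) :=
    fun Z hZ hZn => by
      rw [polar_comp]
      exact nondegOn_iff.2 fun z hz h => Subtype.ext (nondegOn_iff.1 hZn _ hz fun w hw => h ⟨w, hZ hw⟩ hw)
  have hd' : Disjoint (X.comap S.subtype) (Y.comap S.subtype) :=
    Submodule.disjoint_def.2 fun v hv hv' => Subtype.ext (Submodule.disjoint_def.1 hd _ hv hv')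
  have hc : IsCompl (X.comap S.subtype) (Y.comap S.subtype) := ⟨hd', codisjoint_iff.2 (eq_top_iff.2 fun v _ => by
    obtain ⟨x, hx, y, hy, hxy⟩ := Submodule.mem_sup.1 v.2
    exact Submodule.mem_sup.2 ⟨⟨x, Submodule.mem_sup_left hx⟩, hx, ⟨y, Submodule.mem_sup_right hy⟩, hy, Subtype.ext hxy⟩)⟩
  have h := plus_sum_iff (Q := Q.comp S.subtype) (comp_nondeg hSn) hc
    (fun x hx y hy => by rw [polar_comp]; exact ho _ hx _ hy) (hnd X le_sup_left hXn) (hnd Y le_sup_right hYn)
    (by rwa [(Submodule.comapSubtypeEquivOfLe (le_sup_left : X ≤ S)).finrank_eq])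
    (by rwa [(Submodule.comapSubtypeEquivOfLe (le_sup_right : Y ≤ S)).finrank_eq])
  rwa [plusOn_comp le_sup_left, plusOn_comp le_sup_right, ← Submodule.comap_subtype_self S, plusOn_comp le_rfl] at h

theorem quarter_polar (h2 : (2 : F) ≠ 0) (hQL : ∀ v, Q (L v) = Q v) (hL : ∀ v, L (L v) = -v) (v : V) :
    polarBilin Q v (L v) = 0 := by
  have h := polar_map hQL v (L v)
  rw [hL, map_neg] at h
  simp only [polarBilin_apply_apply] at h ⊢
  rw [polar_comm (⇑Q) (L v) v, neg_eq_iff_add_eq_zero, ← two_mul] at h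
  exact (mul_eq_zero.1 h).resolve_left h2

/-- An isometry with square minus one as a product of reflections. -/
theorem exists_quarter_prod (h2 : (2 : F) ≠ 0) (hsq : ¬ IsSquare (-1 : F)) (hQL : ∀ v, Q (L v) = Q v)
    (hL : ∀ v, L (L v) = -v) : ∀ (n : ℕ) (X : Submodule F V), finrank F X = n → Inv L X → NondegOn (polarBilin Q) X →
      ∃ (j : ℕ) (l : List V), n = 2 * j ∧ (∀ a ∈ l, Q a ≠ 0) ∧ Even l.length ∧
        (∃ s : F, s ≠ 0 ∧ (l.map fun a => Q a).prod = 2 ^ j * s ^ 2) ∧
        (∀ x ∈ X, ((l.map (refl Q)).prod).1 x = L x) ∧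
        (∀ v ∈ perp (polarBilin Q) X, ((l.map (refl Q)).prod).1 v = v) ∧ (PlusOn Q X ↔ Even j) := by
  intro n
  induction n using Nat.strong_induction_on with
  | _ n ih =>
  intro X hXn hX hXnd
  rcases Nat.eq_zero_or_pos n with rfl | hn
  · have hbot : X = ⊥ := Submodule.finrank_eq_zero.1 hXn
    refine ⟨0, [], rfl, by simp, by simp, ⟨1, one_ne_zero, by simp⟩, fun x hx => ?_, fun v _ => rfl,
      iff_of_true ⟨⊥, bot_le, sing_bot, by rw [finrank_bot, hXn]⟩ Even.zero⟩
    rw [hbot, Submodule.mem_bot] at hx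
    simp [hx]
  obtain ⟨v, hv, hα⟩ : ∃ v ∈ X, Q v ≠ 0 := by
    by_contra! hall
    have hbot : X = ⊥ := (Submodule.eq_bot_iff X).2 fun x hx => nondegOn_iff.1 hXnd x hx fun w hw =>
      Sing.null (Q := Q) hall w hw x hx
    rw [hbot, finrank_bot] at hXn
    omega
  set α := Q v with hαdef
  have hB : polar Q v (L v) = 0 := quarter_polar h2 hQL hL v
  let f : (Fin 2 → F) →ₗ[F] V := (LinearMap.proj 0).smulRight v + (LinearMap.proj 1).smulRight (L v)
  have hf : ∀ c, f c = c 0 • v + c 1 • L v := fun c => rfl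
  have hQf : ∀ c, Q (f c) = (c 0 ^ 2 + c 1 ^ 2) * α := fun c => by
    rw [hf, QuadraticMap.map_add Q, QuadraticMap.map_smul, QuadraticMap.map_smul, Orth.polar_smul_l',
      Orth.polar_smul_r', hB, hQL]
    simp only [smul_eq_mul]
    ring
  have hzero : ∀ a b : F, a ^ 2 + b ^ 2 = 0 → a = 0 ∧ b = 0 := fun a b h => by
    by_cases hb : b = 0
    · subst hb; simpa using h
    · exact absurd ⟨a / b, by field_simp; linear_combination -h⟩ hsq
  have hinj : Function.Injective f := (injective_iff_map_eq_zero _).2 fun c hc => by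
    have h := hQf c
    rw [hc, QuadraticMap.map_zero, eq_comm, mul_eq_zero, or_iff_left hα] at h
    obtain ⟨h0, h1⟩ := hzero _ _ h
    exact funext fun i => by fin_cases i <;> assumption
  set P := LinearMap.range f with hP
  have hPd : finrank F P = 2 := by rw [hP, LinearMap.finrank_range_of_inj hinj]; simp
  have hPX : P ≤ X := by
    rintro _ ⟨c, rfl⟩
    rw [hf]; exact X.add_mem (X.smul_mem _ hv) (X.smul_mem _ (hX.mem hv))
  have hPan : ∀ p ∈ P, Q p = 0 → p = 0 := by
    rintro _ ⟨c, rfl⟩ h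
    rw [hQf, mul_eq_zero, or_iff_left hα] at h
    obtain ⟨h0, h1⟩ := hzero _ _ h
    simp [hf, h0, h1]
  have hPn : NondegOn (polarBilin Q) P := nondegOn_iff.2 fun p hp h => hPan p hp <| by
    have := h p hp
    rw [polarBilin_apply_apply, Orth.polar_self'] at this
    exact (mul_eq_zero.1 this).resolve_left h2
  have hPi : Inv L P := Inv.of_mem <| by
    rintro _ ⟨c, rfl⟩
    refine ⟨![-(c 1), c 0], ?_⟩
    simp only [hf, map_add, map_smul, hL, Matrix.cons_val_zero, Matrix.cons_val_one]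
    module
  have hvP : v ∈ P := ⟨![1, 0], by simp [hf]⟩
  have hLvP : L v ∈ P := hPi.mem hvP
  set Y := perp (polarBilin Q) P ⊓ X with hY
  have hYi : Inv L Y := Inv.of_mem fun y hy => ⟨mem_perp.2 fun w hw => by
    have h1 := mem_perp.1 hy.1 (L w) (hPi.mem hw)
    rw [← polar_map hQL, hL, map_neg, LinearMap.neg_apply, neg_eq_zero] at h1
    exact h1, hX.mem hy.2⟩
  have hsup : P ⊔ Y = X := by
    rw [hY, ← sup_inf_assoc_of_le _ hPX, hPn.isCompl.sup_eq_top, top_inf_eq]
  have hPY : ∀ p ∈ P, ∀ y ∈ Y, polarBilin Q p y = 0 := fun p hp y hy => mem_perp.1 hy.1 p hp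
  have hYn : NondegOn (polarBilin Q) Y := nondegOn_iff.2 fun y hy h => nondegOn_iff.1 hXnd y hy.2 fun w hw => by
    rw [← hsup] at hw
    obtain ⟨p, hp, y', hy', rfl⟩ := Submodule.mem_sup.1 hw
    rw [map_add, LinearMap.add_apply, hPY p hp y hy, h y' hy', add_zero]
  have hdim : finrank F X = finrank F P + finrank F Y := by
    rw [← finrank_sup_of_disjoint (hPn.isCompl.disjoint.mono_right (inf_le_left : Y ≤ perp (polarBilin Q) P)), hsup]
  obtain ⟨j, l, hj, hl0, hlev, ⟨s, hs0, hs⟩, hlX, hlfix, hlp⟩ := ih (finrank F Y) (by omega) Y rfl hYi hYn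
  have hQb : Q (v - L v) = 2 * α := by
    rw [sub_eq_add_neg, QuadraticMap.map_add Q, QuadraticMap.map_neg, hQL, polar_neg_right, hB]
    ring
  have hb0 : Q (v - L v) ≠ 0 := hQb ▸ mul_ne_zero h2 hα
  have hbv : (refl Q (v - L v)).1 v = L v := refl_sub_apply Q (hQL v).symm hb0
  have hbLv : (refl Q (v - L v)).1 (L v) = v := by
    have h := DFunLike.congr_arg (refl Q (v - L v)).1 hbv
    rw [← h]
    exact (DFunLike.congr_fun (congrArg Subtype.val (refl_mul_self Q (v - L v))) v)
  have hperpP : ∀ w ∈ perp (polarBilin Q) P, ((([v, v - L v]).map (refl Q)).prod).1 w = w := fun w hw => by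
    have h1 : polar Q v w = 0 := mem_perp.1 hw v hvP
    have h3 : polar Q (v - L v) w = 0 := mem_perp.1 hw _ (P.sub_mem hvP hLvP)
    simp only [List.map_cons, List.map_nil, List.prod_cons, List.prod_nil, mul_one]
    show (refl Q v).1 ((refl Q (v - L v)).1 w) = w
    rw [refl_fix Q h3, refl_fix Q h1]
  have honP : ∀ p ∈ P, ((([v, v - L v]).map (refl Q)).prod).1 p = L p := by
    rintro _ ⟨c, rfl⟩
    simp only [List.map_cons, List.map_nil, List.prod_cons, List.prod_nil, mul_one]
    show (refl Q v).1 ((refl Q (v - L v)).1 (f c)) = L (f c)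
    rw [hf, map_add, map_smul, map_smul, hbv, hbLv, map_add, map_smul, map_smul, refl_self Q hα, refl_fix Q hB,
      map_add, map_smul, map_smul, hL]
  refine ⟨j + 1, [v, v - L v] ++ l, by omega, ?_, ?_, ⟨α * s, mul_ne_zero hα hs0, ?_⟩, fun x hx => ?_,
    fun w hw => ?_, ?_⟩
  · intro a ha
    rcases List.mem_append.1 ha with ha | ha
    · rcases List.mem_pair.1 ha with rfl | rfl <;> assumption
    · exact hl0 a ha
  · rw [List.length_append]; exact (even_two).add hlev
  · simp only [List.map_append, List.prod_append, List.map_cons, List.map_nil, List.prod_cons, List.prod_nil, mul_one,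
      hs, hQb, ← hαdef]
    ring
  · rw [List.map_append, List.prod_append]
    show ((([v, v - L v]).map (refl Q)).prod).1 (((l.map (refl Q)).prod).1 x) = L x
    rw [← hsup] at hx
    obtain ⟨p, hp, y, hy, rfl⟩ := Submodule.mem_sup.1 hx
    rw [map_add, hlX y hy, hlfix p (mem_perp.2 fun w hw => polar_refl Q _ _ (hPY p hp w hw)), map_add, honP p hp,
      hperpP _ ((hYi.mem hy).1), map_add]
  · rw [List.map_append, List.prod_append]
    show ((([v, v - L v]).map (refl Q)).prod).1 (((l.map (refl Q)).prod).1 w) = w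
    rw [hlfix w (perp_antitone (inf_le_right : Y ≤ X) hw), hperpP w (perp_antitone hPX hw)]
  · rw [← hsup, plus_sup_iff hPn hYn hPY (by rw [hPd]; exact even_two) ⟨j, by omega⟩, hlp]
    have hPm : ¬ PlusOn Q P := by
      rintro ⟨U, hUP, hU, hUd⟩
      have : U = ⊥ := (Submodule.eq_bot_iff U).2 fun u hu => hPan u (hUP hu) (hU u hu)
      rw [this, finrank_bot, hPd] at hUd
      omega
    rw [Nat.even_add_one]
    tauto

/-- Spinor norm and type of an isometry with square minus one. -/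
theorem quarter_turn (hN : (polarBilin Q).Nondegenerate) (h2 : (2 : F) ≠ 0) (hsq : ¬ IsSquare (-1 : F))
    (hQL : ∀ v, Q (L v) = Q v) (hL : ∀ v, L (L v) = -v) {d : ℕ} (hd : finrank F V = 2 * d) :
    (∃ g : orthGroup Q, (∀ v, g.1 v = L v) ∧ (g ∈ commutator (orthGroup Q) ↔ IsSquare ((2 : F) ^ d))) ∧
      (PlusOn Q ⊤ ↔ Even d) := by
  haveI : Finite V := Module.finite_of_finite F
  obtain ⟨j, l, hj, hl0, hlev, ⟨s, hs0, hs⟩, hlX, -, hlp⟩ := exists_quarter_prod h2 hsq hQL hL _ ⊤ rfl
    (Inv.of_mem fun _ _ => trivial) (nondegOn_iff.2 fun x _ hx => hN.2 x fun v => hx v trivial)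
  rw [finrank_top, hd] at hj
  obtain rfl : j = d := by omega
  refine ⟨⟨(l.map (refl Q)).prod, fun v => hlX v trivial, ?_⟩, hlp⟩
  rw [prod_refl_mem_commutator_iff hN h2 l hl0, hs]
  constructor
  · rintro ⟨-, t, ht⟩
    exact ⟨t / s, by field_simp; linear_combination ht⟩
  · rintro ⟨t, ht⟩
    exact ⟨hlev, t * s, by linear_combination (s ^ 2) * ht⟩

variable {ι : Type} [Fintype ι] [DecidableEq ι] {Qf : (ι → F) → F}

/-- Elements of `Ω` with square minus one. -/
theorem omega_quarter (P : QuadraticForm F (ι → F)) (hQf : ∀ v, Qf v = P v) (hP : (polarBilin P).Nondegenerate)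
    (h2 : (2 : F) ≠ 0) (hsq : ¬ IsSquare (-1 : F)) {d : ℕ} (hd : finrank F (ι → F) = 2 * d) {x : GL ι F}
    (hx : x ∈ Cfsg.Geo.omegaGL Qf) (hx2 : ∀ v, Matrix.toLin' (x : Matrix ι ι F) (Matrix.toLin' (x : Matrix ι ι F) v) = -v) :
    (PlusOn P ⊤ ↔ Even d) ∧ IsSquare ((2 : F) ^ d) := by
  obtain ⟨⟨g, hgL, hg⟩, hp⟩ := quarter_turn hP h2 hsq (isometry_omega P hQf hx) hx2 hd
  obtain ⟨g₀, hg₀, rfl⟩ := hx
  have : toOrth P hQf g₀ = g := Subtype.ext <| LinearEquiv.ext fun v => by
    rw [toOrth_apply]; exact (hgL v).symm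
  exact ⟨hp, hg.1 (this ▸ (mem_Omega_iff P hQf g₀).1 hg₀)⟩

/-- An element of `Ω` with square minus one on a space of the right type. -/
theorem exists_omega_quarter (P : QuadraticForm F (ι → F)) (hQf : ∀ v, Qf v = P v)
    (hP : (polarBilin P).Nondegenerate) (h2 : (2 : F) ≠ 0) (hsq : ¬ IsSquare (-1 : F)) {d : ℕ} (hd0 : 0 < d)
    (hd : finrank F (ι → F) = 2 * d) (htype : PlusOn P ⊤ ↔ Even d) (hsp : IsSquare ((2 : F) ^ d)) :
    ∃ x : GL ι F, x ∈ Cfsg.Geo.omegaGL Qf ∧
      (∀ v, Matrix.toLin' (x : Matrix ι ι F) (Matrix.toLin' (x : Matrix ι ι F) v) = -v) := by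
  let R : QuadraticForm F (Fin d ⊕ Fin d → F) := QuadraticMap.weightedSumSquares F (1 : Fin d ⊕ Fin d → F)
  let J : Module.End F (Fin d ⊕ Fin d → F) :=
    LinearMap.pi (Sum.elim (fun i => -LinearMap.proj (Sum.inr i)) (fun i => LinearMap.proj (Sum.inl i)))
  have hRa : ∀ v, R v = ∑ s, v s * v s := fun v => by simp [R, QuadraticMap.weightedSumSquares_apply]
  have hR : (polarBilin R).Nondegenerate := nondegenerate_of_left fun v hv => funext fun s => by
    have h := hv (Pi.single s 1)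
    rw [polar, hRa, hRa, hRa] at h
    simp only [Pi.add_apply, add_mul, mul_add, Finset.sum_add_distrib, Pi.single_apply, mul_ite, ite_mul, mul_one,
      one_mul, mul_zero, zero_mul, Finset.sum_ite_eq', Finset.mem_univ, if_true] at h
    have h' : 2 * v s = 0 := by linear_combination h
    exact (mul_eq_zero.1 h').resolve_left h2
  have hJ : ∀ v, J (J v) = -v := fun v => funext fun s => by rcases s with s | s <;> simp [J]
  have hRJ : ∀ v, R (J v) = R v := fun v => by
    simp [hRa, J, Fintype.sum_sum_type, add_comm]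
  obtain ⟨-, hRp⟩ := quarter_turn hR h2 hsq hRJ hJ (d := d) (by simp [two_mul])
  obtain ⟨T, hT⟩ := exists_embed hP hR (e := d) (by simp [two_mul])
    (Or.inr (Or.inr ⟨hd.symm, hRp.trans htype.symm⟩))
  have hinj := injective_of_preserving hR T hT
  let φ : (Fin d ⊕ Fin d → F) ≃ₗ[F] (ι → F) := LinearEquiv.ofBijective T ⟨hinj,
    (LinearMap.injective_iff_surjective_of_finrank_eq_finrank (by rw [hd]; simp [two_mul])).1 hinj⟩
  let L : Module.End F (ι → F) := φ.toLinearMap.comp (J.comp φ.symm.toLinearMap)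
  have hL : ∀ v, L (L v) = -v := fun v => by simp [L, hJ]
  have hPL : ∀ v, P (L v) = P v := fun v => by
    show P (T (J (φ.symm v))) = _
    rw [hT, hRJ, ← hT]
    exact congrArg P (φ.apply_symm_apply v)
  obtain ⟨⟨g, hgL, hg⟩, -⟩ := quarter_turn hP h2 hsq hPL hL hd
  refine ⟨((toOrth P hQf).symm g : GL ι F), ⟨(toOrth P hQf).symm g, ?_, rfl⟩, fun v => ?_⟩
  · rw [SetLike.mem_coe, mem_Omega_iff P hQf, MulEquiv.apply_symm_apply]
    exact hg.2 hsp
  · simp only [toOrth_symm_coe, Matrix.toLin'_apply, matOf_mulVec, hgL, hL]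

end CfsgLib.Derangements.OrthInv
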