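import Cfsg.Agent.Lib.Derangements.OrthNondegEmbed
import Cfsg.Agent.Lib.Derangements.NondegInvariant
import Cfsg.Agent.Lib.Derangements.OrthQuarterTurn

/-!
# Non-degenerate invariant subspaces of isometries of odd prime order of quadratic forms
-/

set_option autoImplicit false
set_option linter.unusedSectionVars false

namespace CfsgLib.Derangements.OrthInv

open Module QuadraticMap CfsgLib.Classical CfsgLib.Derangements.LinElusive CfsgLib.Derangements.NullInv

variable {F : Type*} [Field F] [Fintype F] {V : Type*} [AddCommGroup V] [Module F V] [FiniteDimensional F V]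
  {Q : QuadraticForm F V} {L : Module.End F V} {r : ℕ} [Fact r.Prime]

/-- The dimension of a smallest non-degenerate invariant piece of the moved part. -/
def blockLen (i : ℕ) : ℕ := if Even i then i else 2 * i

/-- The type of `a` pieces. -/
def BlockPlus (i a : ℕ) : Prop := Odd i ∨ Even a

theorem blockLen_even (i : ℕ) : Even (blockLen i) := by
  rw [blockLen]; split_ifs with h
  · exact h
  · exact even_two_mul i

theorem blockLen_pos {i : ℕ} (h : 0 < i) : 0 < blockLen i := by rw [blockLen]; split_ifs <;> omega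

/-- Possible numbers of moved pieces. -/
def Valid (n i : ℕ) (ε : Prop) (A : ℕ) : Prop :=
  A * blockLen i ≤ n ∧ (A * blockLen i = n → (BlockPlus i A ↔ ε))

/-- `a` pieces and a fixed part give a subspace of dimension `m` and type `τ`. -/
def Fit (n m i : ℕ) (ε τ : Prop) (A a : ℕ) : Prop :=
  a ≤ A ∧ a * blockLen i ≤ m ∧ m - a * blockLen i + A * blockLen i ≤ n ∧
    (m = a * blockLen i → (τ ↔ BlockPlus i a)) ∧
    (Even n → m - a * blockLen i + A * blockLen i = n → (τ ↔ (BlockPlus i a ↔ (BlockPlus i A ↔ ε))))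

theorem iff_cancel {a b : Prop} : (a ↔ (a ↔ b)) ↔ b := by
  by_cases ha : a <;> by_cases hb : b <;> simp [ha, hb]

theorem iff_cancel' {a b : Prop} : (a ↔ (b ↔ a)) ↔ b := by
  by_cases ha : a <;> by_cases hb : b <;> simp [ha, hb]

theorem uniform_mono {E U : Submodule F V} {i : ℕ} (hu : Uniform L E i) (hUE : U ≤ E) (hU : Inv L U) :
    Uniform L U i :=
  ⟨hu.pos, hU, fun X hX => hu.dvd X (hX.trans hUE), fun X hX => hu.exists_le X (hX.trans hUE)⟩

theorem nondegOn_of_twist (hr2 : Odd r) (hL : L ^ r = 1) {U : Submodule F V} (hU : Inv L U)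
    (hd : Disjoint (L.eigenspace 1) U) (hn : NondegOn (twistBil Q L r) U) : NondegOn (polarBilin Q) U := by
  refine nondegOn_iff.2 fun x hx h => ?_
  obtain ⟨x', hx', rfl⟩ := (exists_twist_preimage hr2 hL hU hd).2 x hx
  rw [nondegOn_iff.1 hn x' hx' fun w hw => h w hw, map_zero]

theorem injective_of_pow (hL : L ^ r = 1) : Function.Injective L :=
  Function.LeftInverse.injective (g := ⇑(L ^ (r - 1))) fun v => by
    rw [← Module.End.mul_apply, ← pow_succ, Nat.sub_add_cancel (Fact.out : r.Prime).one_le, hL, Module.End.one_apply]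

/-- Dimension and type of a non-degenerate invariant subspace of the moved part. -/
theorem moved_type (hr : (r : F) ≠ 0) (hr2 : Odd r) (hQL : ∀ v, Q (L v) = Q v) (hL : L ^ r = 1)
    (hs : Split L) {E U : Submodule F V} (hd : Disjoint (L.eigenspace 1) E)
    (hu : Uniform L E (orderOf (Fintype.card F : ZMod r))) (hUE : U ≤ E) (hU : Inv L U)
    (hUn : NondegOn (polarBilin Q) U) :
    ∃ a, finrank F U = a * blockLen (orderOf (Fintype.card F : ZMod r)) ∧
      (PlusOn Q U ↔ BlockPlus (orderOf (Fintype.card F : ZMod r)) a) := by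
  have hd' := hd.mono_right hUE
  obtain ⟨N, hN⟩ := hu.dvd U hUE hU
  rw [mul_comm] at hN
  have h1 := plus_moved_iff hr hr2 hQL hL hs hd' (uniform_mono hu hUE hU) hUn hN
  set i := orderOf (Fintype.card F : ZMod r)
  by_cases hev : Even i
  · exact ⟨N, by rw [blockLen, if_pos hev, hN], h1⟩
  · have ho := Nat.not_even_iff_odd.1 hev
    have h2 := even_moved hr2 hQL hL hU hd' hUn
    rw [hN, Nat.even_mul] at h2
    obtain ⟨a, ha⟩ := h2.resolve_right hev
    exact ⟨a, by rw [blockLen, if_neg hev, hN, ha]; ring, h1.trans (iff_of_true (Or.inl ho) (Or.inl ho))⟩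

/-- All numbers of pieces occur. -/
theorem exists_moved_sub (hr : (r : F) ≠ 0) (hr2 : Odd r) (hQL : ∀ v, Q (L v) = Q v) (hL : L ^ r = 1)
    (hs : Split L) {E : Submodule F V} (hd : Disjoint (L.eigenspace 1) E)
    (hu : Uniform L E (orderOf (Fintype.card F : ZMod r))) (hEn : NondegOn (polarBilin Q) E) {a : ℕ}
    (ha : a * blockLen (orderOf (Fintype.card F : ZMod r)) ≤ finrank F E) :
    ∃ U ≤ E, Inv L U ∧ NondegOn (polarBilin Q) U ∧
      finrank F U = a * blockLen (orderOf (Fintype.card F : ZMod r)) ∧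
      (PlusOn Q U ↔ BlockPlus (orderOf (Fintype.card F : ZMod r)) a) := by
  have hA := twistBil_isAlt (r := r) hQL hL
  obtain ⟨-, U, hUE, hU, hUn, hUd⟩ := NondegInv.exists_of_uniform hA.isRefl (injective_of_pow hL)
    (twistBil_isom hQL) (blockLen_pos hu.pos)
    (fun X hXE hX hXn hne => NondegInv.exists_piece_moved hr hA (twistBil_isom hQL) hL hs hd hu hXE hX hXn hne)
    hu.inv (twist_nondegOn hr2 hL hu.inv hd hEn) ha
  have hUn' := nondegOn_of_twist hr2 hL hU (hd.mono_right hUE) hUn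
  obtain ⟨a', ha', htype⟩ := moved_type hr hr2 hQL hL hs hd hu hUE hU hUn'
  obtain rfl : a' = a := Nat.eq_of_mul_eq_mul_right (blockLen_pos hu.pos) (ha'.symm.trans hUd)
  exact ⟨U, hUE, hU, hUn', hUd, htype⟩

/-- The structure of an element of order `r`. -/
theorem exists_parts (hr : (r : F) ≠ 0) (hr2 : Odd r) (hN : (polarBilin Q).Nondegenerate)
    (hQL : ∀ v, Q (L v) = Q v) (hL : L ^ r = 1) :
    ∃ (E : Submodule F V) (A : ℕ), IsCompl (L.eigenspace 1) E ∧ Split L ∧
      Uniform L E (orderOf (Fintype.card F : ZMod r)) ∧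
      (∀ W, Inv L W → finrank F W = finrank F (W ⊓ L.eigenspace 1 : Submodule F V) +
        finrank F (W ⊓ E : Submodule F V)) ∧
      (∀ e ∈ E, ∀ z ∈ L.eigenspace 1, polarBilin Q e z = 0) ∧ NondegOn (polarBilin Q) E ∧
      NondegOn (polarBilin Q) (L.eigenspace 1) ∧ finrank F E = A * blockLen (orderOf (Fintype.card F : ZMod r)) ∧
      finrank F (L.eigenspace 1) + A * blockLen (orderOf (Fintype.card F : ZMod r)) = finrank F V ∧
      (PlusOn Q E ↔ BlockPlus (orderOf (Fintype.card F : ZMod r)) A) ∧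
      (Even (finrank F V) →
        (PlusOn Q (L.eigenspace 1) ↔ (BlockPlus (orderOf (Fintype.card F : ZMod r)) A ↔ PlusOn Q ⊤))) := by
  obtain ⟨E, hc, hs, hu, hsum⟩ := exists_structure hr hL
  obtain ⟨horth, hEn, hCn⟩ := moved_facts (polar_refl Q) hN (polar_map hQL) hc hu.inv
  obtain ⟨A, hA, htype⟩ := moved_type hr hr2 hQL hL hs hc.disjoint hu le_rfl hu.inv hEn
  have hdim := Submodule.finrank_add_eq_of_isCompl hc
  rw [hA] at hdim
  refine ⟨E, A, hc, hs, hu, hsum, horth, hEn, hCn, hA, hdim, htype, fun hV => ?_⟩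
  have h1 := (blockLen_even (orderOf (Fintype.card F : ZMod r))).mul_left A
  have h2 := plus_sum_iff hN hc.symm horth hEn hCn (hA ▸ h1) (by rw [← hdim, Nat.even_add] at hV; exact hV.2 h1)
  rw [htype] at h2
  rw [h2, iff_cancel]

/-- A non-degenerate invariant subspace of given dimension and type. -/
theorem exists_inv_typed (hr : (r : F) ≠ 0) (hr2 : Odd r) (hN : (polarBilin Q).Nondegenerate)
    (hQL : ∀ v, Q (L v) = Q v) (hL : L ^ r = 1) (h' : (2 : F) ≠ 0 ∨ Even (finrank F V)) {m : ℕ} (hm : Even m)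
    (τ : Prop) (H : ∀ A, Valid (finrank F V) (orderOf (Fintype.card F : ZMod r)) (PlusOn Q ⊤) A →
      ∃ a, Fit (finrank F V) m (orderOf (Fintype.card F : ZMod r)) (PlusOn Q ⊤) τ A a) :
    ∃ W : Submodule F V, finrank F W = m ∧ NondegOn (polarBilin Q) W ∧ (PlusOn Q W ↔ τ) ∧ Inv L W := by
  obtain ⟨E, A, hc, hs, hu, -, horth, hEn, hCn, hEd, hdim, htype, hCtype⟩ := exists_parts hr hr2 hN hQL hL
  obtain ⟨a, haA, ham, hb, hb0, hbD⟩ := H A ⟨by omega, fun h => by
    have hC0 : finrank F (L.eigenspace 1) = 0 := by omega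
    have := (hCtype (h ▸ (blockLen_even _).mul_left A)).1 ⟨⊥, bot_le, sing_bot, by rw [finrank_bot, hC0]⟩
    exact this⟩
  obtain ⟨U, hUE, hU, hUn, hUd, hUtype⟩ := exists_moved_sub hr hr2 hQL hL hs hc.disjoint hu hEn (a := a)
    (hEd ▸ Nat.mul_le_mul_right _ haA)
  set i := orderOf (Fintype.card F : ZMod r) with hidef
  have hae := (blockLen_even i).mul_left a
  rcases Nat.eq_zero_or_pos (m - a * blockLen i) with h0 | hpos
  · exact ⟨U, by omega, hUn, hUtype.trans (hb0 (by omega)).symm, hU⟩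
  have hbe : Even (m - a * blockLen i) := by
    rw [Nat.even_sub (by omega)]; exact iff_of_true hm hae
  have finish : ∀ B ≤ L.eigenspace 1, NondegOn (polarBilin Q) B → finrank F B = m - a * blockLen i →
      (PlusOn Q B ↔ (τ ↔ BlockPlus i a)) →
      ∃ W : Submodule F V, finrank F W = m ∧ NondegOn (polarBilin Q) W ∧ (PlusOn Q W ↔ τ) ∧ Inv L W :=
    fun B hBC hBn hBd hBtype => by
      have ho : ∀ u ∈ U, ∀ b ∈ B, polarBilin Q u b = 0 := fun u hu' b hb => horth u (hUE hu') b (hBC hb)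
      refine ⟨U ⊔ B, ?_, NondegInv.sup_orth (polar_refl Q) hUn hBn ho, ?_, hU.sup ?_⟩
      · rw [finrank_sup_of_disjoint (NondegInv.disjoint_orth (polar_refl Q) hUn ho), hUd, hBd]; omega
      · rw [plus_sup_iff hUn hBn ho (hUd ▸ hae) (hBd ▸ hbe), hUtype, hBtype, iff_cancel']
      · exact Inv.of_mem fun b hb => by
          have h1 := hBC hb
          rw [Module.End.mem_eigenspace_iff, one_smul] at h1
          rw [h1]; exact hb
  rcases Nat.lt_or_ge (m - a * blockLen i) (finrank F (L.eigenspace 1)) with hlt | hge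
  · obtain ⟨e, he⟩ := hbe
    have hCe : (2 : F) ≠ 0 ∨ Even (finrank F (L.eigenspace 1)) := h'.imp_right fun hV => by
      rw [← hdim, Nat.even_add] at hV; exact hV.2 ((blockLen_even i).mul_left A)
    obtain ⟨B, hBC, hBn, hBd, hBtype⟩ := exists_sub_typed hCn (e := e) (τ ↔ BlockPlus i a) (Or.inr (by omega))
      (by omega) hCe
    exact finish B hBC hBn (by omega) hBtype
  · have hV : Even (finrank F V) := by
      rw [← hdim, show finrank F (L.eigenspace 1) = m - a * blockLen i by omega]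
      exact hbe.add ((blockLen_even i).mul_left A)
    refine finish _ le_rfl hCn (by omega) ?_
    rw [hCtype hV, hbD hV (by omega), iff_comm (b := BlockPlus i a), iff_cancel]

/-- An invariant copy of a given space. -/
theorem exists_inv_embed (hr : (r : F) ≠ 0) (hr2 : Odd r) (hN : (polarBilin Q).Nondegenerate)
    (hQL : ∀ v, Q (L v) = Q v) (hL : L ^ r = 1) (h2 : (2 : F) ≠ 0) (hV : Even (finrank F V))
    {W : Type*} [AddCommGroup W] [Module F W] [FiniteDimensional F W] {R : QuadraticForm F W}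
    (hR : (polarBilin R).Nondegenerate) (hW : Odd (finrank F W)) (τ : Prop)
    (H : ∀ A, Valid (finrank F V) (orderOf (Fintype.card F : ZMod r)) (PlusOn Q ⊤) A →
      ∃ a, Fit (finrank F V) (finrank F W) (orderOf (Fintype.card F : ZMod r)) (PlusOn Q ⊤) τ A a) :
    ∃ T : W →ₗ[F] V, (∀ w, Q (T w) = R w) ∧ Inv L (LinearMap.range T) := by
  obtain ⟨E, A, hc, hs, hu, -, horth, hEn, hCn, hEd, hdim, htype, hCtype⟩ := exists_parts hr hr2 hN hQL hL
  obtain ⟨a, haA, ham, hb, -, -⟩ := H A ⟨by omega, fun h => by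
    have hC0 : finrank F (L.eigenspace 1) = 0 := by omega
    exact (hCtype hV).1 ⟨⊥, bot_le, sing_bot, by rw [finrank_bot, hC0]⟩⟩
  obtain ⟨U, hUE, hU, hUn, hUd, -⟩ := exists_moved_sub hr hr2 hQL hL hs hc.disjoint hu hEn (a := a)
    (hEd ▸ Nat.mul_le_mul_right _ haA)
  set i := orderOf (Fintype.card F : ZMod r) with hidef
  have hae := (blockLen_even i).mul_left a
  have hAe := (blockLen_even i).mul_left A
  rw [Nat.even_iff] at hae hAe hV
  rw [Nat.odd_iff] at hW
  obtain ⟨T, B, hBC, hT, hrange⟩ := exists_glue hUn hCn (fun u hu' c hc' => horth u (hUE hu') c hc') hR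
    (by omega) (by omega) (Or.inl h2)
  refine ⟨T, hT, hrange ▸ hU.sup (Inv.of_mem fun b hb => ?_)⟩
  have h1 := hBC hb
  rw [Module.End.mem_eigenspace_iff, one_smul] at h1
  rw [h1]; exact hb

/-- An isometry with prescribed moved part. -/
theorem exists_blocks_witness (hr : (r : F) ≠ 0) (hr2 : Odd r) (hN : (polarBilin Q).Nondegenerate)
    (h' : (2 : F) ≠ 0 ∨ Even (finrank F V)) (hi : 0 < orderOf (Fintype.card F : ZMod r)) {A : ℕ} (hA : 1 ≤ A)
    (hv : Valid (finrank F V) (orderOf (Fintype.card F : ZMod r)) (PlusOn Q ⊤) A) (m : ℕ) :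
    ∃ L : Module.End F V, L ^ r = 1 ∧ (∀ v, Q (L v) = Q v) ∧ L ≠ 1 ∧
      ∀ W, Inv L W → NondegOn (polarBilin Q) W → finrank F W = m →
        ∃ a, Fit (finrank F V) m (orderOf (Fintype.card F : ZMod r)) (PlusOn Q ⊤) (PlusOn Q W) A a := by
  set i := orderOf (Fintype.card F : ZMod r) with hidef
  obtain ⟨h, hh⟩ := blockLen_even i
  have hc0 := blockLen_pos hi
  have hAh : A * blockLen i = 2 * (A * h) := by rw [hh]; ring
  obtain ⟨R, Y, hR, hY, hfix, hRY⟩ := exists_fpf_form hr hr2 (d := A * h) (Nat.mul_pos hA (by omega)) (by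
    rw [← hidef, ← hAh, blockLen]; split_ifs
    · exact dvd_mul_left i A
    · exact (dvd_mul_left i 2).trans (dvd_mul_left _ A))
  have hRd : finrank F (Fin (A * h) ⊕ Fin (A * h) → F) = A * blockLen i := by simp; omega
  obtain ⟨N, hN1, hN2⟩ : ∃ N, A * blockLen i = N * i ∧ (Odd i ∨ Even N ↔ BlockPlus i A) := by
    by_cases hev : Even i
    · exact ⟨A, by rw [blockLen, if_pos hev], Iff.rfl⟩
    · exact ⟨2 * A, by rw [blockLen, if_neg hev]; ring, iff_of_true (Or.inl (Nat.not_even_iff_odd.1 hev))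
        (Or.inl (Nat.not_even_iff_odd.1 hev))⟩
  have hRtype : PlusOn R ⊤ ↔ BlockPlus i A := (plus_fpf_iff hr hr2 hR hY hfix hRY (hRd.trans hN1)).trans hN2
  obtain ⟨T, hT⟩ := exists_embed hN hR (e := A * h) (hRd.trans hAh) (by
    rcases Nat.lt_or_ge (A * blockLen i) (finrank F V) with hlt | hge
    · rcases h' with h2 | hV
      · rcases Nat.lt_or_ge (2 * (A * h) + 1) (finrank F V) with h1 | h1
        · exact Or.inl (by omega)
        · exact Or.inr (Or.inl ⟨by omega, h2⟩)
      · exact Or.inl (by obtain ⟨x, hx⟩ := hV; omega)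
    · exact Or.inr (Or.inr ⟨by have := hv.1; omega, hRtype.trans (hv.2 (le_antisymm hv.1 hge))⟩))
  obtain ⟨L, hL, hQL, hLT, hTn, hfixed⟩ := exists_extend hN hR T hT hY hfix hRY
  refine ⟨L, hL, hQL, fun h1 => ?_, fun W hW hWn hWd => ?_⟩
  · haveI : Nontrivial (Fin (A * h) ⊕ Fin (A * h) → F) := Module.nontrivial_of_finrank_pos (R := F) (by
      rw [hRd]; exact Nat.mul_pos hA hc0)
    obtain ⟨w, hw⟩ := exists_ne (0 : Fin (A * h) ⊕ Fin (A * h) → F)
    refine hw (hfix w (Orth.injective_of_preserving hR T hT ?_))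
    rw [← hLT, h1, Module.End.one_apply]
  obtain ⟨E, A', hc, hs, hu, hsum, horth, hEn, hCn, hEd, hdim, -, hCtype⟩ := exists_parts hr hr2 hN hQL hL
  rw [← hidef] at hEd hdim hCtype
  obtain rfl : A' = A := by
    refine Nat.eq_of_mul_eq_mul_right hc0 ?_
    have h1 := hTn.finrank_perp
    rw [← hfixed, (range_facts hR T hT).2.1, hRd] at h1
    omega
  have hsup : W ⊓ L.eigenspace 1 ⊔ W ⊓ E = W := by
    refine Submodule.eq_of_le_of_finrank_eq (sup_le inf_le_left inf_le_left) ?_
    rw [finrank_sup_of_disjoint (hc.disjoint.mono inf_le_right inf_le_right), hsum W hW]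
  have hWEn : NondegOn (polarBilin Q) (W ⊓ E) := nondegOn_iff.2 fun v hv hv' =>
    nondegOn_iff.1 hWn v hv.1 fun w hw => by
      rw [← hsup] at hw
      obtain ⟨c, hc', e, he, rfl⟩ := Submodule.mem_sup.1 hw
      rw [map_add, LinearMap.add_apply, polar_refl Q _ _ (horth v hv.2 c hc'.2), zero_add, hv' e he]
  have hWCn : NondegOn (polarBilin Q) (W ⊓ L.eigenspace 1) := nondegOn_iff.2 fun v hv hv' =>
    nondegOn_iff.1 hWn v hv.1 fun w hw => by
      rw [← hsup] at hw
      obtain ⟨c, hc', e, he, rfl⟩ := Submodule.mem_sup.1 hw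
      rw [map_add, LinearMap.add_apply, horth e he.2 v hv.2, add_zero, hv' c hc']
  obtain ⟨a, ha, hatype⟩ := moved_type hr hr2 hQL hL hs hc.disjoint hu inf_le_right (hW.inf hu.inv) hWEn
  rw [← hidef] at ha hatype
  have hsum' := hsum W hW
  rw [hWd, ha] at hsum'
  have hleE := Submodule.finrank_mono (inf_le_right : W ⊓ E ≤ E)
  have hleC := Submodule.finrank_mono (inf_le_right : W ⊓ L.eigenspace 1 ≤ L.eigenspace 1)
  rw [ha, hEd] at hleE
  refine ⟨a, Nat.le_of_mul_le_mul_right hleE hc0, by omega, by omega, fun h0 => ?_, fun hV hb => ?_⟩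
  · have hbot : W ⊓ L.eigenspace 1 = ⊥ := Submodule.finrank_eq_zero.1 (by omega)
    rw [hbot, bot_sup_eq] at hsup
    rwa [hsup] at hatype
  · have hC : W ⊓ L.eigenspace 1 = L.eigenspace 1 := Submodule.eq_of_le_of_finrank_eq inf_le_right (by omega)
    have hCe : Even (finrank F (L.eigenspace 1)) := by
      rw [← hdim, Nat.even_add] at hV
      exact hV.2 ((blockLen_even i).mul_left A')
    have h2 := plus_sup_iff hWCn hWEn (fun x hx y hy => polar_refl Q _ _ (horth y hy.2 x hx.2)) (by rwa [hC])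
      (ha ▸ (blockLen_even i).mul_left a)
    rw [hsup, hC, hatype, hCtype hV] at h2
    rw [h2]
    exact iff_comm

end CfsgLib.Derangements.OrthInv
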