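import Cfsg.Agent.Lib.Derangements.OrthNondegTwo
import Cfsg.Agent.Lib.Derangements.JordanRanks

/-!
# Elements `1 + N` with `N ^ 2 = 0` whose image is totally singular, in the derived group, in every characteristic
-/

set_option autoImplicit false
set_option linter.unusedSectionVars false

namespace CfsgLib.Derangements.OrthInv

open Module QuadraticMap CfsgLib.Classical CfsgLib.Derangements.LinElusive CfsgLib.Derangements.NullInv CfsgLib.Orth
open scoped Matrix commutatorElement

variable {F : Type*} [Field F] [Fintype F] {k : ℕ}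

/-- The map `(a, b) ↦ (t (b_j e_i - b_i e_j), 0)`. -/
noncomputable def skewPart (i j : Fin k) (t : F) : Module.End F (Fin k ⊕ Fin k → F) :=
  (t • LinearMap.proj (Sum.inr j) : (Fin k ⊕ Fin k → F) →ₗ[F] F).smulRight (Pi.single (Sum.inl i) (1 : F)) -
    (t • LinearMap.proj (Sum.inr i) : (Fin k ⊕ Fin k → F) →ₗ[F] F).smulRight (Pi.single (Sum.inl j) (1 : F))

theorem skewPart_apply (i j : Fin k) (t : F) (v : Fin k ⊕ Fin k → F) :
    skewPart i j t v = (t * v (.inr j)) • Pi.single (Sum.inl i) 1 - (t * v (.inr i)) • Pi.single (Sum.inl j) 1 := rfl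

/-- Maps whose shears preserve the hyperbolic form. -/
def IsShear (N : Module.End F (Fin k ⊕ Fin k → F)) : Prop :=
  (∀ v s, N v (Sum.inr s) = 0) ∧ (∀ v w, (∀ s, w (Sum.inr s) = v (Sum.inr s)) → N w = N v) ∧
    ∀ v, ∑ s, N v (Sum.inl s) * v (Sum.inr s) = 0

theorem IsShear.add {N N' : Module.End F (Fin k ⊕ Fin k → F)} (h : IsShear N) (h' : IsShear N') : IsShear (N + N') :=
  ⟨fun v s => by simp [h.1, h'.1], fun v w e => by simp [h.2.1 v w e, h'.2.1 v w e], fun v => by
    simp [add_mul, Finset.sum_add_distrib, h.2.2, h'.2.2]⟩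

theorem isShear_zero : IsShear (0 : Module.End F (Fin k ⊕ Fin k → F)) :=
  ⟨fun v s => rfl, fun v w _ => rfl, fun v => by simp⟩

theorem isShear_skewPart {i j : Fin k} (t : F) : IsShear (skewPart i j t) :=
  ⟨fun v s => by simp [skewPart_apply], fun v w e => by simp [skewPart_apply, e], fun v => by
    simp [skewPart_apply, Pi.single_apply, sub_mul, mul_assoc, Finset.sum_sub_distrib, mul_comm (v (.inr i))]⟩

theorem IsShear.comp {N N' : Module.End F (Fin k ⊕ Fin k → F)} (h : IsShear N) (h' : IsShear N') (v : Fin k ⊕ Fin k → F) :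
    N (N' v) = 0 := by
  rw [h.2.1 0 (N' v) fun s => by rw [h'.1, Pi.zero_apply], map_zero]

/-- The shear as an isometry. -/
def shearOf (N : Module.End F (Fin k ⊕ Fin k → F)) (h : IsShear N) : orthGroup (plusForm F k) :=
  ⟨{ toLinearMap := 1 + N
     invFun := fun v => v - N v
     left_inv := fun v => by simp [h.comp h]
     right_inv := fun v => by simp [h.comp h] }, fun v => by
    show plusForm F k (v + N v) = plusForm F k v
    rw [← plusForm_apply, ← plusForm_apply]
    simp only [Cfsg.quadFormPlus, Pi.add_apply, h.1, add_zero, add_mul, Finset.sum_add_distrib, h.2.2]⟩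

theorem shearOf_apply (N : Module.End F (Fin k ⊕ Fin k → F)) (h : IsShear N) (v : Fin k ⊕ Fin k → F) :
    (shearOf N h).1 v = v + N v := rfl

theorem shearOf_add {N N' : Module.End F (Fin k ⊕ Fin k → F)} (h : IsShear N) (h' : IsShear N') :
    shearOf (N + N') (h.add h') = shearOf N h * shearOf N' h' :=
  Subtype.ext <| LinearEquiv.ext fun v => by
    show v + (N v + N' v) = (shearOf N h).1 ((shearOf N' h').1 v)
    rw [shearOf_apply, shearOf_apply, map_add, h.comp h', add_zero, add_assoc, add_comm (N v)]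

/-- The transvection in the Levi factor. -/
noncomputable def leviTransv (j l : Fin k) (hjl : j ≠ l) : orthGroup (plusForm F k) :=
  ⟨{ toFun := fun v => v + v (.inl l) • Pi.single (Sum.inl j) 1 - v (.inr j) • Pi.single (Sum.inr l) 1
     map_add' := fun u v => by simp only [Pi.add_apply, add_smul]; abel
     map_smul' := fun c v => by simp only [Pi.smul_apply, smul_eq_mul, mul_smul, RingHom.id_apply, smul_add, smul_sub]
     invFun := fun v => v - v (.inl l) • Pi.single (Sum.inl j) 1 + v (.inr j) • Pi.single (Sum.inr l) 1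
     left_inv := fun v => by simp [Pi.single_apply, hjl, hjl.symm]; abel
     right_inv := fun v => by simp [Pi.single_apply, hjl, hjl.symm]; abel }, fun v => by
    show plusForm F k (v + v (.inl l) • Pi.single (Sum.inl j) 1 - v (.inr j) • Pi.single (Sum.inr l) 1) = plusForm F k v
    rw [← plusForm_apply, ← plusForm_apply]
    simp [Cfsg.quadFormPlus, Pi.single_apply, add_mul, mul_sub, Finset.sum_add_distrib, Finset.sum_sub_distrib, hjl.symm]⟩

theorem shear_commutator {i j l : Fin k} (hil : i ≠ l) (hij : i ≠ j) (hjl : j ≠ l) (t : F) :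
    ⁅leviTransv (F := F) j l hjl, shearOf (skewPart i l t) (isShear_skewPart t)⁆ =
      shearOf (skewPart i j t) (isShear_skewPart t) := by
  rw [commutatorElement_def, mul_inv_eq_iff_eq_mul, mul_inv_eq_iff_eq_mul]
  refine Subtype.ext <| LinearEquiv.ext fun v => ?_
  change (leviTransv (F := F) j l hjl).1 ((shearOf (skewPart i l t) (isShear_skewPart t)).1 v) =
    (shearOf (skewPart i j t) (isShear_skewPart t)).1 ((shearOf (skewPart i l t) (isShear_skewPart t)).1 ((leviTransv (F := F) j l hjl).1 v))
  simp only [shearOf_apply]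
  funext s
  simp only [leviTransv, LinearEquiv.coe_mk, LinearMap.coe_mk, AddHom.coe_mk, skewPart_apply, Pi.add_apply,
    Pi.sub_apply, Pi.smul_apply, smul_eq_mul]
  rcases s with s | s <;>
    simp [Pi.single_apply, hil, hil.symm, hij, hij.symm, hjl, hjl.symm] <;> split_ifs <;> ring

theorem skewPart_mem {i j : Fin k} (hk : 3 ≤ k) (hij : i ≠ j) (t : F) :
    shearOf (skewPart i j t) (isShear_skewPart t) ∈ commutator (orthGroup (plusForm F k)) := by
  obtain ⟨l, hl⟩ : ∃ l : Fin k, l ∉ ({i, j} : Finset (Fin k)) := by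
    by_contra! hall
    have h1 := Finset.card_le_card (fun x _ => hall x : (Finset.univ : Finset (Fin k)) ⊆ {i, j})
    have h2 := Finset.card_le_two (a := i) (b := j)
    rw [Finset.card_univ, Fintype.card_fin] at h1
    omega
  simp only [Finset.mem_insert, Finset.mem_singleton, not_or] at hl
  rw [← shear_commutator (Ne.symm hl.1) hij (Ne.symm hl.2), commutator_def]
  exact Subgroup.commutator_mem_commutator (Subgroup.mem_top _) (Subgroup.mem_top _)

/-- A nondegenerate skew map in the first block. -/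
noncomputable def pairShear (h : ℕ) (n : ℕ) : Module.End F (Fin (h + h) ⊕ Fin (h + h) → F) :=
  ∑ u ∈ Finset.univ.filter (fun u : Fin h => u.1 < n), skewPart (Fin.castAdd h u) (Fin.natAdd h u) 1

theorem pairShear_inl (h : ℕ) (v : Fin (h + h) ⊕ Fin (h + h) → F) (u : Fin h) :
    pairShear h h v (.inl (Fin.castAdd h u)) = v (.inr (Fin.natAdd h u)) ∧
      pairShear h h v (.inl (Fin.natAdd h u)) = -v (.inr (Fin.castAdd h u)) := by
  have hne : ∀ a b : Fin h, Fin.castAdd h a ≠ Fin.natAdd h b := fun a b e => by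
    have := congrArg Fin.val e
    simp at this; omega
  simp [-Fin.natAdd_eq_addNat, pairShear, skewPart_apply, Pi.single_apply, Finset.sum_apply, hne, fun a b => (hne a b).symm]

theorem exists_pairShear {h : ℕ} (hh : 2 ≤ h) :
    ∃ g ∈ commutator (orthGroup (plusForm F (h + h))), ∃ N : Module.End F (Fin (h + h) ⊕ Fin (h + h) → F),
      IsShear N ∧ (∀ v, g.1 v = v + N v) ∧ h + h ≤ finrank F (LinearMap.range N) := by
  classical
  have key : ∀ s : Finset (Fin h), ∃ hs : IsShear (∑ u ∈ s, skewPart (F := F) (Fin.castAdd h u) (Fin.natAdd h u) 1),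
      shearOf _ hs ∈ commutator (orthGroup (plusForm F (h + h))) := fun s => by
    induction s using Finset.induction_on with
    | empty =>
      refine ⟨by simpa using isShear_zero, ?_⟩
      convert one_mem (commutator (orthGroup (plusForm F (h + h)))) using 1
      exact Subtype.ext <| LinearEquiv.ext fun v => by rw [shearOf_apply]; simp
    | insert a s ha ih =>
      obtain ⟨hs, hmem⟩ := ih
      simp only [Finset.sum_insert ha]
      refine ⟨(isShear_skewPart (i := Fin.castAdd h a) (j := Fin.natAdd h a) 1).add hs, ?_⟩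
      rw [shearOf_add (isShear_skewPart (i := Fin.castAdd h a) (j := Fin.natAdd h a) 1) hs]
      exact mul_mem (skewPart_mem (by omega) (fun e => by
        have := congrArg Fin.val e
        simp at this; omega) 1) hmem
  obtain ⟨hN, hmem⟩ := key Finset.univ
  refine ⟨_, hmem, _, hN, shearOf_apply _ _, ?_⟩
  have hall : pairShear (F := F) h h = ∑ u, skewPart (Fin.castAdd h u) (Fin.natAdd h u) 1 := by
    simp [pairShear]
  rw [← hall]
  let P : (Fin (h + h) ⊕ Fin (h + h) → F) →ₗ[F] (Fin (h + h) → F) := LinearMap.funLeft F F Sum.inl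
  have hsurj : Function.Surjective (P.comp (pairShear h h)) := fun w => by
    refine ⟨Sum.elim 0 (Fin.append (fun u => -w (Fin.natAdd h u)) (fun u => w (Fin.castAdd h u))), funext fun s => ?_⟩
    refine Fin.addCases (fun u => ?_) (fun u => ?_) s
    · show pairShear h h _ (.inl _) = _
      rw [(pairShear_inl h _ u).1]; simp [-Fin.natAdd_eq_addNat]
    · show pairShear h h _ (.inl _) = _
      rw [(pairShear_inl h _ u).2]; simp [-Fin.natAdd_eq_addNat]
  have h1 := LinearMap.finrank_range_of_inj (f := (LinearMap.id : (Fin (h + h) → F) →ₗ[F] _)) Function.injective_id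
  have h3 : finrank F (LinearMap.range (P.comp (pairShear h h))) = h + h := by
    rw [LinearMap.range_eq_top.2 hsurj, finrank_top, finrank_fin_fun]
  rw [LinearMap.range_comp] at h3
  exact h3.symm.le.trans (Submodule.finrank_map_le P _)

variable {V : Type*} [AddCommGroup V] [Module F V] [FiniteDimensional F V] {Q : QuadraticForm F V}
  {W : Type*} [AddCommGroup W] [Module F W] [FiniteDimensional F W] {R : QuadraticForm F W}

/-- Isometries of an embedded space act on the whole space. -/
theorem exists_extend_hom (hR : (polarBilin R).Nondegenerate) (T : W →ₗ[F] V)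
    (hT : ∀ w, Q (T w) = R w) :
    ∃ Φ : orthGroup R →* orthGroup Q, (∀ g w, (Φ g).1 (T w) = T (g.1 w)) ∧
      ∀ g, ∀ v ∈ perp (polarBilin Q) (LinearMap.range T), (Φ g).1 v = v := by
  obtain ⟨hn, -, -⟩ := range_facts hR T hT
  have hinj := injective_of_preserving hR T hT
  set U := perp (polarBilin Q) (LinearMap.range T) with hU
  let σ : (W × U) ≃ₗ[F] V := ((LinearEquiv.ofInjective T hinj).prodCongr (LinearEquiv.refl F U)).trans
    (Submodule.prodEquivOfIsCompl _ _ hn.isCompl)
  have hσ : ∀ (a : W) (b : U), σ (a, b) = T a + b := fun a b => rfl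
  have horth : ∀ (a : W) (b : U), polar Q (T a) b = 0 := fun a b => mem_perp.1 b.2 _ ⟨a, rfl⟩
  let Φ : orthGroup R →* orthGroup Q :=
    { toFun := fun g => ⟨(σ.symm.trans (g.1.prodCongr (LinearEquiv.refl F U))).trans σ, fun v => by
        obtain ⟨⟨a, b⟩, rfl⟩ := σ.surjective v
        simp only [LinearEquiv.trans_apply, σ.symm_apply_apply, LinearEquiv.prodCongr_apply]
        rw [hσ, hσ, QuadraticMap.map_add Q, QuadraticMap.map_add Q, horth, horth, hT, hT, apply_quad g]
        rfl⟩
      map_one' := Subtype.ext (LinearEquiv.ext fun v => σ.apply_symm_apply v)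
      map_mul' := fun g g' => Subtype.ext (LinearEquiv.ext fun v => by
        obtain ⟨⟨a, b⟩, rfl⟩ := σ.surjective v
        simp [LinearEquiv.mul_apply]) }
  refine ⟨Φ, fun g w => ?_, fun g v hv => ?_⟩
  · have : σ.symm (T w) = (w, 0) := by rw [LinearEquiv.symm_apply_eq, hσ, Submodule.coe_zero, add_zero]
    simp [Φ, hσ, this]
  · have : σ.symm v = (0, ⟨v, hv⟩) := by rw [LinearEquiv.symm_apply_eq, hσ, map_zero, zero_add]
    simp [Φ, hσ, this]

/-- A transformation `1 + N` in the derived group with `N ^ 2 = 0` and totally singular image of dimension `2h`. -/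
theorem exists_square_zero {h : ℕ} (hh : 2 ≤ h) (T : (Fin (h + h) ⊕ Fin (h + h) → F) →ₗ[F] V)
    (hT : ∀ w, Q (T w) = plusForm F (h + h) w) :
    ∃ g ∈ commutator (orthGroup Q), ∃ N : Module.End F V, (∀ v, g.1 v = v + N v) ∧ (∀ v, N (N v) = 0) ∧
      Sing Q (LinearMap.range N) ∧ h + h ≤ finrank F (LinearMap.range N) := by
  obtain ⟨g, hg, N, hN, hgN, hrank⟩ := exists_pairShear (F := F) hh
  obtain ⟨Φ, hΦT, hΦfix⟩ := exists_extend_hom (plusForm_nondeg (h + h)) T hT
  refine ⟨Φ g, ?_, ((Φ g).1 : V →ₗ[F] V) - 1, fun v => by simp, ?_, ?_, ?_⟩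
  · rw [commutator_def] at hg ⊢
    have h1 := Subgroup.mem_map_of_mem Φ hg
    rw [Subgroup.map_commutator] at h1
    exact Subgroup.commutator_mono le_top le_top h1
  all_goals
    obtain ⟨hn, -, -⟩ := range_facts (plusForm_nondeg (h + h)) T hT
    have hM : ∀ v, ∃ w, ((Φ g).1 : V →ₗ[F] V) v - v = T (N w) := fun v => by
      obtain ⟨_, ⟨w, rfl⟩, b, hb, rfl⟩ := Submodule.mem_sup.1 (hn.isCompl.sup_eq_top ▸ Submodule.mem_top (x := v))
      refine ⟨w, ?_⟩
      rw [map_add, LinearEquiv.coe_coe, hΦT, hΦfix g b hb, hgN, map_add]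
      abel
    have hMT : ∀ w, ((Φ g).1 : V →ₗ[F] V) (T w) - T w = T (N w) := fun w => by
      rw [LinearEquiv.coe_coe, hΦT, hgN, map_add]; abel
  · intro v
    obtain ⟨w, hw⟩ := hM v
    simp only [LinearMap.sub_apply, Module.End.one_apply]
    rw [hw, hMT, hN.comp hN, map_zero]
  · rintro _ ⟨v, rfl⟩
    obtain ⟨w, hw⟩ := hM v
    rw [LinearMap.sub_apply, Module.End.one_apply, hw, hT, ← plusForm_apply]
    simp [Cfsg.quadFormPlus, hN.1]
  · refine hrank.trans ?_
    rw [(Submodule.equivMapOfInjective T (injective_of_preserving (plusForm_nondeg (h + h)) T hT) _).finrank_eq]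
    refine Submodule.finrank_mono ?_
    rintro _ ⟨_, ⟨w, rfl⟩, rfl⟩
    exact ⟨T w, (hMT w)⟩

/-- Ranks on an invariant non-degenerate subspace. -/
theorem square_zero_facts (hN : (polarBilin Q).Nondegenerate) {L N : Module.End F V} (hLN : ∀ v, L v = v + N v)
    (hQL : ∀ v, Q (L v) = Q v) (hNN : ∀ v, N (N v) = 0) (hsing : Sing Q (LinearMap.range N)) {W : Submodule F V}
    (hW : Inv L W) (hWn : NondegOn (polarBilin Q) W) :
    ∃ e e', Even e ∧ e + e' = finrank F (LinearMap.range N) ∧ 2 * e ≤ finrank F W ∧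
      2 * e' ≤ finrank F (perp (polarBilin Q) W) ∧ (2 * e = finrank F W → PlusOn Q W) ∧
      (2 * e' = finrank F (perp (polarBilin Q) W) → PlusOn Q (perp (polarBilin Q) W)) := by
  set B := polarBilin Q with hB
  have hinj : Function.Injective L := Function.LeftInverse.injective (g := fun v => v - N v) fun v => by
    simp [hLN, hNN]
  have hWN : ∀ {U : Submodule F V}, Inv L U → U.map N ≤ U := fun hU => by
    rintro _ ⟨w, hw, rfl⟩
    have := Submodule.sub_mem _ (hU.mem hw) hw
    rwa [hLN, add_sub_cancel_left] at this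
  have hWeq : W.map L = W := Submodule.eq_of_le_of_finrank_eq hW
    (Submodule.equivMapOfInjective L hinj W).finrank_eq.symm
  have hPi : Inv L (perp B W) := Inv.of_mem fun v hv => mem_perp.2 fun w hw => by
    rw [← hWeq] at hw
    obtain ⟨w', hw', rfl⟩ := Submodule.mem_map.1 hw
    rw [hB, polar_map hQL]
    exact mem_perp.1 hv w' hw'
  have hNv : ∀ v, B (N v) v = 0 := fun v => by
    have h := hQL v
    rw [hLN, QuadraticMap.map_add Q, hsing _ ⟨v, rfl⟩, add_zero] at h
    rw [hB, polarBilin_apply_apply, polar_comm]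
    exact add_left_cancel (h.trans (add_zero _).symm)
  have hle : ∀ {U : Submodule F V}, Inv L U → NondegOn B U → 2 * finrank F (U.map N) ≤ finrank F U := fun hU hUn =>
    sing_le_half hUn (hWN hU) (hsing.mono (LinearMap.map_le_range))
  have hplus : ∀ {U : Submodule F V}, Inv L U → 2 * finrank F (U.map N) = finrank F U → PlusOn Q U :=
    fun hU he => ⟨_, hWN hU, hsing.mono LinearMap.map_le_range, he⟩
  refine ⟨finrank F (W.map N), finrank F ((perp B W).map N), ?_, ?_, hle hW hWn, hle hPi (nondegOn_perp hN.2 hWn),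
    hplus hW, hplus hPi⟩
  · obtain ⟨C, hC⟩ := Submodule.exists_isCompl (LinearMap.ker N)
    let β : W →ₗ[F] W →ₗ[F] F := (B.comp (N.comp W.subtype)).compl₂ W.subtype
    have hβ : β.IsAlt := fun w => hNv w
    let M : W →ₗ[F] V := N.comp W.subtype
    obtain ⟨D, hD⟩ := Submodule.exists_isCompl (LinearMap.ker M)
    have hker : ∀ z ∈ LinearMap.ker M, ∀ w : W, β w z = 0 := fun z hz w => by
      have h1 : β z w = 0 := by
        show B (M z) (w : V) = 0
        rw [LinearMap.mem_ker.1 hz, map_zero, LinearMap.zero_apply]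
      rw [alt_swap hβ, h1, neg_zero]
    have hDn : NondegOn β D := nondegOn_iff.2 fun x hx hx' => by
      have hzero : M x = 0 := nondegOn_iff.1 hWn _ (hWN hW ⟨_, x.2, rfl⟩) fun w hw => by
        obtain ⟨z, hz, c, hc, hzc⟩ := Submodule.mem_sup.1 (hD.sup_eq_top ▸ Submodule.mem_top (x := (⟨w, hw⟩ : W)))
        have h1 : β x (⟨w, hw⟩ : W) = 0 := by
          rw [← hzc, map_add, hker z hz x, zero_add, alt_swap hβ, hx' c hc, neg_zero]
        exact polar_refl Q _ _ h1
      exact Submodule.disjoint_def.1 hD.disjoint x (LinearMap.mem_ker.2 hzero) hx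
    obtain ⟨e, b, -⟩ := exists_sympBasis (restrictForm_isAlt hβ D) (restrictForm_nondegenerate hβ.isRefl hDn)
    have h1 := LinearMap.finrank_range_add_finrank_ker M
    have h2 := Submodule.finrank_add_eq_of_isCompl hD
    have h3 : finrank F D = e + e := by rw [Module.finrank_eq_card_basis b]; simp
    have h4 : finrank F (LinearMap.range M) = finrank F (W.map N) := by
      rw [LinearMap.range_comp, Submodule.range_subtype]
    exact ⟨e, by omega⟩
  · have := JordanRanks.finrank_range_pow_eq_add N hWn.isCompl (hWN hW) (hWN hPi) 1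
    rw [pow_one] at this
    exact this.symm

end CfsgLib.Derangements.OrthInv
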