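import Cfsg.Agent.Lib.Derangements.OrthNondegEven
import Cfsg.Agent.Lib.Derangements.OrthQuarterTurn

/-!
# Fixed non-degenerate subspaces of elements of order two in odd characteristic
-/

set_option autoImplicit false
set_option linter.unusedSectionVars false

namespace CfsgLib.Derangements.OrthInv

open Module QuadraticMap CfsgLib.Classical CfsgLib.Derangements.LinElusive CfsgLib.Derangements.NullInv CfsgLib.Orth
open scoped Matrix

variable {F : Type*} [Field F] [Fintype F] {V : Type*} [AddCommGroup V] [Module F V] [FiniteDimensional F V]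
  {Q : QuadraticForm F V} {L : Module.End F V}

/-- The plane spanned by an anisotropic vector and its image. -/
theorem four_plane (h2 : (2 : F) ≠ 0) (hQL : ∀ v, Q (L v) = Q v) (hL : ∀ v, L (L v) = -v) {X : Submodule F V} {v : V}
    (hv : v ∈ X) (hX : Inv L X) (hα : Q v ≠ 0) :
    Submodule.span F {v, L v} ≤ X ∧ finrank F (Submodule.span F {v, L v}) = 2 ∧
      NondegOn (polarBilin Q) (Submodule.span F {v, L v}) ∧ Inv L (Submodule.span F {v, L v}) ∧
      (PlusOn Q (Submodule.span F {v, L v}) ↔ IsSquare (-1 : F)) ∧ v ∈ Submodule.span F {v, L v} := by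
  have hB : polar Q v (L v) = 0 := quarter_polar h2 hQL hL v
  have hQf : ∀ a b : F, Q (a • v + b • L v) = (a ^ 2 + b ^ 2) * Q v := fun a b => by
    rw [QuadraticMap.map_add Q, QuadraticMap.map_smul, QuadraticMap.map_smul, Orth.polar_smul_l',
      Orth.polar_smul_r', hB, hQL]
    simp only [smul_eq_mul]
    ring
  have hpol : ∀ a b : F, polar Q v (a • v + b • L v) = a * (2 * Q v) ∧ polar Q (L v) (a • v + b • L v) = b * (2 * Q v) :=
    fun a b => by
      constructor
      · rw [polar_add_right, Orth.polar_smul_r', Orth.polar_smul_r', hB, Orth.polar_self']; ring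
      · rw [polar_add_right, Orth.polar_smul_r', Orth.polar_smul_r', polar_comm _ (L v) v, hB, Orth.polar_self', hQL]
        ring
  have h20 : 2 * Q v ≠ 0 := mul_ne_zero h2 hα
  have hvS : v ∈ Submodule.span F {v, L v} := Submodule.subset_span (Set.mem_insert _ _)
  have hLvS : L v ∈ Submodule.span F {v, L v} := Submodule.subset_span (Set.mem_insert_of_mem _ rfl)
  have hn : NondegOn (polarBilin Q) (Submodule.span F {v, L v}) := nondegOn_iff.2 fun x hx h => by
    obtain ⟨a, b, rfl⟩ := Submodule.mem_span_pair.1 hx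
    have h1 := h v hvS
    have h3 := h (L v) hLvS
    rw [polarBilin_apply_apply, (hpol a b).1] at h1
    rw [polarBilin_apply_apply, (hpol a b).2] at h3
    rw [(mul_eq_zero.1 h1).resolve_right h20, (mul_eq_zero.1 h3).resolve_right h20, zero_smul, zero_smul, add_zero]
  have hd : finrank F (Submodule.span F {v, L v}) = 2 := by
    have hli : LinearIndependent F ![v, L v] := LinearIndependent.pair_iff.2 fun a b hab => by
      obtain ⟨e1, e2⟩ := hpol a b
      rw [hab, polar_zero_right Q] at e1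
      rw [hab, polar_zero_right Q] at e2
      exact ⟨(mul_eq_zero.1 e1.symm).resolve_right h20, (mul_eq_zero.1 e2.symm).resolve_right h20⟩
    have h := finrank_span_eq_card hli
    rwa [Matrix.range_cons, Matrix.range_cons, Matrix.range_empty, Set.union_empty, Set.singleton_union,
      Fintype.card_fin] at h
  refine ⟨Submodule.span_le.2 (Set.insert_subset hv (Set.singleton_subset_iff.2 (hX.mem hv))), hd, hn,
    Inv.of_mem fun x hx => ?_, ⟨?_, ?_⟩, hvS⟩
  · obtain ⟨a, b, rfl⟩ := Submodule.mem_span_pair.1 hx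
    rw [map_add, map_smul, map_smul, hL]
    exact Submodule.add_mem _ (Submodule.smul_mem _ _ hLvS) (Submodule.smul_mem _ _ (Submodule.neg_mem _ hvS))
  · rintro ⟨U, hU, hUs, hUd⟩
    obtain ⟨u, hu, hu0⟩ := Submodule.exists_mem_ne_zero_of_ne_bot (p := U) fun h0 => by
      rw [h0, finrank_bot, hd] at hUd; omega
    obtain ⟨a, b, rfl⟩ := Submodule.mem_span_pair.1 (hU hu)
    have h := hUs _ hu
    rw [hQf, mul_eq_zero, or_iff_left hα] at h
    have hb : b ≠ 0 := fun hb => hu0 (by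
      subst hb
      rw [zero_pow two_ne_zero, add_zero, pow_eq_zero_iff two_ne_zero] at h
      rw [h, zero_smul, zero_smul, add_zero])
    exact ⟨a / b, by field_simp; linear_combination -h⟩
  · rintro ⟨s, hs⟩
    have hne : v + s • L v ≠ 0 := fun h0 => by
      have e1 := (hpol 1 s).1
      rw [one_smul, h0, polar_zero_right Q, one_mul] at e1
      exact h20 e1.symm
    refine ⟨Submodule.span F {v + s • L v}, ?_, ?_, by rw [finrank_span_singleton hne, hd]⟩
    · exact Submodule.span_le.2 (Set.singleton_subset_iff.2 (Submodule.add_mem _ hvS (Submodule.smul_mem _ _ hLvS)))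
    · intro u hu
      obtain ⟨c, rfl⟩ := Submodule.mem_span_singleton.1 hu
      have := hQf 1 s
      rw [one_smul] at this
      rw [QuadraticMap.map_smul, this, one_pow, _root_.sq, ← hs]
      simp

theorem exists_four_prod (h2 : (2 : F) ≠ 0) (hQL : ∀ v, Q (L v) = Q v)
    (hL : ∀ v, L (L v) = -v) : ∀ (n : ℕ) (X : Submodule F V), finrank F X = n → Inv L X → NondegOn (polarBilin Q) X →
      ∃ (j : ℕ) (l : List V), n = 2 * j ∧ (∀ a ∈ l, Q a ≠ 0) ∧ Even l.length ∧
        (∃ s : F, s ≠ 0 ∧ (l.map fun a => Q a).prod = 2 ^ j * s ^ 2) ∧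
        (∀ x ∈ X, ((l.map (refl Q)).prod).1 x = L x) ∧
        (∀ v ∈ perp (polarBilin Q) X, ((l.map (refl Q)).prod).1 v = v) ∧ (PlusOn Q X ↔ (IsSquare (-1 : F) ∨ Even j)) := by
  intro n
  induction n using Nat.strong_induction_on with
  | _ n ih =>
  intro X hXn hX hXnd
  rcases Nat.eq_zero_or_pos n with rfl | hn
  · have hbot : X = ⊥ := Submodule.finrank_eq_zero.1 hXn
    refine ⟨0, [], rfl, by simp, by simp, ⟨1, one_ne_zero, by simp⟩, fun x hx => ?_, fun v _ => rfl,
      iff_of_true ⟨⊥, bot_le, sing_bot, by rw [finrank_bot, hXn]⟩ (Or.inr Even.zero)⟩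
    rw [hbot, Submodule.mem_bot] at hx
    simp [hx]
  obtain ⟨v, hv, hα⟩ : ∃ v ∈ X, Q v ≠ 0 := by
    by_contra! hall
    have hbot : X = ⊥ := (Submodule.eq_bot_iff X).2 fun x hx => nondegOn_iff.1 hXnd x hx fun w hw =>
      Sing.null (Q := Q) hall w hw x hx
    rw [hbot, finrank_bot] at hXn
    omega
  set α := Q v with hαdef
  have hB : polar Q v (L v) = 0 := quarter_polar h2 hQL hL v
  obtain ⟨hPX, hPd, hPn, hPi, hPm, hvP⟩ := four_plane h2 hQL hL hv hX hα
  set P : Submodule F V := Submodule.span F {v, L v} with hP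
  have hLvP : L v ∈ P := hPi.mem hvP
  set Y := perp (polarBilin Q) P ⊓ X with hY
  have hYi : Inv L Y := Inv.of_mem fun y hy => ⟨mem_perp.2 fun w hw => by
    have h1 := mem_perp.1 hy.1 (L w) (hPi.mem hw)
    rw [← polar_map hQL, hL, map_neg, LinearMap.neg_apply, neg_eq_zero] at h1
    exact h1, hX.mem hy.2⟩
  have hsup : P ⊔ Y = X := by
    rw [hY, ← sup_inf_assoc_of_le _ hPX, hPn.isCompl.sup_eq_top, top_inf_eq]
  have hPY : ∀ p ∈ P, ∀ y ∈ Y, polarBilin Q p y = 0 := fun p hp y hy => mem_perp.1 hy.1 p hp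
  have hYn : NondegOn (polarBilin Q) Y := nondegOn_iff.2 fun y hy h => nondegOn_iff.1 hXnd y hy.2 fun w hw => by
    rw [← hsup] at hw
    obtain ⟨p, hp, y', hy', rfl⟩ := Submodule.mem_sup.1 hw
    rw [map_add, LinearMap.add_apply, hPY p hp y hy, h y' hy', add_zero]
  have hdim : finrank F X = finrank F P + finrank F Y := by
    rw [← finrank_sup_of_disjoint (hPn.isCompl.disjoint.mono_right (inf_le_left : Y ≤ perp (polarBilin Q) P)), hsup]
  obtain ⟨j, l, hj, hl0, hlev, ⟨s, hs0, hs⟩, hlX, hlfix, hlp⟩ := ih (finrank F Y) (by omega) Y rfl hYi hYn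
  have hQb : Q (v - L v) = 2 * α := by
    rw [sub_eq_add_neg, QuadraticMap.map_add Q, QuadraticMap.map_neg, hQL, polar_neg_right, hB]
    ring
  have hb0 : Q (v - L v) ≠ 0 := hQb ▸ mul_ne_zero h2 hα
  have hbv : (refl Q (v - L v)).1 v = L v := refl_sub_apply Q (hQL v).symm hb0
  have hbLv : (refl Q (v - L v)).1 (L v) = v := by
    have h := DFunLike.congr_arg (refl Q (v - L v)).1 hbv
    rw [← h]
    exact (DFunLike.congr_fun (congrArg Subtype.val (refl_mul_self Q (v - L v))) v)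
  have hperpP : ∀ w ∈ perp (polarBilin Q) P, ((([v, v - L v]).map (refl Q)).prod).1 w = w := fun w hw => by
    have h1 : polar Q v w = 0 := mem_perp.1 hw v hvP
    have h3 : polar Q (v - L v) w = 0 := mem_perp.1 hw _ (P.sub_mem hvP hLvP)
    simp only [List.map_cons, List.map_nil, List.prod_cons, List.prod_nil, mul_one]
    show (refl Q v).1 ((refl Q (v - L v)).1 w) = w
    rw [refl_fix Q h3, refl_fix Q h1]
  have honP : ∀ p ∈ P, ((([v, v - L v]).map (refl Q)).prod).1 p = L p := by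
    intro p hp
    obtain ⟨a, b, rfl⟩ := Submodule.mem_span_pair.1 hp
    simp only [List.map_cons, List.map_nil, List.prod_cons, List.prod_nil, mul_one]
    show (refl Q v).1 ((refl Q (v - L v)).1 (a • v + b • L v)) = L (a • v + b • L v)
    rw [map_add, map_smul, map_smul, hbv, hbLv, map_add, map_smul, map_smul, refl_self Q hα, refl_fix Q hB,
      map_add, map_smul, map_smul, hL]
  refine ⟨j + 1, [v, v - L v] ++ l, by omega, ?_, ?_, ⟨α * s, mul_ne_zero hα hs0, ?_⟩, fun x hx => ?_,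
    fun w hw => ?_, ?_⟩
  · intro a ha
    rcases List.mem_append.1 ha with ha | ha
    · rcases List.mem_pair.1 ha with rfl | rfl <;> assumption
    · exact hl0 a ha
  · rw [List.length_append]; exact (even_two).add hlev
  · simp only [List.map_append, List.prod_append, List.map_cons, List.map_nil, List.prod_cons, List.prod_nil, mul_one,
      hs, hQb, ← hαdef]
    ring
  · rw [List.map_append, List.prod_append]
    show ((([v, v - L v]).map (refl Q)).prod).1 (((l.map (refl Q)).prod).1 x) = L x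
    rw [← hsup] at hx
    obtain ⟨p, hp, y, hy, rfl⟩ := Submodule.mem_sup.1 hx
    rw [map_add, hlX y hy, hlfix p (mem_perp.2 fun w hw => polar_refl Q _ _ (hPY p hp w hw)), map_add, honP p hp,
      hperpP _ ((hYi.mem hy).1), map_add]
  · rw [List.map_append, List.prod_append]
    show ((([v, v - L v]).map (refl Q)).prod).1 (((l.map (refl Q)).prod).1 w) = w
    rw [hlfix w (perp_antitone (inf_le_right : Y ≤ X) hw), hperpP w (perp_antitone hPX hw)]
  · rw [← hsup, plus_sup_iff hPn hYn hPY (by rw [hPd]; exact even_two) ⟨j, by omega⟩, hlp]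
    rw [hPm, Nat.even_add_one]
    by_cases hs1 : IsSquare (-1 : F) <;> by_cases hs2 : Even j <;> simp [hs1, hs2]

/-- Spinor norm and type. -/
theorem four_turn (hN : (polarBilin Q).Nondegenerate) (h2 : (2 : F) ≠ 0) 
    (hQL : ∀ v, Q (L v) = Q v) (hL : ∀ v, L (L v) = -v) {d : ℕ} (hd : finrank F V = 2 * d) :
    (∃ g : orthGroup Q, (∀ v, g.1 v = L v) ∧ (g ∈ commutator (orthGroup Q) ↔ IsSquare ((2 : F) ^ d))) ∧
      (PlusOn Q ⊤ ↔ (IsSquare (-1 : F) ∨ Even d)) := by
  haveI : Finite V := Module.finite_of_finite F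
  obtain ⟨j, l, hj, hl0, hlev, ⟨s, hs0, hs⟩, hlX, -, hlp⟩ := exists_four_prod h2 hQL hL _ ⊤ rfl
    (Inv.of_mem fun _ _ => trivial) (nondegOn_iff.2 fun x _ hx => hN.2 x fun v => hx v trivial)
  rw [finrank_top, hd] at hj
  obtain rfl : j = d := by omega
  refine ⟨⟨(l.map (refl Q)).prod, fun v => hlX v trivial, ?_⟩, hlp⟩
  rw [prod_refl_mem_commutator_iff hN h2 l hl0, hs]
  constructor
  · rintro ⟨-, t, ht⟩
    exact ⟨t / s, by field_simp; linear_combination ht⟩
  · rintro ⟨t, ht⟩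
    exact ⟨hlev, t * s, by linear_combination (s ^ 2) * ht⟩

/-- Invariant subspaces of all even dimensions. -/
theorem exists_inv_four (hN : (polarBilin Q).Nondegenerate) (h2 : (2 : F) ≠ 0) (hQL : ∀ v, Q (L v) = Q v)
    (hL : ∀ v, L (L v) = -v) {a : ℕ} (ha : 2 * a ≤ finrank F V) :
    ∃ W : Submodule F V, finrank F W = 2 * a ∧ NondegOn (polarBilin Q) W ∧
      (PlusOn Q W ↔ (IsSquare (-1 : F) ∨ Even a)) ∧ Inv L W := by
  obtain ⟨-, W, -, hW, hWn, hWd⟩ := NondegInv.exists_of_uniform (polar_refl Q)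
    (Function.LeftInverse.injective (g := fun v => -L v) fun v => show -L (L v) = v by rw [hL, neg_neg]) (polar_map hQL) two_pos
    (E := ⊤) (fun X _ hX hXn hne => by
      obtain ⟨v, hv, hα⟩ : ∃ v ∈ X, Q v ≠ 0 := by
        by_contra! hall
        exact hne ((Submodule.eq_bot_iff X).2 fun x hx => nondegOn_iff.1 hXn x hx fun w hw =>
          Sing.null (Q := Q) hall w hw x hx)
      obtain ⟨h1, h3, h4, h5, -, -⟩ := four_plane h2 hQL hL hv hX hα
      exact ⟨_, h1, h5, h4, h3⟩)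
    (Inv.of_mem fun _ _ => trivial) (top_nondegOn hN) (a := a) (by rw [finrank_top]; omega)
  obtain ⟨j, l, hj, -, -, -, -, -, htype⟩ := exists_four_prod h2 hQL hL _ W rfl hW hWn
  obtain rfl : a = j := by omega
  exact ⟨W, by omega, hWn, htype, hW⟩

theorem inv_four_facts (h2 : (2 : F) ≠ 0) (hQL : ∀ v, Q (L v) = Q v) (hL : ∀ v, L (L v) = -v) {W : Submodule F V}
    (hW : Inv L W) (hWn : NondegOn (polarBilin Q) W) :
    ∃ a, finrank F W = 2 * a ∧ (PlusOn Q W ↔ (IsSquare (-1 : F) ∨ Even a)) := by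
  obtain ⟨j, l, hj, -, -, -, -, -, htype⟩ := exists_four_prod h2 hQL hL _ W rfl hW hWn
  exact ⟨j, hj, htype⟩

variable {ι : Type} [Fintype ι] [DecidableEq ι] {Qf : (ι → F) → F}

theorem omega_four (P : QuadraticForm F (ι → F)) (hQf : ∀ v, Qf v = P v) (hP : (polarBilin P).Nondegenerate)
    (h2 : (2 : F) ≠ 0) {d : ℕ} (hd : finrank F (ι → F) = 2 * d) {x : GL ι F} (hx : x ∈ Cfsg.Geo.omegaGL Qf)
    (hx2 : ∀ v, Matrix.toLin' (x : Matrix ι ι F) (Matrix.toLin' (x : Matrix ι ι F) v) = -v) :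
    (PlusOn P ⊤ ↔ (IsSquare (-1 : F) ∨ Even d)) ∧ IsSquare ((2 : F) ^ d) := by
  obtain ⟨⟨g, hgL, hg⟩, hp⟩ := four_turn hP h2 (isometry_omega P hQf hx) hx2 hd
  obtain ⟨g₀, hg₀, rfl⟩ := hx
  have : toOrth P hQf g₀ = g := Subtype.ext <| LinearEquiv.ext fun v => by
    rw [toOrth_apply]; exact (hgL v).symm
  exact ⟨hp, hg.1 (this ▸ (mem_Omega_iff P hQf g₀).1 hg₀)⟩

theorem exists_omega_four (P : QuadraticForm F (ι → F)) (hQf : ∀ v, Qf v = P v)
    (hP : (polarBilin P).Nondegenerate) (h2 : (2 : F) ≠ 0) {d : ℕ} (hd0 : 0 < d)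
    (hd : finrank F (ι → F) = 2 * d) (htype : PlusOn P ⊤ ↔ (IsSquare (-1 : F) ∨ Even d)) (hsp : IsSquare ((2 : F) ^ d)) :
    ∃ x : GL ι F, x ∈ Cfsg.Geo.omegaGL Qf ∧
      (∀ v, Matrix.toLin' (x : Matrix ι ι F) (Matrix.toLin' (x : Matrix ι ι F) v) = -v) := by
  let R : QuadraticForm F (Fin d ⊕ Fin d → F) := QuadraticMap.weightedSumSquares F (1 : Fin d ⊕ Fin d → F)
  let J : Module.End F (Fin d ⊕ Fin d → F) :=
    LinearMap.pi (Sum.elim (fun i => -LinearMap.proj (Sum.inr i)) (fun i => LinearMap.proj (Sum.inl i)))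
  have hRa : ∀ v, R v = ∑ s, v s * v s := fun v => by simp [R, QuadraticMap.weightedSumSquares_apply]
  have hR : (polarBilin R).Nondegenerate := nondegenerate_of_left fun v hv => funext fun s => by
    have h := hv (Pi.single s 1)
    rw [polar, hRa, hRa, hRa] at h
    simp only [Pi.add_apply, add_mul, mul_add, Finset.sum_add_distrib, Pi.single_apply, mul_ite, ite_mul, mul_one,
      one_mul, mul_zero, zero_mul, Finset.sum_ite_eq', Finset.mem_univ, if_true] at h
    have h' : 2 * v s = 0 := by linear_combination h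
    exact (mul_eq_zero.1 h').resolve_left h2
  have hJ : ∀ v, J (J v) = -v := fun v => funext fun s => by rcases s with s | s <;> simp [J]
  have hRJ : ∀ v, R (J v) = R v := fun v => by
    simp [hRa, J, Fintype.sum_sum_type, add_comm]
  obtain ⟨-, hRp⟩ := four_turn hR h2 hRJ hJ (d := d) (by simp [two_mul])
  obtain ⟨T, hT⟩ := exists_embed hP hR (e := d) (by simp [two_mul])
    (Or.inr (Or.inr ⟨hd.symm, hRp.trans htype.symm⟩))
  have hinj := injective_of_preserving hR T hT
  let φ : (Fin d ⊕ Fin d → F) ≃ₗ[F] (ι → F) := LinearEquiv.ofBijective T ⟨hinj,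
    (LinearMap.injective_iff_surjective_of_finrank_eq_finrank (by rw [hd]; simp [two_mul])).1 hinj⟩
  let L : Module.End F (ι → F) := φ.toLinearMap.comp (J.comp φ.symm.toLinearMap)
  have hL : ∀ v, L (L v) = -v := fun v => by simp [L, hJ]
  have hPL : ∀ v, P (L v) = P v := fun v => by
    show P (T (J (φ.symm v))) = _
    rw [hT, hRJ, ← hT]
    exact congrArg P (φ.apply_symm_apply v)
  obtain ⟨⟨g, hgL, hg⟩, -⟩ := four_turn hP h2 hPL hL hd
  refine ⟨((toOrth P hQf).symm g : GL ι F), ⟨(toOrth P hQf).symm g, ?_, rfl⟩, fun v => ?_⟩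
  · rw [SetLike.mem_coe, mem_Omega_iff P hQf, MulEquiv.apply_symm_apply]
    exact hg.2 hsp
  · simp only [toOrth_symm_coe, Matrix.toLin'_apply, matOf_mulVec, hgL, hL]

/-- An involution fixes a copy of every smaller space. -/
theorem exists_split_inv {X : Type*} [AddCommGroup X] [Module F X] [FiniteDimensional F X] {R : QuadraticForm F X}
    (hR : (polarBilin R).Nondegenerate) (hN : (polarBilin Q).Nondegenerate) (h2 : (2 : F) ≠ 0)
    (hQL : ∀ v, Q (L v) = Q v) (hL : ∀ v, L (L v) = v) (hV : 3 ≤ finrank F V) (hlt : finrank F X < finrank F V) :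
    ∃ T : X →ₗ[F] V, (∀ w, Q (T w) = R w) ∧ Inv L (LinearMap.range T) := by
  obtain ⟨hcompl, horth, hXn, hCn⟩ := involution_facts hN h2 hQL hL
  have hdim := Submodule.finrank_add_eq_of_isCompl hcompl
  rcases Nat.lt_or_ge (finrank F X) (finrank F (L.eigenspace (-1 : F))) with h | h
  · obtain ⟨T, hT, hTX⟩ := exists_embed_in hXn hR h (Or.inl h2)
    exact ⟨T, hT, inv_of_eigen hTX⟩
  rcases Nat.lt_or_ge (finrank F X) (finrank F (L.eigenspace (1 : F))) with h' | h'
  · obtain ⟨T, hT, hTX⟩ := exists_embed_in hCn hR h' (Or.inl h2)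
    exact ⟨T, hT, inv_of_eigen hTX⟩
  obtain ⟨T, A, B, hA, hB, hT, hrange⟩ := exists_split_embed hXn hCn horth h2 hR (by omega) (by omega)
  exact ⟨T, hT, hrange ▸ (inv_of_eigen hA).sup (inv_of_eigen hB)⟩

theorem two_apply (P : QuadraticForm F (ι → F)) (hQf : ∀ v, Qf v = P v) (hP : (polarBilin P).Nondegenerate)
    {d : ℕ} (hd : finrank F (ι → F) = 2 * d) (hd0 : 0 < d) {x : GL ι F} (hx : x ∈ Cfsg.Geo.omegaGL Qf) {z : F}
    (hz : ((x ^ 2 : GL ι F) : Matrix ι ι F) = z • (1 : Matrix ι ι F)) :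
    (∀ v, Matrix.toLin' (x : Matrix ι ι F) (Matrix.toLin' (x : Matrix ι ι F) v) = v) ∨
      (∀ v, Matrix.toLin' (x : Matrix ι ι F) (Matrix.toLin' (x : Matrix ι ι F) v) = -v) := by
  set M := Matrix.toLin' (x : Matrix ι ι F) with hM
  have hMM : ∀ v, M (M v) = z • v := fun v => by
    rw [hM, Matrix.toLin'_apply, Matrix.toLin'_apply, Matrix.mulVec_mulVec, ← Units.val_mul, ← pow_two, hz,
      Matrix.smul_mulVec, Matrix.one_mulVec]
  rcases mul_self_eq_one_iff.1 (scalar_sq hP hd hd0 (M := M * M)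
    (fun v => by rw [Module.End.mul_apply, isometry_omega P hQf hx, isometry_omega P hQf hx])
    (LinearMap.ext fun v => by rw [Module.End.mul_apply, hMM]; rfl)) with rfl | rfl
  · exact Or.inl fun v => (hMM v).trans (one_smul F v)
  · exact Or.inr fun v => (hMM v).trans (neg_one_smul F v)

theorem four_elem_props (P : QuadraticForm F (ι → F)) (hQf : ∀ v, Qf v = P v) (hP : (polarBilin P).Nondegenerate)
    (h2 : (2 : F) ≠ 0) {d : ℕ} (hd : finrank F (ι → F) = 2 * d) (hd0 : 0 < d) {x : GL ι F}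
    (hx : x ∈ Cfsg.Geo.omegaGL Qf)
    (hx2 : ∀ v, Matrix.toLin' (x : Matrix ι ι F) (Matrix.toLin' (x : Matrix ι ι F) v) = -v) :
    (∃ z : F, ((x ^ 2 : GL ι F) : Matrix ι ι F) = z • (1 : Matrix ι ι F)) ∧
      ∀ z : F, (x : Matrix ι ι F) ≠ z • (1 : Matrix ι ι F) := by
  refine ⟨⟨-1, ?_⟩, fun z hz => ?_⟩
  · rw [Units.val_pow_eq_pow_val, pow_two]
    refine Matrix.ext_of_mulVec_single fun i => ?_
    have := hx2 (Pi.single i 1)
    rw [Matrix.toLin'_apply, Matrix.toLin'_apply, Matrix.mulVec_mulVec] at this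
    rw [this, neg_one_smul, Matrix.neg_mulVec, Matrix.one_mulVec]
  · haveI : Nontrivial (ι → F) := Module.nontrivial_of_finrank_pos (R := F) (by omega)
    obtain ⟨u, hu⟩ := exists_ne (0 : ι → F)
    have hzz := scalar_sq hP hd hd0 (M := Matrix.toLin' (x : Matrix ι ι F)) (isometry_omega P hQf hx)
      (by rw [hz, map_smul, Matrix.toLin'_one]; rfl)
    have h := hx2 u
    rw [hz, map_smul, Matrix.toLin'_one] at h
    simp only [LinearMap.smul_apply, LinearMap.id_apply, smul_smul, hzz, one_smul] at h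
    rw [eq_neg_iff_add_eq_zero, ← two_smul F] at h
    exact hu ((smul_eq_zero.1 h).resolve_left h2)

/-- Elements of order two and even-dimensional subspaces. -/
theorem two_typed_iff (P : QuadraticForm F (ι → F)) (hQf : ∀ v, Qf v = P v) (hP : (polarBilin P).Nondegenerate)
    (h2 : (2 : F) ≠ 0) {d μ : ℕ} (hd : finrank F (ι → F) = 2 * d) (hμ : 1 ≤ μ) (hμd : μ < d) (τ : Prop) :
    (∀ x : GL ι F, x ∈ Cfsg.Geo.omegaGL Qf →
      (∃ z : F, ((x ^ 2 : GL ι F) : Matrix ι ι F) = z • (1 : Matrix ι ι F)) →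
      (∀ z : F, (x : Matrix ι ι F) ≠ z • (1 : Matrix ι ι F)) →
      ∃ W : Submodule F (ι → F), (finrank F W = 2 * μ ∧ NondegOn (polarBilin P) W ∧ (PlusOn P W ↔ τ)) ∧
        W.map (Matrix.toLin' (x : Matrix ι ι F)) ≤ W) ↔
    ((PlusOn P ⊤ ↔ (IsSquare (-1 : F) ∨ Even d)) → IsSquare ((2 : F) ^ d) → (τ ↔ (IsSquare (-1 : F) ∨ Even μ))) := by
  constructor
  · intro hall htype hsp
    obtain ⟨x, hx, hx2⟩ := exists_omega_four P hQf hP h2 (by omega) hd htype hsp
    obtain ⟨hz, hns⟩ := four_elem_props P hQf hP h2 hd (by omega) hx hx2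
    obtain ⟨W, ⟨a, b, c⟩, hWi⟩ := hall x hx hz hns
    obtain ⟨a', ha', hWt⟩ := inv_four_facts h2 (isometry_omega P hQf hx) hx2 hWi b
    obtain rfl : a' = μ := by omega
    exact c.symm.trans hWt
  · intro hcond x hx ⟨z, hz⟩ _
    rcases two_apply P hQf hP hd (by omega) hx hz with h | h
    · obtain ⟨R, hR, hτ⟩ := exists_typed_model (F := F) μ τ (Or.inr hμ)
      have hRd : finrank F (Fin μ ⊕ Fin μ → F) = 2 * μ := by simp [two_mul]
      obtain ⟨T, hT, hTi⟩ := exists_split_inv hR hP h2 (isometry_omega P hQf hx) h (by omega) (by omega)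
      obtain ⟨h1, h3, h4⟩ := range_facts hR T hT
      exact ⟨_, ⟨h3.trans hRd, h1, h4.trans hτ⟩, hTi⟩
    · obtain ⟨htype, hsp⟩ := omega_four P hQf hP h2 hd hx h
      obtain ⟨W, a, b, c, e⟩ := exists_inv_four hP h2 (isometry_omega P hQf hx) h (a := μ) (by omega)
      exact ⟨W, ⟨a, b, c.trans (hcond htype hsp).symm⟩, e⟩

/-- Elements of order two and odd-dimensional subspaces. -/
theorem two_parabolic_iff (P : QuadraticForm F (ι → F)) (hQf : ∀ v, Qf v = P v) (hP : (polarBilin P).Nondegenerate)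
    (h2 : (2 : F) ≠ 0) {d μ : ℕ} (hd : finrank F (ι → F) = 2 * d) (hμd : μ < d) (hd2 : 2 ≤ d)
    {W₀ : Submodule F (ι → F)} (hW₀ : NondegOn (polarBilin P) W₀) (hW₀d : finrank F W₀ = 2 * μ + 1) :
    (∀ x : GL ι F, x ∈ Cfsg.Geo.omegaGL Qf →
      (∃ z : F, ((x ^ 2 : GL ι F) : Matrix ι ι F) = z • (1 : Matrix ι ι F)) →
      (∀ z : F, (x : Matrix ι ι F) ≠ z • (1 : Matrix ι ι F)) →
      ∃ W : Submodule F (ι → F), (finrank F W = 2 * μ + 1 ∧ NondegOn (polarBilin P) W ∧
        Cfsg.Geo.AreIsometricFor Qf W W₀) ∧ W.map (Matrix.toLin' (x : Matrix ι ι F)) ≤ W) ↔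
    ¬ ((PlusOn P ⊤ ↔ (IsSquare (-1 : F) ∨ Even d)) ∧ IsSquare ((2 : F) ^ d)) := by
  constructor
  · rintro hall ⟨htype, hsp⟩
    obtain ⟨x, hx, hx2⟩ := exists_omega_four P hQf hP h2 (by omega) hd htype hsp
    obtain ⟨hz, hns⟩ := four_elem_props P hQf hP h2 hd (by omega) hx hx2
    obtain ⟨W, ⟨a, b, -⟩, hWi⟩ := hall x hx hz hns
    obtain ⟨a', ha', -⟩ := inv_four_facts h2 (isometry_omega P hQf hx) hx2 hWi b
    omega
  · intro hcond x hx ⟨z, hz⟩ _
    rcases two_apply P hQf hP hd (by omega) hx hz with h | h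
    · obtain ⟨T, hT, hTi⟩ := exists_split_inv (comp_nondeg hW₀) hP h2 (isometry_omega P hQf hx) h (by omega)
        (by omega)
      obtain ⟨a, b, c⟩ := isometric_range P hQf hW₀ hT
      exact ⟨_, ⟨a.trans hW₀d, b, c⟩, hTi⟩
    · exact absurd (omega_four P hQf hP h2 hd hx h) hcond

end CfsgLib.Derangements.OrthInv
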