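import Cfsg.Agent.Lib.Derangements.OrthUnipotentTypes
import Cfsg.Agent.Lib.Derangements.OrthInvariant

/-!
# Unipotent elements whose non-degenerate invariant subspaces have restricted type
-/

set_option autoImplicit false
set_option linter.unusedSectionVars false

namespace CfsgLib.Derangements.OrthInv

open Module QuadraticMap CfsgLib.Classical CfsgLib.Derangements.JordanRanks

variable {F : Type*} [Field F] [Fintype F] {V : Type*} [AddCommGroup V] [Module F V] [FiniteDimensional F V]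
  {Q : QuadraticForm F V}

/-- A subspace with only blocks of size two is of plus type. -/
theorem plus_of_two_blocks (h2 : (2 : F) ≠ 0) {L : Module.End F V} (hQL : ∀ v, Q (L v) = Q v) {W : Submodule F V}
    (hWL : W.map L ≤ W) {j : ℕ} (hd : finrank F W = 2 * j) (h1 : finrank F (W.map ((L - 1) ^ 1 : Module.End F V)) = j)
    (h0 : finrank F (W.map ((L - 1) ^ 2 : Module.End F V)) = 0) : PlusOn Q W := by
  rw [pow_one] at h1
  refine ⟨W.map (L - 1), ?_, ?_, by rw [h1, hd]⟩
  · rintro _ ⟨w, hw, rfl⟩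
    exact W.sub_mem (hWL ⟨w, hw, rfl⟩) hw
  · rintro _ ⟨w, hw, rfl⟩
    have h3 : (L - 1) ((L - 1) w) = 0 := by
      have h4 : ((L - 1) ^ 2 : Module.End F V) w ∈ W.map ((L - 1) ^ 2) := ⟨w, hw, rfl⟩
      rw [Submodule.finrank_eq_zero.1 h0, Submodule.mem_bot, pow_two, Module.End.mul_apply] at h4
      exact h4
    set u := (L - 1) w with hu
    have hLw : L w = u + w := by simp [hu]
    have hLu : L u = u := by rwa [LinearMap.sub_apply, Module.End.one_apply, sub_eq_zero] at h3
    have h5 := polar_map hQL u w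
    rw [hLu, hLw, map_add, add_eq_right, polarBilin_apply_apply, Orth.polar_self'] at h5
    exact (mul_eq_zero.1 h5).resolve_left h2

theorem eq_replicate_of_le {k o : ℕ} (ho : Odd o) {ν : Multiset ℕ} (hν : ν ≤ o ::ₘ Multiset.replicate k 2)
    (he : Even ν.sum) : ∃ j, ν = Multiset.replicate j 2 := by
  by_cases hmem : o ∈ ν
  · obtain ⟨ν', rfl⟩ := Multiset.exists_cons_of_mem hmem
    obtain ⟨j, -, rfl⟩ := Multiset.le_replicate_iff.1 ((Multiset.cons_le_cons_iff o).1 hν) 
    rw [Multiset.sum_cons, Multiset.sum_replicate, Nat.even_add, smul_eq_mul] at he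
    exact absurd (he.2 ((even_two).mul_left j)) (Nat.not_even_iff_odd.2 ho)
  · obtain ⟨j, -, rfl⟩ := Multiset.le_replicate_iff.1 ((Multiset.le_cons_of_notMem hmem).1 hν)
    exact ⟨j, rfl⟩

/-- In odd dimension some element of order `p` fixes only subspaces of plus type. -/
theorem exists_unipotent_plus_only {d : ℕ} (hd : 2 ≤ d) {p : ℕ} [Fact p.Prime] [CharP F p] (hp : Odd p) :
    ∃ x : GL (Unit ⊕ (Fin d ⊕ Fin d)) F, x ∈ Cfsg.Geo.omegaGL (Cfsg.quadFormOdd d F) ∧ orderOf x = p ∧
      ∀ W : Submodule F (Unit ⊕ (Fin d ⊕ Fin d) → F), Even (finrank F W) →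
        NondegOn (polarBilin (Orth.oddForm F d)) W →
        W.map (Matrix.toLin' (x : Matrix (Unit ⊕ (Fin d ⊕ Fin d)) (Unit ⊕ (Fin d ⊕ Fin d)) F)) ≤ W →
        PlusOn (Orth.oddForm F d) W := by
  have hpp : p.Prime := Fact.out
  have hp3 : 3 ≤ p := by have := hpp.two_le; have := Nat.odd_iff.1 hp; omega
  have h2 : (2 : F) ≠ 0 := Ring.two_ne_zero (by rw [ringChar.eq F p]; omega)
  obtain ⟨k, o, ho, ho3, hk, hsum, hk1⟩ : ∃ k o, Odd o ∧ o ≤ 3 ∧ Even k ∧ 2 * k + o = 2 * d + 1 ∧ 1 ≤ k + o / 2 := by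
    rcases Nat.even_or_odd d with h | h
    · exact ⟨d, 1, odd_one, by omega, h, rfl, by omega⟩
    · exact ⟨d - 1, 3, by decide, le_rfl, Nat.Odd.sub_odd h odd_one, by omega, by omega⟩
  let μ : Multiset ℕ := o ::ₘ Multiset.replicate k 2
  have hcnt : ∀ e, Even e → Even (μ.count e) := fun e he => by
    simp only [μ, Multiset.count_cons, Multiset.count_replicate]
    rw [if_neg (show e ≠ o from fun h => Nat.not_even_iff_odd.2 ho (h ▸ he))]
    split_ifs <;> simp [hk]
  have hμs : μ.sum = 2 * d + 1 := by simp [μ]; omega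
  have hμ0 : 0 ∉ μ := by
    simp only [μ, Multiset.mem_cons, Multiset.mem_replicate]
    rintro (h | ⟨-, h⟩)
    · exact absurd (h ▸ ho) (by decide)
    · omega
  obtain ⟨x, hx, hxp, hns, hN, hrank⟩ := OrthUnipotent.exists_element (Qf := Cfsg.quadFormOdd d F) (μ := μ) hp
    (Orth.oddForm F d) (fun v => Orth.oddForm_apply d v) (Orth.oddForm_nondeg d h2) (fun e he => by
      simp only [μ, Multiset.mem_cons, Multiset.mem_replicate] at he
      omega)
    (by
      rcases Nat.eq_zero_or_pos k with h | h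
      · exact ⟨o, Multiset.mem_cons_self _ _, by omega⟩
      · exact ⟨2, Multiset.mem_cons_of_mem (Multiset.mem_replicate.2 ⟨by omega, rfl⟩), le_rfl⟩)
    ((OrthUnipotent.real_line h2 one_ne_zero hcnt hμs).of_iso (OrthUnipotent.iso_oddForm d))
  have hord : orderOf x = p := orderOf_eq_prime hxp fun h1 => hns 1 (by rw [h1, Units.val_one, one_smul])
  refine ⟨x, hx, hord, fun W hWe hWn hWi => ?_⟩
  set L := Matrix.toLin' (x : Matrix (Unit ⊕ (Fin d ⊕ Fin d)) (Unit ⊕ (Fin d ⊕ Fin d)) F)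
  have hQL : ∀ v, Orth.oddForm F d (L v) = Orth.oddForm F d v := fun v => by
    have := OrthUnipotent.isometry_of_mem_omega hx v
    rwa [Orth.oddForm_apply, Orth.oddForm_apply] at this
  obtain ⟨ν, hνμ, hνs, -, hνr⟩ := OrthUnipotent.exists_submultiset h2
    (B := polarBilin (Orth.oddForm F d)) (fun u v => by simp [polar_comm]) (polar_map hQL) hN hμ0 hrank hWn hWi
  obtain ⟨j, rfl⟩ := eq_replicate_of_le ho hνμ (hνs.symm ▸ hWe)
  refine plus_of_two_blocks h2 hQL hWi (j := j) (by rw [← hνs]; simp [mul_comm]) ?_ ?_ <;>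
    rw [hνr] <;> simp [rankSeq, Multiset.map_replicate]

end CfsgLib.Derangements.OrthInv
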