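import Cfsg.Agent.Lib.Derangements.OrthNondegSiegel
import Cfsg.Agent.Lib.Derangements.OrthUnipotentTypes

/-!
# Elements of the order of the characteristic without fixed non-degenerate subspaces of a given class
-/

set_option autoImplicit false
set_option linter.unusedSectionVars false

namespace CfsgLib.Derangements.OrthInv

open Module QuadraticMap CfsgLib.Classical CfsgLib.Derangements.LinElusive CfsgLib.Derangements.NullInv
  CfsgLib.Derangements.JordanRanks CfsgLib.Orth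
open scoped Matrix

variable {F : Type*} [Field F] [Fintype F] {p : ℕ} [Fact p.Prime] [CharP F p] {ι : Type} [Fintype ι]
  [DecidableEq ι] {Qf : (ι → F) → F} {d : ℕ}

theorem exists_siegel_elem (P : QuadraticForm F (ι → F)) (hQf : ∀ v, Qf v = P v) (hP : (polarBilin P).Nondegenerate)
    {h : ℕ} (hh : 2 ≤ h) (hd : finrank F (ι → F) = 2 * d)
    (hcase : 2 * h + 1 ≤ d ∨ (2 * h = d ∧ PlusOn P ⊤)) :
    ∃ x : GL ι F, x ∈ Cfsg.Geo.omegaGL Qf ∧ x ^ p = 1 ∧ (∀ z : F, (x : Matrix ι ι F) ≠ z • (1 : Matrix ι ι F)) ∧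
      ∀ W : Submodule F (ι → F), NondegOn (polarBilin P) W → W.map (Matrix.toLin' (x : Matrix ι ι F)) ≤ W →
        ∃ e e', Even e ∧ 2 * h ≤ e + e' ∧ 2 * e ≤ finrank F W ∧ 2 * e' + finrank F W ≤ 2 * d ∧
          (2 * e = finrank F W → PlusOn P W) ∧
          (2 * e' + finrank F W = 2 * d → PlusOn P (perp (polarBilin P) W)) := by
  obtain ⟨T, hT⟩ := exists_embed hP (plusForm_nondeg (F := F) (h + h)) (e := h + h) (by simp [two_mul]) (by
    rcases hcase with hc | ⟨hc, hV⟩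
    · exact Or.inl (by omega)
    · refine Or.inr (Or.inr ⟨by omega, iff_of_true ?_ hV⟩)
      exact (plusOn_top_iff (by simp [two_mul])).2 (EvenForms.plus_plusForm (h + h)))
  obtain ⟨g, hg, N, hgN, hNN, hsing, hrank⟩ := exists_square_zero hh T hT
  let x₀ := (toOrth P hQf).symm g
  have hxL : ∀ v, Matrix.toLin' ((x₀ : GL ι F) : Matrix ι ι F) v = v + N v := fun v => by
    simp only [x₀, toOrth_symm_coe, Matrix.toLin'_apply, matOf_mulVec, hgN]
  have hxmem : (x₀ : GL ι F) ∈ Cfsg.Geo.omegaGL Qf := ⟨x₀, by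
    rw [SetLike.mem_coe, mem_Omega_iff P hQf, MulEquiv.apply_symm_apply]; exact hg, rfl⟩
  set x : GL ι F := (x₀ : GL ι F) with hx
  have hpow : ∀ n : ℕ, ∀ v, ((x ^ n : GL ι F) : Matrix ι ι F) *ᵥ v = v + (n : F) • N v := fun n => by
    induction n with
    | zero => intro v; simp
    | succ n ih =>
      intro v
      rw [pow_succ, Units.val_mul, ← Matrix.mulVec_mulVec, ← Matrix.toLin'_apply (x : Matrix ι ι F), hxL, ih, map_add,
        hNN, add_zero, Nat.cast_succ, add_smul, one_smul]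
      abel
  refine ⟨x, hxmem, Units.ext (Matrix.ext_of_mulVec_single fun i => ?_), fun z hz => ?_, fun W hWn hWi => ?_⟩
  · rw [hpow, CharP.cast_eq_zero F p, zero_smul, add_zero, Units.val_one, Matrix.one_mulVec]
  · have hNz : ∀ v, N v = (z - 1) • v := fun v => by
      have := hxL v
      rw [hz, map_smul, Matrix.toLin'_one, LinearMap.smul_apply, LinearMap.id_apply] at this
      rw [sub_smul, one_smul, this, add_sub_cancel_left]
    obtain ⟨v, hv⟩ : ∃ v, N v ≠ 0 := by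
      by_contra! hall
      rw [show N = 0 from LinearMap.ext hall, LinearMap.range_zero, finrank_bot] at hrank
      omega
    have h0 := hNN v
    rw [hNz, hNz v, smul_smul, smul_eq_zero] at h0
    rcases h0 with h0 | h0
    · exact hv (by rw [hNz, mul_self_eq_zero.1 h0, zero_smul])
    · exact hv (by rw [h0, map_zero])
  · obtain ⟨e, e', he, hsum, he1, he2, hp1, hp2⟩ := square_zero_facts hP hxL (isometry_omega P hQf hxmem) hNN hsing
      hWi hWn
    have hfp := hWn.finrank_perp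
    exact ⟨e, e', he, by omega, he1, by omega, hp1, fun h' => hp2 (by omega)⟩

/-- In plus type, an element of order `p` fixing only subspaces of plus type. -/
theorem exists_bad_plus (P : QuadraticForm F (ι → F)) (hQf : ∀ v, Qf v = P v) (hP : (polarBilin P).Nondegenerate)
    (hd : finrank F (ι → F) = 2 * d) (hd4 : 4 ≤ d) (hV : PlusOn P ⊤) :
    ∃ x : GL ι F, x ∈ Cfsg.Geo.omegaGL Qf ∧ x ^ p = 1 ∧ (∀ z : F, (x : Matrix ι ι F) ≠ z • (1 : Matrix ι ι F)) ∧
      ∀ (W : Submodule F (ι → F)) (μ : ℕ), NondegOn (polarBilin P) W →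
        W.map (Matrix.toLin' (x : Matrix ι ι F)) ≤ W → finrank F W = 2 * μ →
        PlusOn P W ∧ (Even d → Even μ) := by
  obtain ⟨x, hx, hxp, hns, hW⟩ := exists_siegel_elem (p := p) P hQf hP (h := d / 2) (by omega) hd (by
    rcases Nat.even_or_odd' d with ⟨k, rfl | rfl⟩
    · exact Or.inr ⟨by omega, hV⟩
    · exact Or.inl (by omega))
  refine ⟨x, hx, hxp, hns, fun W μ hWn hWi hWd => ?_⟩
  obtain ⟨e, e', he, hsum, he1, he2, hp1, hp2⟩ := hW W hWn hWi
  refine ⟨?_, fun hde => ?_⟩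
  · by_cases heq : 2 * e = finrank F W
    · exact hp1 heq
    · have hperp := hp2 (by omega)
      have hfp := hWn.finrank_perp
      exact ((plus_sum_iff hP hWn.isCompl (fun a ha b hb => mem_perp.1 hb a ha) hWn (nondegOn_perp hP.2 hWn)
        ⟨μ, by omega⟩ ⟨d - μ, by omega⟩).1 hV).2 hperp
  · rw [Nat.even_iff] at hde
    obtain rfl : e = μ := by omega
    exact he

/-- In minus type with `d` odd. -/
theorem exists_bad_minus (P : QuadraticForm F (ι → F)) (hQf : ∀ v, Qf v = P v) (hP : (polarBilin P).Nondegenerate)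
    (hd : finrank F (ι → F) = 2 * d) (hd4 : 4 ≤ d) (hdo : Odd d) :
    ∃ x : GL ι F, x ∈ Cfsg.Geo.omegaGL Qf ∧ x ^ p = 1 ∧ (∀ z : F, (x : Matrix ι ι F) ≠ z • (1 : Matrix ι ι F)) ∧
      ∀ (W : Submodule F (ι → F)), NondegOn (polarBilin P) W →
        W.map (Matrix.toLin' (x : Matrix ι ι F)) ≤ W →
        (∀ μ, finrank F W = 2 * μ → ¬ PlusOn P W → Odd μ) ∧ (Odd (finrank F W) → finrank F W % 4 = 1) := by
  obtain ⟨k, rfl⟩ := hdo
  obtain ⟨x, hx, hxp, hns, hW⟩ := exists_siegel_elem (p := p) P hQf hP (h := k) (by omega) hd (Or.inl le_rfl)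
  refine ⟨x, hx, hxp, hns, fun W hWn hWi => ?_⟩
  obtain ⟨e, e', he, hsum, he1, he2, hp1, -⟩ := hW W hWn hWi
  rw [Nat.even_iff] at he
  refine ⟨fun μ hWd hnp => ?_, fun ho => ?_⟩
  · rw [Nat.odd_iff]
    have : 2 * e ≠ finrank F W := fun h => hnp (hp1 h)
    omega
  · rw [Nat.odd_iff] at ho
    omega

/-- In plus type with `d` even there is no fixed subspace of odd dimension. -/
theorem exists_bad_plus_odd (P : QuadraticForm F (ι → F)) (hQf : ∀ v, Qf v = P v) (hP : (polarBilin P).Nondegenerate)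
    (hd : finrank F (ι → F) = 2 * d) (hd4 : 4 ≤ d) (hde : Even d) (hV : PlusOn P ⊤) :
    ∃ x : GL ι F, x ∈ Cfsg.Geo.omegaGL Qf ∧ x ^ p = 1 ∧ (∀ z : F, (x : Matrix ι ι F) ≠ z • (1 : Matrix ι ι F)) ∧
      ∀ (W : Submodule F (ι → F)), NondegOn (polarBilin P) W →
        W.map (Matrix.toLin' (x : Matrix ι ι F)) ≤ W → Even (finrank F W) := by
  obtain ⟨k, rfl⟩ := hde
  obtain ⟨x, hx, hxp, hns, hW⟩ := exists_siegel_elem (p := p) P hQf hP (h := k) (by omega) hd
    (Or.inr ⟨by omega, hV⟩)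
  refine ⟨x, hx, hxp, hns, fun W hWn hWi => ?_⟩
  obtain ⟨e, e', -, hsum, he1, he2, -, -⟩ := hW W hWn hWi
  exact ⟨e, by omega⟩

theorem three_three_count {k : ℕ} {ν : Multiset ℕ} (hν : ν ≤ 3 ::ₘ 3 ::ₘ Multiset.replicate k 2)
    (hev : ∀ e, Even e → Even (ν.count e)) (ho : Odd ν.sum) : ν.sum % 4 = 3 := by
  rw [Nat.odd_iff] at ho
  by_cases h1 : 3 ∈ ν
  · obtain ⟨ν', rfl⟩ := Multiset.exists_cons_of_mem h1
    have hν' := (Multiset.cons_le_cons_iff 3).1 hν
    by_cases h2 : 3 ∈ ν'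
    · obtain ⟨ν'', rfl⟩ := Multiset.exists_cons_of_mem h2
      obtain ⟨j, -, rfl⟩ := Multiset.le_replicate_iff.1 ((Multiset.cons_le_cons_iff 3).1 hν')
      simp at ho
      omega
    · obtain ⟨j, -, rfl⟩ := Multiset.le_replicate_iff.1 ((Multiset.le_cons_of_notMem h2).1 hν')
      have h3 := hev 2 even_two
      simp [Multiset.count_replicate] at h3
      rw [Nat.even_iff] at h3
      simp
      omega
  · have hν' := (Multiset.le_cons_of_notMem h1).1 hν
    obtain ⟨j, -, rfl⟩ := Multiset.le_replicate_iff.1 ((Multiset.le_cons_of_notMem h1).1 hν')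
    simp at ho

theorem one_three_blocks {k : ℕ} {ν : Multiset ℕ} (hν : ν ≤ 1 ::ₘ 3 ::ₘ Multiset.replicate k 2)
    (hev : ∀ e, Even e → Even (ν.count e)) (h1 : ν.sum % 4 = 1) :
    ∃ j, ν = 1 ::ₘ Multiset.replicate j 2 := by
  by_cases h3 : 3 ∈ ν
  · exfalso
    obtain ⟨ν', rfl⟩ := Multiset.exists_cons_of_mem h3
    have hν' : ν' ≤ 1 ::ₘ Multiset.replicate k 2 := by
      rw [Multiset.cons_swap] at hν
      exact (Multiset.cons_le_cons_iff 3).1 hν
    by_cases h2 : 1 ∈ ν'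
    · obtain ⟨ν'', rfl⟩ := Multiset.exists_cons_of_mem h2
      obtain ⟨j, -, rfl⟩ := Multiset.le_replicate_iff.1 ((Multiset.cons_le_cons_iff 1).1 hν')
      simp at h1
      omega
    · obtain ⟨j, -, rfl⟩ := Multiset.le_replicate_iff.1 ((Multiset.le_cons_of_notMem h2).1 hν')
      have h4 := hev 2 even_two
      simp [Multiset.count_replicate] at h4
      rw [Nat.even_iff] at h4
      simp at h1
      omega
  · rw [Multiset.cons_swap] at hν
    have hν' := (Multiset.le_cons_of_notMem h3).1 hν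
    by_cases h2 : 1 ∈ ν
    · obtain ⟨ν', rfl⟩ := Multiset.exists_cons_of_mem h2
      obtain ⟨j, -, rfl⟩ := Multiset.le_replicate_iff.1 ((Multiset.cons_le_cons_iff 1).1 hν')
      exact ⟨j, rfl⟩
    · obtain ⟨j, -, rfl⟩ := Multiset.le_replicate_iff.1 ((Multiset.le_cons_of_notMem h2).1 hν')
      simp at h1
      omega

/-- An element with two odd blocks of size three has no fixed subspace of dimension `1` modulo `4`. -/
theorem exists_bad_three_three (P : QuadraticForm F (ι → F)) (hQf : ∀ v, Qf v = P v)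
    (hP : (polarBilin P).Nondegenerate) (hp : Odd p) {k : ℕ}
    (hreal : OrthUnipotent.Real (fun u v => polar P u v) (3 ::ₘ 3 ::ₘ Multiset.replicate k 2)) :
    ∃ x : GL ι F, x ∈ Cfsg.Geo.omegaGL Qf ∧ x ^ p = 1 ∧ (∀ z : F, (x : Matrix ι ι F) ≠ z • (1 : Matrix ι ι F)) ∧
      ∀ W : Submodule F (ι → F), NondegOn (polarBilin P) W → W.map (Matrix.toLin' (x : Matrix ι ι F)) ≤ W →
        finrank F W % 4 ≠ 1 := by
  have hp3 : 3 ≤ p := by have := (Fact.out : p.Prime).two_le; have := Nat.odd_iff.1 hp; omega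
  have h2 : (2 : F) ≠ 0 := Ring.two_ne_zero (by rw [ringChar.eq F p]; omega)
  obtain ⟨x, hx, hxp, hns, hN, hrank⟩ := OrthUnipotent.exists_element hp P hQf hP (fun e he => by
    simp [Multiset.mem_replicate] at he; omega) ⟨3, by simp, by omega⟩ hreal
  refine ⟨x, hx, hxp, hns, fun W hWn hWi hW1 => ?_⟩
  obtain ⟨ν, hνμ, hνs, hev, -⟩ := OrthUnipotent.exists_submultiset h2 (B := polarBilin P)
    (fun u v => by simp [polar_comm]) (polar_map (isometry_omega P hQf hx)) hN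
    (by simp [Multiset.mem_replicate]) hrank hWn hWi
  have := three_three_count hνμ hev (hνs.symm ▸ Nat.odd_iff.2 (by omega))
  omega

/-- A vector fixed by an element with one block of size one. -/
theorem exists_fixed_vector {V : Type*} [AddCommGroup V] [Module F V] [FiniteDimensional F V]
    {Q : QuadraticForm F V} {N : Module.End F V} {W : Submodule F V} (hWn : NondegOn (polarBilin Q) W)
    (hWN : W.map N ≤ W) {t : ℕ} (hd : finrank F W = 4 * t + 1) (h1 : finrank F (W.map N) = 2 * t)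
    (h2' : ∀ w ∈ W, N (N w) = 0) : ∃ w ∈ W, N w = 0 ∧ Q w ≠ 0 := by
  by_contra! hall
  have h := finrank_map_add_inf_ker N W
  have hs : Sing Q (W ⊓ LinearMap.ker N) := fun w hw => hall w hw.1 hw.2
  have := sing_le_half hWn inf_le_left hs
  omega

/-- Two spaces `⟨α⟩ + hyperbolic` are isometric. -/
theorem exists_map_of_vectors {V : Type*} [AddCommGroup V] [Module F V] [FiniteDimensional F V]
    {Q : QuadraticForm F V} (hN : (polarBilin Q).Nondegenerate) (h2 : (2 : F) ≠ 0) {W₁ W₂ : Submodule F V}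
    (hn₁ : NondegOn (polarBilin Q) W₁) (hn₂ : NondegOn (polarBilin Q) W₂) {t : ℕ}
    (hd₁ : finrank F W₁ = 2 * t + 1) (hd₂ : finrank F W₂ = 2 * t + 1) {w₁ w₂ : V} (hw₁ : w₁ ∈ W₁) (hw₂ : w₂ ∈ W₂)
    {U₁ U₂ : Submodule F V} (hU₁ : U₁ ≤ W₁) (hU₂ : U₂ ≤ W₂) (hs₁ : Sing Q U₁) (hs₂ : Sing Q U₂)
    (hu₁ : finrank F U₁ = t) (hu₂ : finrank F U₂ = t) (ho₁ : ∀ u ∈ U₁, polar Q w₁ u = 0)
    (ho₂ : ∀ u ∈ U₂, polar Q w₂ u = 0) (hq₁ : Q w₁ ≠ 0) {c : F} (hq₂ : Q w₂ = c ^ 2 * Q w₁) (hc : c ≠ 0) :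
    ∃ g : orthGroup Q, W₁.map (g.1 : V →ₗ[F] V) = W₂ := by
  have hspan : ∀ {w : V}, Q w ≠ 0 → NondegOn (polarBilin Q) (Submodule.span F {w}) ∧
      finrank F (Submodule.span F {w}) = 1 := fun {w} hw => by
    have hw0 : w ≠ 0 := fun h => hw (by rw [h, QuadraticMap.map_zero])
    refine ⟨nondegOn_iff.2 fun x hx h => ?_, finrank_span_singleton hw0⟩
    obtain ⟨a, rfl⟩ := Submodule.mem_span_singleton.1 hx
    have h1 := h w (Submodule.mem_span_singleton_self w)
    rw [polarBilin_apply_apply, Orth.polar_smul_r', Orth.polar_self', mul_eq_zero] at h1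
    rw [h1.resolve_right (mul_ne_zero h2 hw), zero_smul]
  have hcompl : ∀ {W U : Submodule F V} {w : V}, NondegOn (polarBilin Q) W → finrank F W = 2 * t + 1 → w ∈ W →
      Q w ≠ 0 → U ≤ W → Sing Q U → finrank F U = t → (∀ u ∈ U, polar Q w u = 0) →
      ∃ Z : Submodule F V, Z ≤ W ∧ NondegOn (polarBilin Q) Z ∧ finrank F Z = 2 * t ∧ PlusOn Q Z ∧
        Submodule.span F {w} ⊔ Z = W ∧ ∀ z ∈ Z, polar Q w z = 0 := fun {W U w} hWn hWd hw hq hU hs hu ho => by
    obtain ⟨hn, hd⟩ := hspan hq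
    obtain ⟨a, -, b, c'⟩ := NondegInv.exists_orth_compl (L := LinearMap.id) (polar_refl Q) (fun a b h => h)
      (fun a b => rfl) hn hWn (Inv.of_mem fun _ h => h) (Inv.of_mem fun _ h => h)
      (Submodule.span_le.2 (Set.singleton_subset_iff.2 hw))
    rw [hd, hWd] at c'
    refine ⟨_, inf_le_right, a, by omega, ⟨U, le_inf (fun u hu' => mem_perp.2 fun v hv => ?_) hU, hs, by omega⟩, b,
      fun z hz => mem_perp.1 hz.1 w (Submodule.mem_span_singleton_self w)⟩
    obtain ⟨a, rfl⟩ := Submodule.mem_span_singleton.1 hv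
    rw [map_smul, LinearMap.smul_apply, polarBilin_apply_apply, ho u hu', smul_zero]
  have hq₂0 : Q w₂ ≠ 0 := hq₂ ▸ mul_ne_zero (pow_ne_zero _ hc) hq₁
  obtain ⟨Z₁, hZ₁W, hZ₁n, hZ₁d, hZ₁p, hsup₁, hoZ₁⟩ := hcompl hn₁ hd₁ hw₁ hq₁ hU₁ hs₁ hu₁ ho₁
  obtain ⟨Z₂, hZ₂W, hZ₂n, hZ₂d, hZ₂p, hsup₂, hoZ₂⟩ := hcompl hn₂ hd₂ hw₂ hq₂0 hU₂ hs₂ hu₂ ho₂
  obtain ⟨φ, hφ⟩ := EvenForms.exists_equiv (comp_nondeg hZ₁n) (comp_nondeg hZ₂n) hZ₁d hZ₂d
    (by rw [← plusOn_iff hZ₁d, ← plusOn_iff hZ₂d]; exact iff_of_true hZ₁p hZ₂p)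
  obtain ⟨hsn, -⟩ := hspan hq₁
  let S : V →ₗ[F] V := (LinearMap.toSpanSingleton F V (c⁻¹ • w₂)).comp
    ((2 * Q w₁)⁻¹ • polarBilin Q w₁)
  obtain ⟨K, hK⟩ := Submodule.exists_isCompl Z₁
  let S' : V →ₗ[F] V := (Z₂.subtype.comp φ.toLinearMap).comp (Submodule.projectionOnto Z₁ K hK)
  have hT : ∀ (a : F) (z : Z₁), (S + S' - S'.comp ((LinearMap.toSpanSingleton F V w₁).comp
      ((2 * Q w₁)⁻¹ • polarBilin Q w₁))) (a • w₁ + z) = a • (c⁻¹ • w₂) + (φ z : V) := fun a z => by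
    have e1 : ((2 * Q w₁)⁻¹ • polarBilin Q w₁) (a • w₁ + z) = a := by
      rw [LinearMap.smul_apply, map_add, map_smul, polarBilin_apply_apply, polarBilin_apply_apply, Orth.polar_self',
        hoZ₁ z z.2, add_zero, smul_eq_mul, smul_eq_mul, mul_comm a, ← mul_assoc, inv_mul_cancel₀ (mul_ne_zero h2 hq₁),
        one_mul]
    simp only [LinearMap.sub_apply, LinearMap.add_apply, S, LinearMap.comp_apply, e1,
      LinearMap.toSpanSingleton_apply]
    rw [map_add S', map_smul, show S' (z : V) = (φ z : V) by simp [S']]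
    abel
  set T₀ := S + S' - S'.comp ((LinearMap.toSpanSingleton F V w₁).comp ((2 * Q w₁)⁻¹ • polarBilin Q w₁))
  obtain ⟨g, hg⟩ := Orth.exists_orth_comp hN (comp_nondeg hn₁) W₁.subtype (T₀.comp W₁.subtype) (fun w => rfl)
    (fun w => by
      obtain ⟨a, ha, z, hz, hw⟩ := Submodule.mem_sup.1 (show (w : V) ∈ Submodule.span F {w₁} ⊔ Z₁ by rw [hsup₁]; exact w.2)
      obtain ⟨a, rfl⟩ := Submodule.mem_span_singleton.1 ha
      show Q (T₀ (w : V)) = Q (w : V)
      have h3 : Q ((φ ⟨z, hz⟩ : Z₂) : V) = Q z := hφ ⟨z, hz⟩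
      rw [← hw, hT a ⟨z, hz⟩, QuadraticMap.map_add Q, QuadraticMap.map_add Q, Orth.polar_smul_l',
        Orth.polar_smul_l', Orth.polar_smul_l', hoZ₁ z hz, hoZ₂ _ (φ ⟨z, hz⟩).2, QuadraticMap.map_smul,
        QuadraticMap.map_smul, QuadraticMap.map_smul, hq₂, h3]
      simp only [smul_eq_mul]
      field_simp
      ring)
  refine ⟨g, Submodule.eq_of_le_of_finrank_eq ?_ ((LinearEquiv.finrank_map_eq g.1 W₁).trans (hd₁.trans hd₂.symm))⟩
  rintro _ ⟨w, hw, rfl⟩
  rw [LinearEquiv.coe_coe, show g.1 w = T₀ w from hg ⟨w, hw⟩]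
  obtain ⟨a, ha, z, hz, rfl⟩ := Submodule.mem_sup.1 (show w ∈ Submodule.span F {w₁} ⊔ Z₁ by rw [hsup₁]; exact hw)
  obtain ⟨a, rfl⟩ := Submodule.mem_span_singleton.1 ha
  rw [hT a ⟨z, hz⟩]
  exact W₂.add_mem (W₂.smul_mem _ (W₂.smul_mem _ hw₂)) (hZ₂W (φ ⟨z, hz⟩).2)

section Classes

variable {V : Type*} [AddCommGroup V] [Module F V] [FiniteDimensional F V] {Q : QuadraticForm F V}

theorem perp_perp_eq (hN : (polarBilin Q).Nondegenerate) {W : Submodule F V} (hW : NondegOn (polarBilin Q) W) :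
    perp (polarBilin Q) (perp (polarBilin Q) W) = W := by
  refine (Submodule.eq_of_le_of_finrank_eq (fun w hw => mem_perp.2 fun u hu =>
    polar_refl Q _ _ (mem_perp.1 hu w hw)) ?_).symm
  have h1 := finrank_perp hN W
  have h2 := finrank_perp hN (perp (polarBilin Q) W)
  have h3 := Submodule.finrank_le W
  omega

theorem map_perp_eq (g : orthGroup Q) {W W' : Submodule F V} (hN : (polarBilin Q).Nondegenerate)
    (hg : W.map (g.1 : V →ₗ[F] V) = W') :
    (perp (polarBilin Q) W).map (g.1 : V →ₗ[F] V) = perp (polarBilin Q) W' := by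
  refine Submodule.eq_of_le_of_finrank_eq ?_ ?_
  · rintro _ ⟨v, hv, rfl⟩
    refine mem_perp.2 fun w hw => ?_
    rw [← hg] at hw
    obtain ⟨u, hu, rfl⟩ := Submodule.mem_map.1 hw
    rw [polarBilin_apply_apply]
    have := polar_map (Q := Q) (L := (g.1 : V →ₗ[F] V)) (fun v => apply_quad g v) u v
    simp only [polarBilin_apply_apply] at this
    rw [this]
    exact mem_perp.1 hv u hu
  · rw [LinearEquiv.finrank_map_eq, finrank_perp hN, finrank_perp hN, ← hg, LinearEquiv.finrank_map_eq]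

/-- An isometry between subspaces scales discriminants by squares. -/
theorem isSquare_of_scale (h2 : (2 : F) ≠ 0) {W : Submodule F V} (hW : NondegOn (polarBilin Q) W)
    (ho : Odd (finrank F W)) {ν : F} (hν : ν ≠ 0) {φ : W →ₗ[F] W} (hφ : ∀ w : W, Q (φ w : V) = ν * Q (w : V)) :
    IsSquare ν := by
  classical
  let B : LinearMap.BilinForm F W := polarBilin (Q.comp W.subtype)
  let b := Module.finBasis F W
  have hB : B.Nondegenerate := comp_nondeg hW
  have hcomp : B.compl₁₂ φ φ = ν • B := LinearMap.ext fun u => LinearMap.ext fun v => by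
    simp only [B, LinearMap.compl₁₂_apply, LinearMap.smul_apply, polarBilin_apply_apply, polar, QuadraticMap.comp_apply,
      Submodule.subtype_apply, ← map_add, hφ, smul_eq_mul]
    ring
  have hdet : (LinearMap.toMatrix b b φ).det ^ 2 * (LinearMap.toMatrix₂ b b B).det =
      ν ^ finrank F W * (LinearMap.toMatrix₂ b b B).det := by
    have h1 := congrArg (fun C => (LinearMap.toMatrix₂ b b C).det) hcomp
    simp only [map_smul, LinearMap.toMatrix₂_compl₁₂ b b, Matrix.det_mul, Matrix.det_transpose, Matrix.det_smul,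
      Fintype.card_fin] at h1
    linear_combination h1
  have hne : (LinearMap.toMatrix₂ b b B).det ≠ 0 := by
    exact (LinearMap.separatingLeft_iff_det_ne_zero b).1 hB.1
  obtain ⟨k, hk⟩ := ho
  have h3 := (mul_right_cancel₀ hne hdet).trans (congrArg (ν ^ ·) hk)
  exact ⟨(LinearMap.toMatrix b b φ).det / ν ^ k, by
    rw [← mul_div_mul_comm, ← pow_two, h3, pow_succ, two_mul, pow_add]
    field_simp⟩

end Classes

/-- An element with odd blocks of sizes one and three fixes subspaces of only one class. -/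
theorem exists_bad_one_three (P : QuadraticForm F (ι → F)) (hQf : ∀ v, Qf v = P v)
    (hP : (polarBilin P).Nondegenerate) (hp : Odd p) {k : ℕ} (hd : finrank F (ι → F) = 2 * k + 4) (hk : Even k)
    (hreal : OrthUnipotent.Real (fun u v => polar P u v) (1 ::ₘ 3 ::ₘ Multiset.replicate k 2)) :
    ∃ L : Module.End F (ι → F), L ^ p = 1 ∧ (∀ v, P (L v) = P v) ∧ L ≠ 1 ∧
      ∀ W₁ W₂ : Submodule F (ι → F), NondegOn (polarBilin P) W₁ → NondegOn (polarBilin P) W₂ → Inv L W₁ → Inv L W₂ →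
        Odd (finrank F W₁) → finrank F W₁ = finrank F W₂ →
        ∃ g : orthGroup P, W₁.map (g.1 : (ι → F) →ₗ[F] (ι → F)) = W₂ := by
  have hp3 : 3 ≤ p := by have := (Fact.out : p.Prime).two_le; have := Nat.odd_iff.1 hp; omega
  have h2 : (2 : F) ≠ 0 := Ring.two_ne_zero (by rw [ringChar.eq F p]; omega)
  obtain ⟨x, hx, hxp, hns, hN, hrank⟩ := OrthUnipotent.exists_element hp P hQf hP (fun e he => by
    simp [Multiset.mem_replicate] at he; omega) ⟨3, by simp, by omega⟩ hreal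
  have hQL := isometry_omega P hQf hx
  set L := Matrix.toLin' (x : Matrix ι ι F) with hL
  refine ⟨L, ?_, hQL, fun h1 => hns 1 ?_, ?_⟩
  · show Matrix.toLinAlgEquiv' (x : Matrix ι ι F) ^ p = 1
    rw [← map_pow, ← Units.val_pow_eq_pow_val, hxp, Units.val_one, map_one]
  · refine Matrix.toLin'.injective ?_
    rw [← hL, h1, one_smul, Matrix.toLin'_one]; rfl
  set N := L - 1 with hNdef
  have hLN : ∀ v, L v = v + N v := fun v => by simp [hNdef]
  have hadj : ∀ v z, N z = 0 → polar P (N v) z = 0 := fun v z hz => by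
    have h := polar_map hQL v z
    rw [hLN v, hLN z, hz, add_zero, map_add, LinearMap.add_apply] at h
    exact add_left_cancel (h.trans (add_zero _).symm)
  have r1 := hrank 1
  have r2 := hrank 2
  rw [show rankSeq (1 ::ₘ 3 ::ₘ Multiset.replicate k 2) 1 = k + 2 by simp [rankSeq, Multiset.map_replicate]; omega,
    pow_one] at r1
  rw [show rankSeq (1 ::ₘ 3 ::ₘ Multiset.replicate k 2) 2 = 1 by simp [rankSeq, Multiset.map_replicate]] at r2
  have hker := LinearMap.finrank_range_add_finrank_ker N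
  rw [r1, hd] at hker
  have hR0 := finrank_map_add_inf_ker N (LinearMap.range N)
  rw [← LinearMap.range_comp, ← Module.End.mul_eq_comp, ← pow_two, r1, r2] at hR0
  set R₀ := LinearMap.range N ⊓ LinearMap.ker N with hR₀
  -- the data of an invariant subspace of dimension `4t + 1`
  have hdata : ∀ W : Submodule F (ι → F), NondegOn (polarBilin P) W → Inv L W → ∀ t, finrank F W = 4 * t + 1 →
      ∃ (w : ι → F) (U : Submodule F (ι → F)), w ∈ W ∧ U ≤ W ∧ Sing P U ∧ finrank F U = 2 * t ∧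
        (∀ u ∈ U, polar P w u = 0) ∧ N w = 0 ∧ P w ≠ 0 := fun W hWn hWi t hWd => by
    obtain ⟨ν, hνμ, hνs, hev, hνr⟩ := OrthUnipotent.exists_submultiset h2 (B := polarBilin P)
      (fun u v => by simp [polar_comm]) (polar_map hQL) hN (by simp [Multiset.mem_replicate]) hrank hWn hWi
    obtain ⟨j, rfl⟩ := one_three_blocks hνμ hev (by omega)
    have e1 := hνr 1
    have e2 := hνr 2
    rw [show rankSeq (1 ::ₘ Multiset.replicate j 2) 1 = j by simp [rankSeq, Multiset.map_replicate], pow_one] at e1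
    rw [show rankSeq (1 ::ₘ Multiset.replicate j 2) 2 = 0 by simp [rankSeq, Multiset.map_replicate]] at e2
    simp at hνs
    rw [← hNdef] at e1 e2
    have hWN : W.map N ≤ W := by
      rintro _ ⟨w, hw, rfl⟩
      exact W.sub_mem (hWi.mem hw) hw
    have hNN : ∀ w ∈ W, N (N w) = 0 := fun w hw => by
      have h4 : (N ^ 2) w ∈ W.map (N ^ 2) := ⟨w, hw, rfl⟩
      rw [Submodule.finrank_eq_zero.1 e2, Submodule.mem_bot, pow_two, Module.End.mul_apply] at h4
      exact h4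
    obtain ⟨w, hw, hNw, hPw⟩ := exists_fixed_vector hWn hWN hWd (by omega) hNN
    refine ⟨w, W.map N, hw, hWN, ?_, by omega, ?_, hNw, hPw⟩
    · rintro _ ⟨u, hu, rfl⟩
      have h5 := hadj u (N u) (hNN u hu)
      rw [Orth.polar_self'] at h5
      exact (mul_eq_zero.1 h5).resolve_left h2
    · rintro _ ⟨u, hu, rfl⟩
      rw [polar_comm]; exact hadj u w hNw
  have hR0s : ∀ y ∈ R₀, P y = 0 ∧ ∀ z, N z = 0 → polar P y z = 0 := by
    rintro y ⟨⟨v, rfl⟩, hy⟩
    refine ⟨?_, fun z hz => hadj v z hz⟩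
    have h5 := hadj v (N v) hy
    rw [Orth.polar_self'] at h5
    exact (mul_eq_zero.1 h5).resolve_left h2
  have hsame : ∀ W₁ W₂ : Submodule F (ι → F), NondegOn (polarBilin P) W₁ → NondegOn (polarBilin P) W₂ →
      Inv L W₁ → Inv L W₂ → ∀ t, finrank F W₁ = 4 * t + 1 → finrank F W₂ = 4 * t + 1 →
      ∃ g : orthGroup P, W₁.map (g.1 : (ι → F) →ₗ[F] (ι → F)) = W₂ := fun W₁ W₂ a₁ a₂ b₁ b₂ t c₁ c₂ => by
    obtain ⟨w₁, U₁, hw₁, hU₁, hs₁, hu₁, ho₁, hN₁, hq₁⟩ := hdata W₁ a₁ b₁ t c₁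
    obtain ⟨w₂, U₂, hw₂, hU₂, hs₂, hu₂, ho₂, hN₂, hq₂⟩ := hdata W₂ a₂ b₂ t c₂
    have hnot : w₁ ∉ R₀ := fun h => hq₁ (hR0s w₁ h).1
    have hsup : R₀ ⊔ Submodule.span F {w₁} = LinearMap.ker N := by
      refine Submodule.eq_of_le_of_finrank_le
        (sup_le inf_le_right (Submodule.span_le.2 (Set.singleton_subset_iff.2 hN₁))) ?_
      have h6 : Disjoint R₀ (Submodule.span F {w₁}) := Submodule.disjoint_span_singleton.2 fun h => absurd h hnot
      rw [finrank_sup_of_disjoint h6, finrank_span_singleton fun h : w₁ = 0 => hnot (by rw [h]; exact R₀.zero_mem)]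
      omega
    obtain ⟨y, hy, a, ha, hya⟩ := Submodule.mem_sup.1 (show w₂ ∈ R₀ ⊔ Submodule.span F {w₁} by
      rw [hsup]; exact hN₂)
    obtain ⟨c, rfl⟩ := Submodule.mem_span_singleton.1 ha
    have hval : P w₂ = c ^ 2 * P w₁ := by
      rw [← hya, QuadraticMap.map_add P, Orth.polar_smul_r', (hR0s y hy).1, (hR0s y hy).2 w₁ hN₁, QuadraticMap.map_smul,
        smul_eq_mul]
      ring
    refine exists_map_of_vectors hP h2 a₁ a₂ (t := 2 * t) (by omega) (by omega) hw₁ hw₂ hU₁ hU₂ hs₁ hs₂ hu₁ hu₂ ho₁ ho₂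
      hq₁ hval fun hc => hq₂ ?_
    rw [hval, hc]; ring
  intro W₁ W₂ a₁ a₂ b₁ b₂ hodd heq
  rw [Nat.odd_iff] at hodd
  by_cases h4 : finrank F W₁ % 4 = 1
  · exact hsame W₁ W₂ a₁ a₂ b₁ b₂ (finrank F W₁ / 4) (by omega) (by omega)
  · have hinj : Function.Injective L := injective_of_pow (r := p) (by
      show Matrix.toLinAlgEquiv' (x : Matrix ι ι F) ^ p = 1
      rw [← map_pow, ← Units.val_pow_eq_pow_val, hxp, Units.val_one, map_one])
    have hperp : ∀ {W : Submodule F (ι → F)}, Inv L W → Inv L (perp (polarBilin P) W) := fun {W} hW =>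
      Inv.of_mem fun v hv => mem_perp.2 fun w hw => by
        have hWeq : W.map L = W := Submodule.eq_of_le_of_finrank_eq hW
          (Submodule.equivMapOfInjective L hinj W).finrank_eq.symm
        rw [← hWeq] at hw
        obtain ⟨w', hw', rfl⟩ := Submodule.mem_map.1 hw
        rw [polar_map hQL]
        exact mem_perp.1 hv w' hw'
    have f₁ := a₁.finrank_perp
    have f₂ := a₂.finrank_perp
    have hke := Nat.even_iff.1 hk
    obtain ⟨g, hg⟩ := hsame _ _ (nondegOn_perp hP.2 a₁) (nondegOn_perp hP.2 a₂) (hperp b₁) (hperp b₂)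
      (finrank F (perp (polarBilin P) W₁) / 4) (by omega) (by omega)
    refine ⟨g, ?_⟩
    have h7 := map_perp_eq g hP hg
    rwa [perp_perp_eq hP a₁, perp_perp_eq hP a₂] at h7

/-- In minus type with `d` even some element of order `p` misses a given class. -/
theorem exists_bad_class (P : QuadraticForm F (ι → F)) (hQf : ∀ v, Qf v = P v) (hP : (polarBilin P).Nondegenerate)
    (hp : Odd p) {k : ℕ} (hd : finrank F (ι → F) = 2 * k + 4) (hk : Even k)
    (hreal : OrthUnipotent.Real (fun u v => polar P u v) (1 ::ₘ 3 ::ₘ Multiset.replicate k 2))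
    {W₀ : Submodule F (ι → F)} (hW₀ : NondegOn (polarBilin P) W₀) (ho : Odd (finrank F W₀)) :
    ∃ x : GL ι F, x ∈ Cfsg.Geo.omegaGL Qf ∧ x ^ p = 1 ∧ (∀ z : F, (x : Matrix ι ι F) ≠ z • (1 : Matrix ι ι F)) ∧
      ∀ W : Submodule F (ι → F), NondegOn (polarBilin P) W → finrank F W = finrank F W₀ →
        W.map (Matrix.toLin' (x : Matrix ι ι F)) ≤ W → ¬ Cfsg.Geo.AreIsometricFor Qf W W₀ := by
  have hp3 : 3 ≤ p := by have := (Fact.out : p.Prime).two_le; have := Nat.odd_iff.1 hp; omega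
  have h2 : (2 : F) ≠ 0 := Ring.two_ne_zero (by rw [ringChar.eq F p]; omega)
  obtain ⟨L, hL, hQL, hne, hclass⟩ := exists_bad_one_three P hQf hP hp hd hk hreal
  obtain ⟨ν, hνsq⟩ : ∃ ν : F, ¬ IsSquare ν := FiniteField.exists_nonsquare (by rw [ringChar.eq F p]; omega)
  have hν : ν ≠ 0 := fun h => hνsq (h ▸ IsSquare.zero)
  by_cases hfix : ∃ W : Submodule F (ι → F), NondegOn (polarBilin P) W ∧ Inv L W ∧ finrank F W = finrank F W₀ ∧
      Cfsg.Geo.AreIsometricFor Qf W W₀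
  swap
  · obtain ⟨x, hx, hxL, hxr, -, hns⟩ := exists_omega P hQf hP (Orth.good_of_two_ne h2) hp hL hQL hne
    exact ⟨x, hx, hxr, hns, fun W a b c hiso => hfix ⟨W, a, hxL ▸ c, b, hiso⟩⟩
  obtain ⟨W₁, hW₁n, hW₁i, hW₁d, hW₁iso⟩ := hfix
  have hd' : finrank F (ι → F) = 2 * (k + 2) := by omega
  have hneg : (polarBilin (ν • P)).Nondegenerate := by
    have : polarBilin (ν • P) = ν • polarBilin P := LinearMap.ext fun a => LinearMap.ext fun b => by
      simp [polar, mul_sub]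
    rw [this]
    exact ⟨fun a ha => hP.1 a fun b => (mul_eq_zero.1 (ha b)).resolve_left hν,
      fun a ha => hP.2 a fun b => (mul_eq_zero.1 (ha b)).resolve_left hν⟩
  obtain ⟨θ, hθ⟩ := EvenForms.exists_equiv hneg hP hd' hd' (by
    constructor <;> rintro ⟨U, hU, hUd⟩
    · exact ⟨U, fun u hu => (mul_eq_zero.1 (hU u hu)).resolve_left hν, hUd⟩
    · exact ⟨U, fun u hu => by rw [QuadraticMap.smul_apply, hU u hu, smul_zero], hUd⟩)
  have hθ' : ∀ v, P (θ v) = ν * P v := hθ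
  let L' : Module.End F (ι → F) := θ.conjAlgEquiv F L
  have hL'a : ∀ v, L' (θ v) = θ (L v) := fun v => by simp [L', LinearEquiv.conjAlgEquiv_apply]
  have hQL' : ∀ v, P (L' v) = P v := fun v => by
    obtain ⟨u, rfl⟩ := θ.surjective v
    rw [hL'a, hθ', hQL, ← hθ']
  obtain ⟨x, hx, hxL, hxr, -, hns⟩ := exists_omega P hQf hP (Orth.good_of_two_ne h2) hp (L := L')
    (by rw [← map_pow, hL, map_one]) hQL' (fun h => hne ((θ.conjAlgEquiv F).injective (h.trans (map_one _).symm)))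
  refine ⟨x, hx, hxr, hns, fun W hWn hWd hWi hiso => hνsq ?_⟩
  rw [hxL] at hWi
  have hW₂i : Inv L (W.comap (θ : (ι → F) →ₗ[F] (ι → F))) := Inv.of_mem fun v hv => by
    show θ (L v) ∈ W
    rw [← hL'a]; exact hWi ⟨_, hv, rfl⟩
  have hW₂d : finrank F (W.comap (θ : (ι → F) →ₗ[F] (ι → F))) = finrank F W := by
    rw [show W.comap (θ : (ι → F) →ₗ[F] (ι → F)) = W.map (θ.symm : (ι → F) →ₗ[F] (ι → F)) from
      (Submodule.map_equiv_eq_comap_symm θ.symm W).symm, LinearEquiv.finrank_map_eq]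
  have hpol : ∀ u v, polar P (θ u) (θ v) = ν * polar P u v := fun u v => by
    simp only [polar, ← map_add, hθ']; ring
  have hW₂n : NondegOn (polarBilin P) (W.comap (θ : (ι → F) →ₗ[F] (ι → F))) := nondegOn_iff.2 fun v hv h => by
    refine θ.injective ((map_zero θ).symm ▸ nondegOn_iff.1 hWn _ hv fun w hw => ?_)
    obtain ⟨u, rfl⟩ := θ.surjective w
    have := h u hw
    rw [polarBilin_apply_apply] at this ⊢
    rw [hpol, this, mul_zero]
  obtain ⟨g, hg⟩ := hclass W₁ _ hW₁n hW₂n hW₁i hW₂i (hW₁d ▸ ho) (hW₁d.trans (hW₂d.trans hWd).symm)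
  obtain ⟨φ₁, hφ₁⟩ := (isometric_symm_iff P hQf).1 hW₁iso
  obtain ⟨φ, hφ⟩ := (isometric_symm_iff P hQf).1 hiso
  let T : W₀ →ₗ[F] (ι → F) := (θ.toLinearMap.comp (g.1 : (ι → F) →ₗ[F] (ι → F))).comp (W₁.subtype.comp φ₁.toLinearMap)
  have hTW : ∀ w, T w ∈ W := fun w => by
    have h8 : g.1 (φ₁ w : ι → F) ∈ W.comap (θ : (ι → F) →ₗ[F] (ι → F)) := hg ▸ ⟨_, (φ₁ w).2, rfl⟩
    exact h8
  refine isSquare_of_scale h2 hW₀ ho hν (φ := φ.symm.toLinearMap.comp (T.codRestrict W hTW)) fun w => ?_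
  have h9 := hφ (φ.symm (T.codRestrict W hTW w))
  rw [φ.apply_symm_apply, LinearMap.codRestrict_apply] at h9
  rw [LinearMap.comp_apply, LinearEquiv.coe_coe, ← h9]
  show P (θ (g.1 (φ₁ w : ι → F))) = _
  rw [hθ', apply_quad g, hφ₁]

end CfsgLib.Derangements.OrthInv
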