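import Cfsg.Agent.Lib.Derangements.OrthSingularEven
import Cfsg.Agent.Lib.Derangements.OrthSingularCount
import Cfsg.Agent.Lib.Derangements.OrthQuarterTurn

/-!
# When every element of prime order fixes a totally singular subspace: even dimension
-/

set_option autoImplicit false
set_option linter.unusedSectionVars false

namespace CfsgLib.Derangements.OrthInv

open Module QuadraticMap CfsgLib.Classical CfsgLib.Derangements.LinElusive CfsgLib.Derangements.NullInv
open scoped Matrix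

variable {F : Type*} [Field F] [Fintype F] {ι : Type} [Fintype ι] [DecidableEq ι]

/-- Every element of order `r` modulo scalars fixes a totally singular `m`-space. -/
def Fixes (Qf : (ι → F) → F) (r m : ℕ) : Prop :=
  ∀ x : GL ι F, x ∈ Cfsg.Geo.omegaGL Qf →
    (∃ z : F, ((x ^ r : GL ι F) : Matrix ι ι F) = z • (1 : Matrix ι ι F)) →
    (∀ z : F, (x : Matrix ι ι F) ≠ z • (1 : Matrix ι ι F)) →
    ∃ W : Submodule F (ι → F), finrank F W = m ∧ (∀ w ∈ W, Qf w = 0) ∧
      W.map (Matrix.toLin' (x : Matrix ι ι F)) ≤ W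

variable {Qf : (ι → F) → F} {d m r s : ℕ}

theorem not_fixes (P : QuadraticForm F (ι → F)) (hQf : ∀ v, Qf v = P v) {x : GL ι F}
    (hx : x ∈ Cfsg.Geo.omegaGL Qf)
    (hz : ∃ z : F, ((x ^ r : GL ι F) : Matrix ι ι F) = z • (1 : Matrix ι ι F))
    (hns : ∀ z : F, (x : Matrix ι ι F) ≠ z • (1 : Matrix ι ι F))
    (hW : ∀ W, Inv (Matrix.toLin' (x : Matrix ι ι F)) W → Sing P W → finrank F W ≠ m) : ¬ Fixes Qf r m := fun h => by
  obtain ⟨W, hWd, hWs, hWi⟩ := h x hx hz hns
  exact hW W hWi (fun w hw => (hQf w).symm.trans (hWs w hw)) hWd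

variable [Fact r.Prime]

theorem not_fixes_of_bad (P : QuadraticForm F (ι → F)) (hQf : ∀ v, Qf v = P v) (hP : (polarBilin P).Nondegenerate)
    (h4 : Orth.Good F (ι → F)) (hr2 : Odd r) (h : Bad P r m) : ¬ Fixes Qf r m := by
  obtain ⟨L, hL, hQL, hne, hW⟩ := h
  obtain ⟨x, hx, hxL, hxr, -, hns⟩ := exists_omega P hQf hP h4 hr2 hL hQL hne
  exact not_fixes P hQf hx ⟨1, by rw [hxr, one_smul, Units.val_one]⟩ hns (hxL.symm ▸ hW)

/-- The exceptions for `r = 2`. -/
def BadTwo (q d m s : ℕ) : Prop :=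
  (s = 0 ∧ m + 1 = d ∧ q % 4 = 3) ∨ (q % 4 = 3 ∧ Odd m ∧ (s = 0 ↔ Even d) ∧ (Even d ∨ q % 8 = 7))

theorem isSquare_two_pow (hq : Fintype.card F % 4 = 3) :
    IsSquare ((2 : F) ^ d) ↔ (Even d ∨ Fintype.card F % 8 = 7) := by
  have h2 : (2 : F) ≠ 0 := Ring.two_ne_zero fun h => by
    have := FiniteField.even_card_iff_char_two.1 h
    omega
  rcases Nat.even_or_odd d with ⟨e, rfl⟩ | ⟨e, rfl⟩
  · exact iff_of_true ⟨2 ^ e, pow_add _ _ _⟩ (Or.inl ⟨e, rfl⟩)
  · simp only [Nat.not_even_two_mul_add_one, false_or]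
    rw [show Fintype.card F % 8 = 7 ↔ IsSquare (2 : F) by rw [FiniteField.isSquare_two_iff]; omega]
    constructor
    · rintro ⟨t, ht⟩
      exact ⟨t / 2 ^ e, by field_simp; linear_combination ht⟩
    · rintro ⟨t, ht⟩
      exact ⟨t * 2 ^ e, by rw [pow_succ, two_mul, pow_add]; linear_combination ((2 : F) ^ e * 2 ^ e) * ht⟩

theorem not_fixes_two (P : QuadraticForm F (ι → F)) (hQf : ∀ v, Qf v = P v) (hP : (polarBilin P).Nondegenerate)
    (h2 : (2 : F) ≠ 0) (hd : finrank F (ι → F) = 2 * d) (hd2 : 2 ≤ d) (hs : PlusOn P ⊤ ↔ s = 0)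
    (hbad : BadTwo (Fintype.card F) d m s) : ¬ Fixes Qf 2 m := by
  haveI : Fact (Nat.Prime 2) := ⟨Nat.prime_two⟩
  have hq : Fintype.card F % 4 = 3 := hbad.elim (fun h => h.2.2) fun h => h.1
  have hsq : ¬ IsSquare (-1 : F) := fun h => FiniteField.isSquare_neg_one_iff.1 h hq
  rcases hbad with ⟨hs0, hm, -⟩ | ⟨-, hmo, htype, h8⟩
  · have hab : ∀ z₁ z₂ : F, z₁ ^ 2 + 0 * z₁ * z₂ + 1 * z₂ ^ 2 = 0 → z₁ = 0 ∧ z₂ = 0 := fun z₁ z₂ h => by
      by_cases hz : z₂ = 0
      · subst hz; simpa using h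
      · exact absurd ⟨z₁ / z₂, by field_simp; linear_combination -h⟩ hsq
    have hR := Orth.minusForm_nondeg 0 (0 : F) 1 hab
    obtain ⟨T, hT⟩ := exists_embed hP hR (e := 1) (by simp) (Or.inl (by omega))
    obtain ⟨hXn, hXd, -⟩ := range_facts hR T hT
    have hXdim : finrank F (LinearMap.range T) = 2 := hXd.trans (by simp)
    have haniso : ∀ v ∈ LinearMap.range T, P v = 0 → v = 0 := by
      rintro _ ⟨w, rfl⟩ h
      rw [hT, ← Orth.minusForm_apply] at h
      simp only [Cfsg.quadFormMinus, Finset.univ_eq_empty, Finset.sum_empty, zero_add] at h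
      obtain ⟨h1, h2'⟩ := hab _ _ h
      have : w = 0 := funext fun s => by
        rcases s with (s | s) | s
        · exact s.elim0
        · exact s.elim0
        · fin_cases s <;> assumption
      rw [this, map_zero]
    have hnp : ¬ PlusOn P (LinearMap.range T) := fun ⟨U, hU, hUs, hUd⟩ => by
      have : U = ⊥ := (Submodule.eq_bot_iff U).2 fun u hu => haniso u (hU hu) (hUs u hu)
      rw [this, finrank_bot, hXdim] at hUd
      omega
    obtain ⟨x, hx, hinv, hxX, hxC⟩ := exists_omega_involution P hQf hP h2 hXn (e := 1) hXdim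
      (iff_of_false hnp (by rwa [pow_one]))
    set L := Matrix.toLin' (x : Matrix ι ι F) with hLdef
    have hCe : Even (finrank F (perp (polarBilin P) (LinearMap.range T))) := by
      have h6 := hXn.finrank_perp
      rw [hd, hXdim] at h6
      rw [Nat.even_iff]; omega
    have hCm : ¬ PlusOn P (perp (polarBilin P) (LinearMap.range T)) := fun hC => hnp <|
      ((plus_sum_iff hP hXn.isCompl (fun a ha b hb => mem_perp.1 hb a ha) hXn (nondegOn_perp hP.2 hXn)
        (by rw [hXdim]; exact even_two) hCe).1 (hs.2 hs0)).2 hC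
    obtain ⟨v, hv, hv0⟩ := Submodule.exists_mem_ne_zero_of_ne_bot (p := LinearMap.range T) fun h0 => by
      rw [h0, finrank_bot] at hXdim; omega
    have hCd := hXn.finrank_perp
    rw [hd, hXdim] at hCd
    obtain ⟨w, hw, hw0⟩ := Submodule.exists_mem_ne_zero_of_ne_bot (p := perp (polarBilin P) (LinearMap.range T))
      fun h0 => by rw [h0, finrank_bot] at hCd; omega
    refine not_fixes P hQf hx ⟨1, ?_⟩ (fun z hz => ?_) fun W hW hWs hWd => ?_
    · rw [one_smul, Units.val_pow_eq_pow_val, pow_two]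
      refine Matrix.ext_of_mulVec_single fun i => ?_
      have := hinv (Pi.single i 1)
      rw [hLdef, Matrix.toLin'_apply, Matrix.toLin'_apply, Matrix.mulVec_mulVec] at this
      rw [this, Matrix.one_mulVec]
    · have h1 := hxX v hv
      have h3 := hxC w hw
      rw [hLdef, hz, map_smul, Matrix.toLin'_one, LinearMap.smul_apply, LinearMap.id_apply] at h1 h3
      have hz1 : z = 1 := smul_left_injective F hw0 (h3.trans (one_smul F w).symm)
      rw [hz1, one_smul, eq_neg_iff_add_eq_zero, ← two_smul F] at h1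
      exact hv0 ((smul_eq_zero.1 h1).resolve_left h2)
    · have hle : W ≤ perp (polarBilin P) (LinearMap.range T) := fun w hw => by
        obtain ⟨a, ha, c, hc, rfl⟩ := Submodule.mem_sup.1 (hXn.isCompl.sup_eq_top ▸ Submodule.mem_top (x := w))
        have h1 : L (a + c) = -a + c := by rw [map_add, hLdef, hxX a ha, hxC c hc]
        have h2a : (2 : F) • a ∈ W := by
          have h3 := W.sub_mem hw (hW.mem hw)
          rwa [h1, show a + c - (-a + c) = (2 : F) • a by rw [two_smul]; abel] at h3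
        have h4 : (2 : F) • a = 0 := haniso _ (Submodule.smul_mem _ _ ha) (hWs _ h2a)
        rw [(smul_eq_zero.1 h4).resolve_left h2, zero_add]
        exact hc
      have h5 := sing_lt_of_not_plus (nondegOn_perp hP.2 hXn) hCe hCm hle hWs
      omega
  · obtain ⟨x, hx, hx2⟩ := exists_omega_quarter P hQf hP h2 hsq (by omega) hd (hs.trans htype)
      ((isSquare_two_pow hq).2 h8)
    refine not_fixes P hQf hx ⟨-1, ?_⟩ (fun z hz => hsq ⟨z, ?_⟩) fun W hW _ hWd => ?_
    · rw [Units.val_pow_eq_pow_val, pow_two]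
      refine Matrix.ext_of_mulVec_single fun i => ?_
      have := hx2 (Pi.single i 1)
      rw [Matrix.toLin'_apply, Matrix.toLin'_apply, Matrix.mulVec_mulVec] at this
      rw [this, neg_one_smul, Matrix.neg_mulVec, Matrix.one_mulVec]
    · haveI : Nontrivial (ι → F) := Module.nontrivial_of_finrank_pos (R := F) (by omega)
      obtain ⟨u, hu⟩ := exists_ne (0 : ι → F)
      have h := hx2 u
      rw [hz, map_smul, Matrix.toLin'_one] at h
      simp only [LinearMap.smul_apply, LinearMap.id_apply, smul_smul] at h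
      exact (smul_left_injective F hu (h.trans (neg_one_smul F u).symm)).symm
    · have hdvd := kummer_dvd (r := 2) (c := (-1 : F)) (fun e he => hsq ⟨e, by rw [← he, _root_.sq]⟩)
        (L := Matrix.toLin' (x : Matrix ι ι F)) (LinearMap.ext fun v => by
          rw [pow_two, Module.End.mul_apply, hx2, Module.algebraMap_end_apply, neg_one_smul]) hW
      rw [hWd] at hdvd
      exact Nat.not_even_iff_odd.2 hmo (even_iff_two_dvd.2 hdvd)

theorem fixes_two (P : QuadraticForm F (ι → F)) (hQf : ∀ v, Qf v = P v) (hP : (polarBilin P).Nondegenerate)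
    (h2 : (2 : F) ≠ 0) (hd : finrank F (ι → F) = 2 * d) (hmd : m + 1 ≤ d) (hs : PlusOn P ⊤ ↔ s = 0) (hs1 : s ≤ 1)
    (hgood : ¬ BadTwo (Fintype.card F) d m s) : Fixes Qf 2 m := by
  intro x hx hz _
  obtain ⟨z, hz⟩ := hz
  set L := Matrix.toLin' (x : Matrix ι ι F) with hLdef
  have hQL := isometry_omega P hQf hx
  have hLL : ∀ v, L (L v) = z • v := fun v => by
    rw [hLdef, Matrix.toLin'_apply, Matrix.toLin'_apply, Matrix.mulVec_mulVec, ← Units.val_mul, ← pow_two, hz,
      Matrix.smul_mulVec, Matrix.one_mulVec]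
  have hzz : z * z = 1 := scalar_sq hP hd (by omega) (M := L * L)
    (fun v => by rw [Module.End.mul_apply, hQL, hQL])
    (LinearMap.ext fun v => by rw [Module.End.mul_apply, hLL]; rfl)
  have hodd : Fintype.card F % 2 = 1 := FiniteField.odd_card_of_char_ne_two fun hc => h2 (by
    haveI : CharP F 2 := ringChar.of_eq hc
    exact CharP.cast_eq_zero F 2)
  rw [BadTwo] at hgood
  have hWfinal : (∃ W : Submodule F (ι → F), finrank F W = m ∧ Sing P W ∧ Inv L W) →
      ∃ W : Submodule F (ι → F), finrank F W = m ∧ (∀ w ∈ W, Qf w = 0) ∧ W.map L ≤ W :=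
    fun ⟨W, h1, h3, h4⟩ => ⟨W, h1, fun w hw => (hQf w).trans (h3 w hw), h4⟩
  rcases mul_self_eq_one_iff.1 hzz with rfl | rfl
  · have hinv : ∀ v, L (L v) = v := fun v => (hLL v).trans (one_smul F v)
    refine hWfinal (exists_sing_two_pos hP h2 hd hQL hinv (omega_involution P hQf hP h2 hx hinv) ?_)
    rcases Nat.lt_or_ge (m + 1) d with h | h
    · exact Or.inl h
    by_cases hs0 : s = 0
    · right; right
      exact ⟨FiniteField.isSquare_neg_one_iff.2 fun h3 => hgood (Or.inl ⟨hs0, by omega, h3⟩), hmd⟩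
    · exact Or.inr (Or.inl ⟨fun hp => hs0 (hs.1 hp), hmd⟩)
  · have hneg : ∀ v, L (L v) = -v := fun v => (hLL v).trans (neg_one_smul F v)
    by_cases hsq : IsSquare (-1 : F)
    · exact hWfinal ((exists_sing_two_split hP h2 hd hQL hneg hsq).2 (by omega))
    · have hq : Fintype.card F % 4 = 3 := by
        by_contra h
        exact hsq (FiniteField.isSquare_neg_one_iff.2 h)
      obtain ⟨hp, hp2⟩ := omega_quarter P hQf hP h2 hsq hd hx hneg
      refine hWfinal (exists_sing_two_nonsplit hP h2 hd hQL hneg hsq ?_ hmd)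
      by_contra hm
      exact hgood (Or.inr ⟨hq, Nat.not_even_iff_odd.1 hm, hs.symm.trans hp, (isSquare_two_pow hq).1 hp2⟩)

/-- The conditions for odd `r`. -/
def GoodOdd (r i d m s : ℕ) : Prop :=
  (Odd i ∧ i ≤ m ∧ ((s = 0 ∧ m % i ≤ d % i) ∨ (s = 1 ∧ (d % i = 0 ∨ m % i < d % i)))) ∨
  (Even i ∧ i ≤ m ∧ (r - 1) / i + 2 * (m / i) ≤ d / (i / 2) ∧
    ((m % i ≤ i / 2 ∧ d % (i / 2) = 0 ∧ Odd (d / (i / 2) + s) ∧ (r - 1) / i + 2 * (m / i) < d / (i / 2)) ∨
      (m % i ≤ d % (i / 2) ∧ Even (d / (i / 2) + s)) ∨ (m % i < d % (i / 2) ∧ Odd (d / (i / 2) + s))))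

/-- The criterion. -/
theorem fixes_iff {p : ℕ} [Fact p.Prime] [CharP F p] (P : QuadraticForm F (ι → F)) (hQf : ∀ v, Qf v = P v)
    (hP : (polarBilin P).Nondegenerate) (h4 : Orth.Good F (ι → F)) (hd : finrank F (ι → F) = 2 * d) (hd2 : 2 ≤ d)
    (hmd : m + 1 ≤ d) (hs : PlusOn P ⊤ ↔ s = 0) (hs1 : s ≤ 1)
    (hcount : r ∣ Nat.card {W : Submodule F (ι → F) // finrank F W = m ∧ ∀ w ∈ W, Qf w = 0}) :
    Fixes Qf r m ↔ ((r = 2 ∧ p ≠ 2 ∧ ¬ BadTwo (Fintype.card F) d m s) ∨
      (r ≠ p ∧ 2 < r ∧ GoodOdd r (orderOf (Fintype.card F : ZMod r)) d m s)) := by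
  have hrp : r.Prime := Fact.out
  simp only [hQf] at hcount
  have hc : CountDvd P r d m := exists_dvd_even (r := r) hP hd hmd hcount
  have hrne : r ≠ p := fun h => by
    obtain ⟨k, -, hk⟩ := FiniteField.card F p
    have h0 : (Fintype.card F : ZMod r) = 0 := by
      rw [ZMod.natCast_eq_zero_iff, hk, h]
      exact dvd_pow_self p k.ne_zero
    obtain ⟨j, hj, hj1, hj2⟩ := hc
    rw [h0, zero_pow (by omega : d - j ≠ 0), zero_pow (by omega : d - 1 - j ≠ 0)] at hj1 hj2
    by_cases hp : PlusOn P ⊤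
    · rcases hj1 hp with h1 | h1
      · exact zero_ne_one h1
      · exact one_ne_zero (neg_eq_zero.1 h1.symm)
    · rcases hj2 hp with h1 | h1
      · exact one_ne_zero (neg_eq_zero.1 h1.symm)
      · exact zero_ne_one h1
  have hr : (r : F) ≠ 0 := fun h => hrne
    ((Nat.prime_dvd_prime_iff_eq Fact.out hrp).1 ((CharP.cast_eq_zero_iff F p r).1 h)).symm
  rcases hrp.eq_two_or_odd' with hr2 | hr2
  · subst hr2
    have hp2 : p ≠ 2 := Ne.symm hrne
    have h2 : (2 : F) ≠ 0 := by exact_mod_cast hr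
    simp only [hp2, ne_eq, not_false_iff, true_and, lt_irrefl, false_and, and_false, or_false]
    exact ⟨fun h hbad => not_fixes_two P hQf hP h2 hd hd2 hs hbad h,
      fun h => fixes_two P hQf hP h2 hd hmd hs hs1 h⟩
  have hr3 : 2 < r := by have := hrp.two_le; have := Nat.odd_iff.1 hr2; omega
  simp only [show r ≠ 2 by omega, hrne, ne_eq, not_false_iff, false_and, false_or, true_and, hr3]
  set i := orderOf (Fintype.card F : ZMod r) with hi
  have hipos : 0 < i := orderOf_pos_iff.2 (isOfFinOrder_iff_pow_eq_one.2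
    ⟨r - 1, by omega, ZMod.pow_card_sub_one_eq_one (orderOf_card_pos hr)⟩)
  constructor
  · intro hall
    by_contra hbad
    rw [GoodOdd] at hbad
    push Not at hbad
    refine not_fixes_of_bad P hQf hP h4 hr2 ?_ hall
    rcases Nat.even_or_odd i with he | ho
    · obtain ⟨h, hh⟩ := he
      have h2h : i = 2 * h := by omega
      refine bad_of_even hr hr2 hP hd hs hs1 hmd (hi.symm.trans h2h) (by omega) hc ?_
      rintro ⟨h1, h3, h5⟩
      have := hbad.2 ⟨h, hh⟩
      rw [h2h, Nat.mul_div_cancel_left _ two_pos] at this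
      rcases h5 with ⟨a1, a2, a3, a4⟩ | ⟨a1, a2⟩ | ⟨a1, a2⟩
      · exact absurd ((this h1 h3).1 a1 a2 a3) (Nat.not_le.2 a4)
      · exact (this h1 h3).2.1 a1 a2
      · exact (this h1 h3).2.2 a1 a2
    · refine bad_of_odd hr hr2 hP hd hs hs1 hmd hi.symm ho hc fun hh => ?_
      obtain ⟨h1, h3 | ⟨h3, h5⟩⟩ := hh
      · exact absurd h3.2 (Nat.not_le.2 ((hbad.1 ho h1).1 h3.1))
      · rcases h5 with h5 | h5
        · exact ((hbad.1 ho h1).2 h3).1 h5
        · exact absurd h5 (Nat.not_lt.2 ((hbad.1 ho h1).2 h3).2)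
  · intro hgood x hx hz _
    obtain ⟨z, hz⟩ := hz
    set M := Matrix.toLin' (x : Matrix ι ι F) with hMdef
    have hQM := isometry_omega P hQf hx
    have hMr : M ^ r = z • (1 : Module.End F (ι → F)) := by
      change Matrix.toLinAlgEquiv' (x : Matrix ι ι F) ^ r = _
      rw [← map_pow, ← Units.val_pow_eq_pow_val, hz, map_smul, map_one]
    have hzz : z * z = 1 := scalar_sq hP hd (by omega) (M := M ^ r) (pow_quad hQM r) hMr
    have hQL : ∀ v, P ((z • M) v) = P v := fun v => by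
      rw [LinearMap.smul_apply, QuadraticMap.map_smul, hQM, smul_eq_mul, hzz, one_mul]
    have hLr : (z • M) ^ r = 1 := by
      obtain ⟨k, hk⟩ := hr2
      rw [smul_pow, hMr, smul_smul, ← pow_succ, show r + 1 = 2 * (k + 1) by omega, pow_mul, pow_two, hzz, one_pow,
        one_smul]
    have hres : ∃ W : Submodule F (ι → F), finrank F W = m ∧ Sing P W ∧ Inv (z • M) W := by
      rcases hgood with ⟨ho, -, hcase⟩ | ⟨⟨h, hh⟩, -, hcnt, hcase⟩
      · exact exists_sing_of_odd hr hr2 hP hd hs hs1 hmd hQL hLr hi.symm ho hcase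
      · have h2h : i = 2 * h := by omega
        rw [h2h, Nat.mul_div_cancel_left _ two_pos] at hcnt hcase
        exact exists_sing_of_even hr hr2 hP hd hs hs1 hQL hLr (hi.symm.trans h2h) (by omega) hcnt hcase
    obtain ⟨W, hWd, hWs, hWi⟩ := hres
    refine ⟨W, hWd, fun w hw => (hQf w).trans (hWs w hw), Inv.of_mem (L := M) fun w hw => ?_⟩
    have h := W.smul_mem z (hWi.mem hw)
    rwa [LinearMap.smul_apply, smul_smul, hzz, one_smul] at h

end CfsgLib.Derangements.OrthInv
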