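import Mathlib

/-!
# Pair stabilisers in finite doubly transitive groups

Cardinalities of the stabilisers of two and three points, with the elementary inequalities used
in the bound on the number of derangements of a doubly transitive group.
-/

set_option autoImplicit false

namespace CfsgLib.Derangements.PairStab

open MulAction

variable {G Ω : Type*} [Group G] [MulAction G Ω]

/-- Any ordered pair of distinct points can be moved to any other one. -/
def Two (G Ω : Type*) [Group G] [MulAction G Ω] : Prop :=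
  ∀ a b c d : Ω, a ≠ b → c ≠ d → ∃ g : G, g • a = c ∧ g • b = d

/-- The stabiliser of two points. -/
def pst (G : Type*) {Ω : Type*} [Group G] [MulAction G Ω] (x y : Ω) : Subgroup G :=
  stabilizer G x ⊓ stabilizer G y

/-- The stabiliser of three points. -/
def tst (G : Type*) {Ω : Type*} [Group G] [MulAction G Ω] (x y z : Ω) : Subgroup G :=
  pst G x y ⊓ stabilizer G z

theorem mem_pst {x y : Ω} {g : G} : g ∈ pst G x y ↔ g • x = x ∧ g • y = y := by
  simp [pst, Subgroup.mem_inf, mem_stabilizer_iff]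

theorem mem_tst {x y z : Ω} {g : G} :
    g ∈ tst G x y z ↔ g • x = x ∧ g • y = y ∧ g • z = z := by
  simp [tst, pst, Subgroup.mem_inf, mem_stabilizer_iff, and_assoc]

theorem pst_comm (x y : Ω) : pst G x y = pst G y x := inf_comm _ _

theorem tst_swap12 (x y z : Ω) : tst G x y z = tst G y x z := by
  rw [tst, tst, pst_comm]

theorem tst_swap23 (x y z : Ω) : tst G x y z = tst G x z y := by
  ext g; simp only [mem_tst]; tauto

theorem tst_le (x y z : Ω) : tst G x y z ≤ pst G x y := inf_le_left

theorem tst_eq_pst_iff {x y z : Ω} :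
    tst G x y z = pst G x y ↔ ∀ g ∈ pst G x y, g • z = z := by
  rw [tst, inf_eq_left]
  exact ⟨fun h g hg => h hg, fun h g hg => h g hg⟩

theorem tst_eq_pst_left (x y : Ω) : tst G x y x = pst G x y :=
  tst_eq_pst_iff.2 fun _ hg => (mem_pst.1 hg).1

theorem tst_eq_pst_right (x y : Ω) : tst G x y y = pst G x y :=
  tst_eq_pst_iff.2 fun _ hg => (mem_pst.1 hg).2

theorem card_pst_smul (g : G) (x y : Ω) :
    Nat.card (pst G (g • x) (g • y)) = Nat.card (pst G x y) := by
  refine Nat.card_congr (Equiv.subtypeEquiv (MulAut.conj g⁻¹).toEquiv fun u => ?_)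
  simp [mem_pst, mul_smul, inv_smul_eq_iff]

theorem card_tst_smul (g : G) (x y z : Ω) :
    Nat.card (tst G (g • x) (g • y) (g • z)) = Nat.card (tst G x y z) := by
  refine Nat.card_congr (Equiv.subtypeEquiv (MulAut.conj g⁻¹).toEquiv fun u => ?_)
  simp [mem_tst, mul_smul, inv_smul_eq_iff]

variable [Finite G]

theorem card_pst_const (h2 : Two G Ω) {a b x y : Ω} (hab : a ≠ b) (hxy : x ≠ y) :
    Nat.card (pst G x y) = Nat.card (pst G a b) := by
  obtain ⟨g, rfl, rfl⟩ := h2 a b x y hab hxy
  exact card_pst_smul g a b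

theorem pos_pst (x y : Ω) : 0 < Nat.card (pst G x y) := Nat.card_pos

theorem pos_tst (x y z : Ω) : 0 < Nat.card (tst G x y z) := Nat.card_pos

theorem tst_dvd (x y z : Ω) : Nat.card (tst G x y z) ∣ Nat.card (pst G x y) :=
  Subgroup.card_dvd_of_le (tst_le x y z)

theorem tst_card_le (x y z : Ω) : Nat.card (tst G x y z) ≤ Nat.card (pst G x y) :=
  Nat.le_of_dvd (pos_pst x y) (tst_dvd x y z)

theorem tst_card_eq_iff {x y z : Ω} :
    Nat.card (tst G x y z) = Nat.card (pst G x y) ↔ ∀ g ∈ pst G x y, g • z = z := by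
  rw [← tst_eq_pst_iff]
  exact ⟨fun h => Subgroup.eq_of_le_of_card_ge (tst_le x y z) h.ge, fun h => by rw [h]⟩

theorem two_mul_tst_card_le {x y z : Ω} (h : ¬ ∀ g ∈ pst G x y, g • z = z) :
    2 * Nat.card (tst G x y z) ≤ Nat.card (pst G x y) := by
  obtain ⟨c, hc⟩ := tst_dvd (G := G) x y z
  rcases lt_trichotomy c 1 with h0 | h1 | h1
  · have : c = 0 := by omega
    rw [this, mul_zero] at hc
    exact absurd hc (pos_pst x y).ne'
  · exact absurd (tst_card_eq_iff.1 (by rw [hc, h1, mul_one])) h
  · rw [hc, mul_comm]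
    exact Nat.mul_le_mul le_rfl (by omega)

/-- The size of a product of two subgroups of `H` is at most the order of `H`. -/
theorem card_mul_card_le {H A B : Subgroup G} (hA : A ≤ H) (hB : B ≤ H) :
    Nat.card A * Nat.card B ≤ Nat.card H * Nat.card ↥(A ⊓ B) := by
  have e1 : Nat.card ↥(A ⊓ B) * B.relIndex A = Nat.card A := by
    rw [← Subgroup.inf_relIndex_left, Subgroup.relIndex,
      ← Nat.card_congr (Subgroup.subgroupOfEquivOfLe (inf_le_left : A ⊓ B ≤ A)).toEquiv]
    exact Subgroup.card_mul_index _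
  have e2 : Nat.card B * B.relIndex H = Nat.card H := by
    rw [Subgroup.relIndex, ← Nat.card_congr (Subgroup.subgroupOfEquivOfLe hB).toEquiv]
    exact Subgroup.card_mul_index _
  have hne : B.relIndex H ≠ 0 := by
    intro h
    rw [h, mul_zero] at e2
    exact absurd e2.symm (Nat.card_pos (α := H)).ne'
  have hle : B.relIndex A ≤ B.relIndex H := Subgroup.relIndex_le_of_le_right hA hne
  calc Nat.card A * Nat.card B = Nat.card ↥(A ⊓ B) * (Nat.card B * B.relIndex A) := by
        rw [← e1]; ring
    _ ≤ Nat.card ↥(A ⊓ B) * (Nat.card B * B.relIndex H) :=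
        Nat.mul_le_mul le_rfl (Nat.mul_le_mul le_rfl hle)
    _ = Nat.card H * Nat.card ↥(A ⊓ B) := by rw [e2, mul_comm]

/-- Orbit-stabiliser for the orbit of `z` under the stabiliser of `x` and `y`. -/
theorem card_orbit_mul_tst (x y z : Ω) :
    Nat.card (orbit (pst G x y) z) * Nat.card (tst G x y z) = Nat.card (pst G x y) := by
  have hs : (stabilizer (pst G x y) z) = (tst G x y z).subgroupOf (pst G x y) := by
    ext g
    rw [mem_stabilizer_iff, Subgroup.mem_subgroupOf, mem_tst]
    exact ⟨fun h => ⟨(mem_pst.1 g.2).1, (mem_pst.1 g.2).2, h⟩, fun h => h.2.2⟩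
  rw [← Nat.card_congr (Subgroup.subgroupOfEquivOfLe (tst_le x y z)).toEquiv, ← hs,
    ← Nat.card_prod]
  exact Nat.card_congr (orbitProdStabilizerEquivGroup (pst G x y) z)

theorem tst_card_smul_of_mem {x y : Ω} {g : G} (hg : g ∈ pst G x y) (z : Ω) :
    Nat.card (tst G x y (g • z)) = Nat.card (tst G x y z) := by
  conv_lhs => rw [← (mem_pst.1 hg).1, ← (mem_pst.1 hg).2]
  exact card_tst_smul g x y z

end CfsgLib.Derangements.PairStab
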