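import Cfsg.Agent.Lib.Derangements.PairStabLines

/-!
# Planes with lines of three points

If in a doubly transitive group the stabiliser of two points fixes exactly three points and
has all its other orbits of size two, then no plane has seven points: the involutions attached
to the lines of a Fano plane would split its seven lines into pencils of three.
-/

set_option autoImplicit false

namespace CfsgLib.Derangements.PairStab

open MulAction Finset

/-- There is no configuration of seven points with lines of size three and, for each line, an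
involution fixing exactly this line, commuting with the involution of each invariant line. -/
theorem no_fano_involutions {Ω : Type*} [DecidableEq Ω] (P : Finset Ω) (hP : P.card = 7)
    (line : Ω → Ω → Finset Ω)
    (hmem : ∀ x ∈ P, ∀ y ∈ P, x ≠ y → x ∈ line x y ∧ y ∈ line x y ∧ line x y ⊆ P ∧
      (line x y).card = 3)
    (huniq : ∀ x ∈ P, ∀ y ∈ P, x ≠ y → ∀ u ∈ line x y, ∀ v ∈ line x y, u ≠ v →
      line u v = line x y)
    (τ : Finset Ω → Ω → Ω)
    (hmap : ∀ x ∈ P, ∀ y ∈ P, x ≠ y → ∀ z ∈ P, τ (line x y) z ∈ P)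
    (hinv : ∀ x ∈ P, ∀ y ∈ P, x ≠ y → ∀ z ∈ P, τ (line x y) (τ (line x y) z) = z)
    (hfix : ∀ x ∈ P, ∀ y ∈ P, x ≠ y → ∀ z ∈ P, (τ (line x y) z = z ↔ z ∈ line x y))
    (hline : ∀ x ∈ P, ∀ y ∈ P, x ≠ y → ∀ u ∈ P, ∀ v ∈ P, u ≠ v →
      line (τ (line x y) u) (τ (line x y) v) = (line u v).image (τ (line x y)))
    (hcomm : ∀ x ∈ P, ∀ y ∈ P, x ≠ y → ∀ u ∈ P, ∀ v ∈ P, u ≠ v →
      (line u v).image (τ (line x y)) = line u v →
      ∀ z ∈ P, τ (line x y) (τ (line u v) z) = τ (line u v) (τ (line x y) z)) : False := by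
  set Ls := P.offDiag.image (fun p => line p.1 p.2) with hLs
  have memLs : ∀ L, L ∈ Ls ↔ ∃ x ∈ P, ∃ y ∈ P, x ≠ y ∧ line x y = L := by
    intro L
    simp only [hLs, mem_image, mem_offDiag, Prod.exists]
    constructor
    · rintro ⟨x, y, ⟨hx, hy, hxy⟩, rfl⟩; exact ⟨x, hx, y, hy, hxy, rfl⟩
    · rintro ⟨x, hx, y, hy, hxy, rfl⟩; exact ⟨x, y, ⟨hx, hy, hxy⟩, rfl⟩
  have hsub : ∀ L ∈ Ls, L ⊆ P ∧ L.card = 3 := fun L hL => by
    obtain ⟨x, hx, y, hy, hxy, rfl⟩ := (memLs L).1 hL
    exact (hmem x hx y hy hxy).2.2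
  have hdet : ∀ L ∈ Ls, ∀ u ∈ L, ∀ v ∈ L, u ≠ v → line u v = L := fun L hL => by
    obtain ⟨x, hx, y, hy, hxy, rfl⟩ := (memLs L).1 hL
    exact huniq x hx y hy hxy
  have h2pt : ∀ L ∈ Ls, ∀ M ∈ Ls, L ≠ M → (L ∩ M).card ≤ 1 := by
    intro L hL M hM hne
    refine card_le_one.2 fun u hu v hv => ?_
    by_contra huv
    rw [mem_inter] at hu hv
    exact hne ((hdet L hL u hu.1 v hv.1 huv).symm.trans (hdet M hM u hu.2 v hv.2 huv))
  -- the pencil of a point has three lines
  have hpencil : ∀ w ∈ P, (Ls.filter (w ∈ ·)).card = 3 := by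
    intro w hw
    have hU : P.erase w = (Ls.filter (w ∈ ·)).biUnion (fun L => L.erase w) := by
      ext y
      simp only [mem_erase, mem_biUnion, mem_filter]
      constructor
      · rintro ⟨hyw, hy⟩
        exact ⟨line w y, ⟨(memLs _).2 ⟨w, hw, y, hy, hyw.symm, rfl⟩,
          (hmem w hw y hy hyw.symm).1⟩, hyw, (hmem w hw y hy hyw.symm).2.1⟩
      · rintro ⟨L, ⟨hL, -⟩, hyw, hy⟩
        exact ⟨hyw, (hsub L hL).1 hy⟩
    have hd : (↑(Ls.filter (w ∈ ·)) : Set (Finset Ω)).PairwiseDisjoint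
        (fun L => L.erase w) := by
      intro L hL M hM hne
      simp only [mem_coe, mem_filter] at hL hM
      rw [Function.onFun, disjoint_left]
      intro y hy hy'
      rw [mem_erase] at hy hy'
      exact hne ((hdet L hL.1 w hL.2 y hy.2 hy.1.symm).symm.trans
        (hdet M hM.1 w hM.2 y hy'.2 hy'.1.symm))
    have := congrArg card hU
    rw [card_erase_of_mem hw, hP, card_biUnion hd] at this
    rw [sum_congr rfl (g := fun _ => 2) fun L hL => by
      rw [mem_filter] at hL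
      rw [card_erase_of_mem hL.2, (hsub L hL.1).2]] at this
    simp at this
    omega
  -- two lines meet
  have hmeets : ∀ L ∈ Ls, ∀ M ∈ Ls, (L ∩ M).Nonempty := by
    intro L hL M hM
    by_contra hne
    rw [not_nonempty_iff_eq_empty] at hne
    obtain ⟨w, hw⟩ : L.Nonempty := card_pos.1 (by rw [(hsub L hL).2]; omega)
    have hwP := (hsub L hL).1 hw
    have hwM : w ∉ M := fun h => by
      have : w ∈ L ∩ M := mem_inter.2 ⟨hw, h⟩
      simp [hne] at this
    have key : (insert L (M.image (fun m => line w m))).card ≤ (Ls.filter (w ∈ ·)).card := by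
      refine card_le_card (insert_subset_iff.2 ⟨mem_filter.2 ⟨hL, hw⟩, fun N hN => ?_⟩)
      obtain ⟨m, hm, rfl⟩ := mem_image.1 hN
      have hmw : w ≠ m := fun h => hwM (h ▸ hm)
      have hmP := (hsub M hM).1 hm
      exact mem_filter.2 ⟨(memLs _).2 ⟨w, hwP, m, hmP, hmw, rfl⟩,
        (hmem w hwP m hmP hmw).1⟩
    rw [card_insert_of_notMem, card_image_of_injOn, (hsub M hM).2, hpencil w hwP] at key
    · omega
    · intro m hm m' hm' e
      by_contra hmm
      have hmw : w ≠ m := fun h => hwM (h ▸ hm)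
      have hmw' : w ≠ m' := fun h => hwM (h ▸ hm')
      have hmP := (hsub M hM).1 hm
      have hmP' := (hsub M hM).1 hm'
      have := huniq w hwP m hmP hmw m (hmem w hwP m hmP hmw).2.1 m'
        (by have h := (hmem w hwP m' hmP' hmw').2.1
            simp only at e
            rwa [← e] at h) hmm
      rw [hdet M hM m hm m' hm' hmm] at this
      exact hwM (this ▸ (hmem w hwP m hmP hmw).1)
    · intro h
      obtain ⟨m, hm, hLm⟩ := mem_image.1 h
      have hmw : w ≠ m := fun h => hwM (h ▸ hm)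
      have : m ∈ L ∩ M :=
        mem_inter.2 ⟨hLm ▸ (hmem w hwP m ((hsub M hM).1 hm) hmw).2.1, hm⟩
      simp [hne] at this
  -- basic properties of the involutions
  have tmap : ∀ L ∈ Ls, ∀ z ∈ P, τ L z ∈ P := fun L hL => by
    obtain ⟨x, hx, y, hy, hxy, rfl⟩ := (memLs L).1 hL; exact hmap x hx y hy hxy
  have tinv : ∀ L ∈ Ls, ∀ z ∈ P, τ L (τ L z) = z := fun L hL => by
    obtain ⟨x, hx, y, hy, hxy, rfl⟩ := (memLs L).1 hL; exact hinv x hx y hy hxy
  have tfix : ∀ L ∈ Ls, ∀ z ∈ P, (τ L z = z ↔ z ∈ L) := fun L hL => by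
    obtain ⟨x, hx, y, hy, hxy, rfl⟩ := (memLs L).1 hL; exact hfix x hx y hy hxy
  have tline : ∀ L ∈ Ls, ∀ u ∈ P, ∀ v ∈ P, u ≠ v →
      line (τ L u) (τ L v) = (line u v).image (τ L) := fun L hL => by
    obtain ⟨x, hx, y, hy, hxy, rfl⟩ := (memLs L).1 hL; exact hline x hx y hy hxy
  have tcomm : ∀ L ∈ Ls, ∀ M ∈ Ls, M.image (τ L) = M →
      ∀ z ∈ P, τ L (τ M z) = τ M (τ L z) := fun L hL M hM => by
    obtain ⟨x, hx, y, hy, hxy, rfl⟩ := (memLs L).1 hL
    obtain ⟨u, hu, v, hv, huv, rfl⟩ := (memLs M).1 hM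
    exact hcomm x hx y hy hxy u hu v hv huv
  -- the line through a point and its image is invariant
  have hswap : ∀ L ∈ Ls, ∀ z ∈ P, z ∉ L → (line z (τ L z)).image (τ L) = line z (τ L z) ∧
      line z (τ L z) ∈ Ls ∧ line z (τ L z) ≠ L ∧ z ∈ line z (τ L z) := by
    intro L hL z hz hzL
    have hne : z ≠ τ L z := fun h => hzL ((tfix L hL z hz).1 h.symm)
    have hm := hmem z hz _ (tmap L hL z hz) hne
    refine ⟨?_, (memLs _).2 ⟨z, hz, _, tmap L hL z hz, hne, rfl⟩,
      fun h => hzL (h ▸ hm.1), hm.1⟩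
    rw [← tline L hL z hz _ (tmap L hL z hz) hne, tinv L hL z hz]
    exact huniq z hz _ (tmap L hL z hz) hne _ hm.2.1 _ hm.1 hne.symm
  -- invariant lines meet the axis in one common point
  have hmeetfix : ∀ L ∈ Ls, ∀ M ∈ Ls, ∀ N ∈ Ls, M.image (τ L) = M → N.image (τ L) = N →
      M ≠ N → ∀ w ∈ M ∩ N, w ∈ L := by
    intro L hL M hM N hN hMi hNi hne w hw
    rw [mem_inter] at hw
    have h1 : τ L w ∈ M := hMi ▸ mem_image_of_mem _ hw.1
    have h2 : τ L w ∈ N := hNi ▸ mem_image_of_mem _ hw.2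
    exact (tfix L hL w ((hsub M hM).1 hw.1)).1 (card_le_one.1 (h2pt M hM N hN hne) _
      (mem_inter.2 ⟨h1, h2⟩) _ (mem_inter.2 hw))
  have hcen : ∀ L ∈ Ls, ∀ M ∈ Ls, M.image (τ L) = M → M ≠ L →
      ∀ N ∈ Ls, N.image (τ L) = N → N ≠ L → ∀ w ∈ L ∩ M, w ∈ N := by
    intro L hL M hM hMi hML N hN hNi hNL w hw
    rcases eq_or_ne M N with rfl | hne
    · exact (mem_inter.1 hw).2
    obtain ⟨x, hx⟩ := hmeets M hM N hN
    have hxL := hmeetfix L hL M hM N hN hMi hNi hne x hx
    have : w = x := card_le_one.1 (h2pt L hL M hM hML.symm) _ hw _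
      (mem_inter.2 ⟨hxL, (mem_inter.1 hx).1⟩)
    exact this ▸ (mem_inter.1 hx).2
  -- the centre of a line
  have hex : ∀ L ∈ Ls, ∃ w ∈ L, ∀ M ∈ Ls, M ≠ L → (M.image (τ L) = M ↔ w ∈ M) := by
    intro L hL
    obtain ⟨z, hz, hzL⟩ : ∃ z ∈ P, z ∉ L := exists_mem_notMem_of_card_lt_card
      (by rw [hP, (hsub L hL).2]; omega)
    obtain ⟨hMi, hM, hML, hzM⟩ := hswap L hL z hz hzL
    set M₀ := line z (τ L z) with hM₀
    obtain ⟨w, hw⟩ := hmeets L hL M₀ hM
    refine ⟨w, (mem_inter.1 hw).1, fun M hM' hne => ⟨fun hi =>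
      hcen L hL M₀ hM hMi hML M hM' hi hne w hw, fun hwM => ?_⟩⟩
    obtain ⟨y, hy, hyL⟩ : ∃ y ∈ M, y ∉ L := not_subset.1 fun hs =>
      hne (eq_of_subset_of_card_le hs (by rw [(hsub L hL).2, (hsub M hM').2]))
    obtain ⟨hNi, hN, hNL, hyN⟩ := hswap L hL y ((hsub M hM').1 hy) hyL
    have hwN := hcen L hL M₀ hM hMi hML _ hN hNi hNL w hw
    have hyw : y ≠ w := fun h => hyL (h ▸ (mem_inter.1 hw).1)
    rw [(hdet M hM' y hy w hwM hyw).symm.trans (hdet _ hN y hyN w hwN hyw)]
    exact hNi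
  haveI : Nonempty Ω := ⟨(card_pos.1 (by omega : 0 < P.card)).choose⟩
  choose! σ hσL hσ using hex
  have hσ' : ∀ L ∈ Ls, ∀ M ∈ Ls, σ L ∈ M → σ M = σ L := by
    intro L hL M hM hw
    rcases eq_or_ne M L with rfl | hne
    · rfl
    have hMi := (hσ L hL M hM hne).2 hw
    have hLi : L.image (τ M) = L := by
      have hinj : Set.InjOn (τ M) L := fun x hx y hy e => by
        rw [← tinv M hM x ((hsub L hL).1 hx), e, tinv M hM y ((hsub L hL).1 hy)]
      refine eq_of_subset_of_card_le (fun x hx => ?_) (by rw [card_image_of_injOn hinj])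
      obtain ⟨y, hy, rfl⟩ := mem_image.1 hx
      have hyP := (hsub L hL).1 hy
      refine (tfix L hL _ (tmap M hM y hyP)).1 ?_
      rw [tcomm L hL M hM hMi y hyP, (tfix L hL y hyP).2 hy]
    exact card_le_one.1 (h2pt L hL M hM hne.symm) _
      (mem_inter.2 ⟨(hσ M hM L hL hne.symm).1 hLi, hσL M hM⟩) _
      (mem_inter.2 ⟨hσL L hL, hw⟩)
  -- counting
  have hcount : 3 ∣ Ls.card := by
    rw [card_eq_sum_card_image σ Ls]
    refine dvd_sum fun w hw => ?_
    obtain ⟨L, hL, rfl⟩ := mem_image.1 hw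
    rw [show Ls.filter (fun M => σ M = σ L) = Ls.filter (σ L ∈ ·) from filter_congr fun M hM =>
      ⟨fun e => e ▸ hσL M hM, hσ' L hL M hM⟩, hpencil _ ((hsub L hL).1 (hσL L hL))]
  have h7 : Ls.card = 7 := by
    have h1 := card_eq_sum_card_fiberwise (s := P.offDiag) (t := Ls)
      (f := fun p => line p.1 p.2) fun p hp => mem_image_of_mem _ hp
    rw [sum_congr rfl (g := fun _ => 6) fun L hL => by
      rw [show P.offDiag.filter (fun p => line p.1 p.2 = L) = L.offDiag by
        ext ⟨u, v⟩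
        simp only [mem_filter, mem_offDiag]
        constructor
        · rintro ⟨⟨hu, hv, huv⟩, rfl⟩
          exact ⟨(hmem u hu v hv huv).1, (hmem u hu v hv huv).2.1, huv⟩
        · rintro ⟨hu, hv, huv⟩
          exact ⟨⟨(hsub L hL).1 hu, (hsub L hL).1 hv, huv⟩, hdet L hL u hu v hv huv⟩,
        offDiag_card, (hsub L hL).2]] at h1
    rw [offDiag_card, hP, sum_const, smul_eq_mul] at h1
    omega
  omega

variable {G Ω : Type*} [Group G] [Finite G] [MulAction G Ω] [Fintype Ω]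

/-- With lines of three points, a plane has at least six points off each line. -/
theorem six_le_card_spaceOff (h2 : Two G Ω) {a b : Ω} (hab : a ≠ b)
    (hf : (fixSet (Ω := Ω) (pst G a b)).card = 3)
    (hall : ∀ c, c ∉ fixSet (pst G a b) →
      2 * Nat.card (tst G a b c) = Nat.card (pst G a b))
    {c : Ω} (hc : c ∉ fixSet (pst G a b)) : 6 ≤ (spaceOff G a b c).card := by
  classical
  set h := Nat.card (pst G a b) with hh
  set T := tst G a b c with hT
  set P := fixSet (Ω := Ω) T with hPdef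
  have hFP : fixSet (pst G a b) ⊆ P := fixSet_anti (tst_le a b c)
  have hS : (spaceOff G a b c).card = P.card - 3 := by
    rw [spaceOff, card_sdiff_of_subset hFP, hf]
  have h4 := sq_le_card_spaceOff h2 hab hc
  rw [hf, hS] at h4
  simp only [Nat.add_one_sub_one] at h4
  have hTcard : 2 * Nat.card T = h := hall c hc
  have hTle : ∀ u ∈ P, ∀ v ∈ P, T ≤ pst G u v := fun u hu v hv g hg =>
    mem_pst.2 ⟨mem_fixSet.1 hu g hg, mem_fixSet.1 hv g hg⟩
  have hlsub : ∀ u ∈ P, ∀ v ∈ P, fixSet (pst G u v) ⊆ P := fun u hu v hv =>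
    fixSet_anti (hTle u hu v hv)
  have hallT : ∀ u v z : Ω, u ≠ v → z ∉ fixSet (pst G u v) →
      2 * Nat.card (tst G u v z) = h := by
    intro u v z huv hz
    obtain ⟨g, rfl, rfl⟩ := h2 a b u v hab huv
    obtain ⟨d, rfl⟩ : ∃ d, g • d = z := ⟨g⁻¹ • z, smul_inv_smul g z⟩
    rw [card_tst_smul]
    refine hall d fun hd => hz (mem_fixSet.2 fun x hx => ?_)
    have := mem_fixSet.1 hd (g⁻¹ * x * g) (mem_pst.2 ⟨by
      rw [mul_smul, mul_smul, (mem_pst.1 hx).1, inv_smul_smul], by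
      rw [mul_smul, mul_smul, (mem_pst.1 hx).2, inv_smul_smul]⟩)
    rwa [mul_smul, mul_smul, inv_smul_eq_iff] at this
  have hTz : ∀ u ∈ P, ∀ v ∈ P, u ≠ v → ∀ z ∈ P, z ∉ fixSet (pst G u v) →
      tst G u v z = T := by
    intro u hu v hv huv z hz hzL
    refine (Subgroup.eq_of_le_of_card_ge (fun g hg => mem_tst.2
      ⟨mem_fixSet.1 hu g hg, mem_fixSet.1 hv g hg, mem_fixSet.1 hz g hg⟩) ?_).symm
    have := hallT u v z huv hzL
    omega
  have hh2 : ∀ u v : Ω, u ≠ v → Nat.card (pst G u v) = h := fun u v huv =>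
    card_pst_const h2 hab huv
  -- `T` has index two in the stabiliser of two points of `P`
  have hidx : ∀ u ∈ P, ∀ v ∈ P, u ≠ v → ((T).subgroupOf (pst G u v)).index = 2 := by
    intro u hu v hv huv
    have e : Nat.card T * (T.subgroupOf (pst G u v)).index = Nat.card (pst G u v) := by
      rw [← Nat.card_congr (Subgroup.subgroupOfEquivOfLe (hTle u hu v hv)).toEquiv]
      exact Subgroup.card_mul_index _
    rw [hh2 u v huv, ← hTcard, mul_comm 2] at e
    exact Nat.eq_of_mul_eq_mul_left Nat.card_pos e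
  have hnorm : ∀ u ∈ P, ∀ v ∈ P, u ≠ v → ∀ g ∈ pst G u v, ∀ t ∈ T, g⁻¹ * t * g ∈ T := by
    intro u hu v hv huv g hg t ht
    have hn := Subgroup.normal_of_index_eq_two (hidx u hu v hv huv)
    have := hn.conj_mem ⟨t, hTle u hu v hv ht⟩ (Subgroup.mem_subgroupOf.2 ht) ⟨g, hg⟩⁻¹
    simpa [Subgroup.mem_subgroupOf] using this
  have hsqT : ∀ u ∈ P, ∀ v ∈ P, u ≠ v → ∀ g ∈ pst G u v, g * g ∈ T := fun u hu v hv huv g hg =>
    Subgroup.mem_subgroupOf.1 (Subgroup.mul_self_mem_of_index_two (hidx u hu v hv huv) ⟨g, hg⟩)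
  have hmapP : ∀ u ∈ P, ∀ v ∈ P, u ≠ v → ∀ g ∈ pst G u v, ∀ z ∈ P, g • z ∈ P := by
    intro u hu v hv huv g hg z hz
    refine mem_fixSet.2 fun t ht => ?_
    have := mem_fixSet.1 hz _ (hnorm u hu v hv huv g hg t ht)
    rwa [mul_smul, mul_smul, inv_smul_eq_iff] at this
  -- lines through a point pair off the others: `P` has odd size
  have hlc : ∀ u v : Ω, u ≠ v → (fixSet (Ω := Ω) (pst G u v)).card = 3 := fun u v huv => by
    rw [card_fixSet_pst h2 hab huv, hf]
  have hodd : Odd P.card := by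
    have hx : a ∈ P := hFP (left_mem_fixSet a b)
    have key : ∀ y ∈ P.erase a, ∃ z ∈ P.erase a, z ≠ y ∧
        z ∈ fixSet (pst G a y) ∧ ∀ w ∈ fixSet (pst G a y), w = a ∨ w = y ∨ w = z := by
      intro y hy
      rw [mem_erase] at hy
      have hs : ({a, y} : Finset Ω) ⊆ fixSet (pst G a y) := by
        simp [insert_subset_iff, left_mem_fixSet, right_mem_fixSet]
      have h1 : (fixSet (pst G a y) \ {a, y}).card = 1 := by
        rw [card_sdiff_of_subset hs, hlc a y hy.1.symm, card_pair hy.1.symm]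
      obtain ⟨z, hz⟩ := card_eq_one.1 h1
      have hzm : z ∈ fixSet (pst G a y) \ {a, y} := hz ▸ mem_singleton_self z
      simp only [mem_sdiff, mem_insert, mem_singleton, not_or] at hzm
      refine ⟨z, mem_erase.2 ⟨hzm.2.1, hlsub a hx y hy.2 hzm.1⟩, hzm.2.2, hzm.1,
        fun w hw => ?_⟩
      by_contra hcon
      simp only [not_or] at hcon
      have : w ∈ fixSet (pst G a y) \ {a, y} := by simp [hw, hcon.1, hcon.2.1]
      rw [hz, mem_singleton] at this
      exact hcon.2.2 this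
    choose! p hp1 hp2 hp3 hp4 using key
    have hzero : ∑ _y ∈ P.erase a, (1 : ZMod 2) = 0 := by
      refine sum_involution (fun y _ => p y) (fun _ _ => by decide) (fun y hy _ => hp2 y hy)
        (fun y hy => hp1 y hy) (fun y hy => ?_)
      have hy' := mem_erase.1 hy
      have hpa : p y ≠ a := (mem_erase.1 (hp1 y hy)).1
      have e : pst G a (p y) = pst G a y := pst_eq_of_mem_fixSet h2 hy'.1.symm hpa.symm
        (left_mem_fixSet a y) (hp3 y hy)
      have hy2 : y ∈ fixSet (pst G a (p y)) := e ▸ right_mem_fixSet a y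
      rcases hp4 (p y) (hp1 y hy) y hy2 with h | h | h
      · exact absurd h hy'.1
      · exact absurd h.symm (hp2 y hy)
      · exact h.symm
    rw [sum_const, nsmul_one, ZMod.natCast_eq_zero_iff_even, card_erase_of_mem hx] at hzero
    obtain ⟨r, hr⟩ := hzero
    exact ⟨r, by have := card_pos.2 ⟨a, hx⟩; omega⟩
  by_contra hlt
  rw [hS] at hlt
  have hP7 : P.card = 7 := by
    obtain ⟨r, hr⟩ := hodd
    omega
  -- the involutions of the lines
  have hexτ : ∀ L : Finset Ω, ∃ g : G, ∀ u ∈ P, ∀ v ∈ P, u ≠ v → fixSet (pst G u v) = L →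
      g ∈ pst G u v ∧ g ∉ T := by
    intro L
    by_cases hL : ∃ u ∈ P, ∃ v ∈ P, u ≠ v ∧ fixSet (pst G u v) = L
    · obtain ⟨u, hu, v, hv, huv, rfl⟩ := hL
      obtain ⟨g, hg, hgT⟩ : ∃ g ∈ pst G u v, g ∉ T := by
        by_contra hcon
        push Not at hcon
        have := Nat.le_of_dvd Nat.card_pos (Subgroup.card_dvd_of_le hcon)
        rw [hh2 u v huv] at this
        have : 0 < Nat.card T := Nat.card_pos
        omega
      refine ⟨g, fun u' hu' v' hv' huv' e => ⟨?_, hgT⟩⟩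
      have : pst G u' v' = pst G u v := pst_eq_of_mem_fixSet h2 huv huv'
        (e ▸ left_mem_fixSet u' v') (e ▸ right_mem_fixSet u' v')
      rwa [this]
    · exact ⟨1, fun u hu v hv huv e => absurd ⟨u, hu, v, hv, huv, e⟩ hL⟩
  choose τ hτ using hexτ
  refine no_fano_involutions P hP7 (fun u v => fixSet (pst G u v))
    (fun x hx y hy hxy => ⟨left_mem_fixSet x y, right_mem_fixSet x y, hlsub x hx y hy,
      hlc x y hxy⟩)
    (fun x hx y hy hxy u hu v hv huv => by
      change fixSet (pst G u v) = fixSet (pst G x y)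
      rw [pst_eq_of_mem_fixSet h2 hxy huv hu hv])
    (fun L z => τ L • z) (fun x hx y hy hxy z hz => ?_) (fun x hx y hy hxy z hz => ?_)
    (fun x hx y hy hxy z hz => ?_) (fun x hx y hy hxy u hu v hv huv => ?_)
    (fun x hx y hy hxy u hu v hv huv himg z hz => ?_)
  · exact hmapP x hx y hy hxy _ (hτ _ x hx y hy hxy rfl).1 z hz
  · simp only [← mul_smul]
    exact mem_fixSet.1 hz _ (hsqT x hx y hy hxy _ (hτ _ x hx y hy hxy rfl).1)
  · obtain ⟨h1, h2'⟩ := hτ _ x hx y hy hxy rfl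
    refine ⟨fun e => ?_, fun hm => mem_fixSet.1 hm _ h1⟩
    by_contra hzL
    exact h2' (hTz x hx y hy hxy z hz hzL ▸
      mem_tst.2 ⟨(mem_pst.1 h1).1, (mem_pst.1 h1).2, e⟩)
  · ext w
    set g := τ (fixSet (pst G x y)) with hg
    simp only [mem_image]
    constructor
    · intro hw
      refine ⟨g⁻¹ • w, mem_fixSet.2 fun k hk => ?_, smul_inv_smul g w⟩
      have := mem_fixSet.1 hw (g * k * g⁻¹) (mem_pst.2 ⟨by
        rw [mul_smul, mul_smul, inv_smul_smul, (mem_pst.1 hk).1], by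
        rw [mul_smul, mul_smul, inv_smul_smul, (mem_pst.1 hk).2]⟩)
      rw [mul_smul, mul_smul] at this
      exact eq_inv_smul_iff.2 this
    · rintro ⟨w', hw', rfl⟩
      refine mem_fixSet.2 fun k hk => ?_
      have := mem_fixSet.1 hw' (g⁻¹ * k * g) (mem_pst.2 ⟨by
        rw [mul_smul, mul_smul, (mem_pst.1 hk).1, inv_smul_smul], by
        rw [mul_smul, mul_smul, (mem_pst.1 hk).2, inv_smul_smul]⟩)
      rwa [mul_smul, mul_smul, inv_smul_eq_iff] at this
  · set g := τ (fixSet (pst G x y)) with hgdef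
    set k := τ (fixSet (pst G u v)) with hkdef
    obtain ⟨hg, -⟩ := hτ _ x hx y hy hxy rfl
    obtain ⟨hk, hkT⟩ := hτ _ u hu v hv huv rfl
    rw [← hgdef] at hg
    rw [← hkdef] at hk hkT
    set q := g * k * g⁻¹ with hq
    have hqpst : q ∈ pst G u v := by
      have key : ∀ w ∈ fixSet (Ω := Ω) (pst G u v), q • w = w := by
        intro w hw
        rw [← himg] at hw
        obtain ⟨w', hw', rfl⟩ := mem_image.1 hw
        rw [hq, mul_smul, mul_smul, inv_smul_smul, mem_fixSet.1 hw' k hk]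
      exact mem_pst.2 ⟨key u (left_mem_fixSet u v), key v (right_mem_fixSet u v)⟩
    have hqT : q ∉ T := fun hq' => hkT <| by
      have := hnorm x hx y hy hxy g hg q hq'
      rwa [hq, show g⁻¹ * (g * k * g⁻¹) * g = k by group] at this
    -- two elements outside `T` agree on `P`
    have hagree : k⁻¹ * q ∈ T := by
      have hm := (Subgroup.mul_mem_iff_of_index_two (hidx u hu v hv huv)
        (a := (⟨k⁻¹, inv_mem hk⟩ : pst G u v)) (b := ⟨q, hqpst⟩)).2
      simp only [Subgroup.mem_subgroupOf, Subgroup.coe_mul] at hm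
      exact hm ⟨fun hh' => absurd (inv_inv k ▸ inv_mem hh') hkT, fun hh' => absurd hh' hqT⟩
    have := mem_fixSet.1 hz _ hagree
    have hgz : g • z ∈ P := hmapP x hx y hy hxy g hg z hz
    have := mem_fixSet.1 hgz _ hagree
    rw [hq, mul_smul, mul_smul, mul_smul, inv_smul_smul, inv_smul_eq_iff] at this
    exact this

end CfsgLib.Derangements.PairStab
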