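import Cfsg.Agent.Lib.Derangements.PairStabBasic

/-!
# No pair stabiliser with one orbit of three points and otherwise orbits of at most two points

In a doubly transitive group of degree at least seven it is impossible that the stabiliser of
two points `a`, `b` has one orbit of size three and all its other orbits outside `{a, b}` of
size two.
-/

set_option autoImplicit false

namespace CfsgLib.Derangements.PairStab

open MulAction Finset

variable {G Ω : Type*} [Group G] [Finite G] [MulAction G Ω] [Fintype Ω]

open scoped Classical in
/-- The points lying in an orbit of size three of the stabiliser of `u` and `v`. -/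
noncomputable def triple (G : Type*) {Ω : Type*} [Group G] [MulAction G Ω] [Fintype Ω]
    (u v : Ω) : Finset Ω :=
  {c | 3 * Nat.card (tst G u v c) = Nat.card (pst G u v)}

theorem mem_triple {u v c : Ω} :
    c ∈ triple G u v ↔ 3 * Nat.card (tst G u v c) = Nat.card (pst G u v) := by
  classical simp [triple]

theorem triple_comm (u v : Ω) : triple G u v = triple G v u := by
  ext c
  rw [mem_triple, mem_triple, tst_swap12, pst_comm]

theorem left_notMem_triple (u v : Ω) : u ∉ triple G u v := by
  rw [mem_triple, tst_eq_pst_left]
  have := pos_pst (G := G) u v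
  omega

theorem right_notMem_triple (u v : Ω) : v ∉ triple G u v := by
  rw [mem_triple, tst_eq_pst_right]
  have := pos_pst (G := G) u v
  omega

theorem no_single_triple (h2 : Two G Ω) {a b : Ω} (hab : a ≠ b) (hn : 7 ≤ Fintype.card Ω)
    (h3 : (triple G a b).card = 3)
    (hother : ∀ c, c ≠ a → c ≠ b → c ∉ triple G a b →
      2 * Nat.card (tst G a b c) = Nat.card (pst G a b)) : False := by
  classical
  -- the hypotheses hold for every pair
  have hcard : ∀ u v : Ω, u ≠ v → (triple G u v).card = 3 := by
    intro u v huv
    obtain ⟨g, rfl, rfl⟩ := h2 a b u v hab huv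
    rw [← h3]
    refine (card_equiv (MulAction.toPerm g) fun c => ?_).symm
    rw [mem_triple, mem_triple, MulAction.toPerm_apply, card_tst_smul, card_pst_smul]
  have htwo : ∀ u v c : Ω, u ≠ v → c ≠ u → c ≠ v → c ∉ triple G u v →
      2 * Nat.card (tst G u v c) = Nat.card (pst G u v) := by
    intro u v c huv hcu hcv hc
    obtain ⟨g, rfl, rfl⟩ := h2 a b u v hab huv
    obtain ⟨d, rfl⟩ : ∃ d, g • d = c := ⟨g⁻¹ • c, smul_inv_smul g c⟩
    rw [mem_triple, card_tst_smul, card_pst_smul] at hc
    rw [card_tst_smul, card_pst_smul]
    exact hother d (fun h => hcu (by rw [h])) (fun h => hcv (by rw [h]))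
      (fun h => hc (mem_triple.1 h))
  -- moving one of the two points outside the triple does not change the triple
  have step : ∀ u v z : Ω, u ≠ v → z ≠ u → z ≠ v → z ∉ triple G u v →
      triple G u z = triple G u v := by
    intro u v z huv hzu hzv hz
    have hsub : triple G u v ⊆ triple G u z := by
      intro w hw
      have hzw : w ≠ z := fun h => hz (h ▸ hw)
      have hwu : w ≠ u := fun h => left_notMem_triple (G := G) u v (h ▸ hw)
      have hT := htwo u v z huv hzu hzv hz
      have hW := mem_triple.1 hw
      have hh : Nat.card (pst G u z) = Nat.card (pst G u v) :=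
        card_pst_const h2 huv (Ne.symm hzu)
      set m := Nat.card ↥(tst G u v z ⊓ tst G u v w) with hm
      have hmT : m ∣ Nat.card (tst G u v z) := Subgroup.card_dvd_of_le inf_le_left
      have hmW : m ∣ Nat.card (tst G u v w) := Subgroup.card_dvd_of_le inf_le_right
      have hlow := card_mul_card_le (tst_le (G := G) u v z) (tst_le (G := G) u v w)
      rw [← hm] at hlow
      set T := Nat.card (tst G u v z) with hTdef
      set W := Nat.card (tst G u v w) with hWdef
      set H := Nat.card (pst G u v) with hH
      have hHpos : 0 < H := pos_pst u v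
      have h6 : 6 * m = H := by
        have hge : H ≤ 6 * m := by
          by_contra hlt
          push Not at hlt
          nlinarith
        have hmpos : 0 < m := Nat.card_pos
        obtain ⟨i, hi⟩ := hmT
        obtain ⟨j, hj⟩ := hmW
        rw [← hT, hi] at hge
        have e : m * (2 * i) = m * (3 * j) := by
          rw [← mul_assoc, mul_comm m 2, mul_assoc, ← hi, hT, ← hW, hj]; ring
        have e' : 2 * i = 3 * j := Nat.eq_of_mul_eq_mul_left hmpos e
        have hi3 : i ≤ 3 := by
          by_contra h; push Not at h
          nlinarith
        have : i = 3 := by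
          rcases Nat.eq_zero_or_pos i with h0 | h0
          · rw [h0, mul_zero] at hi; omega
          · omega
        rw [← hT, hi, this]; ring
      -- the stabiliser of `w` in the stabiliser of `u`, `z` is small
      have hA : tst G u v z ≤ pst G u z := fun g hg =>
        mem_pst.2 ⟨(mem_tst.1 hg).1, (mem_tst.1 hg).2.2⟩
      have hlow2 := card_mul_card_le hA (tst_le (G := G) u z w)
      have hinf : Nat.card ↥(tst G u v z ⊓ tst G u z w) ≤ m :=
        Nat.le_of_dvd Nat.card_pos <| Subgroup.card_dvd_of_le fun g hg => by
          refine Subgroup.mem_inf.2 ⟨hg.1, mem_tst.2 ⟨(mem_tst.1 hg.1).1, (mem_tst.1 hg.1).2.1,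
            (mem_tst.1 hg.2).2.2⟩⟩
      rw [hh] at hlow2
      have hsmall : 3 * Nat.card (tst G u z w) ≤ H := by
        by_contra hlt
        push Not at hlt
        nlinarith
      by_contra hnot
      have := htwo u z w (Ne.symm hzu) hwu hzw hnot
      rw [hh] at this
      omega
    exact (eq_of_subset_of_card_le hsub (by rw [hcard u z (Ne.symm hzu), hcard u v huv])).symm
  -- all pairs outside a triple have the same triple
  have key : ∀ u v x y : Ω, u ≠ v → x ≠ y → x ∉ triple G u v → y ∉ triple G u v →
      triple G x y = triple G u v := by
    intro u v x y huv hxy hx hy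
    have hu : ∀ w, w ≠ u → w ∉ triple G u v → triple G u w = triple G u v := by
      intro w hwu hw
      rcases eq_or_ne w v with rfl | hwv
      · rfl
      · exact step u v w huv hwu hwv hw
    rcases eq_or_ne x u with rfl | hxu
    · exact hu y hxy.symm hy
    rcases eq_or_ne y u with rfl | hyu
    · rw [triple_comm]; exact hu x hxy hx
    have e := hu x hxu hx
    rw [step x u y hxu hxy.symm hyu (by rw [triple_comm, e]; exact hy), triple_comm, e]
  -- two different triples leave out at most one point
  have big : ∀ u v x y : Ω, u ≠ v → x ≠ y → triple G x y ≠ triple G u v →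
      Fintype.card Ω ≤ (triple G u v ∪ triple G x y).card + 1 := by
    intro u v x y huv hxy hne
    have : (univ \ (triple G u v ∪ triple G x y)).card ≤ 1 := by
      refine card_le_one.2 fun p hp q hq => ?_
      simp only [mem_sdiff, mem_univ, mem_union, not_or, true_and] at hp hq
      by_contra hpq
      exact hne ((key x y p q hxy hpq hp.2 hq.2).symm.trans (key u v p q huv hpq hp.1 hq.1))
    rw [card_sdiff_of_subset (subset_univ _), card_univ] at this
    omega
  obtain ⟨c, hc⟩ : (triple G a b).Nonempty := card_pos.1 (by omega)
  have hac : a ≠ c := fun h => left_notMem_triple (G := G) a b (h ▸ hc)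
  have hne1 : triple G a c ≠ triple G a b := fun h =>
    right_notMem_triple (G := G) a c (h ▸ hc)
  have hb1 := big a b a c hab hac hne1
  have hu1 : (triple G a b ∪ triple G a c).card + (triple G a b ∩ triple G a c).card = 6 := by
    rw [card_union_add_card_inter, hcard a b hab, hcard a c hac]
  have hdis : (triple G a b ∩ triple G a c).card = 0 := by omega
  obtain ⟨e, he⟩ : (triple G a c).Nonempty := card_pos.1 (by rw [hcard a c hac]; omega)
  have hce : c ≠ e := fun h => by
    have : c ∈ triple G a b ∩ triple G a c := mem_inter.2 ⟨hc, h ▸ he⟩
    rw [card_eq_zero.1 hdis] at this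
    simp at this
  have hne2 : triple G c e ≠ triple G a b := fun h =>
    left_notMem_triple (G := G) c e (h ▸ hc)
  have hne3 : triple G c e ≠ triple G a c := fun h =>
    right_notMem_triple (G := G) c e (h ▸ he)
  have hb2 := big a b c e hab hce hne2
  have hb3 := big a c c e hac hce hne3
  have hu2 : (triple G a b ∪ triple G c e).card + (triple G a b ∩ triple G c e).card = 6 := by
    rw [card_union_add_card_inter, hcard a b hab, hcard c e hce]
  have hu3 : (triple G a c ∪ triple G c e).card + (triple G a c ∩ triple G c e).card = 6 := by
    rw [card_union_add_card_inter, hcard a c hac, hcard c e hce]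
  have d2 : (triple G a b ∩ triple G c e) = ∅ := card_eq_zero.1 (by omega)
  have d3 : (triple G a c ∩ triple G c e) = ∅ := card_eq_zero.1 (by omega)
  have h9 : 9 ≤ Fintype.card Ω := by
    refine le_trans (le_of_eq ?_) (card_le_univ (triple G a b ∪ triple G a c ∪ triple G c e))
    rw [card_union_of_disjoint, card_union_of_disjoint, hcard a b hab, hcard a c hac,
      hcard c e hce]
    · exact disjoint_iff_inter_eq_empty.2 (card_eq_zero.1 hdis)
    · rw [disjoint_iff_inter_eq_empty, union_inter_distrib_right, d2, d3, union_empty]
  omega

end CfsgLib.Derangements.PairStab
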