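import Cfsg.Agent.Lib.Derangements.PairStabBasic

/-!
# Pair stabilisers with all other orbits of size two

If every orbit of the stabiliser of `a` and `b` outside `{a, b}` has size two then, in a doubly
transitive group of even degree, this stabiliser has order at most two.
-/

set_option autoImplicit false

namespace CfsgLib.Derangements.PairStab

open MulAction Finset Subgroup

/-- A group of odd order is not the union of three proper subgroups. -/
theorem not_union_three {O : Type*} [Group O] [Finite O] (hodd : Odd (Nat.card O))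
    (A B C : Subgroup O) (hA : A ≠ ⊤) (hB : B ≠ ⊤) (hC : C ≠ ⊤) :
    ¬ ∀ x : O, x ∈ A ∨ x ∈ B ∨ x ∈ C := by
  classical
  haveI := Fintype.ofFinite O
  have small : ∀ S : Subgroup O, S ≠ ⊤ → 3 * Nat.card S ≤ Nat.card O := by
    intro S hS
    obtain ⟨k, hk⟩ := S.card_subgroup_dvd_card
    rcases lt_or_ge k 3 with hk3 | hk3
    · interval_cases k
      · rw [mul_zero] at hk; exact absurd hk (Nat.card_pos (α := O)).ne'
      · rw [mul_one] at hk
        exact absurd (Subgroup.eq_top_of_card_eq S hk.symm) hS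
      · exact absurd ⟨Nat.card S, hk.trans (by ring)⟩ (Nat.not_even_iff_odd.2 hodd)
    · rw [hk, mul_comm]; exact Nat.mul_le_mul le_rfl hk3
  intro hall
  have hfin : ∀ S : Subgroup O, ((univ : Finset O).filter (· ∈ S)).card = Nat.card S := by
    intro S; rw [Nat.card_eq_fintype_card, Fintype.card_subtype]
  set fA := (univ : Finset O).filter (· ∈ A) with hfA
  set fB := (univ : Finset O).filter (· ∈ B) with hfB
  set fC := (univ : Finset O).filter (· ∈ C) with hfC
  have hcov : (univ : Finset O) ⊆ (fA ∪ fB) ∪ fC := fun x _ => by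
    rcases hall x with h | h | h <;> simp [hfA, hfB, hfC, h]
  have h1 := card_union_add_card_inter fA fB
  have h2 := card_union_le (fA ∪ fB) fC
  have h3 : 1 ≤ (fA ∩ fB).card :=
    card_pos.2 ⟨1, by simp [hfA, hfB, one_mem]⟩
  have h4 := card_le_card hcov
  rw [card_univ, ← Nat.card_eq_fintype_card] at h4
  have e1 := small A hA
  have e2 := small B hB
  have e3 := small C hC
  have f1 := hfin A
  have f2 := hfin B
  have f3 := hfin C
  rw [← hfA] at f1
  rw [← hfB] at f2
  rw [← hfC] at f3
  omega

variable {G Ω : Type*} [Group G] [Finite G] [MulAction G Ω] [FaithfulSMul G Ω] [Fintype Ω]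

theorem card_pst_le_two (h2 : Two G Ω) {a b : Ω} (hab : a ≠ b) (heven : Even (Fintype.card Ω))
    (hall : ∀ c, c ≠ a → c ≠ b → 2 * Nat.card (tst G a b c) = Nat.card (pst G a b)) :
    Nat.card (pst G a b) ≤ 2 := by
  classical
  haveI : Fact (Nat.Prime 2) := ⟨Nat.prime_two⟩
  -- the stabiliser of a third point has index two
  have hidx : ∀ c, c ≠ a → c ≠ b → (tst G a b c).relIndex (pst G a b) = 2 := by
    intro c hca hcb
    have e : Nat.card (tst G a b c) * (tst G a b c).relIndex (pst G a b) =
        Nat.card (pst G a b) := by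
      rw [Subgroup.relIndex,
        ← Nat.card_congr (Subgroup.subgroupOfEquivOfLe (tst_le a b c)).toEquiv]
      exact Subgroup.card_mul_index _
    rw [← hall c hca hcb, mul_comm 2] at e
    exact Nat.eq_of_mul_eq_mul_left (pos_tst a b c) e
  have hmul : ∀ c, c ≠ a → c ≠ b → ∀ k l : pst G a b,
      ((k : G) * l) • c = c ↔ ((k : G) • c = c ↔ (l : G) • c = c) := by
    intro c hca hcb k l
    have hm : ∀ u : pst G a b, u ∈ (tst G a b c).subgroupOf (pst G a b) ↔ (u : G) • c = c :=
      fun u => by
        rw [Subgroup.mem_subgroupOf, mem_tst]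
        exact ⟨fun h => h.2.2, fun h => ⟨(mem_pst.1 u.2).1, (mem_pst.1 u.2).2, h⟩⟩
    rw [← Subgroup.coe_mul, ← hm, ← hm, ← hm]
    exact Subgroup.mul_mem_iff_of_index_two (hidx c hca hcb)
  -- the pair stabiliser has exponent two
  have hsq : ∀ g ∈ pst G a b, g * g = 1 := by
    intro g hg
    apply eq_of_smul_eq_smul (α := Ω)
    intro c
    rw [one_smul]
    rcases eq_or_ne c a with rfl | hca
    · exact (mem_pst.1 (mul_mem hg hg)).1
    rcases eq_or_ne c b with rfl | hcb
    · exact (mem_pst.1 (mul_mem hg hg)).2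
    exact (hmul c hca hcb ⟨g, hg⟩ ⟨g, hg⟩).2 Iff.rfl
  have hcomm : ∀ g ∈ pst G a b, ∀ g' ∈ pst G a b, g * g' = g' * g := by
    intro g hg g' hg'
    have e := hsq _ (mul_mem hg hg')
    calc g * g' = g * (g * g' * (g * g')) * g' := by rw [e, mul_one]
      _ = (g * g) * (g' * g) * (g' * g') := by simp [mul_assoc]
      _ = g' * g := by rw [hsq g hg, hsq g' hg', one_mul, mul_one]
  -- it is a Sylow subgroup of the point stabiliser
  set S := stabilizer G a with hS
  have hKS : pst G a b ≤ S := inf_le_left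
  set K := (pst G a b).subgroupOf S with hK
  have hKmem : ∀ u : S, u ∈ K ↔ (u : G) • b = b := fun u => by
    rw [hK, Subgroup.mem_subgroupOf, mem_pst]
    exact ⟨fun h => h.2, fun h => ⟨u.2, h⟩⟩
  have hKp : IsPGroup 2 K := fun u => ⟨1, Subtype.ext (Subtype.ext (by
    simp only [pow_one, sq, Subgroup.coe_mul, OneMemClass.coe_one]
    exact hsq _ (Subgroup.mem_subgroupOf.1 u.2)))⟩
  have hKcard : Nat.card K = Nat.card (pst G a b) :=
    Nat.card_congr (Subgroup.subgroupOfEquivOfLe hKS).toEquiv
  have hreach : ∀ c, c ≠ a → ∃ u : S, (u : G) • b = c := fun c hc => by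
    obtain ⟨g, hga, hgb⟩ := h2 a b a c hab (Ne.symm hc)
    exact ⟨⟨g, hga⟩, hgb⟩
  have hne : ∀ u : S, (u : G) • b ≠ a := fun u h =>
    hab (MulAction.injective (u : G) (h.trans u.2.symm)).symm
  have horb : K.index = Fintype.card Ω - 1 := by
    have hstab : stabilizer S b = K := by
      ext u
      rw [hKmem, mem_stabilizer_iff]
      exact Iff.rfl
    rw [← hstab, MulAction.index_stabilizer]
    have ho : orbit S b = {c : Ω | c ≠ a} := by
      ext c
      refine ⟨?_, fun hc => hreach c hc⟩
      rintro ⟨u, rfl⟩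
      exact hne u
    rw [ho, ← Nat.card_coe_set_eq, Set.coe_setOf, Nat.card_eq_fintype_card,
      Fintype.card_subtype_compl, Fintype.card_subtype_eq]
  have hndvd : ¬ 2 ∣ K.index := by
    obtain ⟨r, hr⟩ := heven
    have hpos : 0 < Fintype.card Ω := Fintype.card_pos_iff.2 ⟨a⟩
    rw [horb]
    omega
  set P : Sylow 2 S := hKp.toSylow hndvd with hPdef
  have hPK : (P : Subgroup S) = K := rfl
  have hP : normalizer ((P : Subgroup S) : Set S) ≤ centralizer ((P : Subgroup S) : Set S) := by
    intro u hu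
    have huK : u ∈ K := by
      rw [hKmem]
      by_contra hub
      have hfixall : ∀ g ∈ pst G a b, g • ((u : G) • b) = (u : G) • b := by
        intro g hg
        have hgK : (⟨g, hKS hg⟩ : S) ∈ K := Subgroup.mem_subgroupOf.2 hg
        have h' := (Subgroup.mem_normalizer_iff''.1 hu ⟨g, hKS hg⟩).1 (hPK ▸ hgK)
        rw [hPK] at h'
        have h'' := (hKmem _).1 h'
        simp only [Subgroup.coe_mul, InvMemClass.coe_inv, mul_smul, inv_smul_eq_iff] at h''
        exact h''
      have e := hall _ (hne u) hub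
      rw [tst_card_eq_iff.2 hfixall] at e
      have := pos_pst (G := G) a b
      omega
    refine Subgroup.mem_centralizer_iff.2 fun v hv => Subtype.ext ?_
    rw [SetLike.mem_coe, hPK] at hv
    exact hcomm _ (Subgroup.mem_subgroupOf.1 hv) _ (Subgroup.mem_subgroupOf.1 huK)
  set O := (MonoidHom.transferSylow P hP).ker with hO
  have hc : IsComplement' O K := hPK ▸ MonoidHom.ker_transferSylow_isComplement' P hP
  have hOcard : Nat.card O = Fintype.card Ω - 1 := by
    rw [← horb, hc.index_eq_card]
  by_contra hbig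
  push Not at hbig
  rw [← hKcard] at hbig
  haveI := Fintype.ofFinite K
  rw [Nat.card_eq_fintype_card, ← card_univ] at hbig
  obtain ⟨k, hk, l, hl, hkl⟩ : ∃ k ∈ (univ : Finset K).erase 1,
      ∃ l ∈ (univ : Finset K).erase 1, k ≠ l := by
    apply one_lt_card.1
    rw [card_erase_of_mem (mem_univ _)]
    omega
  rw [mem_erase] at hk hl
  -- the centralisers in `O` of the elements of the pair stabiliser
  let cen : K → Subgroup O := fun u =>
    (Subgroup.centralizer ({(u : S)} : Set S)).subgroupOf O
  have hfixcen : ∀ (u : K) (x : O),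
      ((u : S) : G) • ((x : S) : G) • b = ((x : S) : G) • b ↔ x ∈ cen u := by
    intro u x
    have hub : ((u : S) : G) • b = b := (hKmem _).1 u.2
    simp only [cen, Subgroup.mem_subgroupOf, Subgroup.mem_centralizer_singleton_iff]
    constructor
    · intro h
      set y : S := (x : S)⁻¹ * ((u : S) * (x : S) * (u : S)⁻¹) with hy
      have hyO : y ∈ O := mul_mem (inv_mem x.2)
        ((inferInstance : O.Normal).conj_mem _ x.2 (u : S))
      have hyK : y ∈ K := by
        rw [hKmem, hy]
        have hub' : ((u : S) : G)⁻¹ • b = b := by rw [inv_smul_eq_iff, hub]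
        simp only [Subgroup.coe_mul, InvMemClass.coe_inv, mul_smul, hub', h, inv_smul_smul]
      have : y = 1 := Subgroup.mem_bot.1 (hc.disjoint.le_bot ⟨hyO, hyK⟩)
      rw [hy, inv_mul_eq_one, eq_mul_inv_iff_mul_eq] at this
      exact this
    · intro h
      have h' := congrArg (fun v : S => (v : G)) h
      simp only [Subgroup.coe_mul] at h'
      rw [← mul_smul, ← h', mul_smul, hub]
  have hsurj : ∀ c, c ≠ a → ∃ x : O, ((x : S) : G) • b = c := fun c hc' => by
    obtain ⟨u, hu⟩ := hreach c hc'
    obtain ⟨⟨o, v⟩, hov⟩ := hc.2 u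
    refine ⟨o, ?_⟩
    rw [← hu, ← hov]
    simp [mul_smul, (hKmem _).1 v.2]
  have hproper : ∀ u : K, u ≠ 1 → cen u ≠ ⊤ := by
    intro u hu htop
    apply hu
    apply Subtype.ext
    apply Subtype.ext
    apply eq_of_smul_eq_smul (α := Ω)
    intro c
    simp only [OneMemClass.coe_one, one_smul]
    rcases eq_or_ne c a with rfl | hca
    · exact (u : S).2
    obtain ⟨x, rfl⟩ := hsurj c hca
    exact (hfixcen u x).2 (htop ▸ Subgroup.mem_top x)
  have hkl1 : k * l ≠ 1 := by
    intro h
    apply hkl
    have hll : l * l = 1 := Subtype.ext (Subtype.ext (hsq _ (Subgroup.mem_subgroupOf.1 l.2)))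
    exact mul_right_cancel (h.trans hll.symm)
  refine not_union_three (O := O) ?_ (cen k) (cen l) (cen (k * l)) (hproper k hk.1)
    (hproper l hl.1) (hproper _ hkl1) fun x => ?_
  · rw [hOcard]
    obtain ⟨r, hr⟩ := heven
    exact ⟨r - 1, by have := Fintype.card_pos_iff.2 ⟨a⟩; omega⟩
  rw [← hfixcen, ← hfixcen, ← hfixcen]
  set c := ((x : S) : G) • b with hc0
  rcases eq_or_ne c b with hcb | hcb
  · left
    rw [hcb]
    exact (hKmem _).1 k.2
  have hm := hmul c (hne _) hcb ⟨((k : S) : G), Subgroup.mem_subgroupOf.1 k.2⟩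
    ⟨((l : S) : G), Subgroup.mem_subgroupOf.1 l.2⟩
  simp only [Subgroup.coe_mul] at hm ⊢
  tauto

end CfsgLib.Derangements.PairStab
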