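import Cfsg.Agent.Lib.Derangements.PairStabMoments
import Cfsg.Agent.Lib.Derangements.PairStabThree
import Cfsg.Agent.Lib.Derangements.PairStabTransfer
import Cfsg.Agent.Lib.Derangements.PairStabPlane

/-!
# The moment inequality for pair stabilisers

With `f` fixed points, `f + N` orbits and degree `f + 2 N + E` the inequality to prove says that
the covariance of the fixed point indicators is at least `h² (N + E) (f - E)`.  It is positive
for each pair of points, and the points of a plane through a line supply enough.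
-/

set_option autoImplicit false

namespace CfsgLib.Derangements.PairStab

open MulAction Finset

variable {G Ω : Type*} [Group G] [Fintype G] [MulAction G Ω] [FaithfulSMul G Ω] [Fintype Ω]
  [DecidableEq Ω]

theorem case_arith {f N E : ℤ} (hN : 0 ≤ N) (hE : 0 ≤ E) (hf : 4 ≤ f) (hEf : E < f)
    (hq : (f - 1) ^ 2 ≤ 2 * N + E) : 2 * (N + E) * (f - E) ≤ N * (f - 1) ^ 2 := by
  have h1 : 0 ≤ f ^ 2 - 4 * f + 3 := by nlinarith
  rcases eq_or_lt_of_le hE with rfl | hE1
  · nlinarith [mul_nonneg hN (show (0 : ℤ) ≤ f ^ 2 - 4 * f + 1 by nlinarith)]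
  have hE1' : 1 ≤ E := hE1
  have a1 : 2 * N * (f - E) ≤ 2 * N * (f - 1) :=
    mul_le_mul_of_nonneg_left (by linarith) (by linarith)
  have a2 : 4 * (E * (f - E)) ≤ f ^ 2 := by nlinarith [sq_nonneg (f - 2 * E)]
  have a3 : f ^ 2 - 3 * f + 2 ≤ 2 * N := by nlinarith
  have a4 : (f ^ 2 - 4 * f + 3) * (f ^ 2 - 3 * f + 2) ≤ (f ^ 2 - 4 * f + 3) * (2 * N) :=
    mul_le_mul_of_nonneg_left a3 h1
  have a5 : f ^ 2 ≤ (f ^ 2 - 4 * f + 3) * (f ^ 2 - 3 * f + 2) := by
    nlinarith [mul_le_mul (show (3 : ℤ) ≤ f ^ 2 - 4 * f + 3 by nlinarith)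
      (show (6 : ℤ) ≤ f ^ 2 - 3 * f + 2 by nlinarith) (by norm_num) h1,
      mul_nonneg (show (0 : ℤ) ≤ f - 4 by linarith) (show (0 : ℤ) ≤ f by linarith)]
  nlinarith

theorem moments_le (h2 : Two G Ω) {a b : Ω} (hab : a ≠ b) (hn : 7 ≤ Fintype.card Ω)
    (hh : 2 ≤ Nat.card (pst G a b)) :
    3 * (Fintype.card Ω : ℤ) * Nat.card (pst G a b) * mom1 G a b ≤
      (Nat.card (pst G a b) : ℤ) * mom2 G a b + (mom1 G a b : ℤ) ^ 2 +
        ((Nat.card (pst G a b) : ℤ) * Fintype.card Ω) ^ 2 := by
  classical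
  set n := Fintype.card Ω with hn'
  set h := Nat.card (pst G a b) with hh'
  set k : Ω → ℕ := fun c => Nat.card (tst G a b c) with hk
  set F := fixSet (Ω := Ω) (pst G a b) with hF
  set M : Finset Ω := univ \ F with hM
  set f := F.card with hf
  have hMm : ∀ c, c ∈ M ↔ c ∉ F := fun c => by simp [hM]
  have hkF : ∀ c ∈ F, k c = h := fun c hc => tst_card_eq_iff.2 (mem_fixSet.1 hc)
  have hkM : ∀ c ∈ M, 2 * k c ≤ h := fun c hc =>
    two_mul_tst_card_le fun e => (hMm c).1 hc (mem_fixSet.2 e)
  have hMne : M.Nonempty := by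
    by_contra hemp
    rw [not_nonempty_iff_eq_empty] at hemp
    have hbot : pst G a b = ⊥ := (Subgroup.eq_bot_iff_forall _).2 fun g hg => by
      apply eq_of_smul_eq_smul (α := Ω)
      intro c
      rw [one_smul]
      refine mem_fixSet.1 ?_ g hg
      by_contra hc
      simpa [hemp] using (hMm c).2 hc
    rw [hh', hbot, Subgroup.card_bot] at hh
    omega
  have hMcard : M.card + f = n := by
    rw [hM, hf]
    exact card_sdiff_add_card_eq_card (subset_univ _)
  have hab2 : ({a, b} : Finset Ω) ⊆ F := by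
    simp [insert_subset_iff, hF, left_mem_fixSet, right_mem_fixSet]
  have h2f : 2 ≤ f := by simpa [card_pair hab, hf] using card_le_card hab2
  -- the first moment
  have hA : mom1 G a b = h * f + ∑ c ∈ M, k c := by
    rw [mom1, ← sum_sdiff (subset_univ F), add_comm, ← hM, sum_congr rfl hkF, sum_const,
      smul_eq_mul, mul_comm, hf]
  obtain ⟨N, hN⟩ : h ∣ ∑ c ∈ M, k c := by
    have := card_dvd_mom1 (G := G) a b
    rw [hA] at this
    exact (Nat.dvd_add_right (dvd_mul_right h f)).1 this
  rw [hA, hN]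
  set E : ℤ := (n : ℤ) - f - 2 * N with hE
  have hexc : ∑ c ∈ M, ((h : ℤ) - 2 * k c) = h * E := by
    rw [sum_sub_distrib, sum_const, nsmul_eq_mul, ← mul_sum]
    have e : (∑ c ∈ M, (k c : ℤ)) = (h : ℤ) * N := by exact_mod_cast hN
    have e' : (M.card : ℤ) = (n : ℤ) - f := by omega
    rw [e, e', hE]; ring
  have hterm : ∀ c ∈ M, 0 ≤ (h : ℤ) - 2 * k c := fun c hc => by
    have := hkM c hc; omega
  have hE0 : 0 ≤ E := nonneg_of_mul_nonneg_right (hexc ▸ sum_nonneg hterm) (by omega)
  have hNpos : 1 ≤ N := by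
    rcases Nat.eq_zero_or_pos N with h0 | h0
    · obtain ⟨c, hc⟩ := hMne
      have := single_le_sum (f := k) (fun _ _ => Nat.zero_le _) hc
      rw [hN, h0, mul_zero] at this
      have : 0 < k c := pos_tst a b c
      omega
    · exact h0
  -- the covariance
  set cov : Ω → Ω → ℤ := fun c d =>
    (h : ℤ) * Nat.card ↥(tst G a b c ⊓ tst G a b d) - k c * k d with hcov
  have hcov0 : ∀ c d, 0 ≤ cov c d := fun c d => by
    have := card_mul_card_le (tst_le (G := G) a b c) (tst_le (G := G) a b d)
    have h' : ((k c * k d : ℕ) : ℤ) ≤ ((h * Nat.card ↥(tst G a b c ⊓ tst G a b d) : ℕ) : ℤ) :=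
      by exact_mod_cast this
    push_cast at h'
    simp only [hcov]
    linarith
  have hcovsum : ∑ c, ∑ d, cov c d = (h : ℤ) * mom2 G a b - (mom1 G a b : ℤ) ^ 2 := by
    simp only [hcov, sum_sub_distrib, ← mul_sum, ← sum_mul]
    rw [mom2, mom1]
    push_cast
    ring
  set S : Ω → Finset Ω := fun c => spaceOff G a b c with hS
  have hSM : ∀ c, S c ⊆ M := fun c d hd =>
    (hMm d).2 fun hd' => (mem_spaceOff.1 hd).2 (mem_fixSet.1 hd')
  have hScov : ∀ c, ∀ d ∈ S c, cov c d = (k c : ℤ) * ((h : ℤ) - k d) := by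
    intro c d hd
    have : tst G a b c ⊓ tst G a b d = tst G a b c := inf_eq_left.2 fun g hg =>
      mem_tst.2 ⟨(mem_tst.1 hg).1, (mem_tst.1 hg).2.1, (mem_spaceOff.1 hd).1 g hg⟩
    simp only [hcov, this]
    simp only [hk]
    ring
  have hlow : ∑ c ∈ M, ∑ d ∈ S c, (k c : ℤ) * ((h : ℤ) - k d) ≤ ∑ c, ∑ d, cov c d := by
    refine le_trans ?_ (sum_le_sum_of_subset_of_nonneg (subset_univ M)
      fun c _ _ => sum_nonneg fun d _ => hcov0 c d)
    refine sum_le_sum fun c _ => ?_
    rw [← sum_congr rfl (hScov c)]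
    exact sum_le_sum_of_subset_of_nonneg (subset_univ _) fun d _ _ => hcov0 c d
  -- a plane bound gives a covariance bound
  have hplane : ∀ q : ℕ, (∀ c ∈ M, q ≤ (S c).card) →
      (q : ℤ) * (h : ℤ) ^ 2 * N ≤ 2 * ∑ c, ∑ d, cov c d := by
    intro q hq
    refine le_trans ?_ (mul_le_mul_of_nonneg_left hlow (by norm_num))
    rw [mul_sum]
    have e : (q : ℤ) * (h : ℤ) ^ 2 * N = ∑ c ∈ M, (k c : ℤ) * ((q : ℤ) * h) := by
      rw [← sum_mul]
      have e : (∑ c ∈ M, (k c : ℤ)) = (h : ℤ) * N := by exact_mod_cast hN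
      rw [e]; ring
    rw [e]
    refine sum_le_sum fun c hc => ?_
    rw [← mul_sum]
    refine le_trans (mul_le_mul_of_nonneg_left ?_ (Int.natCast_nonneg (k c)))
      (le_of_eq (mul_left_comm _ _ _))
    rw [mul_sum]
    calc (q : ℤ) * h ≤ (S c).card * (h : ℤ) :=
          mul_le_mul_of_nonneg_right (by exact_mod_cast hq c hc) (Int.natCast_nonneg _)
      _ = ∑ d ∈ S c, (h : ℤ) := by rw [sum_const, nsmul_eq_mul]
      _ ≤ _ := sum_le_sum fun d hd => by
          have := hkM d (hSM c hd); omega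
  have hsq : ∀ c ∈ M, (f - 1) ^ 2 ≤ (S c).card := fun c hc =>
    sq_le_card_spaceOff h2 hab ((hMm c).1 hc)
  -- the inequality to prove
  suffices hgoal : (h : ℤ) ^ 2 * ((N + E) * (f - E)) ≤ ∑ c, ∑ d, cov c d by
    have hnE : (n : ℤ) = E + f + 2 * N := by rw [hE]; ring
    rw [hcovsum, hA, hN] at hgoal
    push_cast at hgoal ⊢
    rw [hnE]
    linear_combination hgoal
  have hcov0' : 0 ≤ ∑ c, ∑ d, cov c d := sum_nonneg fun c _ => sum_nonneg fun d _ => hcov0 c d
  rcases le_or_gt (f : ℤ) E with hEf | hEf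
  · refine le_trans ?_ hcov0'
    exact mul_nonpos_of_nonneg_of_nonpos (sq_nonneg _)
      (mul_nonpos_of_nonneg_of_nonpos (by omega) (by omega))
  have hbase := hplane _ hsq
  rcases le_or_gt 4 f with h4f | h4f
  · obtain ⟨c, hc⟩ := hMne
    have h1 := (hsq c hc).trans (card_le_card (hSM c))
    have hq : ((f : ℤ) - 1) ^ 2 ≤ 2 * N + E := by
      have h1' : (((f - 1) ^ 2 : ℕ) : ℤ) ≤ (M.card : ℤ) := by exact_mod_cast h1
      push_cast [Nat.cast_sub (by omega : 1 ≤ f)] at h1'
      omega
    have := case_arith (f := f) (N := N) (E := E) (by positivity) hE0 (by exact_mod_cast h4f)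
      hEf hq
    push_cast [Nat.cast_sub (by omega : 1 ≤ f)] at hbase
    nlinarith [mul_le_mul_of_nonneg_left this (sq_nonneg (h : ℤ))]
  -- small lines
  have hzero : E = 0 → ∀ c, c ∉ F → 2 * k c = h := by
    intro h0 c hc
    rw [h0, mul_zero] at hexc
    have := (sum_eq_zero_iff_of_nonneg hterm).1 hexc c ((hMm c).2 hc)
    omega
  have hone : E = 1 → ∃ c₀ ∈ M, 3 * k c₀ = h ∧ (triple G a b).card = 3 ∧
      ∀ c ∈ M, c ∉ triple G a b → 2 * k c = h := by
    intro h1
    rw [h1, mul_one] at hexc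
    obtain ⟨c₀, hc₀, hlt⟩ : ∃ c ∈ M, 2 * k c < h := by
      by_contra hcon
      push Not at hcon
      rw [sum_eq_zero fun c hc => by have := hkM c hc; have := hcon c hc; omega] at hexc
      omega
    set O : Finset Ω := (orbit (pst G a b) c₀).toFinset with hO
    have hko : ∀ c ∈ O, k c = k c₀ ∧ c ∈ M := by
      intro c hc
      obtain ⟨g, rfl⟩ := Set.mem_toFinset.1 hc
      have e : k (g • c₀) = k c₀ := tst_card_smul_of_mem g.2 c₀
      refine ⟨e, (hMm _).2 fun hcF => ?_⟩
      have h' := hkF _ hcF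
      change k ((g : G) • c₀) = h at h'
      change k ((g : G) • c₀) = k c₀ at e
      omega
    have hoc : O.card * k c₀ = h := by
      rw [hh', ← card_orbit_mul_tst a b c₀, hO, Set.toFinset_card,
        Nat.card_eq_fintype_card (α := orbit (pst G a b) c₀)]
    have hpart : ∑ c ∈ O, ((h : ℤ) - 2 * k c) = (O.card : ℤ) * h - 2 * h := by
      rw [sum_congr rfl fun c hc => by rw [(hko c hc).1], sum_const, nsmul_eq_mul]
      have : ((O.card * k c₀ : ℕ) : ℤ) = h := by exact_mod_cast hoc
      push_cast at this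
      linear_combination -2 * this
    have hOM : O ⊆ M := fun c hc => (hko c hc).2
    have hsplit := sum_sdiff hOM (f := fun c => (h : ℤ) - 2 * k c)
    rw [hexc, hpart] at hsplit
    have hrest : 0 ≤ ∑ c ∈ M \ O, ((h : ℤ) - 2 * k c) :=
      sum_nonneg fun c hc => hterm c (mem_sdiff.1 hc).1
    have hO3 : 3 ≤ O.card := by
      by_contra hlt3
      push Not at hlt3
      have : O.card * k c₀ ≤ 2 * k c₀ := Nat.mul_le_mul (by omega) le_rfl
      omega
    have hO3' : O.card = 3 := by
      by_contra hne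
      have h4 : (4 : ℤ) ≤ O.card := by exact_mod_cast (show 4 ≤ O.card by omega)
      have := mul_le_mul_of_nonneg_right h4 (Int.natCast_nonneg h)
      omega
    have hk3 : 3 * k c₀ = h := by rw [← hO3', hoc]
    have hzero' : ∀ c ∈ M \ O, 2 * k c = h := fun c hc => by
      rw [hO3'] at hsplit
      push_cast at hsplit
      have := (sum_eq_zero_iff_of_nonneg fun c hc => hterm c (mem_sdiff.1 hc).1).1
        (by linarith : ∑ c ∈ M \ O, ((h : ℤ) - 2 * k c) = 0) c hc
      omega
    have htr : triple G a b = O := by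
      ext c
      rw [mem_triple]
      refine ⟨fun hc => ?_, fun hc => ?_⟩
      · change 3 * k c = h at hc
        by_contra hcO
        rcases em (c ∈ F) with hcF | hcF
        · have := hkF c hcF; omega
        · have := hzero' c (mem_sdiff.2 ⟨(hMm c).2 hcF, hcO⟩); omega
      · change 3 * k c = h
        rw [(hko c hc).1, hk3]
    exact ⟨c₀, hc₀, hk3, htr ▸ hO3',
      fun c hc hct => hzero' c (mem_sdiff.2 ⟨hc, htr ▸ hct⟩)⟩
  clear_value E
  obtain ⟨e, rfl⟩ : ∃ e : ℕ, E = e := ⟨E.toNat, by omega⟩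
  rcases (show f = 2 ∨ f = 3 by omega) with hf2 | hf3
  · have hFab : F = {a, b} :=
      (eq_of_subset_of_card_le hab2 (by rw [card_pair hab]; omega)).symm
    rcases (show e = 0 ∨ e = 1 by omega) with rfl | rfl
    · -- all other orbits have two points
      have hall := hzero (by norm_num)
      have hh2 : h = 2 := by
        refine le_antisymm (card_pst_le_two h2 hab ⟨1 + N, ?_⟩ fun c hca hcb => ?_) hh
        · omega
        · exact hall c (by simp [hFab, hca, hcb])
      have hq : ∀ c ∈ M, 4 ≤ (S c).card := by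
        intro c hc
        have : M ⊆ S c := fun d hd => by
          refine mem_spaceOff.2 ⟨fun g hg => ?_, fun e => (hMm d).1 hd (mem_fixSet.2 e)⟩
          have hk1 : k c = 1 := by have := hall c ((hMm c).1 hc); omega
          rw [Subgroup.eq_bot_of_card_eq (tst G a b c) hk1, Subgroup.mem_bot] at hg
          rw [hg, one_smul]
        have := card_le_card this
        omega
      have := hplane 4 hq
      rw [hf2]; push_cast at this ⊢; linarith
    · obtain ⟨c₀, -, -, h3, hother⟩ := hone (by norm_num)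
      exact (no_single_triple h2 hab hn h3 fun c hca hcb hct =>
        hother c ((hMm c).2 (by simp [hFab, hca, hcb])) hct).elim
  · rcases (show e = 0 ∨ e = 1 ∨ e = 2 by omega) with rfl | rfl | rfl
    · have hall := hzero (by norm_num)
      have := hplane 6 fun c hc =>
        six_le_card_spaceOff h2 hab (hf ▸ hf3) hall ((hMm c).1 hc)
      rw [hf3]; push_cast at this ⊢; linarith
    · obtain ⟨c₀, hc₀, hk3, h3, hother⟩ := hone (by norm_num)
      exfalso
      have h4 := hsq c₀ hc₀
      rw [hf3] at h4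
      obtain ⟨d, hd, hdt⟩ : ∃ d ∈ S c₀, d ∉ triple G a b :=
        exists_mem_notMem_of_card_lt_card (by norm_num at h4; omega)
      have hd2 := hother d (hSM _ hd) hdt
      have hle : tst G a b c₀ ≤ tst G a b d := fun g hg =>
        mem_tst.2 ⟨(mem_tst.1 hg).1, (mem_tst.1 hg).2.1, (mem_spaceOff.1 hd).1 g hg⟩
      obtain ⟨j, hj⟩ := Subgroup.card_dvd_of_le hle
      change k d = k c₀ * j at hj
      have hpos : 0 < k c₀ := pos_tst a b c₀
      have e : k c₀ * (2 * j) = k c₀ * 3 := by rw [mul_left_comm, ← hj, hd2, ← hk3, mul_comm]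
      have := Nat.eq_of_mul_eq_mul_left hpos e
      omega
    · rw [hf3] at hbase ⊢
      norm_num at hbase ⊢
      rcases (show N = 1 ∨ 2 ≤ N by omega) with hN1 | hN2
      · -- four moved points, permuted regularly
        have hM4 : M.card = 4 := by omega
        have hfull : ∀ c ∈ M, S c = M := fun c hc => eq_of_subset_of_card_le (hSM c) (by
          have := hsq c hc
          rw [hf3] at this
          norm_num at this
          omega)
        have hk1 : ∀ c ∈ M, k c = 1 := by
          intro c hc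
          have : tst G a b c = ⊥ := (Subgroup.eq_bot_iff_forall _).2 fun g hg => by
            apply eq_of_smul_eq_smul (α := Ω)
            intro d
            rw [one_smul]
            rcases em (d ∈ F) with hd | hd
            · exact mem_fixSet.1 hd g (tst_le a b c hg)
            · have hdS : d ∈ S c := hfull c hc ▸ (hMm d).2 hd
              exact (mem_spaceOff.1 hdS).1 g hg
          simp only [hk, this, Subgroup.card_bot]
        have hh4 : h = 4 := by
          rw [sum_congr rfl hk1, sum_const, smul_eq_mul, hM4, hN1] at hN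
          omega
        refine le_trans ?_ hlow
        rw [sum_congr rfl (g := fun _ => (12 : ℤ)) fun c hc => by
          rw [hfull c hc, sum_congr rfl (g := fun _ => (3 : ℤ)) fun d hd => by
            rw [hk1 c hc, hk1 d hd, hh4]; norm_num, sum_const, hM4]
          norm_num, sum_const, hM4, hN1, hh4]
        norm_num
      · have h2' : (2 : ℤ) ≤ N := by exact_mod_cast hN2
        nlinarith [mul_le_mul_of_nonneg_left h2' (sq_nonneg (h : ℤ))]

end CfsgLib.Derangements.PairStab
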