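import Cfsg.Agent.Lib.Derangements.PairStabBasic

/-!
# The linear space of a doubly transitive group

The fixed point sets of the pair stabilisers are the lines of a linear space.  The fixed point
set of the stabiliser of three points is a subspace.
-/

set_option autoImplicit false

namespace CfsgLib.Derangements.PairStab

open MulAction Finset

variable {G Ω : Type*} [Group G] [MulAction G Ω] [Fintype Ω]

open scoped Classical in
/-- The points fixed by a subgroup. -/
noncomputable def fixSet (H : Subgroup G) : Finset Ω := {c | ∀ g ∈ H, g • c = c}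

theorem mem_fixSet {H : Subgroup G} {c : Ω} : c ∈ fixSet H ↔ ∀ g ∈ H, g • c = c := by
  classical simp [fixSet]

theorem fixSet_anti {H K : Subgroup G} (h : H ≤ K) : fixSet (Ω := Ω) K ⊆ fixSet H :=
  fun _ hc => mem_fixSet.2 fun g hg => mem_fixSet.1 hc g (h hg)

theorem left_mem_fixSet (x y : Ω) : x ∈ fixSet (pst G x y) :=
  mem_fixSet.2 fun _ hg => (mem_pst.1 hg).1

theorem right_mem_fixSet (x y : Ω) : y ∈ fixSet (pst G x y) :=
  mem_fixSet.2 fun _ hg => (mem_pst.1 hg).2

variable [Finite G]

theorem card_fixSet_pst (h2 : Two G Ω) {a b x y : Ω} (hab : a ≠ b) (hxy : x ≠ y) :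
    (fixSet (Ω := Ω) (pst G x y)).card = (fixSet (Ω := Ω) (pst G a b)).card := by
  obtain ⟨u, rfl, rfl⟩ := h2 a b x y hab hxy
  refine (card_equiv (MulAction.toPerm u) fun c => ?_).symm
  simp only [mem_fixSet, MulAction.toPerm_apply, mem_pst]
  constructor
  · rintro h g ⟨h1, h3⟩
    have := h (u⁻¹ * g * u) ⟨by rw [mul_smul, mul_smul, h1, inv_smul_smul],
      by rw [mul_smul, mul_smul, h3, inv_smul_smul]⟩
    rwa [mul_smul, mul_smul, inv_smul_eq_iff] at this
  · rintro h g ⟨h1, h3⟩
    have := h (u * g * u⁻¹) ⟨by rw [mul_smul, mul_smul, inv_smul_smul, h1],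
      by rw [mul_smul, mul_smul, inv_smul_smul, h3]⟩
    rwa [mul_smul, mul_smul, inv_smul_smul, smul_left_cancel_iff] at this

/-- Two points of a line determine it. -/
theorem pst_eq_of_mem_fixSet (h2 : Two G Ω) {x y u v : Ω} (hxy : x ≠ y) (huv : u ≠ v)
    (hu : u ∈ fixSet (pst G x y)) (hv : v ∈ fixSet (pst G x y)) : pst G u v = pst G x y := by
  have hle : pst G x y ≤ pst G u v := fun g hg =>
    mem_pst.2 ⟨mem_fixSet.1 hu g hg, mem_fixSet.1 hv g hg⟩
  exact (Subgroup.eq_of_le_of_card_ge hle (card_pst_const h2 hxy huv).le).symm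

/-- The fixed points of the stabiliser of three points which are off the line of the first two. -/
noncomputable def spaceOff (G : Type*) {Ω : Type*} [Group G] [MulAction G Ω] [Fintype Ω]
    (a b c : Ω) : Finset Ω :=
  open scoped Classical in fixSet (tst G a b c) \ fixSet (pst G a b)

theorem mem_spaceOff {a b c d : Ω} :
    d ∈ spaceOff G a b c ↔
      (∀ g ∈ tst G a b c, g • d = d) ∧ ¬ ∀ g ∈ pst G a b, g • d = d := by
  classical simp [spaceOff, mem_fixSet]

/-- A plane has at least `(f - 1)²` points off each of its lines. -/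
theorem sq_le_card_spaceOff (h2 : Two G Ω) {a b c : Ω} (hab : a ≠ b)
    (hc : c ∉ fixSet (pst G a b)) :
    ((fixSet (Ω := Ω) (pst G a b)).card - 1) ^ 2 ≤ (spaceOff G a b c).card := by
  classical
  set F := fixSet (Ω := Ω) (pst G a b) with hF
  set f := F.card with hf
  have hne : ∀ x ∈ F, x ≠ c := fun x hx h => hc (h ▸ hx)
  -- a line through `c` and a point of `F` meets `F` in this point only
  have hmeet : ∀ x ∈ F, ∀ y ∈ F, y ∈ fixSet (pst G c x) → y = x := by
    intro x hx y hy hyl
    by_contra hyx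
    have e1 : pst G y x = pst G a b := pst_eq_of_mem_fixSet h2 hab hyx hy hx
    have e2 : pst G y x = pst G c x :=
      pst_eq_of_mem_fixSet h2 (hne x hx).symm hyx hyl (right_mem_fixSet c x)
    exact hc (by rw [hF, ← e1, e2]; exact left_mem_fixSet c x)
  have hsub : ∀ x ∈ F, tst G a b c ≤ pst G c x := fun x hx g hg =>
    mem_pst.2 ⟨(mem_tst.1 hg).2.2, mem_fixSet.1 hx g (tst_le a b c hg)⟩
  set L : Ω → Finset Ω := fun x => fixSet (pst G c x) \ {c, x} with hL
  have hLcard : ∀ x ∈ F, (L x).card = f - 2 := by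
    intro x hx
    have hs : ({c, x} : Finset Ω) ⊆ fixSet (pst G c x) := by
      simp [insert_subset_iff, left_mem_fixSet, right_mem_fixSet]
    rw [hL, card_sdiff_of_subset hs, card_fixSet_pst h2 hab (hne x hx).symm,
      card_pair (hne x hx).symm]
  have hdisj : (↑F : Set Ω).PairwiseDisjoint L := by
    intro x hx y hy hxy
    rw [Function.onFun, disjoint_left]
    intro z hzx hzy
    simp only [hL, mem_sdiff, mem_insert, mem_singleton, not_or] at hzx hzy
    have e1 : pst G c z = pst G c x := pst_eq_of_mem_fixSet h2 (hne x hx).symm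
      (Ne.symm hzx.2.1) (left_mem_fixSet c x) hzx.1
    have e2 : pst G c z = pst G c y := pst_eq_of_mem_fixSet h2 (hne y hy).symm
      (Ne.symm hzy.2.1) (left_mem_fixSet c y) hzy.1
    exact hxy (hmeet x hx y hy (by rw [← e1, e2]; exact right_mem_fixSet c y)).symm
  have hcS : c ∈ spaceOff G a b c :=
    mem_spaceOff.2 ⟨fun g hg => (mem_tst.1 hg).2.2, fun h => hc (mem_fixSet.2 h)⟩
  have hU : F.biUnion L ⊆ (spaceOff G a b c).erase c := by
    intro z hz
    obtain ⟨x, hx, hzx⟩ := mem_biUnion.1 hz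
    simp only [hL, mem_sdiff, mem_insert, mem_singleton, not_or] at hzx
    refine mem_erase.2 ⟨hzx.2.1, mem_spaceOff.2 ⟨fun g hg =>
      mem_fixSet.1 hzx.1 g (hsub x hx hg), fun h => ?_⟩⟩
    exact hzx.2.2 (hmeet x hx z (mem_fixSet.2 h) hzx.1)
  have hle := card_le_card hU
  rw [card_biUnion hdisj, sum_congr rfl hLcard, sum_const, smul_eq_mul,
    card_erase_of_mem hcS] at hle
  have hpos : 1 ≤ (spaceOff G a b c).card := card_pos.2 ⟨c, hcS⟩
  have h2f : 2 ≤ f := by
    have : ({a, b} : Finset Ω) ⊆ F := by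
      simp [insert_subset_iff, hF, left_mem_fixSet, right_mem_fixSet]
    simpa [card_pair hab] using card_le_card this
  obtain ⟨e, he⟩ : ∃ e, f = e + 2 := ⟨f - 2, by omega⟩
  rw [← hf] at hle
  rw [he] at hle ⊢
  simp only [Nat.add_sub_cancel] at hle
  rw [show e + 2 - 1 = e + 1 by omega]
  nlinarith [Nat.sub_add_cancel hpos]

end CfsgLib.Derangements.PairStab
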