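import Cfsg.Agent.Lib.Derangements.PairStabBasic

/-!
# Moments of the fixed point character on a pair stabiliser

For a doubly transitive group, an inequality between the first two moments of the number of fixed
points on the stabiliser of two points gives at least `2|G|/n` derangements.
-/

set_option autoImplicit false

namespace CfsgLib.Derangements.PairStab

open MulAction Finset

variable {G Ω : Type*} [Group G] [Fintype G] [MulAction G Ω] [Fintype Ω] [DecidableEq Ω]

/-- The number of fixed points. -/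
def fx (Ω : Type*) {G : Type*} [Group G] [MulAction G Ω] [Fintype Ω] [DecidableEq Ω] (g : G) : ℕ :=
  #{c : Ω | g • c = c}

theorem fx_le (g : G) : fx Ω g ≤ Fintype.card Ω := card_le_univ _

/-- The first moment. -/
noncomputable def mom1 (G : Type*) {Ω : Type*} [Group G] [MulAction G Ω] [Fintype Ω]
    (x y : Ω) : ℕ :=
  ∑ c : Ω, Nat.card (tst G x y c)

/-- The second moment. -/
noncomputable def mom2 (G : Type*) {Ω : Type*} [Group G] [MulAction G Ω] [Fintype Ω]
    (x y : Ω) : ℕ :=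
  ∑ c : Ω, ∑ d : Ω, Nat.card ↥(tst G x y c ⊓ tst G x y d)

section

open scoped Classical in
theorem sum_fx (x y : Ω) : ∑ g : G with g ∈ pst G x y, fx Ω g = mom1 G x y := by
  simp only [fx, card_filter]
  rw [sum_comm, mom1]
  refine sum_congr rfl fun c _ => ?_
  rw [← card_filter, filter_filter, Nat.card_eq_fintype_card, Fintype.card_subtype]
  congr 1
  ext g
  simp [mem_tst, mem_pst, and_assoc]

open scoped Classical in
theorem sum_fx_sq (x y : Ω) :
    ∑ g : G with g ∈ pst G x y, fx Ω g * fx Ω g = mom2 G x y := by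
  simp only [fx, card_filter, sum_mul_sum]
  rw [sum_comm, mom2]
  refine sum_congr rfl fun c _ => ?_
  rw [sum_comm]
  refine sum_congr rfl fun d _ => ?_
  simp only [ite_mul, one_mul, zero_mul, ← ite_and]
  rw [← card_filter, filter_filter, Nat.card_eq_fintype_card, Fintype.card_subtype]
  congr 1
  ext g
  simp [mem_tst, mem_pst, Subgroup.mem_inf]
  tauto

omit [DecidableEq Ω] in
/-- The first moment is a multiple of the order of the pair stabiliser. -/
theorem card_dvd_mom1 (x y : Ω) : Nat.card (pst G x y) ∣ mom1 G x y := by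
  classical
  rw [← sum_fx]
  have h := MulAction.sum_card_fixedBy_eq_card_orbits_mul_card_group (pst G x y) Ω
  have e : ∑ g : G with g ∈ pst G x y, fx Ω g
      = ∑ g : pst G x y, Fintype.card (fixedBy Ω g) := by
    rw [← sum_subtype_eq_sum_filter]
    refine sum_congr (by ext; simp) fun g _ => ?_
    rw [fx, Fintype.card_subtype]
    exact congrArg card (filter_congr fun c _ => Iff.rfl)
  rw [e, h, Nat.card_eq_fintype_card]
  exact dvd_mul_left _ _

open scoped Classical in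
theorem sum_pairs_eq (h2 : Two G Ω) {a b : Ω} (hab : a ≠ b) (φ : ℕ → ℤ) :
    ∑ g : G, ((fx Ω g : ℤ) * ((fx Ω g : ℤ) - 1)) * φ (fx Ω g) =
      (Fintype.card Ω : ℤ) * ((Fintype.card Ω : ℤ) - 1) *
        ∑ g : G with g ∈ pst G a b, φ (fx Ω g) := by
  have hconj : ∀ x y : Ω, x ≠ y →
      ∑ g : G with g ∈ pst G x y, φ (fx Ω g) = ∑ g : G with g ∈ pst G a b, φ (fx Ω g) := by
    intro x y hxy
    obtain ⟨u, rfl, rfl⟩ := h2 a b x y hab hxy
    have hfx : ∀ g : G, fx Ω (u⁻¹ * g * u) = fx Ω g := by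
      intro g
      refine card_equiv (MulAction.toPerm u) fun c => ?_
      simp [mul_smul, inv_smul_eq_iff]
    refine sum_equiv (MulAut.conj u⁻¹).toEquiv (fun g => ?_) fun g _ => ?_
    · simp [mem_pst, mul_smul, inv_smul_eq_iff]
    · simp [hfx]
  have hcount : ∀ g : G, (fx Ω g : ℤ) * ((fx Ω g : ℤ) - 1) =
      ∑ p ∈ (univ : Finset Ω).offDiag, if g ∈ pst G p.1 p.2 then (1 : ℤ) else 0 := by
    intro g
    have hp : ((univ : Finset Ω).offDiag.filter fun p => g ∈ pst G p.1 p.2)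
        = ({c : Ω | g • c = c} : Finset Ω).offDiag := by
      ext ⟨c, d⟩
      simp [mem_pst]
      tauto
    rw [sum_boole, hp, offDiag_card]
    rw [Nat.cast_sub (Nat.le_mul_self _)]
    simp only [fx]
    push_cast
    ring
  calc ∑ g : G, ((fx Ω g : ℤ) * ((fx Ω g : ℤ) - 1)) * φ (fx Ω g)
      = ∑ g : G, ∑ p ∈ (univ : Finset Ω).offDiag,
          if g ∈ pst G p.1 p.2 then φ (fx Ω g) else 0 := by
        refine sum_congr rfl fun g _ => ?_
        rw [hcount, sum_mul]
        refine sum_congr rfl fun p _ => ?_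
        split_ifs <;> simp
    _ = ∑ p ∈ (univ : Finset Ω).offDiag, ∑ g : G with g ∈ pst G p.1 p.2, φ (fx Ω g) := by
        rw [sum_comm]
        simp [sum_filter]
    _ = ∑ p ∈ (univ : Finset Ω).offDiag, ∑ g : G with g ∈ pst G a b, φ (fx Ω g) :=
        sum_congr rfl fun p hp => hconj p.1 p.2 (mem_offDiag.1 hp).2.2
    _ = _ := by
        rw [sum_const, nsmul_eq_mul, offDiag_card, card_univ, Nat.cast_sub (Nat.le_mul_self _)]
        push_cast
        ring

open scoped Classical in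
/-- If the moments satisfy `h n² + A²/h + B ≥ 3 n A`, then there are at least `2|G|/n`
derangements. -/
theorem two_le_of_moments [Nonempty Ω] (h2 : Two G Ω) {a b : Ω} (hab : a ≠ b)
    (hcard : Nat.card G = Fintype.card Ω * (Fintype.card Ω - 1) * Nat.card (pst G a b))
    (hK : ∃ g ∈ pst G a b, ¬ ∀ c : Ω, g • c = c)
    (hid : ∑ g : G, ((fx Ω g : ℤ) - 1) * ((fx Ω g : ℤ) - Fintype.card Ω) = Nat.card G)
    (hmom : 3 * (Fintype.card Ω : ℤ) * Nat.card (pst G a b) * mom1 G a b ≤
      (Nat.card (pst G a b) : ℤ) * mom2 G a b + (mom1 G a b : ℤ) ^ 2 +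
        ((Nat.card (pst G a b) : ℤ) * Fintype.card Ω) ^ 2) :
    2 * Nat.card G ≤ Fintype.card Ω * Nat.card {g : G // ∀ ω : Ω, g • ω ≠ ω} := by
  set n := Fintype.card Ω with hn
  set h := Nat.card (pst G a b) with hh
  set S : Finset G := {g : G | g ∈ pst G a b} with hS
  set P : ℤ := ∑ g ∈ S, (fx Ω g : ℤ) * ((n : ℤ) - fx Ω g) with hP
  set Q : ℤ := ∑ g ∈ S, ((n : ℤ) - fx Ω g) with hQ
  have hnn : ∀ g : G, 0 ≤ (n : ℤ) - fx Ω g := fun g => by
    have := fx_le (Ω := Ω) g; omega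
  have hScard : S.card = h := by
    rw [hh, Nat.card_eq_fintype_card, Fintype.card_subtype, hS]
  -- `P` is positive
  have hPpos : 0 < P := by
    obtain ⟨g, hg, hmove⟩ := hK
    have h1 : 2 ≤ fx Ω g := by
      have : ({a, b} : Finset Ω) ⊆ ({c : Ω | g • c = c} : Finset Ω) := by
        intro c hc
        rcases mem_insert.1 hc with rfl | hc
        · simp [(mem_pst.1 hg).1]
        · rw [mem_singleton.1 hc]; simp [(mem_pst.1 hg).2]
      simpa [fx, card_pair hab] using card_le_card this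
    have h3 : fx Ω g < n := by
      rcases (fx_le (Ω := Ω) g).lt_or_eq with h | h
      · exact h
      · exact absurd (fun c => by
          have hu := eq_univ_of_card ({c : Ω | g • c = c} : Finset Ω) h
          exact (mem_filter.1 (hu.symm ▸ mem_univ c :
            c ∈ ({c : Ω | g • c = c} : Finset Ω))).2) hmove
    refine lt_of_lt_of_le ?_ (single_le_sum
      (f := fun g => (fx Ω g : ℤ) * ((n : ℤ) - fx Ω g))
      (fun u _ => mul_nonneg (Int.natCast_nonneg _) (hnn u)) (by simp [hS, hg] : g ∈ S))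
    exact mul_pos (by omega) (by omega)
  -- the hypothesis on the moments says `h P ≤ Q ^ 2`
  have e1 : (∑ g ∈ S, (fx Ω g : ℤ)) = mom1 G a b := by exact_mod_cast sum_fx (G := G) a b
  have e2 : (∑ g ∈ S, (fx Ω g : ℤ) * fx Ω g) = mom2 G a b := by
    exact_mod_cast sum_fx_sq (G := G) a b
  have hQ' : Q = (h : ℤ) * n - mom1 G a b := by
    rw [hQ, sum_sub_distrib, e1, sum_const, nsmul_eq_mul, hScard]
  have hP' : P = (n : ℤ) * mom1 G a b - mom2 G a b := by
    rw [hP, ← e1, ← e2, mul_sum, ← sum_sub_distrib]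
    exact sum_congr rfl fun g _ => by ring
  have hQP : (h : ℤ) * P ≤ Q ^ 2 := by rw [hQ', hP']; nlinarith [hmom]
  -- the excess
  set E : ℤ := ∑ g : G with ¬ ∀ ω : Ω, g • ω ≠ ω,
    ((fx Ω g : ℤ) - 1) * ((n : ℤ) - fx Ω g) with hE
  have hD : Nat.card {g : G // ∀ ω : Ω, g • ω ≠ ω} = #{g : G | ∀ ω : Ω, g • ω ≠ ω} := by
    rw [Nat.card_eq_fintype_card, Fintype.card_subtype]
  have hfix0 : ∀ g : G, (∀ ω : Ω, g • ω ≠ ω) → fx Ω g = 0 := fun g hg => by
    simp [fx, hg]
  have hnD : (n : ℤ) * #{g : G | ∀ ω : Ω, g • ω ≠ ω} = Nat.card G + E := by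
    rw [← hid, ← sum_filter_add_sum_filter_not univ (fun g : G => ∀ ω : Ω, g • ω ≠ ω)]
    rw [sum_congr rfl fun g hg => by rw [hfix0 g (mem_filter.1 hg).2], sum_const, nsmul_eq_mul,
      hE, add_assoc, ← sum_add_distrib, sum_eq_zero fun g _ => by ring]
    push_cast
    ring
  -- Cauchy-Schwarz
  set φ : ℕ → ℤ := fun k =>
    2 * Q * P * ((n : ℤ) - k) - Q ^ 2 * (((n : ℤ) - k) * k) with hφ
  have hpt : ∀ g : G, (fx Ω g : ℤ) * ((fx Ω g : ℤ) - 1) * φ (fx Ω g) ≤
      if ∀ ω : Ω, g • ω ≠ ω then 0 else ((fx Ω g : ℤ) - 1) * ((n : ℤ) - fx Ω g) * P ^ 2 := by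
    intro g
    split_ifs with hg
    · simp [hfix0 g hg]
    · have h1 : (1 : ℤ) ≤ fx Ω g := by
        push Not at hg
        obtain ⟨w, hw⟩ := hg
        have : 0 < fx Ω g := card_pos.2 ⟨w, by simp [hw]⟩
        omega
      have := mul_nonneg (mul_nonneg (sub_nonneg.2 h1) (hnn g))
        (sq_nonneg (P - Q * (fx Ω g : ℤ)))
      simp only [hφ]
      nlinarith
  have hsum := sum_le_sum fun g (_ : g ∈ (univ : Finset G)) => hpt g
  rw [sum_pairs_eq h2 hab, sum_ite, sum_const_zero, zero_add, ← sum_mul, ← hE] at hsum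
  have hin : ∑ g : G with g ∈ pst G a b, φ (fx Ω g) = Q ^ 2 * P := by
    simp only [hφ]
    rw [sum_sub_distrib, ← mul_sum, ← mul_sum]
    rw [← hS, ← hQ, show (∑ g ∈ S, ((n : ℤ) - fx Ω g) * fx Ω g) = P from
      sum_congr rfl fun g _ => mul_comm _ _]
    ring
  rw [hin] at hsum
  have hn1 : 1 ≤ n := Fintype.card_pos
  have hG : (Nat.card G : ℤ) = (n : ℤ) * ((n : ℤ) - 1) * h := by
    rw [hcard]; push_cast [Nat.cast_sub hn1]; ring
  have hEG : (Nat.card G : ℤ) * P ^ 2 ≤ E * P ^ 2 := by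
    refine le_trans ?_ hsum
    have h0 : (0 : ℤ) ≤ (n : ℤ) * ((n : ℤ) - 1) := mul_nonneg (by omega) (by omega)
    calc (Nat.card G : ℤ) * P ^ 2 = (n : ℤ) * ((n : ℤ) - 1) * ((h : ℤ) * P * P) := by
          rw [hG]; ring
      _ ≤ _ := mul_le_mul_of_nonneg_left (mul_le_mul_of_nonneg_right hQP hPpos.le) h0
  have hle : (Nat.card G : ℤ) ≤ E := le_of_mul_le_mul_right hEG (by positivity)
  rw [hD]
  have : ((2 * Nat.card G : ℕ) : ℤ) ≤
      ((n * #{g : G | ∀ ω : Ω, g • ω ≠ ω} : ℕ) : ℤ) := by push_cast; linarith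
  exact_mod_cast this

end

end CfsgLib.Derangements.PairStab
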