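import Mathlib
import Cfsg.Agent.Lib.Solvable.Basic

/-!
# Three primes along a normal series are not pairwise non-adjacent in the prime graph
-/

set_option autoImplicit false
set_option linter.style.haveILetI false

namespace CfsgLib.Derangements.PrimeGraph

variable {G : Type*} [Group G]

/-- If `y` of prime order normalises `A` and `V` (`V` commutative, normalised by `A`), and `y` is
fixed point free on `A` and on `V`, as is some element of `A` on `V`, then `|A|` annihilates `V`. -/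
theorem pow_card_eq_one [Finite G] (V A : Subgroup G) (hV : ∀ v ∈ V, ∀ w ∈ V, v * w = w * v)
    (y : G) (hy : (orderOf y).Prime)
    (hAV : ∀ a ∈ A, ∀ v ∈ V, a * v * a⁻¹ ∈ V) (hyV : ∀ v ∈ V, y * v * y⁻¹ ∈ V)
    (hyA : ∀ a ∈ A, y * a * y⁻¹ ∈ A)
    (hfyV : ∀ v ∈ V, y * v = v * y → v = 1) (hfyA : ∀ a ∈ A, y * a = a * y → a = 1)
    {a₁ : G} (ha₁ : a₁ ∈ A) (hfaV : ∀ v ∈ V, a₁ * v = v * a₁ → v = 1) :
    ∀ v ∈ V, v ^ Nat.card A = 1 := by
  classical
  letI : CommGroup V :=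
    { (inferInstance : Group V) with mul_comm := fun a b => Subtype.ext (hV a a.2 b b.2) }
  let Y := Subgroup.zpowers y
  haveI : Fintype A := Fintype.ofFinite A
  haveI : Fintype Y := Fintype.ofFinite Y
  have hpow : ∀ {P : G → Prop}, P 1 → (∀ g, P g → P (y * g)) → ∀ k ∈ Y, P k := by
    intro P h1 hstep k hk
    obtain ⟨n, rfl⟩ := (mem_powers_iff_mem_zpowers (x := y)).2 hk
    show P (y ^ n)
    clear hk
    induction n with
    | zero => simpa using h1
    | succ n ih =>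
      rw [pow_succ']
      exact hstep _ ih
  -- elements mapping `V` into itself
  let P : G → Prop := fun g => ∀ v ∈ V, g * v * g⁻¹ ∈ V
  have hPmul : ∀ g h, P g → P h → P (g * h) := fun g h hg hh v hv => by
    have := hg _ (hh v hv)
    simpa [mul_assoc] using this
  have hPY : ∀ k ∈ Y, P k := hpow (P := P) (fun v hv => by simpa using hv)
    (fun g hg => hPmul y g hyV hg)
  have hAY : ∀ k ∈ Y, ∀ a ∈ A, k * a * k⁻¹ ∈ A := hpow (P := fun k => ∀ a ∈ A, k * a * k⁻¹ ∈ A)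
    (fun a ha => by simpa using ha) (fun g hg a ha => by
      simpa [mul_assoc] using hyA _ (hg a ha))
  let c : (g : G) → P g → V →* V := fun g hg =>
    { toFun := fun v => ⟨g * v * g⁻¹, hg v v.2⟩
      map_one' := Subtype.ext (by simp)
      map_mul' := fun a b => Subtype.ext (by simp [mul_assoc]) }
  have hcc : ∀ g h (hg : P g) (hh : P h) (hgh : P (g * h)) v,
      c g hg (c h hh v) = c (g * h) hgh v := fun g h hg hh hgh v =>
    Subtype.ext (by simp [c, mul_assoc])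
  have hcong : ∀ g h (hg : P g) (hh : P h) v, g = h → c g hg v = c h hh v := by
    rintro g h hg hh v rfl; rfl
  have hcomm : ∀ (g : G) (hg : P g) (w : V), c g hg w = w → g * (w : G) = w * g := fun g hg w hw =>
    mul_inv_eq_iff_eq_mul.1 (congrArg Subtype.val hw)
  -- products over orbits
  have hprodY : ∀ v : V, ∏ k : Y, c k (hPY k k.2) v = 1 := by
    intro v
    refine Subtype.ext (hfyV _ (Subtype.coe_prop _) (hcomm y hyV _ ?_))
    rw [map_prod]
    refine Fintype.prod_equiv (Equiv.mulLeft (⟨y, Subgroup.mem_zpowers y⟩ : Y)) _ _ fun k => ?_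
    rw [hcc y k hyV (hPY k k.2) (hPmul _ _ hyV (hPY k k.2))]
    exact hcong _ _ _ _ _ rfl
  have hprodA : ∀ v : V, ∏ a : A, c a (hAV a a.2) v = 1 := by
    intro v
    refine Subtype.ext (hfaV _ (Subtype.coe_prop _) (hcomm a₁ (hAV a₁ ha₁) _ ?_))
    rw [map_prod]
    refine Fintype.prod_equiv (Equiv.mulLeft (⟨a₁, ha₁⟩ : A)) _ _ fun a => ?_
    rw [hcc a₁ a (hAV a₁ ha₁) (hAV a a.2) (hPmul _ _ (hAV a₁ ha₁) (hAV a a.2))]
    exact hcong _ _ _ _ _ rfl
  intro v hv
  let v' : V := ⟨v, hv⟩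
  have hP3 : ∀ (k : Y) (a : A), P (a * k * (a : G)⁻¹) := fun k a =>
    hPmul _ _ (hPmul _ _ (hAV a a.2) (hPY k k.2)) (hAV _ (inv_mem a.2))
  -- for fixed `a` the product over `k` is trivial
  have h1 : ∀ a : A, ∏ k : Y, c (a * k * (a : G)⁻¹) (hP3 k a) v' = 1 := by
    intro a
    have heq : ∀ k : Y, c (a * k * (a : G)⁻¹) (hP3 k a) v' =
        c a (hAV a a.2) (c k (hPY k k.2) (c (a : G)⁻¹ (hAV _ (inv_mem a.2)) v')) := fun k =>
      Subtype.ext (by simp [c, mul_assoc])
    rw [Fintype.prod_congr _ _ heq, ← map_prod, hprodY, map_one]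
  -- for fixed `k ≠ 1` the product over `a` is trivial
  have h2 : ∀ k : Y, k ≠ 1 → ∏ a : A, c (a * k * (a : G)⁻¹) (hP3 k a) v' = 1 := by
    intro k hk
    let f : A → A := fun a => ⟨a * (k * (a : G)⁻¹ * (k : G)⁻¹), mul_mem a.2 (hAY k k.2 _ (inv_mem a.2))⟩
    have hinj : Function.Injective f := by
      intro a b hab
      have h : (a : G) * (k * (a : G)⁻¹ * (k : G)⁻¹) = b * (k * (b : G)⁻¹ * (k : G)⁻¹) :=
        congrArg Subtype.val hab
      have hcm : (k : G) * ((b : G)⁻¹ * a) = ((b : G)⁻¹ * a) * k := by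
        have h' : (a : G) * k * (a : G)⁻¹ = b * k * (b : G)⁻¹ :=
          mul_right_cancel (b := (k : G)⁻¹) (by simpa [mul_assoc] using h)
        calc (k : G) * ((b : G)⁻¹ * a) = (b : G)⁻¹ * ((b : G) * k * (b : G)⁻¹) * a := by group
          _ = (b : G)⁻¹ * ((a : G) * k * (a : G)⁻¹) * a := by rw [h']
          _ = ((b : G)⁻¹ * a) * k := by group
      have hkY : Subgroup.zpowers (k : G) = Y := by
        refine Subgroup.eq_of_le_of_card_ge (Subgroup.zpowers_le.2 k.2) ?_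
        rw [Nat.card_zpowers, Nat.card_zpowers]
        rcases hy.eq_one_or_self_of_dvd _ (orderOf_dvd_of_mem_zpowers k.2) with h0 | h0
        · exact absurd (Subtype.ext (orderOf_eq_one_iff.1 h0)) hk
        · exact h0.ge
      have hmem : y ∈ Subgroup.centralizer ({(b : G)⁻¹ * a} : Set G) := by
        refine (Subgroup.zpowers_le.2 ?_ : Subgroup.zpowers (k : G) ≤ _)
          (hkY.symm ▸ Subgroup.mem_zpowers y)
        exact Subgroup.mem_centralizer_singleton_iff.2 hcm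
      exact (Subtype.ext (inv_mul_eq_one.1 (hfyA _ (mul_mem (inv_mem b.2) a.2)
        (Subgroup.mem_centralizer_singleton_iff.1 hmem))).symm :)
    have heq : ∀ a : A, c (a * k * (a : G)⁻¹) (hP3 k a) v' =
        c (f a) (hAV _ (f a).2) (c k (hPY k k.2) v') := fun a =>
      Subtype.ext (by simp [c, f, mul_assoc])
    rw [Fintype.prod_congr _ _ heq,
      Function.Bijective.prod_comp (Finite.injective_iff_bijective.1 hinj)
        (fun a : A => c a (hAV a a.2) (c k (hPY k k.2) v'))]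
    exact hprodA _
  have h3 : ∏ k : Y, ∏ a : A, c (a * k * (a : G)⁻¹) (hP3 k a) v' = 1 := by
    rw [Finset.prod_comm]; exact Finset.prod_eq_one fun a _ => h1 a
  rw [Finset.prod_eq_single (1 : Y) (fun k _ hk => h2 k hk) (by simp)] at h3
  have h4 : ∀ a : A, c (a * (1 : Y) * (a : G)⁻¹) (hP3 1 a) v' = v' := fun a =>
    Subtype.ext (by simp [c])
  rw [Fintype.prod_congr _ _ h4, Finset.prod_const, Finset.card_univ, ← Nat.card_eq_fintype_card] at h3
  exact congrArg Subtype.val h3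

/-- Commuting elements of coprime orders give an element of product order. -/
theorem exists_orderOf_mul {a b : G} {p q : ℕ} (hp : p.Prime) (hq : q.Prime) (hpq : p ≠ q)
    (ha : orderOf a = p) (hb : orderOf b = q) (hab : a * b = b * a) :
    ∃ x : G, orderOf x = p * q :=
  ⟨a * b, by
    rw [(Commute.orderOf_mul_eq_mul_orderOf_of_coprime hab
      (ha.symm ▸ hb.symm ▸ (Nat.coprime_primes hp hq).2 hpq)), ha, hb]⟩

theorem eq_one_of_comm {a v : G} {p q : ℕ} (hp : p.Prime) (hq : q.Prime) (hpq : p ≠ q)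
    (hne : ∀ x : G, orderOf x ≠ p * q) (hv : v ^ p = 1) (ha : orderOf a = q)
    (h : a * v = v * a) : v = 1 := by
  by_contra hv1
  haveI := Fact.mk hp
  obtain ⟨x, hx⟩ := exists_orderOf_mul hp hq hpq (orderOf_eq_prime hv hv1) ha h.symm
  exact hne x hx

/-- The elements killed by `p` in the centre of `P`, as a subgroup of the ambient group. -/
def centerTorsion (p : ℕ) (P : Subgroup G) : Subgroup G where
  carrier := {v | v ∈ P ∧ (∀ w ∈ P, v * w = w * v) ∧ v ^ p = 1}
  one_mem' := ⟨P.one_mem, fun w _ => by simp, one_pow p⟩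
  mul_mem' := by
    rintro a b ⟨ha, ha1, ha2⟩ ⟨hb, hb1, hb2⟩
    refine ⟨P.mul_mem ha hb, fun w hw => ?_, ?_⟩
    · rw [mul_assoc, hb1 w hw, ← mul_assoc, ha1 w hw, mul_assoc]
    · rw [Commute.mul_pow (ha1 b hb), ha2, hb2, one_mul]
  inv_mem' := by
    rintro a ⟨ha, ha1, ha2⟩
    exact ⟨P.inv_mem ha, fun w hw => (Commute.inv_left (ha1 w hw)), by rw [inv_pow, ha2, inv_one]⟩

theorem centerTorsion_ne_bot [Finite G] {p : ℕ} [Fact p.Prime] {P : Subgroup G} (hP : IsPGroup p P)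
    (hP1 : P ≠ ⊥) : centerTorsion p P ≠ ⊥ := by
  haveI : Nontrivial P := (Subgroup.nontrivial_iff_ne_bot P).2 hP1
  haveI := hP.center_nontrivial
  obtain ⟨n, hn⟩ := IsPGroup.iff_card.1 (hP.to_subgroup (Subgroup.center P))
  have hn0 : n ≠ 0 := by
    rintro rfl
    rw [pow_zero] at hn
    exact (Finite.one_lt_card_iff_nontrivial.2 inferInstance).ne' hn
  obtain ⟨z, hz⟩ := exists_prime_orderOf_dvd_card' (G := Subgroup.center P) p (hn ▸ dvd_pow_self p hn0)
  intro hbot
  have hmem : ((z : P) : G) ∈ centerTorsion p P := by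
    refine ⟨(z : P).2, fun w hw => congrArg Subtype.val (Subgroup.mem_center_iff.1 z.2 ⟨w, hw⟩).symm, ?_⟩
    have h : (((z ^ p : Subgroup.center P) : P) : G) = 1 := by rw [← hz, pow_orderOf_eq_one]; rfl
    simpa using h
  rw [hbot, Subgroup.mem_bot] at hmem
  have : z = 1 := Subtype.ext (Subtype.ext hmem)
  rw [this, orderOf_one] at hz
  exact (Fact.out : p.Prime).one_lt.ne hz

theorem conj_mem_centerTorsion {p : ℕ} {P : Subgroup G} {g v : G}
    (hg : g ∈ Subgroup.normalizer (P : Set G)) (hv : v ∈ centerTorsion p P) :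
    g * v * g⁻¹ ∈ centerTorsion p P := by
  obtain ⟨h1, h2, h3⟩ := hv
  rw [Subgroup.mem_normalizer_iff] at hg
  refine ⟨(hg v).1 h1, fun w hw => ?_, by rw [conj_pow, h3, mul_one, mul_inv_cancel]⟩
  have hw' : g⁻¹ * w * g ∈ P := (hg _).2 (by simpa [mul_assoc] using hw)
  calc g * v * g⁻¹ * w = g * (v * (g⁻¹ * w * g)) * g⁻¹ := by group
    _ = g * ((g⁻¹ * w * g) * v) * g⁻¹ := by rw [h2 _ hw']
    _ = w * (g * v * g⁻¹) := by group

/-- Three primes spread over the factors of a normal series `K ≤ M ≤ G` cannot be pairwise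
non-adjacent. -/
theorem exists_edge [Finite G] (K M : Subgroup G) [K.Normal] [M.Normal] (hKM : K ≤ M)
    (p q r : ℕ) (hp : p.Prime) (hq : q.Prime) (hr : r.Prime) (hpq : p ≠ q) (hpr : p ≠ r) (hqr : q ≠ r)
    (hpK : p ∣ Nat.card K) (hqM : q ∣ K.relIndex M) (hrG : r ∣ M.index) :
    (∃ x : G, orderOf x = p * q) ∨ (∃ x : G, orderOf x = p * r) ∨ (∃ x : G, orderOf x = q * r) := by
  by_contra hcon
  push Not at hcon
  obtain ⟨hnpq, hnpr, hnqr⟩ := hcon
  haveI := Fact.mk hp
  haveI := Fact.mk hq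
  haveI := Fact.mk hr
  obtain ⟨S⟩ : Nonempty (Sylow p K) := inferInstance
  set P : Subgroup G := (S : Subgroup K).map K.subtype with hPdef
  set N : Subgroup G := Subgroup.normalizer (P : Set G) with hNdef
  have hNK : N ⊔ K = ⊤ := Sylow.normalizer_sup_eq_top S
  have hP : IsPGroup p P := S.isPGroup'.map K.subtype
  have hP1 : P ≠ ⊥ := by
    rw [hPdef, ne_eq, Subgroup.map_eq_bot_iff_of_injective _ K.subtype_injective]
    exact Sylow.ne_bot_of_dvd_card S hpK
  set M₁ : Subgroup G := M ⊓ N with hM₁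
  have hM₁K : M₁ ⊔ K = M := by
    refine le_antisymm (sup_le inf_le_left hKM) fun m hm => ?_
    obtain ⟨n, hn, k, hk, rfl⟩ := Subgroup.mem_sup_of_normal_right.1 (hNK.symm ▸ Subgroup.mem_top m)
    refine Subgroup.mul_mem_sup (Subgroup.mem_inf.2 ⟨?_, hn⟩) hk
    exact (Subgroup.mul_mem_cancel_right M (hKM hk)).1 hm
  have hq1 : q ∣ Nat.card M₁ := by
    refine hqM.trans ?_
    rw [← hM₁K, Subgroup.relIndex_sup_right]
    exact ⟨_, (Subgroup.index_mul_card (K.subgroupOf M₁)).symm⟩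
  obtain ⟨T⟩ : Nonempty (Sylow q M₁) := inferInstance
  set Q : Subgroup G := (T : Subgroup M₁).map M₁.subtype with hQdef
  have hQ : IsPGroup q Q := T.isPGroup'.map M₁.subtype
  have hQ1 : Q ≠ ⊥ := by
    rw [hQdef, ne_eq, Subgroup.map_eq_bot_iff_of_injective _ M₁.subtype_injective]
    exact Sylow.ne_bot_of_dvd_card T hq1
  set N₂ : Subgroup G := Subgroup.normalizer (Q : Set G) ⊓ N with hN₂
  -- Frattini argument inside `N`
  have hN₂M : N₂ ⊔ M = ⊤ := by
    have hFrat : ∀ n ∈ N, n ∈ N₂ ⊔ M := by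
      intro n hn
      haveI : (M₁.subgroupOf N).Normal := by
        rw [hM₁, Subgroup.inf_subgroupOf_right]
        infer_instance
      let e := Subgroup.subgroupOfEquivOfLe (inf_le_right : M₁ ≤ N)
      let T' : Sylow q (M₁.subgroupOf N) := T.comapOfInjective e.toMonoidHom e.injective
        (by rw [MonoidHom.range_eq_top.2 e.surjective]; exact le_top)
      have h := Sylow.normalizer_sup_eq_top T'
      obtain ⟨⟨a, haN⟩, ha, ⟨b, hbN⟩, hb, hab⟩ :=
        Subgroup.mem_sup_of_normal_right.1 (h.symm ▸ Subgroup.mem_top (⟨n, hn⟩ : N))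
      have hab' : a * b = n := congrArg Subtype.val hab
      rw [← hab']
      refine Subgroup.mul_mem_sup (Subgroup.mem_inf.2 ⟨?_, haN⟩) (Subgroup.mem_inf.1 hb).1
      have hQ' : ((T' : Subgroup (M₁.subgroupOf N)).map (M₁.subgroupOf N).subtype).map N.subtype = Q := by
        ext x
        simp only [Subgroup.mem_map, hQdef]
        constructor
        · rintro ⟨y, ⟨z, hz, rfl⟩, rfl⟩
          exact ⟨e z, hz, rfl⟩
        · rintro ⟨z, hz, rfl⟩
          refine ⟨_, ⟨e.symm z, ?_, rfl⟩, rfl⟩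
          change e (e.symm z) ∈ (T : Subgroup M₁)
          rwa [MulEquiv.apply_symm_apply]
      rw [Subgroup.mem_normalizer_iff, ← hQ']
      intro x
      rw [Subgroup.mem_normalizer_iff] at ha
      constructor
      · rintro ⟨x', hx', rfl⟩
        exact ⟨_, (ha x').1 hx', rfl⟩
      · rintro ⟨x', hx', hxe⟩
        have hxN : x ∈ N := by
          have : a * x * a⁻¹ ∈ N := hxe ▸ x'.2
          have h2 := N.mul_mem (N.mul_mem (N.inv_mem haN) this) haN
          simpa [mul_assoc] using h2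
        refine ⟨⟨x, hxN⟩, (ha ⟨x, hxN⟩).2 ?_, rfl⟩
        rwa [show (⟨a, haN⟩ : N) * ⟨x, hxN⟩ * ⟨a, haN⟩⁻¹ = x' from Subtype.ext hxe.symm]
    rw [eq_top_iff, ← hNK]
    exact sup_le hFrat (hKM.trans le_sup_right)
  have hr2 : r ∣ Nat.card N₂ := by
    refine hrG.trans ?_
    rw [← Subgroup.relIndex_top_right M, ← hN₂M, Subgroup.relIndex_sup_right]
    exact ⟨_, (Subgroup.index_mul_card (M.subgroupOf N₂)).symm⟩
  obtain ⟨⟨y, hyN₂⟩, hy⟩ := exists_prime_orderOf_dvd_card' (G := N₂) r hr2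
  rw [Subgroup.orderOf_mk] at hy
  obtain ⟨hyQ, hyP⟩ := Subgroup.mem_inf.1 hyN₂
  set V := centerTorsion p P with hVdef
  set A := centerTorsion q Q with hAdef
  have hA1 : A ≠ ⊥ := centerTorsion_ne_bot hQ hQ1
  obtain ⟨a₁, ha₁, ha1⟩ := (Subgroup.bot_or_exists_ne_one A).resolve_left hA1
  have ha₁q : orderOf a₁ = q := orderOf_eq_prime ha₁.2.2 ha1
  have hQN : ∀ a ∈ A, a ∈ N := fun a ha => by
    obtain ⟨m, _, rfl⟩ := ha.1
    exact (Subgroup.mem_inf.1 m.2).2
  have hkill := pow_card_eq_one V A (fun v hv w hw => hv.2.1 w hw.1) y (hy ▸ hr)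
    (fun a ha v hv => conj_mem_centerTorsion (hQN a ha) hv)
    (fun v hv => conj_mem_centerTorsion hyP hv) (fun a ha => conj_mem_centerTorsion hyQ ha)
    (fun v hv h => eq_one_of_comm hp hr hpr hnpr hv.2.2 hy h)
    (fun a ha h => eq_one_of_comm hq hr hqr hnqr ha.2.2 hy h)
    ha₁ (fun v hv h => eq_one_of_comm hp hq hpq hnpq hv.2.2 ha₁q h)
  obtain ⟨k, hk⟩ := IsPGroup.iff_card.1 (hQ.to_le (fun a ha => ha.1 : A ≤ Q))
  apply centerTorsion_ne_bot hP hP1
  rw [Subgroup.eq_bot_iff_forall]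
  intro v hv
  have h1 : v ^ q ^ k = 1 := hk ▸ hkill v hv
  have h2 : v ^ p = 1 := hv.2.2
  have hg := pow_gcd_eq_one.2 ⟨h2, h1⟩
  rwa [Nat.Coprime.gcd_eq_one (Nat.Coprime.pow_right k ((Nat.coprime_primes hp hq).2 hpq)), pow_one] at hg

/-- Above a normal subgroup which is properly inside a solvable normal subgroup there is a normal
subgroup with relative index a nontrivial prime power. -/
theorem exists_prime_step [Finite G] (K N : Subgroup G) [K.Normal] [hN : N.Normal]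
    [Group.IsSolvable K] (hNK : N < K) :
    ∃ (M : Subgroup G) (p k : ℕ), p.Prime ∧ M.Normal ∧ N < M ∧ M ≤ K ∧
      Nat.card M = Nat.card N * p ^ k ∧ k ≠ 0 := by
  set f := QuotientGroup.mk' N with hf
  haveI : (K.map f).Normal := Subgroup.Normal.map ‹_› f (QuotientGroup.mk'_surjective N)
  haveI : Group.IsSolvable (K.map f) := solvable_of_surjective (f.subgroupMap_surjective K)
  have hne : K.map f ≠ ⊥ := by
    rw [ne_eq, Subgroup.map_eq_bot_iff, hf, QuotientGroup.ker_mk']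
    exact fun h => hNK.not_ge h
  obtain ⟨U, hUn, hU1, hUK, hUmin⟩ := CfsgLib.Solvable.Basic.exists_minimal_normal_le hne
  haveI := hUn
  haveI : Group.IsSolvable U := solvable_of_solvable_injective (f := Subgroup.inclusion hUK)
    (Subgroup.inclusion_injective hUK)
  obtain ⟨-, p, hp, -, hUp⟩ := CfsgLib.Solvable.Basic.minimal_normal_solvable U hU1 hUmin
  haveI := Fact.mk hp
  obtain ⟨k, hk⟩ := IsPGroup.iff_card.1 hUp
  have hcard : Nat.card (U.comap f) = Nat.card N * p ^ k := by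
    rw [hf, CfsgLib.Solvable.Basic.card_comap_mk, hk, mul_comm]
  have hk0 : k ≠ 0 := by
    rintro rfl
    rw [pow_zero] at hk
    exact hU1 (Subgroup.card_eq_one.1 hk)
  refine ⟨U.comap f, p, k, hp, inferInstance, ?_, ?_, hcard, hk0⟩
  · refine lt_of_le_of_ne (fun x hx => ?_) fun h => ?_
    · change f x ∈ U
      rw [hf, QuotientGroup.mk'_apply, (QuotientGroup.eq_one_iff x).2 hx]
      exact one_mem U
    · rw [← h] at hcard
      nth_rewrite 1 [← mul_one (Nat.card N)] at hcard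
      exact (Nat.one_lt_pow hk0 hp.one_lt).ne (Nat.eq_of_mul_eq_mul_left Nat.card_pos hcard)
  · refine (Subgroup.comap_mono hUK).trans ?_
    rw [Subgroup.comap_map_eq, hf, QuotientGroup.ker_mk']
    exact sup_le le_rfl hNK.le

/-- A solvable normal subgroup cannot have order divisible by two of three pairwise non-adjacent
primes. -/
theorem exists_edge_solvable [Finite G] (K : Subgroup G) [K.Normal] [Group.IsSolvable K]
    (p q r : ℕ) (hp : p.Prime) (hq : q.Prime) (hr : r.Prime) (hpq : p ≠ q) (hpr : p ≠ r) (hqr : q ≠ r)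
    (hpK : p ∣ Nat.card K) (hqK : q ∣ Nat.card K) (hrG : r ∣ Nat.card G) :
    (∃ x : G, orderOf x = p * q) ∨ (∃ x : G, orderOf x = p * r) ∨ (∃ x : G, orderOf x = q * r) := by
  classical
  let ρ : Finset ℕ := {p, q, r}
  have hρ : ∀ s ∈ ρ, s.Prime ∧ s ∣ Nat.card G := by
    intro s hs
    simp only [ρ, Finset.mem_insert, Finset.mem_singleton] at hs
    rcases hs with rfl | rfl | rfl
    exacts [⟨hp, hpK.trans (Subgroup.card_subgroup_dvd_card K)⟩,
      ⟨hq, hqK.trans (Subgroup.card_subgroup_dvd_card K)⟩, ⟨hr, hrG⟩]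
  have hedge : ∀ a ∈ ρ, ∀ b ∈ ρ, a ≠ b → (∃ x : G, orderOf x = a * b) →
      (∃ x : G, orderOf x = p * q) ∨ (∃ x : G, orderOf x = p * r) ∨ (∃ x : G, orderOf x = q * r) := by
    intro a ha b hb hab hx
    simp only [ρ, Finset.mem_insert, Finset.mem_singleton] at ha hb
    rcases ha with rfl | rfl | rfl <;> rcases hb with rfl | rfl | rfl <;>
      first
      | exact absurd rfl hab
      | exact Or.inl hx
      | exact Or.inr (Or.inl hx)
      | exact Or.inr (Or.inr hx)
      | (rw [mul_comm] at hx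
         first
         | exact Or.inl hx
         | exact Or.inr (Or.inl hx)
         | exact Or.inr (Or.inr hx))
  -- a maximal normal subgroup below `K` of order prime to all three
  have hbot : ∀ s : ℕ, s.Prime → ¬ s ∣ Nat.card (⊥ : Subgroup G) := fun s hs h => by
    rw [Subgroup.card_bot] at h; exact hs.not_dvd_one h
  obtain ⟨N, -, hN⟩ := Finite.exists_le_maximal
    (p := fun N : Subgroup G => N.Normal ∧ N ≤ K ∧ ∀ s ∈ ρ, ¬ s ∣ Nat.card N) (a := ⊥)
    ⟨inferInstance, bot_le, fun s hs => hbot s (hρ s hs).1⟩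
  obtain ⟨hNn, hNK, hNρ⟩ := hN.prop
  have hlt : N < K := lt_of_le_of_ne hNK fun h => hNρ p (by simp [ρ]) (h ▸ hpK)
  obtain ⟨M₀, u, k, hu, hM₀n, hNM, hM₀K, hM₀, hk⟩ := exists_prime_step K N hlt
  have huρ : u ∈ ρ := by
    by_contra hu'
    refine hNM.not_ge (hN.2 ⟨hM₀n, hM₀K, fun s hs hdvd => ?_⟩ hNM.le)
    rw [hM₀] at hdvd
    rcases (Nat.Prime.dvd_mul (hρ s hs).1).1 hdvd with h | h
    · exact hNρ s hs h
    · exact hu' ((Nat.prime_dvd_prime_iff_eq (hρ s hs).1 hu).1 ((hρ s hs).1.dvd_of_dvd_pow h) ▸ hs)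
  -- `M₀` is divisible by `u` alone; extend
  obtain ⟨L, hL0, hL⟩ := Finite.exists_le_maximal
    (p := fun L : Subgroup G => L.Normal ∧ L ≤ K ∧ ∀ s ∈ ρ, s ≠ u → ¬ s ∣ Nat.card L) (a := M₀)
    ⟨hM₀n, hM₀K, fun s hs hsu hdvd => by
      rw [hM₀] at hdvd
      rcases (Nat.Prime.dvd_mul (hρ s hs).1).1 hdvd with h | h
      · exact hNρ s hs h
      · exact hsu ((Nat.prime_dvd_prime_iff_eq (hρ s hs).1 hu).1 ((hρ s hs).1.dvd_of_dvd_pow h))⟩
  obtain ⟨hLn, hLK, hLρ⟩ := hL.prop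
  obtain ⟨s₀, hs₀, hs₀u, hs₀K⟩ : ∃ s ∈ ρ, s ≠ u ∧ s ∣ Nat.card K := by
    rcases eq_or_ne p u with rfl | h
    · exact ⟨q, by simp [ρ], hpq.symm, hqK⟩
    · exact ⟨p, by simp [ρ], h, hpK⟩
  have hlt' : L < K := lt_of_le_of_ne hLK fun h => hLρ s₀ hs₀ hs₀u (h ▸ hs₀K)
  obtain ⟨M, v, l, hv, hMn, hLM, hMK, hM, hl⟩ := exists_prime_step K L hlt'
  have hvρ : v ∈ ρ ∧ v ≠ u := by
    by_contra hv'
    refine hLM.not_ge (hL.2 ⟨hMn, hMK, fun s hs hsu hdvd => ?_⟩ hLM.le)
    rw [hM] at hdvd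
    rcases (Nat.Prime.dvd_mul (hρ s hs).1).1 hdvd with h | h
    · exact hLρ s hs hsu h
    · obtain rfl := (Nat.prime_dvd_prime_iff_eq (hρ s hs).1 hv).1 ((hρ s hs).1.dvd_of_dvd_pow h)
      exact hv' ⟨hs, hsu⟩
  obtain ⟨w, hw, hwu, hwv⟩ : ∃ w ∈ ρ, w ≠ u ∧ w ≠ v := by
    have : 0 < (ρ \ {u, v}).card := by
      have h1 := Finset.le_card_sdiff {u, v} ρ
      have h2 : ρ.card = 3 := by simp [ρ, hpq, hpr, hqr]
      have h3 : ({u, v} : Finset ℕ).card ≤ 2 := Finset.card_le_two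
      omega
    obtain ⟨w, hw⟩ := Finset.card_pos.1 this
    simp only [Finset.mem_sdiff, Finset.mem_insert, Finset.mem_singleton, not_or] at hw
    exact ⟨w, hw.1, hw.2.1, hw.2.2⟩
  haveI := hLn
  haveI := hMn
  have huL : u ∣ Nat.card L :=
    ((dvd_pow_self u hk).trans (Dvd.intro_left _ hM₀.symm)).trans (Subgroup.card_dvd_of_le hL0)
  have hrel : L.relIndex M = v ^ l := by
    have h := (L.subgroupOf M).card_mul_index
    rw [Nat.card_congr (Subgroup.subgroupOfEquivOfLe hLM.le).toEquiv, hM] at h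
    exact Nat.eq_of_mul_eq_mul_left Nat.card_pos h
  have hwM : w ∣ M.index := by
    have h := hρ w hw
    refine ((Nat.Prime.dvd_mul h.1).1 (M.card_mul_index.symm ▸ h.2)).resolve_left fun hd => ?_
    rw [hM] at hd
    rcases (Nat.Prime.dvd_mul h.1).1 hd with h' | h'
    · exact hLρ w hw hwu h'
    · exact hwv ((Nat.prime_dvd_prime_iff_eq h.1 hv).1 (h.1.dvd_of_dvd_pow h'))
  rcases exists_edge L M hLM.le u v w hu hv (hρ w hw).1 hvρ.2.symm hwu.symm hwv.symm huL
    (hrel ▸ dvd_pow_self v hl) hwM with h | h | h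
  · exact hedge u huρ v hvρ.1 hvρ.2.symm h
  · exact hedge u huρ w hw hwu.symm h
  · exact hedge v hvρ.1 w hw hwv.symm h

end CfsgLib.Derangements.PrimeGraph
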