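import Mathlib

/-! Extensions by elementary abelian groups with the same prime graph. -/

set_option linter.style.haveILetI false

open scoped MatrixGroups

namespace CfsgLib.Derangements.PrimeGraphExt

variable {W S : Type*} [CommGroup W] [Group S] (φ : S →* MulAut W)

theorem edge_iff [Finite S] [Finite W] {r : ℕ} (hr : r.Prime) (hW : ∀ w : W, w ^ r = 1)
    (hfpf : ∀ (s : S) (q : ℕ), q.Prime → q ≠ r → orderOf s = q → ∀ w, φ s w = w → w = 1)
    (p q : ℕ) (hp : p.Prime) (hq : q.Prime) (hpq : p ≠ q) :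
    (∃ g : W ⋊[φ] S, orderOf g = p * q) ↔ ∃ s : S, orderOf s = p * q := by
  refine ⟨fun ⟨h, hh⟩ => ?_, fun ⟨s, hs⟩ => ⟨SemidirectProduct.inr s, by
    rw [orderOf_injective _ SemidirectProduct.inr_injective, hs]⟩⟩
  set s := SemidirectProduct.rightHom h with hs
  set d := orderOf s with hd
  have hdpq : d ∣ p * q := hh ▸ orderOf_map_dvd _ h
  obtain ⟨w, hw⟩ : ∃ w : W, h ^ d = SemidirectProduct.inl w := by
    have h1 : (h ^ d).right = 1 := by
      show SemidirectProduct.rightHom (h ^ d) = 1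
      rw [map_pow]; exact pow_orderOf_eq_one s
    exact ⟨(h ^ d).left, SemidirectProduct.ext (by simp) (by simp [h1])⟩
  have hord : p * q ∣ d * r := by
    rw [← hh]
    apply orderOf_dvd_of_pow_eq_one
    rw [pow_mul, hw, ← map_pow, hW, map_one]
  have hfix : φ s w = w := by
    have hc : h * SemidirectProduct.inl w = SemidirectProduct.inl w * h := by
      rw [← hw]; exact (Commute.self_pow h d)
    have := congrArg SemidirectProduct.left hc
    simp only [SemidirectProduct.mul_left, SemidirectProduct.left_inl, SemidirectProduct.right_inl,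
      map_one, MulAut.one_apply] at this
    rw [mul_comm w] at this
    exact mul_left_cancel this
  have h1 : w = 1 → p * q ∣ d := by
    intro h1
    rw [← hh]
    apply orderOf_dvd_of_pow_eq_one
    rw [hw, h1, map_one]
  by_cases hw1 : w = 1
  · exact ⟨s, Nat.dvd_antisymm hdpq (h1 hw1)⟩
  exfalso
  obtain ⟨a, b, ha, hb, hab⟩ := Nat.dvd_mul.1 hdpq
  rcases (Nat.dvd_prime hp).1 ha with ha' | ha' <;> rcases (Nat.dvd_prime hq).1 hb with hb' | hb' <;>
    rw [ha', hb'] at hab
  · rw [← hab, one_mul, one_mul] at hord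
    exact hpq (((Nat.prime_dvd_prime_iff_eq hp hr).1 (dvd_of_mul_right_dvd hord)).trans
      ((Nat.prime_dvd_prime_iff_eq hq hr).1 (dvd_of_mul_left_dvd hord)).symm)
  · rw [one_mul] at hab
    rw [← hab, mul_comm] at hord
    have hpr : p = r :=
      (Nat.prime_dvd_prime_iff_eq hp hr).1 ((Nat.mul_dvd_mul_iff_left hq.pos).1 hord)
    exact hw1 (hfpf s _ hq (hpr ▸ hpq.symm) hab.symm w hfix)
  · rw [mul_one] at hab
    rw [← hab] at hord
    have hqr : q = r :=
      (Nat.prime_dvd_prime_iff_eq hq hr).1 ((Nat.mul_dvd_mul_iff_left hp.pos).1 hord)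
    exact hw1 (hfpf s _ hp (hqr ▸ hpq) hab.symm w hfix)
  · have h2 : h ^ d = 1 := orderOf_dvd_iff_pow_eq_one.1 (hh.trans hab ▸ dvd_rfl)
    rw [hw] at h2
    exact hw1 (SemidirectProduct.inl_injective (h2.trans (map_one _).symm))

theorem prime_dvd_iff [Finite S] [Finite W] {r : ℕ} [hr : Fact r.Prime] (hW : ∀ w : W, w ^ r = 1)
    (hrS : r ∣ Nat.card S) (p : ℕ) (hp : p.Prime) :
    p ∣ Nat.card (W ⋊[φ] S) ↔ p ∣ Nat.card S := by
  rw [SemidirectProduct.card, hp.dvd_mul]
  refine ⟨fun h => h.elim (fun hpW => ?_) id, Or.inr⟩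
  obtain ⟨k, hk⟩ := IsPGroup.iff_card.1 (show IsPGroup r W from fun g => ⟨1, by rw [pow_one]; exact hW g⟩)
  rw [hk] at hpW
  rwa [(Nat.prime_dvd_prime_iff_eq hp hr.out).1 (hp.dvd_of_dvd_pow hpW)]

variable {F : Type*} [Field F] [CharP F 2]

/-- In characteristic two an element of `SL₂` with trace zero squares to one. -/
lemma sq_eq_one (s : SL(2, F)) (h : s.1 1 1 = s.1 0 0) : s ^ 2 = 1 := by
  have hd := s.2
  rw [Matrix.det_fin_two, h] at hd
  have h2 : (2 : F) = 0 := CharTwo.two_eq_zero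
  rw [sq]
  apply Subtype.ext
  rw [Matrix.SpecialLinearGroup.coe_mul, Matrix.SpecialLinearGroup.coe_one]
  ext i j
  fin_cases i <;> fin_cases j <;> simp [Matrix.mul_apply, Fin.sum_univ_two]
  · linear_combination hd + s.1 0 1 * s.1 1 0 * h2
  · linear_combination (s.1 0 1) * h + s.1 0 0 * s.1 0 1 * h2
  · linear_combination (s.1 1 0) * h + s.1 0 0 * s.1 1 0 * h2
  · linear_combination hd + (s.1 1 1 + s.1 0 0) * h + s.1 0 1 * s.1 1 0 * h2

/-- Elements of odd order of `SL₂` in characteristic two fix no nonzero vector. -/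
lemma fixed_vector (s : SL(2, F)) (v : Fin 2 → F) (hv : v ≠ 0)
    (h : s.1.mulVec v = v) : s ^ 2 = 1 := by
  apply sq_eq_one
  have hd := s.2
  rw [Matrix.det_fin_two] at hd
  have h0 := congrFun h 0
  have h1 := congrFun h 1
  simp only [Matrix.mulVec, dotProduct, Fin.sum_univ_two] at h0 h1
  have h2 : (2 : F) = 0 := CharTwo.two_eq_zero
  by_contra hne
  have key : ∀ x : F, x * (s.1 1 1 - s.1 0 0) = 0 → x = 0 := fun x hx =>
    (mul_eq_zero.1 hx).resolve_right (sub_ne_zero.2 hne)
  apply hv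
  funext i
  fin_cases i
  · show v 0 = 0
    apply key
    linear_combination (s.1 1 1 - 1) * h0 - s.1 0 1 * h1 - v 0 * hd + (v 0 * s.1 1 1 - v 0) * h2
  · show v 1 = 0
    apply key
    linear_combination (s.1 0 0 - 1) * h1 - s.1 1 0 * h0 - v 1 * hd + (v 1 * s.1 1 1 - v 1) * h2

/-- The diagonal action of `SL₂` on a direct sum of copies of the natural module. -/
def act (F : Type*) [Field F] (N : ℕ) : SL(2, F) →* MulAut (Multiplicative (Fin N → Fin 2 → F)) :=
  MonoidHom.mk' (fun s => AddEquiv.toMultiplicative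
    { toFun := fun v i => s.1.mulVec (v i)
      invFun := fun v i => (s⁻¹).1.mulVec (v i)
      left_inv := fun v => funext fun i => by
        show (s⁻¹).1.mulVec (s.1.mulVec (v i)) = v i
        rw [Matrix.mulVec_mulVec, ← Matrix.SpecialLinearGroup.coe_mul, inv_mul_cancel]
        exact Matrix.one_mulVec _
      right_inv := fun v => funext fun i => by
        show s.1.mulVec ((s⁻¹).1.mulVec (v i)) = v i
        rw [Matrix.mulVec_mulVec, ← Matrix.SpecialLinearGroup.coe_mul, mul_inv_cancel]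
        exact Matrix.one_mulVec _
      map_add' := fun v w => funext fun i => Matrix.mulVec_add _ _ _ })
    (fun s t => by
      refine MulEquiv.ext fun v => ?_
      apply Multiplicative.toAdd.injective
      funext i
      exact (Matrix.mulVec_mulVec (Multiplicative.toAdd v i) s.1 t.1).symm)

/-- Groups of unbounded order with the prime graph of `SL₂` in characteristic two. -/
theorem exists_same_graph [Fintype F] {T : Type*} [Group T] (N : ℕ)
    (h2 : 2 ∣ Nat.card SL(2, F))
    (hprimes : ∀ p : ℕ, p.Prime → (p ∣ Nat.card T ↔ p ∣ Nat.card SL(2, F)))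
    (hedges : ∀ p q : ℕ, p.Prime → q.Prime → p ≠ q →
      ((∃ g : T, orderOf g = p * q) ↔ (∃ g : SL(2, F), orderOf g = p * q))) :
    ∃ (H : Type) (_ : Group H) (_ : Finite H), N < Nat.card H ∧
      ((∀ p : ℕ, p.Prime → (p ∣ Nat.card T ↔ p ∣ Nat.card H)) ∧
      (∀ p q : ℕ, p.Prime → q.Prime → p ≠ q →
        ((∃ g : T, orderOf g = p * q) ↔ (∃ g : H, orderOf g = p * q)))) := by
  classical
  let W := Multiplicative (Fin N → Fin 2 → F)
  let H₀ := W ⋊[act F N] SL(2, F)
  haveI : Finite H₀ := Finite.of_equiv _ SemidirectProduct.equivProd.symm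
  obtain ⟨H, hH, hfin, ⟨e⟩⟩ := Finite.exists_type_univ_nonempty_mulEquiv.{_, 0} H₀
  have hW : ∀ w : W, w ^ 2 = 1 := fun w => by
    apply Multiplicative.toAdd.injective
    funext i j
    show (2 • Multiplicative.toAdd w) i j = 0
    rw [Pi.smul_apply, Pi.smul_apply, two_nsmul, CharTwo.add_self_eq_zero]
  have hfpf : ∀ (s : SL(2, F)) (q : ℕ), q.Prime → q ≠ 2 → orderOf s = q →
      ∀ w, act F N s w = w → w = 1 := by
    intro s q hq hq2 hs w hw
    by_contra hne
    obtain ⟨i, hi⟩ : ∃ i, Multiplicative.toAdd w i ≠ 0 := by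
      by_contra hcon
      push Not at hcon
      exact hne (Multiplicative.toAdd.injective (funext hcon))
    have h' := congrFun (congrArg Multiplicative.toAdd hw) i
    have := orderOf_dvd_of_pow_eq_one (fixed_vector s _ hi h')
    rw [hs] at this
    exact hq2 ((Nat.prime_dvd_prime_iff_eq hq Nat.prime_two).1 this)
  haveI : Fact (Nat.Prime 2) := ⟨Nat.prime_two⟩
  have hcard : N < Nat.card H₀ := by
    rw [SemidirectProduct.card]
    have h1 : 2 ^ N ≤ Nat.card W := by
      rw [show Nat.card W = Nat.card (Fin N → Fin 2 → F) from rfl, Nat.card_fun]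
      simp only [Nat.card_eq_fintype_card, Fintype.card_fin]
      exact Nat.pow_le_pow_left (Fintype.one_lt_card (α := Fin 2 → F)) N
    calc N < 2 ^ N := Nat.lt_two_pow_self
      _ ≤ Nat.card W := h1
      _ ≤ _ := Nat.le_mul_of_pos_right _ Nat.card_pos
  refine ⟨H, hH, Finite.of_equiv _ e.toEquiv, ?_, fun p hp => ?_, fun p q hp hq hpq => ?_⟩
  · rwa [← Nat.card_congr e.toEquiv]
  · rw [← Nat.card_congr e.toEquiv, hprimes p hp, prime_dvd_iff (act F N) hW h2 p hp]
  · rw [hedges p q hp hq hpq, ← edge_iff (act F N) Nat.prime_two hW hfpf p q hp hq hpq]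
    constructor
    · rintro ⟨g, hg⟩; exact ⟨e g, by rw [e.orderOf_eq, hg]⟩
    · rintro ⟨g, hg⟩; exact ⟨e.symm g, by rw [e.symm.orderOf_eq, hg]⟩

end CfsgLib.Derangements.PrimeGraphExt
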