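import Cfsg.Prelude.Def_GeometricClasses
import Cfsg.Agent.Lib.Derangements.LinearElusive

/-!
# Normalizers of fields of prime degree in matrix algebras
-/

set_option autoImplicit false
set_option linter.unusedSectionVars false

namespace CfsgLib.Derangements.SingerPrime

open Module Matrix CfsgLib.Derangements.LinElusive

variable {F : Type*} [Field F] [Fintype F] {n : ℕ} {K : Subalgebra F (Matrix (Fin n) (Fin n) F)}

theorem exists_mulVec_eq (hK : Cfsg.Geo.IsFieldSubalgebra n K) {v : Fin n → F} (hv : v ≠ 0) (w : Fin n → F) :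
    ∃ k ∈ K, k *ᵥ v = w := by
  let ev : (Subalgebra.toSubmodule K) →ₗ[F] (Fin n → F) :=
    { toFun := fun k => k.1 *ᵥ v
      map_add' := fun a b => Matrix.add_mulVec a.1 b.1 v
      map_smul' := fun c a => Matrix.smul_mulVec c a.1 v }
  have hinj : Function.Injective ev := (injective_iff_map_eq_zero _).2 fun k hk => by
    by_contra hne
    obtain ⟨y, -, hy⟩ := hK.inv k.1 k.2 fun h => hne (Subtype.ext h)
    refine hv ?_
    have h : y *ᵥ (k.1 *ᵥ v) = 0 := by
      rw [show k.1 *ᵥ v = 0 from hk, Matrix.mulVec_zero]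
    rwa [Matrix.mulVec_mulVec, mul_eq_one_comm.1 hy, Matrix.one_mulVec] at h
  obtain ⟨k, hk⟩ := (LinearMap.injective_iff_surjective_of_finrank_eq_finrank
    (by rw [finrank_fin_fun]; exact hK.finrank_eq)).1 hinj w
  exact ⟨k.1, k.2, hk⟩

theorem eq_zero_of_mulVec (hK : Cfsg.Geo.IsFieldSubalgebra n K) {k : Matrix (Fin n) (Fin n) F} (hk : k ∈ K)
    {v : Fin n → F} (hv : v ≠ 0) (h : k *ᵥ v = 0) : k = 0 := by
  by_contra hne
  obtain ⟨y, -, hy⟩ := hK.inv k hk hne
  apply hv
  have h' : y *ᵥ (k *ᵥ v) = 0 := by rw [h, Matrix.mulVec_zero]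
  rwa [Matrix.mulVec_mulVec, mul_eq_one_comm.1 hy, Matrix.one_mulVec] at h'

theorem isField (hK : Cfsg.Geo.IsFieldSubalgebra n K) (hn : 0 < n) : IsField ↥K := by
  haveI : Nonempty (Fin n) := ⟨⟨0, hn⟩⟩
  refine ⟨⟨0, 1, zero_ne_one⟩, fun a b => Subtype.ext (hK.comm _ a.2 _ b.2), fun {a} ha => ?_⟩
  obtain ⟨y, hy, h⟩ := hK.inv a.1 a.2 fun h => ha (Subtype.ext h)
  exact ⟨⟨y, hy⟩, Subtype.ext h⟩

/-- A non-scalar element of the normalizer has one-dimensional eigenspaces. -/
theorem eigen_le_one (hK : Cfsg.Geo.IsFieldSubalgebra n K) (hn : n.Prime) {y : GL (Fin n) F}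
    (hy : y ∈ Cfsg.Geo.subalgebraNormalizer K)
    (hns : ∀ c : F, (y : Matrix (Fin n) (Fin n) F) ≠ c • (1 : Matrix (Fin n) (Fin n) F)) {μ : F}
    {v w : Fin n → F} (hv : v ≠ 0) (hyv : (y : Matrix (Fin n) (Fin n) F) *ᵥ v = μ • v)
    (hyw : (y : Matrix (Fin n) (Fin n) F) *ᵥ w = μ • w) : ∃ c : F, w = c • v := by
  set Y := (y : Matrix (Fin n) (Fin n) F) with hY
  set Y' := ((y⁻¹ : GL (Fin n) F) : Matrix (Fin n) (Fin n) F) with hY'
  have hYY' : Y' * Y = 1 := Units.inv_mul y
  letI : Field ↥K := (isField hK hn.pos).toField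
  let S : Subalgebra F ↥K := (Subalgebra.centralizer F ({Y} : Set (Matrix (Fin n) (Fin n) F))).comap K.val
  have hS : ∀ k : ↥K, k ∈ S ↔ Y * k.1 = k.1 * Y := fun k => by
    simp [S, Subalgebra.mem_centralizer_iff]
  haveI : IsSimpleOrder (Subalgebra F ↥K) :=
    Subalgebra.isSimpleOrder_of_finrank_prime F ↥K (by rw [hK.finrank_eq]; exact hn)
  rcases eq_bot_or_eq_top S with hbot | htop
  · obtain ⟨k, hk, hkv⟩ := exists_mulVec_eq hK hv w
    have hd : Y * k * Y' - k ∈ K := K.sub_mem ((hy k).1 hk) hk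
    have hzero : (Y * k * Y' - k) *ᵥ (Y *ᵥ v) = 0 := by
      rw [Matrix.mulVec_mulVec, sub_mul, mul_assoc (Y * k), hYY', mul_one, Matrix.sub_mulVec,
        ← Matrix.mulVec_mulVec, ← Matrix.mulVec_mulVec, hkv, hyw, hyv, Matrix.mulVec_smul, hkv, sub_self]
    have hne : Y *ᵥ v ≠ 0 := fun h => hv (by
      have h' : Y' *ᵥ (Y *ᵥ v) = 0 := by rw [h, Matrix.mulVec_zero]
      rwa [Matrix.mulVec_mulVec, hYY', Matrix.one_mulVec] at h')
    have h1 := sub_eq_zero.1 (eq_zero_of_mulVec hK hd hne hzero)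
    have h2 : (⟨k, hk⟩ : ↥K) ∈ S := (hS _).2 (by
      show Y * k = k * Y
      conv_rhs => rw [← h1, mul_assoc, hYY', mul_one])
    rw [hbot, Algebra.mem_bot] at h2
    obtain ⟨c, hc⟩ := h2
    refine ⟨c, ?_⟩
    rw [← hkv, show k = algebraMap F (Matrix (Fin n) (Fin n) F) c from (congrArg Subtype.val hc).symm,
      Algebra.algebraMap_eq_smul_one, Matrix.smul_mulVec, Matrix.one_mulVec]
  · exfalso
    obtain ⟨k₀, hk₀, hk₀v⟩ := exists_mulVec_eq hK hv (Y *ᵥ v)
    have hcomm : ∀ k ∈ K, Y * k = k * Y := fun k hk => (hS ⟨k, hk⟩).1 (htop ▸ Algebra.mem_top)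
    have hYK : Y = k₀ := Matrix.ext_of_mulVec_single fun i => by
      obtain ⟨k, hk, hkv⟩ := exists_mulVec_eq hK hv (Pi.single i (1 : F))
      rw [← hkv, Matrix.mulVec_mulVec, Matrix.mulVec_mulVec, hcomm k hk, hK.comm k₀ hk₀ k hk,
        ← Matrix.mulVec_mulVec, ← Matrix.mulVec_mulVec, hk₀v]
    have hz : (k₀ - μ • (1 : Matrix (Fin n) (Fin n) F)) *ᵥ v = 0 := by
      rw [Matrix.sub_mulVec, Matrix.smul_mulVec, Matrix.one_mulVec, hk₀v, hyv, sub_self]
    exact hns μ (hYK.trans (sub_eq_zero.1 (eq_zero_of_mulVec hK (K.sub_mem hk₀ (K.smul_mem K.one_mem μ)) hv hz)))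

/-- The Frobenius element of the normalizer. -/
theorem exists_frobenius (hK : Cfsg.Geo.IsFieldSubalgebra n K) (hn : n.Prime) :
    ∃ y : GL (Fin n) F, y ∈ Cfsg.Geo.subalgebraNormalizer K ∧ y ^ n = 1 ∧
      ∀ c : F, (y : Matrix (Fin n) (Fin n) F) ≠ c • (1 : Matrix (Fin n) (Fin n) F) := by
  letI : Field ↥K := (isField hK hn.pos).toField
  haveI : Finite ↥K := Module.finite_of_finite F
  let φ : ↥K ≃ₐ[F] ↥K := FiniteField.frobeniusAlgEquivOfAlgebraic F ↥K
  have hord : orderOf φ = n := (FiniteField.orderOf_frobeniusAlgEquivOfAlgebraic F ↥K).trans hK.finrank_eq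
  let v₀ : Fin n → F := Pi.single ⟨0, hn.pos⟩ 1
  have hv₀ : v₀ ≠ 0 := fun h => by simpa [v₀] using congrFun h ⟨0, hn.pos⟩
  let ev : ↥K →ₗ[F] (Fin n → F) :=
    { toFun := fun k => k.1 *ᵥ v₀
      map_add' := fun a b => Matrix.add_mulVec a.1 b.1 v₀
      map_smul' := fun c a => Matrix.smul_mulVec c a.1 v₀ }
  have hevb : Function.Bijective ev :=
    ⟨(injective_iff_map_eq_zero _).2 fun k hk => Subtype.ext (eq_zero_of_mulVec hK k.2 hv₀ hk), fun w => by
      obtain ⟨k, hk, h⟩ := exists_mulVec_eq hK hv₀ w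
      exact ⟨⟨k, hk⟩, h⟩⟩
  let e : ↥K ≃ₗ[F] (Fin n → F) := LinearEquiv.ofBijective ev hevb
  have he : ∀ k : ↥K, e k = k.1 *ᵥ v₀ := fun k => rfl
  let M : (↥K ≃ₐ[F] ↥K) → Matrix (Fin n) (Fin n) F := fun ψ =>
    LinearMap.toMatrix' ((e.toLinearMap.comp ψ.toLinearMap).comp e.symm.toLinearMap)
  have hM : ∀ ψ v, M ψ *ᵥ v = e (ψ (e.symm v)) := fun ψ v => LinearMap.toMatrix'_mulVec _ v
  have hM1 : M 1 = 1 := Matrix.ext_of_mulVec_single fun i => by
    rw [hM, Matrix.one_mulVec]
    exact e.apply_symm_apply _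
  have hMmul : ∀ ψ χ, M ψ * M χ = M (ψ * χ) := fun ψ χ => Matrix.ext_of_mulVec_single fun i => by
    rw [← Matrix.mulVec_mulVec, hM, hM, hM, e.symm_apply_apply]
    rfl
  have hconj : ∀ (ψ : ↥K ≃ₐ[F] ↥K) (k : ↥K), M ψ * k.1 = (ψ k).1 * M ψ := fun ψ k =>
    Matrix.ext_of_mulVec_single fun i => by
      obtain ⟨l, hl⟩ := e.surjective (Pi.single i (1 : F))
      have h : k.1 *ᵥ e l = e (k * l) := by rw [he, he, Matrix.mulVec_mulVec]; rfl
      rw [← hl, ← Matrix.mulVec_mulVec, ← Matrix.mulVec_mulVec, h, hM, hM, e.symm_apply_apply, e.symm_apply_apply,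
        map_mul, he, he, Matrix.mulVec_mulVec]
      rfl
  let y : GL (Fin n) F := ⟨M φ, M φ⁻¹, by rw [hMmul, mul_inv_cancel, hM1], by rw [hMmul, inv_mul_cancel, hM1]⟩
  have hpow : ∀ j : ℕ, ((y ^ j : GL (Fin n) F) : Matrix (Fin n) (Fin n) F) = M (φ ^ j) := fun j => by
    induction j with
    | zero => rw [pow_zero, pow_zero, hM1, Units.val_one]
    | succ j ih => rw [pow_succ, Units.val_mul, ih, pow_succ, ← hMmul]
  refine ⟨y, fun k => ⟨fun hk => ?_, fun hk => ?_⟩, Units.ext ?_, fun c hc => ?_⟩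
  · have h := hconj φ ⟨k, hk⟩
    show M φ * k * M φ⁻¹ ∈ K
    rw [show M φ * k = (φ ⟨k, hk⟩).1 * M φ from h, mul_assoc, hMmul, mul_inv_cancel, hM1, mul_one]
    exact Subtype.prop _
  · change M φ * k * M φ⁻¹ ∈ K at hk
    have h := hconj φ⁻¹ ⟨_, hk⟩
    have h' : M φ⁻¹ * (M φ * k * M φ⁻¹) = k * M φ⁻¹ := by
      rw [← mul_assoc, ← mul_assoc, hMmul, inv_mul_cancel, hM1, one_mul]
    change M φ⁻¹ * (M φ * k * M φ⁻¹) = (φ⁻¹ ⟨_, hk⟩).1 * M φ⁻¹ at h
    rw [h'] at h
    have h2 := congrArg (· * M φ) h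
    simp only [mul_assoc, hMmul, inv_mul_cancel, hM1, mul_one] at h2
    rw [h2]
    exact Subtype.prop _
  · have h := pow_orderOf_eq_one φ
    rw [hord] at h
    rw [hpow, h, hM1, Units.val_one]
  · have hφ : φ = 1 := by
      have hkey : ∀ k : ↥K, φ k = c • k := fun k => by
        apply e.injective
        have h := congrArg (fun A : Matrix (Fin n) (Fin n) F => A *ᵥ e k) hc
        simp only [Matrix.smul_mulVec, Matrix.one_mulVec] at h
        rw [map_smul, ← h]
        show e (φ k) = M φ *ᵥ e k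
        rw [hM, e.symm_apply_apply]
      have hc1 : c • (1 : ↥K) = 1 := by rw [← hkey, map_one]
      ext1 k
      rw [hkey, ← mul_one k, ← mul_smul_comm, hc1]
      rfl
    rw [hφ, orderOf_one] at hord
    exact hn.one_lt.ne hord

theorem det_isCompl {V : Type*} [AddCommGroup V] [Module F V] [FiniteDimensional F V] {C E : Submodule F V}
    (hc : IsCompl C E) {L : Module.End F V} (hE : Inv L E) {a : F} (hC : ∀ u ∈ C, L u = a • u) :
    LinearMap.det L = a ^ finrank F C * LinearMap.det (L.restrict fun _ h => hE.mem h : Module.End F E) := by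
  let e := Submodule.prodEquivOfIsCompl C E hc
  let R : Module.End F E := L.restrict fun _ h => hE.mem h
  have h : L = e.toLinearMap ∘ₗ LinearMap.prodMap (a • (LinearMap.id : C →ₗ[F] C)) R ∘ₗ e.symm.toLinearMap := by
    refine LinearMap.ext fun v => ?_
    obtain ⟨w, rfl⟩ := e.surjective v
    simp only [LinearMap.comp_apply, LinearEquiv.coe_coe, e.symm_apply_apply, LinearMap.prodMap_apply,
      LinearMap.smul_apply, LinearMap.id_apply]
    show L ((w.1 : V) + w.2) = ((a • w.1 : C) : V) + (R w.2 : V)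
    rw [map_add, hC _ w.1.2]
    rfl
  conv_lhs => rw [h]
  rw [LinearMap.det_conj, LinearMap.det_prodMap, LinearMap.det_smul, LinearMap.det_id, mul_one]

/-- A cyclic vector of an element of order `n` with one-dimensional eigenspaces. -/
theorem exists_cyclic [Fact n.Prime] (hn3 : 3 ≤ n) (hn0 : (n : F) ≠ 0) {L : Module.End F (Fin n → F)}
    (hL : L ^ n = 1) (hne : L ≠ 1)
    (heig : ∀ (μ : F) v w, v ≠ 0 → L v = μ • v → L w = μ • w → ∃ c : F, w = c • v)
    (hq : orderOf (Fintype.card F : ZMod n) = 1 ∨ orderOf (Fintype.card F : ZMod n) = n - 1) :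
    (∃ v, Submodule.span F (Set.range fun j : Fin n => (L ^ (j : ℕ)) v) = ⊤) ∧
    ∀ a : F, a ≠ 0 → ∃ h : Module.End F (Fin n → F), h * L = L * h ∧ LinearMap.det h = a := by
  classical
  obtain ⟨E, hc, hs, hu, -⟩ := exists_structure hn0 hL
  have hdim := Submodule.finrank_add_eq_of_isCompl hc
  rw [finrank_fin_fun] at hdim
  have hC1 : finrank F (L.eigenspace 1) ≤ 1 := by
    by_contra hcon
    push Not at hcon
    obtain ⟨v, hv, hv0⟩ := Submodule.exists_mem_ne_zero_of_ne_bot (p := L.eigenspace 1) (fun h => by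
      rw [h, finrank_bot] at hcon; omega)
    have hle : L.eigenspace 1 ≤ Submodule.span F {v} := fun w hw => by
      rw [Module.End.mem_eigenspace_iff] at hv hw
      obtain ⟨c, rfl⟩ := heig 1 v w hv0 hv hw
      exact Submodule.smul_mem _ c (Submodule.mem_span_singleton_self v)
    have := Submodule.finrank_mono hle
    rw [finrank_span_singleton hv0] at this
    omega
  have horb : ∀ (v : Fin n → F) (j : ℕ),
      (L ^ j) v ∈ Submodule.span F (Set.range fun j : Fin n => (L ^ (j : ℕ)) v) := fun v j => by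
    refine Submodule.subset_span ⟨⟨j % n, Nat.mod_lt _ (by omega)⟩, ?_⟩
    show (L ^ (j % n)) v = _
    conv_rhs => rw [← Nat.mod_add_div j n, pow_add, pow_mul, hL, one_pow, mul_one]
  have hfixC : ∀ u ∈ L.eigenspace 1, L u = (1 : F) • u := fun u hu' => Module.End.mem_eigenspace_iff.1 hu'
  have hpowfix : ∀ u, L u = u → ∀ j : ℕ, (L ^ j) u = u := fun u hu' j => by
    induction j with
    | zero => rfl
    | succ j ih => rw [pow_succ, Module.End.mul_apply, hu', ih]
  have hC : finrank F (L.eigenspace 1) = 1 ∧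
      ∃ v, Submodule.span F (Set.range fun j : Fin n => (L ^ (j : ℕ)) v) = ⊤ := by
    rcases hq with hq | hq
    · -- all `n`-th roots of unity lie in `F`
      have hdvd : n ∣ Fintype.card F - 1 := by
        rw [orderOf_eq_one_iff] at hq
        rw [← ZMod.natCast_eq_zero_iff, Nat.cast_sub Fintype.card_pos, hq, Nat.cast_one, sub_self]
      rw [← Fintype.card_units] at hdvd
      obtain ⟨ζ, hζ⟩ := exists_prime_orderOf_dvd_card n hdvd
      have hprim : IsPrimitiveRoot (ζ : F) n := by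
        rw [IsPrimitiveRoot.coe_units_iff, IsPrimitiveRoot.iff_def]
        exact ⟨hζ ▸ pow_orderOf_eq_one ζ, fun l hl => hζ ▸ orderOf_dvd_of_pow_eq_one hl⟩
      have hζn : (ζ : F) ^ n = 1 := hprim.pow_eq_one
      let P : ℕ → Module.End F (Fin n → F) := fun k =>
        ∑ j ∈ Finset.range n, ((ζ : F) ^ k) ^ j • L ^ (n - j)
      have hsum : ∀ u, ∑ k ∈ Finset.range n, P k u = (n : F) • u := fun u => by
        simp only [P, LinearMap.sum_apply, LinearMap.smul_apply]
        rw [Finset.sum_comm]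
        simp only [← Finset.sum_smul, ← pow_mul]
        rw [Finset.sum_eq_single 0]
        · simp [hL]
        · intro j hj hj0
          have hjn : (ζ : F) ^ j ≠ 1 := hprim.pow_ne_one_of_pos_of_lt hj0 (Finset.mem_range.1 hj)
          rw [Finset.sum_congr rfl fun k _ => show (ζ : F) ^ (k * j) = ((ζ : F) ^ j) ^ k by
            rw [← pow_mul, mul_comm]]
          have h := geom_sum_mul ((ζ : F) ^ j) n
          rw [← pow_mul, mul_comm j n, pow_mul, hζn, one_pow, sub_self, mul_eq_zero] at h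
          rw [h.resolve_right (sub_ne_zero.2 hjn), zero_smul]
        · intro h
          exact absurd (Finset.mem_range.2 (by omega)) h
      have heP : ∀ k u, L (P k u) = ((ζ : F) ^ k) • P k u := fun k u => by
        obtain ⟨m, hm⟩ : ∃ m, n = m + 1 := ⟨n - 1, by omega⟩
        simp only [P, LinearMap.sum_apply, LinearMap.smul_apply, map_sum, map_smul, Finset.smul_sum, smul_smul,
          ← pow_succ']
        rw [← Finset.sum_congr rfl fun j _ => show ((ζ : F) ^ k) ^ j • (L ^ (n - j + 1)) u =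
          ((ζ : F) ^ k) ^ j • L ((L ^ (n - j)) u) by rw [pow_succ', Module.End.mul_apply]]
        have hL' : (L ^ (n + 1)) u = (L ^ 1) u := by rw [pow_succ, hL, one_mul, pow_one]
        have hk : ((ζ : F) ^ k) ^ n = 1 := by rw [← pow_mul, mul_comm, pow_mul, hζn, one_pow]
        rw [show Finset.range n = Finset.range (m + 1) by rw [← hm],
          Finset.sum_range_succ' (fun j => ((ζ : F) ^ k) ^ j • (L ^ (n - j + 1)) u),
          Finset.sum_range_succ (fun j => ((ζ : F) ^ k) ^ (j + 1) • (L ^ (n - j)) u)]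
        refine congr_arg₂ (· + ·) (Finset.sum_congr rfl fun j hj => ?_) ?_
        · rw [show n - (j + 1) + 1 = n - j by have := Finset.mem_range.1 hj; omega]
        · rw [show ((ζ : F) ^ k) ^ (m + 1) = 1 by rw [← hm]; exact hk, pow_zero, one_smul, one_smul, Nat.sub_zero,
            hL', show n - m = 1 by omega]
      have hne0 : ∀ k < n, ∃ u, P k u ≠ 0 := by
        intro k hk
        by_contra hcon
        push Not at hcon
        -- the eigenspaces are lines, so `n - 1` of them cannot span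
        have hspan : ∀ i : ℕ, ∃ v : Fin n → F, LinearMap.range (P i) ≤ Submodule.span F {v} := fun i => by
          by_cases h : ∃ u, P i u ≠ 0
          · obtain ⟨u, hu⟩ := h
            refine ⟨P i u, ?_⟩
            rintro _ ⟨w, rfl⟩
            obtain ⟨c, hc'⟩ := heig _ (P i u) (P i w) hu (heP i u) (heP i w)
            rw [hc']
            exact Submodule.smul_mem _ c (Submodule.mem_span_singleton_self _)
          · push Not at h
            exact ⟨0, by rintro _ ⟨w, rfl⟩; rw [h w]; exact zero_mem _⟩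
        choose v hv using hspan
        have htop : (⊤ : Submodule F (Fin n → F)) ≤
            Submodule.span F (((Finset.range n).erase k).image v : Set (Fin n → F)) := fun u _ => by
          rw [← inv_smul_smul₀ hn0 u, ← hsum]
          refine Submodule.smul_mem _ _ (Submodule.sum_mem _ fun i hi => ?_)
          rcases eq_or_ne i k with rfl | hik
          · rw [hcon]; exact zero_mem _
          · exact Submodule.span_mono (by
              simp only [Set.singleton_subset_iff, Finset.coe_image, Set.mem_image, Finset.mem_coe]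
              exact ⟨i, Finset.mem_erase.2 ⟨hik, hi⟩, rfl⟩) (hv i ⟨u, rfl⟩)
        have h1 := (Submodule.finrank_mono htop).trans (finrank_span_finset_le_card _)
        rw [finrank_top, finrank_fin_fun] at h1
        have h2 := h1.trans Finset.card_image_le
        rw [Finset.card_erase_of_mem (Finset.mem_range.2 hk), Finset.card_range] at h2
        omega
      choose u hu using hne0
      refine ⟨le_antisymm hC1 (Nat.one_le_iff_ne_zero.2 fun h => ?_), ∑ k : Fin n, P k (u k k.2), ?_⟩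
      · refine hu 0 (by omega) ?_
        have hmem : P 0 (u 0 (by omega)) ∈ L.eigenspace 1 := by
          rw [Module.End.mem_eigenspace_iff, heP, pow_zero]
        rw [Submodule.finrank_eq_zero.1 h, Submodule.mem_bot] at hmem
        exact hmem
      · set v := ∑ k : Fin n, P k (u k k.2)
        set S := Submodule.span F (Set.range fun j : Fin n => (L ^ (j : ℕ)) v)
        have heig' : ∀ (i : ℕ) (w : Fin n → F) (j : ℕ), (L ^ j) (P i w) = ((ζ : F) ^ i) ^ j • P i w := fun i w j => by
          induction j with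
          | zero => simp
          | succ j ih => rw [pow_succ', Module.End.mul_apply, ih, map_smul, heP, smul_smul, pow_succ]
        have hPv : ∀ k : Fin n, P k v = (n : F) • P k (u k k.2) := fun k => by
          rw [show P k v = ∑ j ∈ Finset.range n, ((ζ : F) ^ (k : ℕ)) ^ j • (L ^ (n - j)) v by
            simp only [P, LinearMap.sum_apply, LinearMap.smul_apply]]
          simp only [v, map_sum, Finset.smul_sum, heig', smul_smul]
          rw [Finset.sum_comm, Finset.sum_eq_single k]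
          · rw [← Finset.sum_smul, Finset.sum_congr rfl fun j hj => show
              ((ζ : F) ^ (k : ℕ)) ^ j * ((ζ : F) ^ (k : ℕ)) ^ (n - j) = 1 by
              rw [← pow_add, Nat.add_sub_cancel' (Finset.mem_range.1 hj).le, ← pow_mul, mul_comm, pow_mul, hζn,
                one_pow]]
            simp
          · intro i _ hik
            rw [← Finset.sum_smul]
            have hne1 : (ζ : F) ^ (k : ℕ) / (ζ : F) ^ (i : ℕ) ≠ 1 := fun h => hik (Fin.ext
              (hprim.pow_inj i.2 k.2 ((div_eq_one_iff_eq (pow_ne_zero _ ζ.ne_zero)).1 h).symm))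
            have hterm : ∀ j ∈ Finset.range n, ((ζ : F) ^ (k : ℕ)) ^ j * ((ζ : F) ^ (i : ℕ)) ^ (n - j) =
                ((ζ : F) ^ (k : ℕ) / (ζ : F) ^ (i : ℕ)) ^ j := fun j hj => by
              rw [div_pow, eq_div_iff (pow_ne_zero _ (pow_ne_zero _ ζ.ne_zero)), mul_assoc, ← pow_add,
                Nat.sub_add_cancel (Finset.mem_range.1 hj).le, show ((ζ : F) ^ (i : ℕ)) ^ n = 1 by
                  rw [← pow_mul, mul_comm, pow_mul, hζn, one_pow], mul_one]
            have h := geom_sum_mul ((ζ : F) ^ (k : ℕ) / (ζ : F) ^ (i : ℕ)) n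
            rw [div_pow, ← pow_mul, ← pow_mul, mul_comm _ n, mul_comm _ n, pow_mul, pow_mul, hζn, one_pow, one_pow,
              div_one, sub_self, mul_eq_zero] at h
            rw [Finset.sum_congr rfl hterm, h.resolve_right (sub_ne_zero.2 hne1), zero_smul]
          · intro h
            exact absurd (Finset.mem_univ k) h
        have hmem : ∀ k : Fin n, P k (u k k.2) ∈ S := fun k => by
          rw [← inv_smul_smul₀ hn0 (P k (u k k.2)), ← hPv]
          refine S.smul_mem _ ?_
          simp only [P, LinearMap.sum_apply, LinearMap.smul_apply]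
          exact S.sum_mem fun j _ => S.smul_mem _ (horb v _)
        refine eq_top_iff.2 fun w _ => ?_
        rw [← inv_smul_smul₀ hn0 w, ← hsum]
        refine S.smul_mem _ (S.sum_mem fun i hi => ?_)
        obtain ⟨c, hc'⟩ := heig _ _ (P i w) (hu i (Finset.mem_range.1 hi)) (heP i _) (heP i w)
        rw [hc']
        exact S.smul_mem c (hmem ⟨i, Finset.mem_range.1 hi⟩)
    · have hE : finrank F E = n - 1 := by
        obtain ⟨t, ht⟩ := hu.dvd E le_rfl hu.inv
        rw [hq] at ht
        rcases t with _ | _ | t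
        · exfalso
          rw [mul_zero] at ht
          refine hne (LinearMap.ext fun w => ?_)
          have htop : L.eigenspace 1 = ⊤ := by
            have := hc.sup_eq_top
            rwa [Submodule.finrank_eq_zero.1 ht, sup_bot_eq] at this
          have hw : w ∈ L.eigenspace 1 := htop ▸ Submodule.mem_top
          rw [Module.End.mem_eigenspace_iff, one_smul] at hw
          exact hw
        · rw [ht]; ring
        · exfalso
          have h2 : (n - 1) * 2 ≤ (n - 1) * (t + 1 + 1) := Nat.mul_le_mul_left _ (by omega)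
          omega
      refine ⟨by omega, ?_⟩
      obtain ⟨c₀, hc₀, hc0⟩ := Submodule.exists_mem_ne_zero_of_ne_bot (p := L.eigenspace 1) (fun h => by
        rw [h, finrank_bot] at hdim; omega)
      obtain ⟨e₀, he₀, he0⟩ := Submodule.exists_mem_ne_zero_of_ne_bot (p := E) (fun h => by
        rw [h, finrank_bot] at hE; omega)
      refine ⟨c₀ + e₀, ?_⟩
      set v := c₀ + e₀
      set S := Submodule.span F (Set.range fun j : Fin n => (L ^ (j : ℕ)) v)
      have hSinv : Inv L S := Inv.of_mem fun w hw => by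
        refine Submodule.span_induction (fun x hx => ?_) ?_ (fun a b _ _ ha hb => ?_) (fun a x _ hx => ?_) hw
        · obtain ⟨j, rfl⟩ := hx
          show L ((L ^ (j : ℕ)) v) ∈ S
          rw [← Module.End.mul_apply, ← pow_succ']
          exact horb v _
        · simp
        · rw [map_add]; exact S.add_mem ha hb
        · rw [map_smul]; exact S.smul_mem a hx
      have hfix0 : L c₀ = c₀ := by rw [hfixC _ hc₀, one_smul]
      let G : Module.End F (Fin n → F) := ∑ j ∈ Finset.range n, L ^ j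
      have hGe : G e₀ = 0 := by
        have h1 : G e₀ ∈ E := by
          simp only [G, LinearMap.sum_apply]
          exact E.sum_mem fun j _ => by simpa using hu.inv.aeval_mem (Polynomial.X ^ j) he₀
        have h2 : G e₀ ∈ L.eigenspace 1 := by
          rw [Module.End.mem_eigenspace_iff, one_smul, ← Module.End.mul_apply]
          congr 1
          rw [← sub_eq_zero, ← sub_one_mul, mul_geom_sum, hL, sub_self]
        exact Submodule.disjoint_def.1 hc.disjoint _ h2 h1
      have hcS : c₀ ∈ S := by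
        have h : G v = (n : F) • c₀ := by
          rw [map_add, hGe, add_zero]
          simp only [G, LinearMap.sum_apply, hpowfix c₀ hfix0, Finset.sum_const, Finset.card_range]
          exact (Nat.cast_smul_eq_nsmul F n c₀).symm
        rw [← inv_smul_smul₀ hn0 c₀, ← h]
        refine S.smul_mem _ ?_
        simp only [G, LinearMap.sum_apply]
        exact S.sum_mem fun j _ => horb v j
      have heS : e₀ ∈ S := by
        have h := S.sub_mem (horb v 0) hcS
        simpa [v] using h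
      have hSE : E ≤ S := by
        have h1 := hu.dvd (S ⊓ E) inf_le_right (hSinv.inf hu.inv)
        rw [hq] at h1
        have h2 : S ⊓ E ≠ ⊥ := fun h => he0 ((Submodule.mem_bot F).1 (h ▸ ⟨heS, he₀⟩))
        have h3 := Nat.le_of_dvd (Nat.pos_of_ne_zero fun h => h2 (Submodule.finrank_eq_zero.1 h)) h1
        exact inf_eq_right.1 (Submodule.eq_of_le_of_finrank_le inf_le_right (by omega))
      have hCS : L.eigenspace 1 ≤ S := fun w hw => by
        obtain ⟨a, rfl⟩ := heig 1 c₀ w hc0 (hfixC _ hc₀) (hfixC _ hw)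
        exact S.smul_mem a hcS
      exact eq_top_iff.2 (hc.sup_eq_top ▸ sup_le hCS hSE)
  refine ⟨hC.2, fun a ha => ?_⟩
  let e := Submodule.prodEquivOfIsCompl _ _ hc
  let h : Module.End F (Fin n → F) := e.conjAlgEquiv F
    (LinearMap.prodMap (a • (LinearMap.id : L.eigenspace 1 →ₗ[F] L.eigenspace 1)) LinearMap.id)
  have hh : ∀ w, h (e w) = a • (w.1 : Fin n → F) + (w.2 : Fin n → F) := fun w => by
    simp [h, LinearEquiv.conjAlgEquiv_apply, e, Submodule.prodEquivOfIsCompl]; rfl
  refine ⟨h, LinearMap.ext fun v => ?_, ?_⟩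
  · obtain ⟨w, rfl⟩ := e.surjective v
    rw [Module.End.mul_apply, Module.End.mul_apply, hh, map_add, map_smul, hfixC _ w.1.2, one_smul]
    have : L (e w) = e (w.1, ⟨L w.2, hu.inv.mem w.2.2⟩) := by
      show L ((w.1 : Fin n → F) + w.2) = (w.1 : Fin n → F) + L w.2
      rw [map_add, hfixC _ w.1.2, one_smul]
    rw [this, hh]
  · show LinearMap.det (e.conjAlgEquiv F _) = a
    rw [LinearEquiv.conjAlgEquiv_apply]
    refine (LinearMap.det_conj _ e).trans ?_
    rw [LinearMap.det_prodMap, LinearMap.det_smul, LinearMap.det_id, LinearMap.det_id, hC.1, pow_one, mul_one,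
      mul_one]

/-- Two elements of order `n` with one-dimensional eigenspaces are conjugate by a matrix of determinant one. -/
theorem exists_conj [Fact n.Prime] (hn3 : 3 ≤ n) (hn0 : (n : F) ≠ 0)
    (hq : orderOf (Fintype.card F : ZMod n) = 1 ∨ orderOf (Fintype.card F : ZMod n) = n - 1)
    {X Y : Matrix (Fin n) (Fin n) F} (hX : X ^ n = 1) (hY : Y ^ n = 1) (hX1 : X ≠ 1) (hY1 : Y ≠ 1)
    (hXe : ∀ (μ : F) v w, v ≠ 0 → X *ᵥ v = μ • v → X *ᵥ w = μ • w → ∃ c : F, w = c • v)
    (hYe : ∀ (μ : F) v w, v ≠ 0 → Y *ᵥ v = μ • v → Y *ᵥ w = μ • w → ∃ c : F, w = c • v) :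
    ∃ G : Matrix (Fin n) (Fin n) F, G.det = 1 ∧ X * G = G * Y := by
  classical
  let T := (Matrix.toLinAlgEquiv' : Matrix (Fin n) (Fin n) F ≃ₐ[F] Module.End F (Fin n → F))
  have hT : ∀ (M : Matrix (Fin n) (Fin n) F) v, T M v = M *ᵥ v := fun M v => rfl
  have hne : ∀ M : Matrix (Fin n) (Fin n) F, M ≠ 1 → T M ≠ 1 := fun M hM h =>
    hM (T.injective (h.trans (map_one T).symm))
  obtain ⟨⟨v, hv⟩, -⟩ := exists_cyclic hn3 hn0 (L := T X) (by rw [← map_pow, hX, map_one]) (hne X hX1) hXe hq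
  obtain ⟨⟨w, hw⟩, hfix⟩ := exists_cyclic hn3 hn0 (L := T Y) (by rw [← map_pow, hY, map_one]) (hne Y hY1) hYe hq
  let bv : Basis (Fin n) F (Fin n → F) :=
    basisOfTopLeSpanOfCardEqFinrank (fun j : Fin n => ((T X) ^ (j : ℕ)) v) hv.ge (by simp)
  let bw : Basis (Fin n) F (Fin n → F) :=
    basisOfTopLeSpanOfCardEqFinrank (fun j : Fin n => ((T Y) ^ (j : ℕ)) w) hw.ge (by simp)
  have hbv : ∀ j, bv j = ((T X) ^ (j : ℕ)) v := fun j => by simp [bv]
  have hbw : ∀ j, bw j = ((T Y) ^ (j : ℕ)) w := fun j => by simp [bw]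
  let g : (Fin n → F) ≃ₗ[F] (Fin n → F) := bw.equiv bv (Equiv.refl _)
  have hg : ∀ j, g (bw j) = bv j := fun j => by simp [g]
  have hgpow : ∀ j : ℕ, g (((T Y) ^ j) w) = ((T X) ^ j) v := fun j => by
    have hred : ∀ (L : Module.End F (Fin n → F)), L ^ n = 1 → L ^ j = L ^ (j % n) := fun L hL => by
      conv_lhs => rw [← Nat.mod_add_div j n, pow_add, pow_mul, hL, one_pow, mul_one]
    rw [hred _ (by rw [← map_pow, hY, map_one]), hred _ (by rw [← map_pow, hX, map_one])]
    have h := hg ⟨j % n, Nat.mod_lt _ (by omega)⟩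
    rw [hbv, hbw] at h
    exact h
  let G₀ := T.symm (g : (Fin n → F) →ₗ[F] (Fin n → F))
  have hG₀ : T G₀ = (g : (Fin n → F) →ₗ[F] (Fin n → F)) := T.apply_symm_apply _
  have hcomm : X * G₀ = G₀ * Y := T.injective (bw.ext fun j => by
    rw [map_mul, map_mul, hG₀, Module.End.mul_apply, Module.End.mul_apply]
    show T X (g (bw j)) = g (T Y (bw j))
    rw [hbw, hgpow, ← Module.End.mul_apply, ← Module.End.mul_apply, ← pow_succ', ← pow_succ', hgpow])
  have hdet : G₀.det ≠ 0 := by
    rw [show G₀.det = LinearMap.det (g : (Fin n → F) →ₗ[F] (Fin n → F)) by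
      rw [← hG₀]; exact (LinearMap.det_toLin' G₀).symm]
    exact g.isUnit_det'.ne_zero
  obtain ⟨h, hh, hhd⟩ := hfix G₀.det⁻¹ (inv_ne_zero hdet)
  refine ⟨G₀ * T.symm h, ?_, ?_⟩
  · rw [Matrix.det_mul, show (T.symm h).det = LinearMap.det h by
      conv_rhs => rw [← T.apply_symm_apply h]
      exact (LinearMap.det_toLin' _).symm, hhd, mul_inv_cancel₀ hdet]
  · have hYh : Y * T.symm h = T.symm h * Y := T.injective (by
      rw [map_mul, map_mul, T.apply_symm_apply, hh])
    rw [← mul_assoc, hcomm, mul_assoc, hYh, ← mul_assoc]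

/-- An element with a two-dimensional eigenspace has no conjugate in the normalizer. -/
theorem not_conj (hK : Cfsg.Geo.IsFieldSubalgebra n K) (hn : n.Prime) {x : Matrix.SpecialLinearGroup (Fin n) F}
    (hns : ∀ c : F, (x : Matrix (Fin n) (Fin n) F) ≠ c • (1 : Matrix (Fin n) (Fin n) F)) {μ : F}
    {v w : Fin n → F} (hv : v ≠ 0) (hw : ∀ c : F, w ≠ c • v)
    (hxv : (x : Matrix (Fin n) (Fin n) F) *ᵥ v = μ • v) (hxw : (x : Matrix (Fin n) (Fin n) F) *ᵥ w = μ • w) :
    ¬ ∃ P : Matrix.SpecialLinearGroup (Fin n) F, P⁻¹ * x * P ∈ ((Cfsg.Geo.subalgebraNormalizer K).comap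
      (Matrix.SpecialLinearGroup.toGL : Matrix.SpecialLinearGroup (Fin n) F →* GL (Fin n) F)) := by
  rintro ⟨P, hP⟩
  set A := (P : Matrix (Fin n) (Fin n) F)
  set B := ((P⁻¹ : Matrix.SpecialLinearGroup (Fin n) F) : Matrix (Fin n) (Fin n) F)
  have hAB : A * B = 1 := by rw [← Matrix.SpecialLinearGroup.coe_mul, mul_inv_cancel]; rfl
  have hBA : B * A = 1 := by rw [← Matrix.SpecialLinearGroup.coe_mul, inv_mul_cancel]; rfl
  have hy : ((Matrix.SpecialLinearGroup.toGL (P⁻¹ * x * P) : GL (Fin n) F) : Matrix (Fin n) (Fin n) F) =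
      B * (x : Matrix (Fin n) (Fin n) F) * A := rfl
  have hA : ∀ u, A *ᵥ (B *ᵥ u) = u := fun u => by rw [Matrix.mulVec_mulVec, hAB, Matrix.one_mulVec]
  obtain ⟨c, hc⟩ := eigen_le_one hK hn (Subgroup.mem_comap.1 hP)
    (fun c hc => hns c (by
      have h : A * (B * (x : Matrix (Fin n) (Fin n) F) * A) * B = (x : Matrix (Fin n) (Fin n) F) := by
        rw [← mul_assoc, ← mul_assoc, hAB, one_mul, mul_assoc, hAB, mul_one]
      rw [hy] at hc
      rw [hc, mul_smul_comm, mul_one, smul_mul_assoc, hAB] at h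
      exact h.symm))
    (v := B *ᵥ v) (w := B *ᵥ w) (μ := μ) (fun h => hv (by rw [← hA v, h, Matrix.mulVec_zero]))
    (by rw [hy, ← Matrix.mulVec_mulVec, ← Matrix.mulVec_mulVec, hA, hxv, Matrix.mulVec_smul])
    (by rw [hy, ← Matrix.mulVec_mulVec, ← Matrix.mulVec_mulVec, hA, hxw, Matrix.mulVec_smul])
  exact hw c (by rw [← hA w, hc, Matrix.mulVec_smul, hA])

/-- An element of order `n` with one-dimensional eigenspaces is conjugate into the normalizer. -/
theorem exists_conj_normalizer [Fact n.Prime] (hK : Cfsg.Geo.IsFieldSubalgebra n K) (hn3 : 3 ≤ n)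
    (hn0 : (n : F) ≠ 0)
    (hq : orderOf (Fintype.card F : ZMod n) = 1 ∨ orderOf (Fintype.card F : ZMod n) = n - 1)
    {x : Matrix.SpecialLinearGroup (Fin n) F} (hx : (x : Matrix (Fin n) (Fin n) F) ^ n = 1)
    (hx1 : (x : Matrix (Fin n) (Fin n) F) ≠ 1)
    (hxe : ∀ (μ : F) v w, v ≠ 0 → (x : Matrix (Fin n) (Fin n) F) *ᵥ v = μ • v →
      (x : Matrix (Fin n) (Fin n) F) *ᵥ w = μ • w → ∃ c : F, w = c • v) :
    ∃ P : Matrix.SpecialLinearGroup (Fin n) F, P⁻¹ * x * P ∈ ((Cfsg.Geo.subalgebraNormalizer K).comap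
      (Matrix.SpecialLinearGroup.toGL : Matrix.SpecialLinearGroup (Fin n) F →* GL (Fin n) F)) := by
  have hn := (Fact.out : n.Prime)
  obtain ⟨y, hy, hyn, hys⟩ := exists_frobenius hK hn
  obtain ⟨G, hG, hXG⟩ := exists_conj hn3 hn0 hq hx (Y := (y : Matrix (Fin n) (Fin n) F))
    (by rw [← Units.val_pow_eq_pow_val, hyn, Units.val_one]) hx1 (fun h => hys 1 (by rw [h, one_smul])) hxe
    (fun μ v w hv hv' hw' => eigen_le_one hK hn hy hys hv hv' hw')
  let P : Matrix.SpecialLinearGroup (Fin n) F := ⟨G, hG⟩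
  refine ⟨P, Subgroup.mem_comap.2 ?_⟩
  have h : Matrix.SpecialLinearGroup.toGL (P⁻¹ * x * P) = y := Units.ext (by
    show ((P⁻¹ : Matrix.SpecialLinearGroup (Fin n) F) : Matrix (Fin n) (Fin n) F) *
      (x : Matrix (Fin n) (Fin n) F) * G = y
    rw [mul_assoc, hXG, ← mul_assoc, show G = (P : Matrix (Fin n) (Fin n) F) from rfl,
      ← Matrix.SpecialLinearGroup.coe_mul, inv_mul_cancel]
    exact one_mul _)
  rw [h]
  exact hy

end CfsgLib.Derangements.SingerPrime
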