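import Cfsg.Agent.Lib.Derangements.LinearElusive

/-!
# Semisimple elements of prime order and subfields

* `exists_rational_basis`: if `L ^ r = 1` and `q` and the order `q₀` of the subfield have the same
  multiplicative order modulo `r`, then `L` has a matrix over the subfield in a suitable basis.
* `exists_commute_det_prime`: the centraliser of an `r`-th root of a scalar has every determinant.
* `rank_map_field`: the rank of a matrix does not change under extension of fields.
-/

set_option autoImplicit false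

namespace CfsgLib.Derangements.SubfieldRational

open Module CfsgLib.Derangements.LinElusive Polynomial

theorem rank_map_field {F k : Type*} [Field F] [Field k] {m n : Type*} [Fintype m]
    [Fintype n] (φ : F →+* k) (A : Matrix m n F) : (A.map φ).rank = A.rank := by
  classical
  set r := A.rank with hr
  let b : Module.Basis (Fin r) F (LinearMap.range A.mulVecLin) := Module.finBasisOfFinrankEq F _ rfl
  have hv : ∀ l : Fin r, ∃ v : n → F, A.mulVecLin v = (b l : m → F) := fun l => (b l).2
  choose v hv using hv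
  let B : Matrix m (Fin r) F := Matrix.of fun i l => (b l : m → F) i
  let C : Matrix (Fin r) n F := Matrix.of fun l j =>
    b.repr ⟨A.mulVecLin (Pi.single j 1), LinearMap.mem_range_self _ _⟩ l
  let R : Matrix n (Fin r) F := Matrix.of fun j l => v l j
  have hA : A = B * C := by
    ext i j
    have h := b.sum_repr ⟨A.mulVecLin (Pi.single j 1), LinearMap.mem_range_self _ _⟩
    have h2 := congrFun (congrArg Subtype.val h) i
    rw [Submodule.coe_sum, Finset.sum_apply] at h2
    simp only [Submodule.coe_smul, Pi.smul_apply, smul_eq_mul, Matrix.mulVecLin_apply,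
      Matrix.mulVec_single_one] at h2
    rw [Matrix.mul_apply, show A i j = A.col j i from rfl, ← h2]
    exact Finset.sum_congr rfl fun l _ => by simp [B, C, mul_comm]
  have hinj : Function.Injective B.mulVecLin := by
    rw [Matrix.coe_mulVecLin, Matrix.mulVec_injective_iff]
    exact b.linearIndependent.map' (LinearMap.range A.mulVecLin).subtype (Submodule.ker_subtype _)
  obtain ⟨g, hg⟩ := LinearMap.exists_leftInverse_of_injective B.mulVecLin
    (LinearMap.ker_eq_bot.2 hinj)
  let L : Matrix (Fin r) m F := LinearMap.toMatrix' g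
  have hLB : L * B = 1 := by
    rw [← LinearMap.toMatrix'_id (R := F), ← hg, LinearMap.toMatrix'_comp]
    congr 1
    exact (LinearMap.toMatrix'_toLin' B).symm
  have hAR : A * R = B := by
    ext i l
    exact congrFun (hv l) i
  have hCR : C * R = 1 := by
    calc C * R = L * B * (C * R) := by rw [hLB, Matrix.one_mul]
      _ = L * (A * R) := by rw [hA]; simp only [Matrix.mul_assoc]
      _ = 1 := by rw [hAR, hLB]
  refine le_antisymm ?_ ?_
  · rw [hA, Matrix.map_mul]
    exact ((Matrix.rank_mul_le_left _ _).trans (Matrix.rank_le_card_width _)).trans (by simp)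
  · have h1 : L.map φ * A.map φ * R.map φ = 1 := by
      rw [← Matrix.map_mul, ← Matrix.map_mul, Matrix.mul_assoc, hAR, hLB,
        Matrix.map_one φ φ.map_zero φ.map_one]
    calc r = (1 : Matrix (Fin r) (Fin r) k).rank := by rw [Matrix.rank_one]; simp
      _ = _ := by rw [h1]
      _ ≤ (L.map φ * A.map φ).rank := Matrix.rank_mul_le_left _ _
      _ ≤ (A.map φ).rank := Matrix.rank_mul_le_right _ _

variable {F : Type*} [Field F] [Fintype F] {V : Type*} [AddCommGroup V] [Module F V] [FiniteDimensional F V]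

/-- The centraliser of a split endomorphism has every determinant. -/
theorem exists_commute_det_prime [Nontrivial V] {L : Module.End F V} (hs : Split L) (α : F) :
    ∃ C : Module.End F V, LinearMap.det C = α ∧ C * L = L * C := by
  classical
  obtain ⟨U, -, hU, hne, hmin⟩ := exists_irreducible (L := L) (U := ⊤) (show Inv L ⊤ from le_top) top_ne_bot
  obtain ⟨W, hW, hc⟩ := hs U hU
  haveI : Nontrivial U := Submodule.nontrivial_iff_ne_bot.2 hne
  haveI : Finite V := Module.finite_of_finite F
  let y : Module.End F U := L.restrict fun u hu => hU.mem hu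
  let K := Algebra.adjoin F ({y} : Set (Module.End F U))
  letI : CommRing K := Algebra.adjoinCommRingOfComm F (fun a ha b hb => by
    rw [Set.mem_singleton_iff] at ha hb
    rw [ha, hb])
  have hyK : ∀ a : K, (a : Module.End F U) * y = y * (a : Module.End F U) := fun a =>
    (Algebra.commute_of_mem_adjoin_singleton_of_commute (R := F) a.2 (Commute.refl y)).symm.eq
  have hsub : ∀ S : Submodule F U, (∀ u ∈ S, y u ∈ S) → S = ⊥ ∨ S = ⊤ := fun S hS => by
    have hinv : Inv L (S.map U.subtype) := Inv.of_mem fun u hu => by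
      obtain ⟨w, hw, rfl⟩ := Submodule.mem_map.1 hu
      exact Submodule.mem_map.2 ⟨y w, hS w hw, rfl⟩
    rcases hmin _ (Submodule.map_subtype_le _ _) hinv with h | h
    · exact Or.inl (Submodule.map_injective_of_injective U.injective_subtype (h.trans (Submodule.map_bot _).symm))
    · exact Or.inr (Submodule.map_injective_of_injective U.injective_subtype
        (h.trans (Submodule.map_subtype_top U).symm))
  have hinj : ∀ a : K, a ≠ 0 → Function.Injective (a : Module.End F U) := fun a ha => by
    rw [← LinearMap.ker_eq_bot]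
    refine (hsub _ fun u hu => ?_).resolve_right fun h => ha (Subtype.ext (LinearMap.ker_eq_top.1 h))
    rw [LinearMap.mem_ker] at hu ⊢
    rw [← Module.End.mul_apply, hyK, Module.End.mul_apply, hu, map_zero]
  haveI : Nontrivial K := ⟨⟨0, 1, fun h => by
    obtain ⟨u, hu⟩ := exists_ne (0 : U)
    exact hu (LinearMap.congr_fun (congrArg Subtype.val h) u).symm⟩⟩
  haveI : NoZeroDivisors K := ⟨fun {a b} hab => by
    by_contra h
    push Not at h
    obtain ⟨u, hu⟩ := exists_ne (0 : U)
    have h1 : (a : Module.End F U) ((b : Module.End F U) u) = 0 :=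
      LinearMap.congr_fun (congrArg Subtype.val hab) u
    exact hu (hinj b h.2 ((hinj a h.1 (h1.trans (map_zero _).symm)).trans (map_zero _).symm))⟩
  haveI : IsDomain K := NoZeroDivisors.to_isDomain K
  haveI : Finite K := Finite.of_injective (fun a : K => ((a : Module.End F U) : U → U))
    fun a b h => Subtype.ext (LinearMap.ext (congrFun h))
  letI : Field K := (Finite.isField_of_domain K).toField
  obtain ⟨v, hv⟩ := exists_ne (0 : U)
  let ev : K →ₗ[F] U := (LinearMap.applyₗ (R := F) v).comp K.val.toLinearMap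
  have hevi : Function.Injective ev := (injective_iff_map_eq_zero _).2 fun a ha => by
    by_contra h
    exact hv (hinj a h (ha.trans (map_zero _).symm))
  have hevs : Function.Surjective ev := by
    rw [← LinearMap.range_eq_top]
    refine (hsub _ ?_).resolve_left fun h => hv ?_
    · rintro _ ⟨a, rfl⟩
      exact ⟨⟨y, Algebra.self_mem_adjoin_singleton F y⟩ * a, rfl⟩
    · have h2 : ev 1 ∈ LinearMap.range ev := ⟨1, rfl⟩
      rw [h, Submodule.mem_bot] at h2
      exact h2
  let e : K ≃ₗ[F] U := LinearEquiv.ofBijective ev ⟨hevi, hevs⟩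
  obtain ⟨a, ha⟩ := FiniteField.norm_surjective F K α
  have hdet : LinearMap.det (a : Module.End F U) = α := by
    rw [← ha, Algebra.norm_apply, ← LinearMap.det_conj _ e]
    congr 1
    refine LinearMap.ext fun u => ?_
    obtain ⟨b, rfl⟩ := e.surjective u
    simp [e, ev]
    rfl
  let E := U.prodEquivOfIsCompl W hc
  refine ⟨E.toLinearMap ∘ₗ (LinearMap.prodMap (a : Module.End F U) LinearMap.id) ∘ₗ E.symm.toLinearMap, ?_, ?_⟩
  · rw [LinearMap.det_conj, LinearMap.det_prodMap, hdet, LinearMap.det_id, mul_one]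
  · refine LinearMap.ext fun x => ?_
    obtain ⟨⟨u, w⟩, rfl⟩ := E.surjective x
    have hL : L (E (u, w)) = E (y u, ⟨L w, hW.mem w.2⟩) := by simp [E, y]
    simp only [Module.End.mul_apply, hL, LinearMap.comp_apply, LinearEquiv.coe_coe,
      LinearEquiv.symm_apply_apply, LinearMap.prodMap_apply, LinearMap.id_apply]
    have hau : y ((a : Module.End F U) u) = (a : Module.End F U) (y u) := (LinearMap.congr_fun (hyK a) u).symm
    simp only [E, Submodule.coe_prodEquivOfIsCompl', map_add]
    rw [← hau]
    rfl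

omit [Fintype F] in
theorem exists_factor (φ : F[X]) {ι : Type*} (ψ : ι → F[X]) :
    ∀ (s : Multiset ι) (L : Module.End F V) (w : V), (s.map ψ).prod = φ → aeval L φ w = 0 → w ≠ 0 →
      ∃ i ∈ s, ∃ w', w' ≠ 0 ∧ aeval L (ψ i) w' = 0 ∧
        ∀ U : Submodule F V, Inv L U → w ∈ U → w' ∈ U := by
  intro s
  induction s using Multiset.induction generalizing φ with
  | empty =>
    intro L w h1 h2 h3
    rw [Multiset.map_zero, Multiset.prod_zero] at h1
    rw [← h1, map_one] at h2
    exact absurd h2 h3
  | cons a s ih =>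
    intro L w h1 h2 h3
    rw [Multiset.map_cons, Multiset.prod_cons] at h1
    by_cases h : aeval L ((s.map ψ).prod) w = 0
    · obtain ⟨i, hi, rest⟩ := ih _ L w rfl h h3
      exact ⟨i, Multiset.mem_cons_of_mem hi, rest⟩
    · refine ⟨a, Multiset.mem_cons_self a s, _, h, ?_, fun U hU hw => hU.aeval_mem _ hw⟩
      rw [← Module.End.mul_apply, ← map_mul, h1]
      exact h2

/-- An `F`-space basis in which `L` is written over the subfield. -/
def Rat (F₀ : Subfield F) (L : Module.End F V) (W : Submodule F V) : Prop :=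
  ∃ (d : ℕ) (v : Fin d → V), LinearIndependent F v ∧ Submodule.span F (Set.range v) = W ∧
    ∀ j, ∃ c : Fin d → F, (∀ l, c l ∈ F₀) ∧ L (v j) = ∑ l, c l • v l

omit [Fintype F] [FiniteDimensional F V] in
theorem Rat.sup {F₀ : Subfield F} {L : Module.End F V} {U W : Submodule F V} (hU : Rat F₀ L U)
    (hW : Rat F₀ L W) (hd : Disjoint U W) : Rat F₀ L (U ⊔ W) := by
  obtain ⟨a, u, hu, hus, huc⟩ := hU
  obtain ⟨b, w, hw, hws, hwc⟩ := hW
  refine ⟨a + b, Fin.append u w, ?_, ?_, fun j => ?_⟩
  · rw [show Fin.append u w = Sum.elim u w ∘ finSumFinEquiv.symm from funext fun j => by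
      refine Fin.addCases (fun i => ?_) (fun i => ?_) j <;> simp]
    exact (hu.sum_type hw (by rwa [hus, hws])).comp _ finSumFinEquiv.symm.injective
  · rw [← hus, ← hws, ← Submodule.span_union]
    congr 1
    ext x
    simp only [Set.mem_range, Set.mem_union]
    constructor
    · rintro ⟨j, rfl⟩
      refine Fin.addCases (fun i => ?_) (fun i => ?_) j
      · exact Or.inl ⟨i, by simp⟩
      · exact Or.inr ⟨i, by simp⟩
    · rintro (⟨i, rfl⟩ | ⟨i, rfl⟩)
      · exact ⟨Fin.castAdd b i, by simp⟩
      · exact ⟨Fin.natAdd a i, by simp⟩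
  · refine Fin.addCases (fun i => ?_) (fun i => ?_) j
    · obtain ⟨c, hc, he⟩ := huc i
      refine ⟨Fin.append c 0, fun l => ?_, ?_⟩
      · refine Fin.addCases (fun i => ?_) (fun i => ?_) l <;> simp [hc, zero_mem]
      · rw [Fin.append_left, he, Fin.sum_univ_add]
        simp
    · obtain ⟨c, hc, he⟩ := hwc i
      refine ⟨Fin.append 0 c, fun l => ?_, ?_⟩
      · refine Fin.addCases (fun i => ?_) (fun i => ?_) l <;> simp [hc, zero_mem]
      · rw [Fin.append_right, he, Fin.sum_univ_add]
        simp

/-- An irreducible subspace has a basis in which `L` is written over the subfield. -/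
theorem rat_irreducible (F₀ : Subfield F) {r : ℕ} [Fact r.Prime] (hr : (r : F) ≠ 0)
    {L : Module.End F V} (hL : L ^ r = 1)
    (hord : orderOf (Fintype.card F : ZMod r) = orderOf (Nat.card ↥F₀ : ZMod r))
    {U : Submodule F V} (hU : Inv L U) (hne : U ≠ ⊥) (hmin : ∀ W ≤ U, Inv L W → W = ⊥ ∨ W = U) :
    Rat F₀ L U := by
  classical
  obtain ⟨E, -, -, hun, hsum⟩ := exists_structure hr hL
  set i := orderOf (Fintype.card F : ZMod r) with hi
  by_cases hfix : U ⊓ L.eigenspace 1 = ⊥
  swap
  · obtain ⟨w, hw, hw0⟩ := Submodule.exists_mem_ne_zero_of_ne_bot hfix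
    have hLw : L w = w := (Module.End.mem_eigenspace_iff.1 hw.2).trans (one_smul F w)
    have hspan : Submodule.span F {w} = U := by
      refine (hmin _ ?_ ?_).resolve_left ?_
      · exact Submodule.span_le.2 (Set.singleton_subset_iff.2 hw.1)
      · refine Inv.of_mem fun u hu => ?_
        obtain ⟨t, rfl⟩ := Submodule.mem_span_singleton.1 hu
        rw [map_smul, hLw]
        exact hu
      · rw [Submodule.span_singleton_eq_bot]; exact hw0
    refine ⟨1, fun _ => w, LinearIndependent.of_subsingleton (0 : Fin 1) hw0, ?_, fun j => ⟨fun _ => 1,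
      fun _ => F₀.one_mem, by simp [hLw]⟩⟩
    rw [Set.range_const, hspan]
  have hdim : i ≤ finrank F U := by
    have h2 := hsum U hU
    rw [hfix, finrank_bot, zero_add] at h2
    have h3 := hun.dvd (U ⊓ E) inf_le_right (hU.inf hun.inv)
    rw [← h2] at h3
    exact Nat.le_of_dvd (Nat.pos_of_ne_zero fun h0 => hne (Submodule.finrank_eq_zero.1 h0)) h3
  obtain ⟨w₀, hw₀, hw₀0⟩ := Submodule.exists_mem_ne_zero_of_ne_bot hne
  letI : Fintype ↥F₀ := Fintype.ofFinite _
  have hr1 : 1 < r := (Fact.out : r.Prime).one_lt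
  have hP : (X ^ r - 1 : (↥F₀)[X]) ≠ 0 := (monic_X_pow_sub_C (1 : ↥F₀) (by omega)).ne_zero
  set s := UniqueFactorizationMonoid.normalizedFactors (X ^ r - 1 : (↥F₀)[X]) with hs
  have hprod : s.prod = X ^ r - 1 := by
    rw [hs, UniqueFactorizationMonoid.prod_normalizedFactors_eq hP]
    exact (monic_X_pow_sub_C (1 : ↥F₀) (by omega)).normalize_eq_self
  obtain ⟨g, hg, w, hw0, hgw, hwU⟩ := exists_factor ((X ^ r - 1 : (↥F₀)[X]).map F₀.subtype)
    (fun g : (↥F₀)[X] => g.map F₀.subtype) s L w₀
    (by
      rw [← hprod]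
      exact (map_multiset_prod (Polynomial.mapRingHom F₀.subtype) s).symm)
    (by simp [hL]) hw₀0
  have hwU' : w ∈ U := hwU U hU hw₀
  have hgirr : Irreducible g := UniqueFactorizationMonoid.irreducible_of_normalized_factor g hg
  have hgmon : g.Monic := by
    have h := UniqueFactorizationMonoid.normalize_normalized_factor g hg
    rw [← h]
    exact Polynomial.monic_normalize hgirr.ne_zero
  set D := g.natDegree with hD
  have hDi : D ≤ i := by
    refine Nat.le_of_dvd hun.pos ?_
    rw [hord]
    set i₀ := orderOf (Nat.card ↥F₀ : ZMod r) with hi₀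
    refine hgirr.natDegree_dvd_of_dvd_X_pow_card_pow_sub_X ?_
    have h1 : g ∣ X ^ r - 1 := UniqueFactorizationMonoid.dvd_of_mem_normalizedFactors hg
    refine h1.trans ?_
    have h2 : r ∣ Nat.card ↥F₀ ^ i₀ - 1 := by
      rw [← ZMod.natCast_eq_zero_iff, Nat.cast_sub (Nat.one_le_pow _ _ Nat.card_pos), Nat.cast_pow, hi₀,
        pow_orderOf_eq_one, Nat.cast_one, sub_self]
    obtain ⟨c, hc⟩ := h2
    have h3 : Nat.card ↥F₀ ^ i₀ = r * c + 1 := by
      have := Nat.one_le_pow i₀ _ (Nat.card_pos (α := ↥F₀)); omega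
    rw [h3, show (X : (↥F₀)[X]) ^ (r * c + 1) - X = X * ((X ^ r) ^ c - 1 ^ c) by rw [one_pow, ← pow_mul]; ring]
    exact (sub_dvd_pow_sub_pow _ _ c).mul_left _
  let v : Fin D → V := fun t => (L ^ (t : ℕ)) w
  have hD0 : 0 < D := hgirr.natDegree_pos
  have hrel : (L ^ D) w = ∑ t : Fin D, (-(g.coeff t : F)) • v t := by
    have h := hgw
    rw [aeval_eq_sum_range, Polynomial.natDegree_map, ← hD, Finset.sum_range_succ, LinearMap.add_apply,
      LinearMap.sum_apply, LinearMap.smul_apply] at h
    rw [Polynomial.coeff_map, hgmon.coeff_natDegree, map_one, one_smul] at h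
    rw [eq_neg_of_add_eq_zero_right h, Finset.sum_range, ← Finset.sum_neg_distrib]
    exact Finset.sum_congr rfl fun t _ => by simp [v, Polynomial.coeff_map]
  have hnext : ∀ t : Fin D, ∃ c : Fin D → F, (∀ l, c l ∈ F₀) ∧ L (v t) = ∑ l, c l • v l := fun t => by
    by_cases ht : (t : ℕ) + 1 < D
    · refine ⟨Pi.single ⟨t + 1, ht⟩ 1, fun l => ?_, ?_⟩
      · rw [Pi.single_apply]; split_ifs <;> simp [one_mem, zero_mem]
      · rw [Finset.sum_eq_single ⟨(t : ℕ) + 1, ht⟩ (fun b _ hb => by rw [Pi.single_eq_of_ne hb, zero_smul])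
          (fun h => absurd (Finset.mem_univ _) h), Pi.single_eq_same, one_smul]
        simp only [v]
        rw [pow_succ', Module.End.mul_apply]
    · refine ⟨fun l => -(g.coeff l : F), fun l => F₀.neg_mem (g.coeff l).2, ?_⟩
      rw [← hrel, show D = (t : ℕ) + 1 by omega]
      simp only [v]
      rw [pow_succ', Module.End.mul_apply]
  have hspan : Submodule.span F (Set.range v) = U := by
    refine (hmin _ ?_ ?_).resolve_left ?_
    · rw [Submodule.span_le]
      rintro _ ⟨t, rfl⟩
      simpa [v] using hU.aeval_mem (X ^ (t : ℕ)) hwU'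
    · unfold LinElusive.Inv
      rw [Submodule.map_span_le]
      rintro _ ⟨t, rfl⟩
      obtain ⟨c, -, he⟩ := hnext t
      rw [he]
      exact Submodule.sum_mem _ fun l _ => Submodule.smul_mem _ _ (Submodule.subset_span ⟨l, rfl⟩)
    · intro h
      refine hw0 ?_
      have h1 : v ⟨0, hD0⟩ ∈ Submodule.span F (Set.range v) := Submodule.subset_span ⟨_, rfl⟩
      rwa [h, Submodule.mem_bot] at h1
  refine ⟨D, v, ?_, hspan, hnext⟩
  rw [linearIndependent_iff_card_le_finrank_span, Fintype.card_fin, Set.finrank, hspan]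
  omega

/-- Linear maps of order dividing `r` are written over the subfield. -/
theorem exists_rational_basis (F₀ : Subfield F) {r : ℕ} [Fact r.Prime] (hr : (r : F) ≠ 0)
    {n : ℕ} {L : Module.End F (Fin n → F)} (hL : L ^ r = 1)
    (hord : orderOf (Fintype.card F : ZMod r) = orderOf (Nat.card ↥F₀ : ZMod r)) :
    ∃ B : Basis (Fin n) F (Fin n → F), ∀ i j, B.repr (L (B j)) i ∈ F₀ := by
  classical
  have hs : Split L := split_of_pow (c := 1) hr one_ne_zero (by rw [hL, map_one])
  have main : ∀ m, ∀ W : Submodule F (Fin n → F), Inv L W → finrank F W = m → Rat F₀ L W := by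
    intro m
    induction m using Nat.strong_induction_on with
    | _ m ih =>
    intro W hW hm
    rcases eq_or_ne W ⊥ with rfl | hne
    · exact ⟨0, Fin.elim0, linearIndependent_empty_type, by simp, fun j => Fin.elim0 j⟩
    obtain ⟨U, hUW, hU, hUne, hmin⟩ := exists_irreducible hW hne
    obtain ⟨U', -, hU'i, hd, hsup, hfin⟩ := hs.exists_rel hU hW hUW
    have hpos : 0 < finrank F U := Nat.pos_of_ne_zero fun h => hUne (Submodule.finrank_eq_zero.1 h)
    have h1 := rat_irreducible F₀ hr hL hord hU hUne hmin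
    have h2 := ih _ (by omega) U' hU'i rfl
    exact hsup ▸ h1.sup h2 hd
  obtain ⟨d, v, hli, hsp, hc⟩ := main _ ⊤ le_top rfl
  let B₀ := Basis.mk hli hsp.ge
  have hd : d = n := by simpa using (finrank_eq_card_basis B₀).symm
  subst hd
  refine ⟨B₀, fun i j => ?_⟩
  obtain ⟨c, hcF, he⟩ := hc j
  rw [show B₀ j = v j from Basis.mk_apply _ _ j, he]
  have h1 : ∑ l, c l • v l = ∑ l, c l • B₀ l := Finset.sum_congr rfl fun l _ => by
    rw [show B₀ l = v l from Basis.mk_apply _ _ l]
  rw [h1, B₀.repr_sum_self]
  exact hcF i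

end CfsgLib.Derangements.SubfieldRational
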