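import Cfsg.Agent.Lib.Derangements.PrimeGraphExt
import Cfsg.Agent.Lib.KnownB.SuzukiGroup

/-! Elements of odd order of a Suzuki group fix no nonzero vector of the natural module. -/

set_option linter.style.haveILetI false

open Cfsg.Lie Matrix Polynomial CfsgLib.KnownB.Suzuki CfsgLib.KnownB.SzElem

namespace CfsgLib.Derangements.SuzukiFixed

variable {R : Type*} [CommRing R]

/-- The characteristic polynomial in dimension four. -/
theorem charpoly_four (M : Matrix (Fin 4) (Fin 4) R) : M.charpoly =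
    X ^ 4 - C M.trace * X ^ 3 +
      C (M 0 0 * M 1 1 - M 1 0 * M 0 1 + (M 0 0 * M 2 2 - M 2 0 * M 0 2) +
        (M 0 0 * M 3 3 - M 3 0 * M 0 3) + (M 1 1 * M 2 2 - M 2 1 * M 1 2) +
        (M 1 1 * M 3 3 - M 3 1 * M 1 3) + (M 2 2 * M 3 3 - M 3 2 * M 2 3)) * X ^ 2 -
      C M.adjugate.trace * X + C M.det := by
  simp only [Matrix.charpoly, Matrix.det_succ_row_zero, Matrix.det_fin_zero, Fin.sum_univ_succ,
    Fin.sum_univ_zero, Matrix.trace, Matrix.diag, Matrix.submatrix_apply,
    Matrix.charmatrix_apply, Matrix.adjugate_fin_succ_eq_det_submatrix]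
  simp [Fin.succAbove, Matrix.diagonal]
  ring

variable {F : Type*} [Field F] {e : ℕ}

theorem pow_four_of_fixed (he : Twist F e) (g : Sz F e) (v : Fin 4 → F) (hv : v ≠ 0)
    (h : mat g *ᵥ v = v) : g ^ 4 = 1 := by
  obtain ⟨hsp, hstar⟩ := (mem_Sz_iff he).1 g.2
  set M := mat g with hM
  have h2 := he.two
  have hc := transpose_mul_J hsp
  have hr := mul_J_transpose hsp
  change Mᵀ * Jmat * M = Jmat at hc
  change M * Jmat * Mᵀ = Jmat at hr
  change star4 M = M.map (fun x => x ^ e) at hstar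
  have hdet : M.det = 1 := by
    have := congrArg Matrix.det hc
    rw [det_mul, det_mul, det_transpose] at this
    have hJ : (Jmat : Matrix (Fin 4) (Fin 4) F).det ≠ 0 := by
      have hu := congrArg Matrix.det (Jmat_sq (F := F))
      rw [det_mul, det_one] at hu
      exact left_ne_zero_of_mul_eq_one hu
    have h1 : M.det ^ 2 = 1 ^ 2 := by
      apply mul_right_cancel₀ hJ
      linear_combination this
    exact sq_inj he h1
  have e03 := congrFun (congrFun hc 0) 3
  have e12 := congrFun (congrFun hr 1) 2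
  simp [Jmat, Matrix.mul_apply, Fin.sum_univ_four] at e03 e12
  have htr : (M 0 0 + M 1 1 + M 2 2 + M 3 3) ^ e = (star4 M).trace := by
    rw [hstar]
    simp only [Matrix.trace, Matrix.diag, Matrix.map_apply, Fin.sum_univ_four]
    rw [he.add_pow, he.add_pow, he.add_pow]
  have he2 : M 0 0 * M 1 1 - M 1 0 * M 0 1 + (M 0 0 * M 2 2 - M 2 0 * M 0 2) +
        (M 0 0 * M 3 3 - M 3 0 * M 0 3) + (M 1 1 * M 2 2 - M 2 1 * M 1 2) +
        (M 1 1 * M 3 3 - M 3 1 * M 1 3) + (M 2 2 * M 3 3 - M 3 2 * M 2 3) = (star4 M).trace := by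
    simp only [Matrix.trace, Matrix.diag, Fin.sum_univ_four, star4, pairOf, Matrix.of_apply,
      Matrix.cons_val_zero, Matrix.cons_val_one, Matrix.cons_val, Matrix.head_cons]
    grind
  have hadj : M.adjugate.trace = M.trace := by
    have hinv : (Jmat * Mᵀ * Jmat) * M = 1 := by
      rw [Matrix.mul_assoc, Matrix.mul_assoc, ← Matrix.mul_assoc Mᵀ, hc, Jmat_sq]
    have h1 : M.adjugate = Jmat * Mᵀ * Jmat := by
      refine (left_inv_eq_right_inv hinv ?_).symm
      rw [Matrix.mul_adjugate, hdet, one_smul]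
    rw [h1, Matrix.trace_mul_cycle, Jmat_sq, Matrix.one_mul, Matrix.trace_transpose]
  have hcp := charpoly_four M
  rw [he2, hdet, hadj] at hcp
  have hroot : M.charpoly.eval 1 = 0 := by
    rw [Matrix.eval_charpoly]
    refine Matrix.exists_mulVec_eq_zero_iff.1 ⟨v, hv, ?_⟩
    rw [map_one, Matrix.sub_mulVec, Matrix.one_mulVec, h, sub_self]
  rw [hcp] at hroot
  simp at hroot
  have hs' : M.trace = M 0 0 + M 1 1 + M 2 2 + M 3 3 := by simp [Matrix.trace, Fin.sum_univ_four]
  have hk0 : (star4 M).trace = 0 := by linear_combination hroot + (M.trace - 1) * h2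
  have hs0 : M.trace = 0 := by
    rw [hk0] at htr
    rw [hs']
    exact eq_zero_of_pow_eq_zero htr
  rw [hk0, hs0] at hcp
  have hCH := Matrix.aeval_self_charpoly M
  rw [hcp] at hCH
  simp at hCH
  apply mat_injective
  show M ^ 4 = 1
  have h21 : (1 : Matrix (Fin 4) (Fin 4) F) + 1 = 0 := by
    rw [← one_smul F (1 : Matrix (Fin 4) (Fin 4) F), ← add_smul, one_add_one_eq_two, h2, zero_smul]
  exact add_right_cancel (hCH.trans h21.symm)

end CfsgLib.Derangements.SuzukiFixed
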