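import Cfsg.Agent.Lib.Derangements.NondegInvariant
import Cfsg.Agent.Lib.Derangements.OrthUnipotentTypes
import Cfsg.Agent.Lib.Classical.SympMatrix

/-!
# Unipotent elements of symplectic groups

Orthogonal decompositions into cyclic pieces, parity of block sizes, and elements with given block sizes.
-/

set_option autoImplicit false
set_option linter.unusedSectionVars false

namespace CfsgLib.Derangements.SympUni

open Module CfsgLib.Classical CfsgLib.Derangements.LinElusive CfsgLib.Derangements.JordanRanks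
  CfsgLib.Derangements.OrthUnipotent

universe u

variable {F : Type u} [Field F] {V : Type*} [AddCommGroup V] [Module F V] [FiniteDimensional F V]
  {B : V →ₗ[F] V →ₗ[F] F} {L : Module.End F V}

theorem exists_inverse {n : ℕ} (hN : (L - 1) ^ n = 0) :
    ∃ Li : Module.End F V, L * Li = 1 ∧ Li * L = 1 ∧ Commute Li (L - 1) := by
  have hu : IsUnit L := by
    have h := IsNilpotent.isUnit_one_add (r := L - 1) ⟨n, hN⟩
    rwa [add_sub_cancel] at h
  refine ⟨↑hu.unit⁻¹, hu.mul_val_inv, hu.val_inv_mul, ?_⟩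
  show _ * (L - 1) = (L - 1) * _
  rw [mul_sub, sub_mul, hu.val_inv_mul, hu.mul_val_inv, mul_one, one_mul]

theorem adj_pow (hB : ∀ x y, B (L x) (L y) = B x y) {Li : Module.End F V} (h1 : L * Li = 1) (h2 : Li * L = 1)
    (l : ℕ) (u v : V) : B (((L - 1) ^ l) u) v = B u (((-1) ^ l * (Li ^ l * (L - 1) ^ l)) v) := by
  have hc : Commute Li (L - 1) := by
    show _ * _ = _ * _
    rw [mul_sub, sub_mul, h1, h2, mul_one, one_mul]
  have hM : Li - 1 = -1 * (Li * (L - 1)) := by rw [mul_sub, h2, mul_one, neg_one_mul, neg_sub]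
  have hstep : ∀ a b, B ((L - 1) a) b = B a ((Li - 1) b) := fun a b => by
    have h3 : B (L a) b = B a (Li b) := by
      conv_lhs => rw [show b = L (Li b) by rw [← Module.End.mul_apply, h1, Module.End.one_apply]]
      rw [hB]
    simp only [LinearMap.sub_apply, Module.End.one_apply, map_sub, h3]
  have hpow : (Li - 1) ^ l = (-1) ^ l * (Li ^ l * (L - 1) ^ l) := by
    rw [hM, (Commute.neg_one_left _).mul_pow, hc.mul_pow]
  rw [← hpow]
  clear hpow
  induction l generalizing v with
  | zero => rfl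
  | succ l ih => rw [pow_succ', Module.End.mul_apply, hstep, ih, pow_succ, Module.End.mul_apply]

theorem pair_apply (hB : ∀ x y, B (L x) (L y) = B x y) {n : ℕ} (hN : (L - 1) ^ n = 0) {X : Submodule F V} {k : ℕ}
    (hk : ∀ x ∈ X, ((L - 1) ^ k) x = 0) {l s : ℕ} (hls : k ≤ l + s + 1) (u : V) {v : V} (hv : v ∈ X) :
    B (((L - 1) ^ l) u) (((L - 1) ^ s) v) = (-1) ^ l * B u (((L - 1) ^ (l + s)) v) := by
  obtain ⟨Li, h1, h2, hc⟩ := exists_inverse hN
  set x := ((L - 1) ^ (l + s)) v
  have h0 : (L - 1) x = 0 := by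
    have h3 : ((L - 1) ^ (l + s + 1)) v = 0 := by
      rw [← Nat.add_sub_cancel' hls, add_comm k, pow_add, Module.End.mul_apply, hk v hv, map_zero]
    rwa [pow_succ', Module.End.mul_apply] at h3
  have hfix : ∀ e : ℕ, (Li ^ e) x = x := fun e => by
    have hL : L x = x := sub_eq_zero.1 (by simpa using h0)
    induction e with
    | zero => rfl
    | succ e ih =>
      rw [pow_succ', Module.End.mul_apply, ih]
      conv_lhs => rw [← hL]
      rw [← Module.End.mul_apply, h2, Module.End.one_apply]
  rw [adj_pow hB h1 h2, Module.End.mul_apply, Module.End.mul_apply, ← Module.End.mul_apply (f := (L - 1) ^ l),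
    ← pow_add, hfix]
  rcases Nat.even_or_odd l with he | he
  · rw [he.neg_one_pow, he.neg_one_pow, one_mul, Module.End.one_apply]
  · rw [he.neg_one_pow, he.neg_one_pow, neg_one_mul, LinearMap.neg_apply, Module.End.one_apply, map_neg]

/-- Cyclic families with non-degenerate top pairing span non-degenerate subspaces. -/
theorem exists_family (hA : B.IsAlt) (hB : ∀ x y, B (L x) (L y) = B x y) {n : ℕ} (hN : (L - 1) ^ n = 0)
    {X : Submodule F V} (hX : Inv L X) {k : ℕ} (hk : ∀ x ∈ X, ((L - 1) ^ k) x = 0) {s : ℕ} (w : Fin s → V)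
    (hw : ∀ c, w c ∈ X)
    (hmat : ∀ a : Fin s → F, (∀ c', ∑ c, a c * B (w c) (((L - 1) ^ (k - 1)) (w c')) = 0) → a = 0) :
    ∃ U : Submodule F V, U ≤ X ∧ Inv L U ∧ NondegOn B U ∧ finrank F U = s * k := by
  set N := L - 1
  let e : Fin s × Fin k → V := fun p => (N ^ p.2.1) (w p.1)
  have hNX : ∀ (j : ℕ), ∀ x ∈ X, (N ^ j) x ∈ X := fun j x hx => by
    induction j with
    | zero => simpa
    | succ j ih =>
      rw [pow_succ', Module.End.mul_apply]
      exact X.sub_mem (hX.mem ih) ih
  have key : ∀ a : Fin s × Fin k → F, (∀ q, ∑ p, a p * B (e p) (e q) = 0) → a = 0 := by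
    intro a ha
    suffices h : ∀ (j : ℕ) (hj : j < k), ∀ c, a (c, ⟨j, hj⟩) = 0 from funext fun p => h p.2.1 p.2.2 p.1
    intro j
    induction j using Nat.strong_induction_on with
    | _ j ih =>
    intro hj
    have hsign : ((-1 : F) ^ j) ≠ 0 := pow_ne_zero _ (neg_ne_zero.2 one_ne_zero)
    have h0 : (fun c => a (c, ⟨j, hj⟩)) = 0 := hmat _ fun c' => by
      have h1 := ha (c', ⟨k - 1 - j, by omega⟩)
      rw [Fintype.sum_prod_type] at h1
      have h2 : ∀ c, ∑ j' : Fin k, a (c, j') * B (e (c, j')) (e (c', ⟨k - 1 - j, by omega⟩)) =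
          (-1) ^ j * (a (c, ⟨j, hj⟩) * B (w c) ((N ^ (k - 1)) (w c'))) := fun c => by
        rw [Finset.sum_eq_single (⟨j, hj⟩ : Fin k) (fun j' _ hne => ?_) (fun h => absurd (Finset.mem_univ _) h)]
        · simp only [e]
          rw [pair_apply hB hN hk (by omega) _ (hw c'), show j + (k - 1 - j) = k - 1 by omega]
          ring
        · rcases lt_or_gt_of_ne (Fin.val_ne_of_ne hne) with hlt | hgt
          · rw [show a (c, j') = 0 from ih j'.1 hlt j'.2 c, zero_mul]
          · simp only [e]
            rw [pair_apply hB hN hk (by have := j'.2; simp at hgt; omega) _ (hw c'),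
              show j'.1 + (k - 1 - j) = k + (j'.1 - j - 1) by simp at hgt; omega, pow_add, Module.End.mul_apply,
              hk _ (hNX _ _ (hw c')), map_zero, mul_zero, mul_zero]
      rw [Finset.sum_congr rfl fun c _ => h2 c, ← Finset.mul_sum] at h1
      exact (mul_eq_zero.1 h1).resolve_left hsign
    exact fun c => congrFun h0 c
  have hli : LinearIndependent F e := Fintype.linearIndependent_iff.2 fun a ha p =>
    congrFun (key a fun q => by
      have := congrArg (fun x => B x (e q)) ha
      simpa using this) p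
  refine ⟨Submodule.span F (Set.range e), Submodule.span_le.2 ?_, ?_, nondegOn_iff.2 fun x hx hx' => ?_, ?_⟩
  · rintro _ ⟨p, rfl⟩
    exact hNX _ _ (hw _)
  · unfold LinElusive.Inv
    rw [Submodule.map_span_le]
    rintro _ ⟨⟨c, j⟩, rfl⟩
    have h1 : L (e (c, j)) = e (c, j) + (N ^ (j.1 + 1)) (w c) := by
      rw [pow_succ', Module.End.mul_apply]
      simp [e, N]
    rw [h1]
    refine Submodule.add_mem _ (Submodule.subset_span ⟨_, rfl⟩) ?_
    by_cases hj : j.1 + 1 < k
    · exact Submodule.subset_span ⟨(c, ⟨j.1 + 1, hj⟩), rfl⟩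
    · rw [show j.1 + 1 = k by omega, hk _ (hw c)]
      exact Submodule.zero_mem _
  · obtain ⟨a, rfl⟩ := (Submodule.mem_span_range_iff_exists_fun F).1 hx
    have ha : a = 0 := key a fun q => by
      have h1 := hx' (e q) (Submodule.subset_span ⟨q, rfl⟩)
      rw [alt_swap hA, neg_eq_zero] at h1
      simpa using h1
    simp [ha]
  · rw [finrank_span_eq_card hli, Fintype.card_prod, Fintype.card_fin, Fintype.card_fin]

/-- A cyclic piece of maximal length, or a pair of them. -/
theorem exists_step (hA : B.IsAlt) (hB : ∀ x y, B (L x) (L y) = B x y) {n : ℕ} (hN : (L - 1) ^ n = 0)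
    {X : Submodule F V} (hX : Inv L X) (hXn : NondegOn B X) (hne : X ≠ ⊥) :
    ∃ (U : Submodule F V) (e : ℕ), U ≤ X ∧ Inv L U ∧ NondegOn B U ∧ 1 ≤ e ∧ e ≤ n ∧
      (finrank F U = e ∧ Even e ∨ finrank F U = 2 * e ∧ ((2 : F) = 0 ∨ Odd e)) := by
  classical
  set N := L - 1
  have hex : ∃ k, ∀ x ∈ X, (N ^ k) x = 0 := ⟨n, fun x _ => by rw [hN]; rfl⟩
  set k := Nat.find hex with hkdef
  have hk := Nat.find_spec hex
  rw [← hkdef] at hk
  have hkn : k ≤ n := Nat.find_min' hex fun x _ => by rw [hN]; rfl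
  obtain ⟨x₀, hx₀, hx₀0⟩ := Submodule.exists_mem_ne_zero_of_ne_bot hne
  have hk1 : 1 ≤ k := Nat.pos_of_ne_zero fun h0 => hx₀0 (by simpa [h0] using hk x₀ hx₀)
  let γ : V → V → F := fun u v => B u ((N ^ (k - 1)) v)
  obtain ⟨v₀, hv₀, hv₀0⟩ : ∃ v ∈ X, (N ^ (k - 1)) v ≠ 0 := by
    have := Nat.find_min hex (show k - 1 < k by omega)
    push Not at this
    exact this
  have hNX : ∀ (j : ℕ), ∀ x ∈ X, (N ^ j) x ∈ X := fun j x hx => by
    induction j with
    | zero => simpa
    | succ j ih =>
      rw [pow_succ', Module.End.mul_apply]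
      exact X.sub_mem (hX.mem ih) ih
  obtain ⟨u₀, hu₀, hγ₀⟩ : ∃ u ∈ X, γ u v₀ ≠ 0 := by
    by_contra hcon
    push Not at hcon
    exact hv₀0 (nondegOn_iff.1 hXn _ (hNX _ _ hv₀) hcon)
  have hsym : ∀ u ∈ X, ∀ v ∈ X, γ v u = (-1) ^ k * γ u v := fun u hu v hv => by
    have h1 := pair_apply hB hN hk (l := k - 1) (s := 0) (by omega) u hv
    rw [add_zero, pow_zero, Module.End.one_apply] at h1
    show B v ((N ^ (k - 1)) u) = (-1) ^ k * B u ((N ^ (k - 1)) v)
    rw [alt_swap hA, h1, show k = k - 1 + 1 by omega, pow_succ, Nat.add_sub_cancel]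
    ring
  by_cases hd : ∃ u ∈ X, γ u u ≠ 0
  · obtain ⟨u, hu, huu⟩ := hd
    have hev : Even k := by
      by_contra ho
      rw [Nat.not_even_iff_odd] at ho
      by_cases h2 : (2 : F) = 0
      · by_cases hk2 : k = 1
        · refine huu ?_
          show B u ((N ^ (k - 1)) u) = 0
          rw [hk2, Nat.sub_self, pow_zero, Module.End.one_apply, hA u]
        · -- in characteristic two the pairing of larger odd length is alternating
          obtain ⟨j, hj⟩ := ho
          have hj1 : 1 ≤ j := by omega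
          refine huu ?_
          show B u ((N ^ (k - 1)) u) = 0
          have h1 := pair_apply hB hN hk (l := j) (s := j) (by omega) u hu
          rw [hA, show j + j = k - 1 by omega] at h1
          exact (mul_eq_zero.1 h1.symm).resolve_left (pow_ne_zero _ (neg_ne_zero.2 one_ne_zero))
      · have h1 := hsym u hu u hu
        rw [ho.neg_one_pow, neg_one_mul, eq_neg_iff_add_eq_zero, ← two_mul] at h1
        exact huu ((mul_eq_zero.1 h1).resolve_left h2)
    obtain ⟨U, h1, h2, h3, h4⟩ := exists_family hA hB hN hX hk (fun _ : Fin 1 => u) (fun _ => hu)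
      fun a ha => funext fun c => by
        have h5 := ha 0
        rw [Fin.sum_univ_one] at h5
        rw [Subsingleton.elim c 0]
        exact (mul_eq_zero.1 h5).resolve_right huu
    exact ⟨U, k, h1, h2, h3, hk1, hkn, Or.inl ⟨by rw [h4, one_mul], hev⟩⟩
  push Not at hd
  have hodd : (2 : F) = 0 ∨ Odd k := by
    rw [or_iff_not_imp_left]
    intro h2
    by_contra ho
    rw [Nat.not_odd_iff_even] at ho
    have h1 := hd _ (X.add_mem hu₀ hv₀)
    have e1 := hsym u₀ hu₀ v₀ hv₀
    rw [ho.neg_one_pow, one_mul] at e1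
    have e2 := hd u₀ hu₀
    have e3 := hd v₀ hv₀
    simp only [γ, map_add, LinearMap.add_apply] at h1 e1 e2 e3
    rw [e1, e2, e3, zero_add, add_zero, ← two_mul] at h1
    exact hγ₀ ((mul_eq_zero.1 h1).resolve_left h2)
  obtain ⟨U, h1, h2, h3, h4⟩ := exists_family hA hB hN hX hk ![u₀, v₀] (fun c => by fin_cases c <;> assumption)
    fun a ha => by
      have e1 := ha 0
      have e2 := ha 1
      simp only [Fin.sum_univ_two, Matrix.cons_val_zero, Matrix.cons_val_one] at e1 e2
      have d1 : B u₀ ((N ^ (k - 1)) u₀) = 0 := hd u₀ hu₀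
      have d2 : B v₀ ((N ^ (k - 1)) v₀) = 0 := hd v₀ hv₀
      rw [d1, mul_zero, zero_add] at e1
      rw [d2, mul_zero, add_zero] at e2
      have hs : B v₀ ((N ^ (k - 1)) u₀) ≠ 0 := fun h0 => hγ₀ (by
        have h5 := hsym v₀ hv₀ u₀ hu₀
        simp only [γ, h0, mul_zero] at h5
        exact h5)
      funext c
      fin_cases c
      · exact (mul_eq_zero.1 e2).resolve_right hγ₀
      · exact (mul_eq_zero.1 e1).resolve_right hs
  exact ⟨U, k, h1, h2, h3, hk1, hkn, Or.inr ⟨h4, hodd⟩⟩

/-- The even powers of the nilpotent part have even rank. -/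
theorem even_rank_pow (h2 : (2 : F) ≠ 0) (hA : B.IsAlt) (hN : B.Nondegenerate)
    (hB : ∀ x y, B (L x) (L y) = B x y) {n : ℕ} (hn : (L - 1) ^ n = 0) {k : ℕ} (hk : Even k) :
    Even (finrank F (LinearMap.range ((L - 1) ^ k))) := by
  obtain ⟨h, rfl⟩ := hk
  obtain ⟨Li, h1, h1', hc⟩ := exists_inverse hn
  set N := L - 1
  have hcL : Commute L (N ^ (h + h)) := ((Commute.refl L).sub_right (Commute.one_right L)).pow_right _
  have hLpow : ∀ (e : ℕ) x y, B ((Li ^ e) x) y = B x ((L ^ e) y) := fun e => by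
    induction e with
    | zero => intro x y; rfl
    | succ e ih =>
      intro x y
      rw [pow_succ, pow_succ', Module.End.mul_apply, Module.End.mul_apply, ih]
      conv_lhs => rw [← hB, ← Module.End.mul_apply (f := L) (g := Li), h1, Module.End.one_apply]
  have hLiL : Li ^ h * L ^ h = 1 := by rw [← (show Commute Li L from h1'.trans h1.symm).mul_pow, h1', one_pow]
  set T := Li ^ h * N ^ (h + h) with hT
  have hadj : ∀ u v, B (T u) v = B u (T v) := fun u v => by
    rw [hT, Module.End.mul_apply, hLpow, adj_pow hB h1 h1']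
    have hop : (-1 : Module.End F V) ^ (h + h) * (Li ^ (h + h) * N ^ (h + h)) * L ^ h = Li ^ h * N ^ (h + h) := by
      rw [(Even.add_self h).neg_one_pow, one_mul, mul_assoc, ← (hcL.pow_left h).eq, ← mul_assoc,
        pow_add Li, mul_assoc (Li ^ h), hLiL, mul_one]
    rw [← Module.End.mul_apply, hop]
  let β : V →ₗ[F] V →ₗ[F] F := B.comp T
  have hβ : ∀ u, β u u = 0 := fun u => by
    have e1 := alt_swap hA (T u) u
    rw [← hadj u u, eq_neg_iff_add_eq_zero, ← two_mul] at e1
    exact (mul_eq_zero.1 e1).resolve_left h2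
  obtain ⟨C, hC⟩ := Submodule.exists_isCompl (LinearMap.ker T)
  have hker : ∀ z ∈ LinearMap.ker T, ∀ w, β w z = 0 := fun z hz w => by
    show B (T w) z = 0
    rw [hadj, LinearMap.mem_ker.1 hz, map_zero]
  have hnC : NondegOn β C := by
    rw [nondegOn_iff]
    intro x hx hx'
    have hzero : T x = 0 := by
      refine hN.1 _ fun v => ?_
      obtain ⟨z, hz, c, hc, rfl⟩ := Submodule.mem_sup.1 (hC.sup_eq_top ▸ Submodule.mem_top (x := v))
      show β x (z + c) = 0
      rw [map_add, hker z hz x, zero_add, alt_swap (B := β) hβ, hx' c hc, neg_zero]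
    exact Submodule.disjoint_def.1 hC.disjoint x (LinearMap.mem_ker.2 hzero) hx
  obtain ⟨m, b, -⟩ := exists_sympBasis (B := restrictForm β C) (fun x => hβ x)
    (restrictForm_nondegenerate (LinearMap.IsAlt.isRefl hβ) hnC)
  have e1 := LinearMap.finrank_range_add_finrank_ker T
  have e2 := Submodule.finrank_add_eq_of_isCompl hC
  have e3 : finrank F C = m + m := by rw [Module.finrank_eq_card_basis b]; simp
  have hrk : finrank F (LinearMap.range T) = finrank F (LinearMap.range (N ^ (h + h))) := by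
    let w : (Module.End F V)ˣ := ⟨Li ^ h, L ^ h, hLiL,
      by rw [← (show Commute L Li from h1.trans h1'.symm).mul_pow, h1, one_pow]⟩
    exact finrank_range_units_mul w _
  exact ⟨m, by omega⟩

/-- Even ranks of even powers force even multiplicity of odd sizes. -/
theorem even_count {μ : Multiset ℕ} (h : ∀ k, Even k → Even (rankSeq μ k)) (e : ℕ) (he : Odd e) :
    Even (μ.count e) := by
  obtain ⟨k, rfl⟩ := he
  obtain ⟨a, ha⟩ := h (2 * k) (even_two_mul k)
  obtain ⟨b, hb⟩ := h (2 * k + 2) (by simp [parity_simps])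
  have := rankSeq_second_diff μ (2 * k)
  exact ⟨a + b - rankSeq μ (2 * k + 1), by omega⟩

/-- An invariant non-degenerate subspace selects a sub-multiset of the block sizes. -/
theorem exists_submultiset (h2 : (2 : F) ≠ 0) (hA : B.IsAlt) (hB : ∀ u v, B (L u) (L v) = B u v) {m : ℕ}
    (hN : (L - 1) ^ m = 0) {μ : Multiset ℕ}
    (hμ0 : 0 ∉ μ) (hμ : ∀ k, finrank F (LinearMap.range ((L - 1) ^ k)) = rankSeq μ k) {W : Submodule F V}
    (hW : NondegOn B W) (hWL : Inv L W) :
    ∃ ν, ν ≤ μ ∧ ν.sum = finrank F W ∧ ∀ e, Odd e → Even (ν.count e) := by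
  set N := L - 1 with hNdef
  obtain ⟨Li, h1, h1', -⟩ := exists_inverse hN
  have hLinj : Function.Injective L := Function.LeftInverse.injective (g := ⇑Li) fun v => by
    rw [← Module.End.mul_apply, h1', Module.End.one_apply]
  have hWeq : W.map L = W := Submodule.eq_of_le_of_finrank_eq hWL
    (Submodule.equivMapOfInjective L hLinj W).finrank_eq.symm
  have hWN' : W.map N ≤ W := by
    rintro _ ⟨w, hw, rfl⟩
    exact W.sub_mem (hWL.mem hw) hw
  have hPN : (perp B W).map N ≤ perp B W := by
    rintro _ ⟨v, hv, rfl⟩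
    refine (perp B W).sub_mem (mem_perp.2 fun w hw => ?_) hv
    obtain ⟨w', hw', rfl⟩ := Submodule.mem_map.1 (hWeq.symm ▸ hw : w ∈ W.map L)
    rw [hB]
    exact mem_perp.1 hv w' hw'
  obtain ⟨ν, hν0, hν⟩ := exists_blocks N hN W hWN'
  obtain ⟨ρ, hρ0, hρ⟩ := exists_blocks N hN (perp B W) hPN
  have hsum : μ = ν + ρ := rankSeq_injective hμ0 (by simp [hν0, hρ0]) fun k => by
    rw [rankSeq_add, hν, hρ, ← hμ]
    exact finrank_range_pow_eq_add N hW.isCompl hWN' hPN k
  refine ⟨ν, hsum ▸ Multiset.le_add_right ν ρ, ?_, even_count fun k hk => ?_⟩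
  · rw [← rankSeq_zero, hν, pow_zero, Module.End.one_eq_id, Submodule.map_id]
  · let L' : Module.End F W := L.restrict fun w hw => hWL.mem hw
    have hpow : ∀ (j : ℕ) (w : W), (((L' - 1) ^ j) w : V) = (N ^ j) w := by
      intro j
      induction j with
      | zero => intro w; rfl
      | succ j ih =>
        intro w
        rw [pow_succ, Module.End.mul_apply, ih, pow_succ, Module.End.mul_apply]
        rfl
    have h := even_rank_pow h2 (restrictForm_isAlt hA W) (restrictForm_nondegenerate hA.isRefl hW) (L := L')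
      (fun u v => hB _ _) (n := m) (LinearMap.ext fun w => Subtype.ext (by rw [hpow, hN]; rfl)) hk
    rw [hν]
    have hmap : W.map (N ^ k) = (LinearMap.range ((L' - 1) ^ k)).map W.subtype := by
      ext v
      constructor
      · rintro ⟨w, hw, rfl⟩
        exact ⟨((L' - 1) ^ k) ⟨w, hw⟩, LinearMap.mem_range_self _ _, hpow k ⟨w, hw⟩⟩
      · rintro ⟨_, ⟨w, rfl⟩, rfl⟩
        exact ⟨w, w.2, (hpow k w).symm⟩
    rwa [hmap, (Submodule.equivMapOfInjective _ W.injective_subtype _).finrank_eq.symm]

section Realisation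

/-- The standard form as a function. -/
abbrev sf (d : ℕ) : (Fin d ⊕ Fin d → F) → (Fin d ⊕ Fin d → F) → F := fun u v => Cfsg.sympForm d F u v

theorem iso_symp_add (a b : ℕ) : Iso (osum (sf (F := F) a) (sf b)) (sf (a + b)) := by
  let j : (Fin a ⊕ Fin a) ⊕ (Fin b ⊕ Fin b) ≃ Fin (a + b) ⊕ Fin (a + b) :=
    (Equiv.sumSumSumComm (Fin a) (Fin a) (Fin b) (Fin b)).trans (Equiv.sumCongr finSumFinEquiv finSumFinEquiv)
  refine ⟨(LinearEquiv.sumArrowLequivProdArrow (Fin a ⊕ Fin a) (Fin b ⊕ Fin b) F F).symm.trans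
    (LinearEquiv.funCongrLeft F F j.symm), fun u v => ?_⟩
  obtain ⟨u₁, u₂⟩ := u
  obtain ⟨v₁, v₂⟩ := v
  simp only [sf, sympForm_eq, osum, LinearEquiv.trans_apply, LinearEquiv.funCongrLeft_apply,
    LinearMap.funLeft_apply, Fin.sum_univ_add]
  simp [j, Equiv.sumSumSumComm, finSumFinEquiv_symm_apply_castAdd, finSumFinEquiv_symm_apply_natAdd,
    LinearEquiv.sumArrowLequivProdArrow_symm_apply_inl, LinearEquiv.sumArrowLequivProdArrow_symm_apply_inr]

/-- Two blocks of one size. -/
theorem real_pair (k : ℕ) : Real (sf (F := F) k) {k, k} := by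
  let P : (Fin k → F) → (Fin k → F) → F := fun u v => ∑ i, u i * v (Fin.rev i)
  have hP : ∀ u v, P (shift k u) v = P u (shift k v) := fun u v => by
    rcases k with _ | k
    · simp [P]
    simp only [P]
    rw [Fin.sum_univ_succ]
    conv_rhs => rw [Fin.sum_univ_castSucc]
    simp only [Fin.rev_last, OrthUnipotent.shift_zero, Fin.rev_succ, Fin.rev_castSucc, OrthUnipotent.shift_succ,
      zero_mul, mul_zero, zero_add, add_zero]
  have h : Real (fun u v : (Fin k → F) × (Fin k → F) => P v.1 u.2 - P u.1 v.2) {k, k} := by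
    refine ⟨LinearMap.prodMap (shift k) (-shift k), fun u v => ?_, fun j => ?_⟩
    · simp only [LinearMap.prodMap_apply, LinearMap.neg_apply]
      have hn : ∀ a b : Fin k → F, P a (-b) = -P a b := fun a b => by simp [P, Finset.sum_neg_distrib]
      rw [hn, hn, hP, hP]
      ring
    · have hp : LinearMap.prodMap (shift k : Module.End F (Fin k → F)) (-shift k) ^ j =
          LinearMap.prodMap (shift k ^ j) ((-shift k) ^ j) := by
        induction j with
        | zero => rfl
        | succ j ih => rw [pow_succ, ih, pow_succ, pow_succ]; rfl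
      have hneg : LinearMap.range ((-shift k : Module.End F (Fin k → F)) ^ j) = LinearMap.range (shift k ^ j) := by
        rw [show (-shift k : Module.End F (Fin k → F)) = (-1 : F) • shift k from (neg_one_smul F _).symm, smul_pow,
          LinearMap.range_smul _ _ (pow_ne_zero _ (neg_ne_zero.2 one_ne_zero))]
      rw [hp, LinearMap.range_prodMap, hneg]
      let R := LinearMap.range ((shift k : Module.End F (Fin k → F)) ^ j)
      let e : (R.prod R) ≃ₗ[F] R × R :=
        { toFun := fun x => (⟨x.1.1, x.2.1⟩, ⟨x.1.2, x.2.2⟩)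
          invFun := fun x => ⟨(x.1.1, x.2.1), ⟨x.1.2, x.2.2⟩⟩
          map_add' := fun _ _ => rfl
          map_smul' := fun _ _ => rfl
          left_inv := fun _ => rfl
          right_inv := fun _ => rfl }
      rw [e.finrank_eq, Module.finrank_prod, finrank_range_shift_pow]
      simp [rankSeq]
  refine h.of_iso ⟨((LinearEquiv.refl F (Fin k → F)).prodCongr (LinearEquiv.funCongrLeft F F Fin.revPerm)).trans
    (LinearEquiv.sumArrowLequivProdArrow (Fin k) (Fin k) F F).symm, fun u v => ?_⟩
  simp only [sf, sympForm_eq, P, Finset.sum_sub_distrib]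
  simp [LinearMap.funLeft_apply, mul_comm]

/-- A single block of even size. -/
theorem real_even (h : ℕ) : Real (sf (F := F) h) {2 * h} := by
  rcases h with _ | h
  · refine ⟨0, fun u v => by simp [sf, sympForm_eq], fun k => ?_⟩
    simp [rankSeq, Module.finrank_zero_of_subsingleton]
  set k := 2 * h + 1 with hk
  let T : (Fin (k + 1) → F) →ₗ[F] (Fin (k + 1) → F) →ₗ[F] F :=
    LinearMap.mk₂ F (fun u v => ∑ i : Fin (k + 1), (-1) ^ i.1 * (u i * v (Fin.rev i)))
      (fun a b v => by simp [add_mul, mul_add, Finset.sum_add_distrib])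
      (fun c a v => by
        simp only [Pi.smul_apply, smul_eq_mul, Finset.mul_sum]
        exact Finset.sum_congr rfl fun i _ => by ring)
      (fun a b v => by simp [mul_add, Finset.sum_add_distrib])
      (fun c a v => by
        simp only [Pi.smul_apply, smul_eq_mul, Finset.mul_sum]
        exact Finset.sum_congr rfl fun i _ => by ring)
  have hT : ∀ u v, T u v = ∑ i : Fin (k + 1), (-1) ^ i.1 * (u i * v (Fin.rev i)) := fun u v => rfl
  have hsgn : ∀ i : Fin (k + 1), ((-1 : F) ^ (Fin.rev i).1) = -(-1) ^ i.1 := fun i => by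
    have hi := i.2
    rw [Fin.val_rev]
    rcases Nat.even_or_odd i.1 with he | he
    · have : Odd (k + 1 - (i.1 + 1)) := by rw [Nat.odd_iff]; have := Nat.even_iff.1 he; omega
      rw [he.neg_one_pow, this.neg_one_pow]
    · have : Even (k + 1 - (i.1 + 1)) := by rw [Nat.even_iff]; have := Nat.odd_iff.1 he; omega
      rw [he.neg_one_pow, this.neg_one_pow, neg_neg]
  have hTA : T.IsAlt := fun u => by
    rw [hT]
    refine Finset.sum_involution (fun i _ => Fin.rev i) (fun i _ => ?_) (fun i _ _ h0 => ?_)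
      (fun i _ => Finset.mem_univ _) (fun i _ => Fin.rev_rev i)
    · rw [Fin.rev_rev, hsgn]; ring
    · have h1 := congrArg Fin.val h0
      rw [Fin.val_rev] at h1
      omega
  have hTN : T.Nondegenerate := by
    have hl : T.SeparatingLeft := fun u hu => funext fun i => by
      have h1 := hu (Pi.single (Fin.rev i) 1)
      rw [hT, Finset.sum_eq_single i (fun j _ hj => ?_) (fun h => absurd (Finset.mem_univ _) h),
        Pi.single_eq_same, mul_one] at h1
      · exact (mul_eq_zero.1 h1).resolve_left (pow_ne_zero _ (neg_ne_zero.2 one_ne_zero))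
      · rw [Pi.single_eq_of_ne (fun h => hj (Fin.rev_injective h)), mul_zero, mul_zero]
    exact ⟨hl, fun w hw => hl w fun u => hTA.isRefl _ _ (hw u)⟩
  have hreal : Real (fun u v => T u v) {2 * (h + 1)} := by
    refine ⟨shift (k + 1), fun u v => ?_, fun j => ?_⟩
    · show T _ _ + T _ _ = 0
      rw [hT, hT, Fin.sum_univ_succ]
      conv_lhs => arg 2; rw [Fin.sum_univ_castSucc]
      simp only [Fin.rev_last, OrthUnipotent.shift_zero, Fin.rev_succ, Fin.rev_castSucc, OrthUnipotent.shift_succ,
        zero_mul, mul_zero, zero_add, add_zero, Fin.val_succ, Fin.val_castSucc, pow_succ]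
      rw [← Finset.sum_add_distrib]
      exact Finset.sum_eq_zero fun i _ => by ring
    · rw [finrank_range_shift_pow]
      simp [rankSeq, hk]
      omega
  refine hreal.of_iso ?_
  obtain ⟨m, b, hb⟩ := exists_sympBasis hTA hTN
  obtain ⟨m', b', hb'⟩ := exists_sympBasis (sympBil_isAlt (F := F) (h + 1)) (sympBil_nondegenerate (h + 1))
  obtain rfl : m' = m := by
    have e1 := Module.finrank_eq_card_basis b
    have e2 := Module.finrank_eq_card_basis b'
    simp at e1 e2
    omega
  exact ⟨b.equiv b' (Equiv.refl _), fun u v => by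
    show Cfsg.sympForm _ F _ _ = _
    rw [← sympBil_apply]
    exact IsSympFamily.basisEquiv_mem hTA (sympBil_isAlt _) b b' hb hb' u v⟩

/-- Block sizes realised in symplectic spaces. -/
theorem real_symp : ∀ (μ : Multiset ℕ) (d : ℕ), (∀ e, Odd e → Even (μ.count e)) →
    μ.sum = 2 * d → Real (sf (F := F) d) μ := by
  intro μ
  induction hn : μ.card using Nat.strong_induction_on generalizing μ with
  | _ n ih =>
  intro d hodd hsum
  rcases Multiset.empty_or_exists_mem μ with rfl | ⟨a, ha⟩
  · obtain rfl : d = 0 := by simpa using hsum.symm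
    refine ⟨0, fun u v => by simp [sf, sympForm_eq], fun k => ?_⟩
    rw [rankSeq]
    simp only [Multiset.map_zero, Multiset.sum_zero]
    exact Module.finrank_zero_of_subsingleton
  obtain ⟨μ', rfl⟩ := Multiset.exists_cons_of_mem ha
  rcases Nat.even_or_odd a with ⟨i, rfl⟩ | ha'
  · rw [Multiset.sum_cons] at hsum
    have hid : i ≤ d := by omega
    have h1 := ih μ'.card (by simp at hn; omega) μ' rfl (d - i) (fun e he => by
      have h3 := hodd e he
      rwa [Multiset.count_cons_of_ne (fun h => by subst h; exact Nat.not_even_iff_odd.2 he ⟨i, rfl⟩)] at h3)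
      (by omega)
    have h3 := ((real_even (F := F) i).osum h1).of_iso (iso_symp_add i (d - i))
    rw [Nat.add_sub_cancel' hid, two_mul, Multiset.singleton_add] at h3
    exact h3
  · have hdup : a ∈ μ' := by
      by_contra hdup
      have := hodd a ha'
      rw [Multiset.count_cons_self, Multiset.count_eq_zero_of_notMem hdup] at this
      exact Nat.not_even_one this
    obtain ⟨ρ, rfl⟩ := Multiset.exists_cons_of_mem hdup
    rw [Multiset.sum_cons, Multiset.sum_cons] at hsum
    have had : a ≤ d := by omega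
    have h1 := ih ρ.card (by simp at hn; omega) ρ rfl (d - a) (fun e he => by
      have h3 := hodd e he
      rw [Multiset.count_cons, Multiset.count_cons] at h3
      split_ifs at h3 with hh
      · rw [add_assoc, Nat.even_add] at h3
        exact h3.2 even_two
      · simpa using h3) (by omega)
    have h3 := ((real_pair (F := F) a).osum h1).of_iso (iso_symp_add a (d - a))
    rw [Nat.add_sub_cancel' had] at h3
    simpa [Multiset.insert_eq_cons, Multiset.singleton_add, Multiset.cons_add] using h3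

/-- Elements of order `p` with given block sizes. -/
theorem exists_element {p : ℕ} [Fact p.Prime] [CharP F p] (h2 : (2 : F) ≠ 0) {d : ℕ} {μ : Multiset ℕ}
    (hμp : ∀ e ∈ μ, e ≤ p) (hne : ∃ e ∈ μ, 2 ≤ e) (hreal : Real (sf (F := F) d) μ) :
    ∃ M : Matrix (Fin d ⊕ Fin d) (Fin d ⊕ Fin d) F, M ^ p = 1 ∧
      (∀ u v, Cfsg.sympForm d F (M.mulVec u) (M.mulVec v) = Cfsg.sympForm d F u v) ∧ (∀ z : F, M ≠ z • 1) ∧
      (Matrix.toLinAlgEquiv' M - 1) ^ p = 0 ∧
      ∀ k, finrank F (LinearMap.range ((Matrix.toLinAlgEquiv' M - 1) ^ k)) = rankSeq μ k := by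
  obtain ⟨S, hS, hr⟩ := hreal
  have hSp : S ^ p = 0 := LinearMap.range_eq_bot.1 (Submodule.finrank_eq_zero.1 (by
    rw [hr, rankSeq]
    refine Multiset.sum_eq_zero fun b hb => ?_
    obtain ⟨c, hc, rfl⟩ := Multiset.mem_map.1 hb
    have := hμp c hc
    omega))
  obtain ⟨w, hw⟩ : IsUnit (1 - S) := IsNilpotent.isUnit_one_sub ⟨p, hSp⟩
  let wi : Module.End F (Fin d ⊕ Fin d → F) := ↑(w⁻¹)
  let L : Module.End F (Fin d ⊕ Fin d → F) := (1 + S) * wi
  have hcomm : Commute S (w : Module.End F (Fin d ⊕ Fin d → F)) := by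
    rw [hw]
    exact (Commute.one_right S).sub_right (Commute.refl S)
  have hcomm' : Commute S wi := hcomm.units_inv_right
  have hwi : (w : Module.End F (Fin d ⊕ Fin d → F)) * wi = 1 := w.mul_inv
  have hN : L - 1 = (2 * wi) * S := by
    calc L - 1 = (1 + S) * wi - (w : Module.End F (Fin d ⊕ Fin d → F)) * wi := by rw [hwi]
      _ = 2 * (S * wi) := by
        rw [hw, ← sub_mul, show (1 + S - (1 - S) : Module.End F (Fin d ⊕ Fin d → F)) = 2 * S by rw [two_mul]; abel,
          mul_assoc]
      _ = 2 * wi * S := by rw [hcomm'.eq, mul_assoc]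
  have h2u : IsUnit ((2 : Module.End F (Fin d ⊕ Fin d → F)) * wi) := by
    refine IsUnit.mul ?_ (w⁻¹).isUnit
    rw [show (2 : Module.End F (Fin d ⊕ Fin d → F)) = algebraMap F (Module.End F (Fin d ⊕ Fin d → F)) 2 from
      (map_ofNat _ 2).symm]
    exact (IsUnit.mk0 _ h2).map _
  have hcN : Commute (2 * wi) S := (Commute.ofNat_left 2 S).mul_left hcomm'.symm
  have hrk : ∀ k, finrank F (LinearMap.range ((L - 1) ^ k)) = rankSeq μ k := fun k => by
    obtain ⟨t, ht⟩ := h2u
    rw [hN, hcN.mul_pow, ← ht, ← Units.val_pow_eq_pow_val, OrthUnipotent.finrank_range_units_mul, hr]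
  have hNp : (L - 1) ^ p = 0 := by rw [hN, hcN.mul_pow, hSp, mul_zero]
  obtain ⟨e, he, he2⟩ := hne
  haveI : Nonempty (Fin d ⊕ Fin d) := by
    by_contra hemp
    rw [not_nonempty_iff] at hemp
    have h := hr 0
    rw [rankSeq_zero] at h
    have h' := Multiset.le_sum_of_mem he
    have hle := Submodule.finrank_le (LinearMap.range (S ^ 0))
    rw [Module.finrank_fintype_fun_eq_card, Fintype.card_eq_zero] at hle
    omega
  haveI : CharP (Module.End F (Fin d ⊕ Fin d → F)) p :=
    charP_of_injective_algebraMap (algebraMap F (Module.End F (Fin d ⊕ Fin d → F))).injective p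
  have hLp : L ^ p = 1 := by
    rw [show L = 1 + (L - 1) by abel, add_pow_char_of_commute p (Commute.one_left _), hNp, one_pow, add_zero]
  let M := (Matrix.toLinAlgEquiv' (R := F) (n := Fin d ⊕ Fin d)).symm L
  have hM : Matrix.toLinAlgEquiv' M = L := AlgEquiv.apply_symm_apply _ _
  have hMp : M ^ p = 1 := by
    apply (Matrix.toLinAlgEquiv' (R := F) (n := Fin d ⊕ Fin d)).injective
    rw [map_pow, hM, hLp, map_one]
  have hiso : ∀ u v, Cfsg.sympForm d F (L u) (L v) = Cfsg.sympForm d F u v := fun u v => by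
    have key : ∀ a b, sympBil F d ((1 + S) a) ((1 + S) b) = sympBil F d
        ((w : Module.End F (Fin d ⊕ Fin d → F)) a) ((w : Module.End F (Fin d ⊕ Fin d → F)) b) := fun a b => by
      have hS' : sympBil F d (S a) b + sympBil F d a (S b) = 0 := by
        rw [sympBil_apply, sympBil_apply]; exact hS a b
      rw [hw]
      simp only [LinearMap.add_apply, LinearMap.sub_apply, Module.End.one_apply, map_add, map_sub]
      linear_combination 2 * hS'
    rw [← sympBil_apply, ← sympBil_apply]
    show sympBil F d ((1 + S) (wi u)) ((1 + S) (wi v)) = _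
    rw [key, ← Module.End.mul_apply, ← Module.End.mul_apply, hwi, Module.End.one_apply, Module.End.one_apply]
  refine ⟨M, hMp, fun u v => ?_, fun z hz => ?_, by rw [hM]; exact hNp, fun k => by rw [hM]; exact hrk k⟩
  · rw [← Matrix.toLinAlgEquiv'_apply, ← Matrix.toLinAlgEquiv'_apply, hM]
    exact hiso u v
  have hLz : L = z • 1 := by rw [← hM, hz, map_smul, map_one]
  have hzz : z = 1 := by
    rw [hz, smul_pow, one_pow] at hMp
    obtain ⟨i⟩ := ‹Nonempty (Fin d ⊕ Fin d)›
    have h3 := congrFun (congrFun hMp i) i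
    simp only [Matrix.smul_apply, Matrix.one_apply_eq, smul_eq_mul, mul_one] at h3
    exact sub_eq_zero.1 ((pow_eq_zero_iff (Fact.out : p.Prime).ne_zero).1
      (by rw [sub_pow_char, h3, one_pow, sub_self]))
  have h := hrk 1
  rw [hLz, hzz, one_smul, sub_self, pow_one, LinearMap.range_zero, finrank_bot, rankSeq] at h
  have := Multiset.sum_eq_zero_iff.1 h.symm _ (Multiset.mem_map_of_mem _ he)
  omega

end Realisation

end CfsgLib.Derangements.SympUni
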