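import Cfsg.Agent.Lib.Char.Induced
import Cfsg.Agent.Lib.Char.ClassSum
import Cfsg.Agent.Lib.Char.Linear

/-!
Exceptional characters over a subgroup with trivial intersection set, and counting of pairs
of involutions.
-/

set_option autoImplicit false
set_option linter.style.haveILetI false

namespace CfsgLib.TIPairs

open scoped ComplexConjugate
open CfsgLib

universe u v

section Gen

variable {K : Type v} [Group K]

theorem gen_add {a b : K → ℂ} (ha : Cfsg.IsGeneralizedCharacter K a)
    (hb : Cfsg.IsGeneralizedCharacter K b) : Cfsg.IsGeneralizedCharacter K (a + b) := by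
  obtain ⟨p, q, hp, hq, rfl⟩ := ha
  obtain ⟨r, s, hr, hs, rfl⟩ := hb
  exact ⟨p + r, q + s, Char.IsCharacter.add hp hr, Char.IsCharacter.add hq hs, by abel⟩

theorem gen_sub {a b : K → ℂ} (ha : Cfsg.IsGeneralizedCharacter K a)
    (hb : Cfsg.IsGeneralizedCharacter K b) : Cfsg.IsGeneralizedCharacter K (a - b) := by
  obtain ⟨p, q, hp, hq, rfl⟩ := ha
  obtain ⟨r, s, hr, hs, rfl⟩ := hb
  exact ⟨p + s, q + r, Char.IsCharacter.add hp hs, Char.IsCharacter.add hq hr, by abel⟩

theorem gen_mul {a b : K → ℂ} (ha : Cfsg.IsGeneralizedCharacter K a)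
    (hb : Cfsg.IsGeneralizedCharacter K b) : Cfsg.IsGeneralizedCharacter K (a * b) := by
  obtain ⟨p, q, hp, hq, rfl⟩ := ha
  obtain ⟨r, s, hr, hs, rfl⟩ := hb
  exact ⟨p * r + q * s, p * s + q * r,
    Char.IsCharacter.add (Char.IsCharacter.mul hp hr) (Char.IsCharacter.mul hq hs),
    Char.IsCharacter.add (Char.IsCharacter.mul hp hs) (Char.IsCharacter.mul hq hr), by ring⟩

theorem gen_comp {L : Type*} [Group L] {a : K → ℂ} (ha : Cfsg.IsGeneralizedCharacter K a)
    (f : L →* K) : Cfsg.IsGeneralizedCharacter L (a ∘ f) := by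
  obtain ⟨p, q, hp, hq, rfl⟩ := ha
  exact ⟨p ∘ f, q ∘ f, Char.IsCharacter.comp hp f, Char.IsCharacter.comp hq f, rfl⟩

/-- The trace of an integral matrix representation is a generalized character. -/
theorem gen_matrix {n : ℕ} (f : K →* Matrix (Fin n) (Fin n) ℤ) :
    Cfsg.IsGeneralizedCharacter K (fun g => ((f g).trace : ℂ)) := by
  let g : K →* Matrix (Fin n) (Fin n) ℂ :=
    ((Int.castRingHom ℂ).mapMatrix.toMonoidHom).comp f
  let ρ : Representation ℂ K (Fin n → ℂ) :=
    (Matrix.toLinAlgEquiv'.toRingEquiv.toMonoidHom).comp g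
  refine Char.IsCharacter.isGeneralizedCharacter ⟨n, ρ, ?_⟩
  funext x
  show LinearMap.trace ℂ _ (Matrix.toLin' ((f x).map (Int.cast : ℤ → ℂ))) = _
  rw [Matrix.trace_toLin'_eq, Matrix.trace, Matrix.trace, Int.cast_sum]
  rfl

/-- A sign-valued homomorphism is a generalized character. -/
theorem gen_hom (f : K →* ℤˣ) : Cfsg.IsGeneralizedCharacter K (fun g => ((f g : ℤ) : ℂ)) := by
  let φ : K →* ℂˣ := (Units.map (Int.castRingHom ℂ).toMonoidHom).comp f
  refine Char.IsCharacter.isGeneralizedCharacter ?_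
  have := Char.isCharacter_hom φ
  exact this

end Gen

section Pairs

/-- The involutions of a group. -/
noncomputable def invols (K : Type v) [Group K] [Fintype K] : Finset K :=
  haveI := Classical.decEq K
  Finset.univ.filter fun x => x * x = 1 ∧ x ≠ 1

theorem mem_invols {K : Type v} [Group K] [Fintype K] {x : K} :
    x ∈ invols K ↔ x * x = 1 ∧ x ≠ 1 := by
  classical
  simp [invols]

/-- The number of ordered pairs of involutions with product `g`. -/
noncomputable def pairs {K : Type v} [Group K] [Fintype K] (g : K) : ℂ :=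
  haveI := Classical.decEq K
  (((invols K).filter fun x => x * g ∈ invols K).card : ℂ)

/-- The sum of a function over the involutions. -/
noncomputable def invSum {K : Type v} [Group K] [Fintype K] (χ : K → ℂ) : ℂ :=
  ∑ x ∈ invols K, χ x

variable {K : Type v} [Group K] [Fintype K]

theorem sum_pairs_mul (f : K → ℂ) :
    ∑ g, pairs g * f g = ∑ x ∈ invols K, ∑ y ∈ invols K, f (x * y) := by
  classical
  simp only [pairs, Finset.card_filter, Nat.cast_sum, Nat.cast_ite, Nat.cast_one, Nat.cast_zero,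
    Finset.sum_mul, ite_mul, one_mul, zero_mul]
  rw [Finset.sum_comm]
  refine Finset.sum_congr rfl fun x hx => ?_
  have hxx : x * x = 1 := (mem_invols.mp hx).1
  rw [← Finset.sum_filter]
  refine Finset.sum_nbij' (fun g => x * g) (fun y => x * y) ?_ ?_ ?_ ?_ ?_
  · intro g hg
    simpa using hg
  · intro y hy
    simp [← mul_assoc, hxx]
    simpa using hy
  · intro g _
    simp [← mul_assoc, hxx]
  · intro y _
    simp [← mul_assoc, hxx]
  · intro g _
    simp [← mul_assoc, hxx]

theorem sum_invols_mul_irr {χ : K → ℂ} (hχ : Cfsg.IsIrrCharacter K χ) (y : K) :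
    ∑ x ∈ invols K, χ (y * x) = χ y * invSum χ / χ 1 := by
  classical
  apply mul_left_cancel₀ (Char.card_ne_zero (G := K))
  have h1 : ∀ h : K, ∑ x ∈ invols K, χ (y * (h * x * h⁻¹)) = ∑ x ∈ invols K, χ (y * x) := by
    intro h
    refine Finset.sum_equiv (MulAut.conj h).toEquiv (fun x => ?_) (fun x _ => rfl)
    simp only [mem_invols, MulEquiv.toEquiv_eq_coe, EquivLike.coe_coe, MulAut.conj_apply]
    constructor
    · rintro ⟨hx, hx1⟩
      exact ⟨by rw [show h * x * h⁻¹ * (h * x * h⁻¹) = h * (x * x) * h⁻¹ by group, hx]; group,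
        fun e => hx1 (by rwa [conj_eq_one_iff] at e)⟩
    · rintro ⟨hx, hx1⟩
      refine ⟨?_, fun e => hx1 (by rw [e]; group)⟩
      have : x * x = h⁻¹ * (h * x * h⁻¹ * (h * x * h⁻¹)) * h := by group
      rw [this, hx]; group
  calc (Nat.card K : ℂ) * ∑ x ∈ invols K, χ (y * x)
      = ∑ _h : K, ∑ x ∈ invols K, χ (y * x) := by
        rw [Finset.sum_const, Finset.card_univ, nsmul_eq_mul, Nat.card_eq_fintype_card]
    _ = ∑ h : K, ∑ x ∈ invols K, χ (y * (h * x * h⁻¹)) :=
        Finset.sum_congr rfl fun h _ => (h1 h).symm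
    _ = _ := by
        rw [Finset.sum_comm]
        simp only [Char.IsIrrCharacter.sum_mul_conjugate hχ, invSum, Finset.mul_sum,
          Finset.sum_div]
        exact Finset.sum_congr rfl fun x _ => by ring

/-- Frobenius' formula for products of two involutions. -/
theorem classInner_pairs {χ : K → ℂ} (hχ : Cfsg.IsIrrCharacter K χ) :
    Cfsg.classInner pairs χ = invSum χ ^ 2 / ((Nat.card K : ℂ) * χ 1) := by
  rw [Cfsg.classInner, sum_pairs_mul]
  have h2 : ∀ x ∈ invols K, ∀ y ∈ invols K, conj (χ (x * y)) = χ (y * x) := by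
    intro x hx y hy
    rw [← Char.IsIrrCharacter.apply_inv hχ, mul_inv_rev,
      inv_eq_of_mul_eq_one_right (mem_invols.mp hx).1,
      inv_eq_of_mul_eq_one_right (mem_invols.mp hy).1]
  rw [Finset.sum_congr rfl fun x hx => Finset.sum_congr rfl (h2 x hx), Finset.sum_comm,
    Finset.sum_congr rfl fun y _ => sum_invols_mul_irr hχ y, ← Finset.sum_div, ← Finset.sum_mul]
  have hc := Char.card_ne_zero (G := K)
  have h1 := Char.IsIrrCharacter.apply_one_ne_zero hχ
  simp only [invSum]
  field_simp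

theorem conj_invSum {χ : K → ℂ} (hχ : Cfsg.IsIrrCharacter K χ) :
    conj (invSum χ) = invSum χ := by
  rw [invSum, map_sum]
  refine Finset.sum_congr rfl fun x hx => ?_
  rw [← Char.IsIrrCharacter.apply_inv hχ, inv_eq_of_mul_eq_one_right (mem_invols.mp hx).1]

end Pairs

section Setup

variable {G : Type u} [Group G] [Fintype G] {M : Type v} [Group M] [Fintype M]
variable (H : Subgroup G) (e : M ≃* H) (A : G → Prop)

/-- The hypotheses on a trivial intersection set. -/
structure IsTI : Prop where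
  mem_of_conj : ∀ a ∈ H, A a → ∀ x : G, x⁻¹ * a * x ∈ H → x ∈ H
  sq_ne_one : ∀ a ∈ H, A a → a * a ≠ 1

/-- Integer valued generalized characters supported on the set. -/
structure Adm (F : M → ℤ) : Prop where
  gen : Cfsg.IsGeneralizedCharacter M (fun m => (F m : ℂ))
  supp : ∀ m, F m ≠ 0 → A (e m)

/-- The induced function. -/
noncomputable def ind (F : M → ℤ) : G → ℂ :=
  Cfsg.indFun H (fun h => (F (e.symm h) : ℂ))

/-- The multiplicity of an irreducible character in the induced function. -/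
noncomputable def coef (F : M → ℤ) (χ : Cfsg.IrrCharacter G) : ℤ :=
  round (Cfsg.classInner (ind H e F) (χ : G → ℂ)).re

/-- The trivial character. -/
noncomputable def one : Cfsg.IrrCharacter G := ⟨fun _ => 1, Char.isIrrCharacter_one⟩

/-- The degree, as a real number. -/
noncomputable def deg (χ : Cfsg.IrrCharacter G) : ℝ := ((χ : G → ℂ) 1).re

/-- The normalised sum over the involutions, as a real number. -/
noncomputable def tee (χ : Cfsg.IrrCharacter G) : ℝ :=
  (invSum (χ : G → ℂ)).re - ((invols G).card : ℝ) * deg χ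

theorem exists_deg (χ : Cfsg.IrrCharacter G) :
    ∃ n : ℕ, 0 < n ∧ deg χ = n ∧ (χ : G → ℂ) 1 = n := by
  obtain ⟨n, hn, h⟩ := Char.IsIrrCharacter.apply_one_eq χ.2
  exact ⟨n, hn, by rw [deg, h, Complex.natCast_re], h⟩

theorem deg_pos (χ : Cfsg.IrrCharacter G) : 0 < deg χ := by
  obtain ⟨n, hn, h, -⟩ := exists_deg χ
  rw [h]
  exact_mod_cast hn

theorem coe_deg (χ : Cfsg.IrrCharacter G) : (deg χ : ℂ) = (χ : G → ℂ) 1 := by
  obtain ⟨n, -, h, h'⟩ := exists_deg χ
  rw [h, h', Complex.ofReal_natCast]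

theorem coe_invSum (χ : Cfsg.IrrCharacter G) :
    ((invSum (χ : G → ℂ)).re : ℂ) = invSum (χ : G → ℂ) :=
  Complex.conj_eq_iff_re.mp (conj_invSum χ.2)

theorem deg_one : deg (one : Cfsg.IrrCharacter G) = 1 := by simp [deg, one]

theorem tee_one : tee (one : Cfsg.IrrCharacter G) = 0 := by
  simp [tee, deg, one, invSum]

variable {H e A}

theorem gen_ind {F : M → ℤ} (hF : Adm H e A F) :
    Cfsg.IsGeneralizedCharacter G (ind H e F) :=
  Char.IsGeneralizedCharacter.indFun H (gen_comp hF.gen e.symm.toMonoidHom)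

theorem coe_coef {F : M → ℤ} (hF : Adm H e A F) (χ : Cfsg.IrrCharacter G) :
    (coef H e F χ : ℂ) = Cfsg.classInner (ind H e F) (χ : G → ℂ) := by
  obtain ⟨-, h⟩ := Char.isGeneralizedCharacter_iff.mp (gen_ind hF)
  obtain ⟨n, hn⟩ := h (χ : G → ℂ) χ.2
  rw [coef, hn, Complex.intCast_re, round_intCast]

theorem classInner_ind [Fintype H] {ψ : G → ℂ} (hψ : Cfsg.IsClassFunction G ψ) (F : M → ℤ) :
    Cfsg.classInner (ind H e F) ψ =
      Cfsg.classInner (fun m => (F m : ℂ)) (fun m => ψ (e m)) := by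
  rw [ind, Char.classInner_indFun H _ hψ, ← Char.classInner_reindex e]
  simp [Function.comp_def]

theorem coe_coef_restrict {F : M → ℤ} (hF : Adm H e A F) (χ : Cfsg.IrrCharacter G) :
    (coef H e F χ : ℂ) =
      Cfsg.classInner (fun m => (F m : ℂ)) (fun m => (χ : G → ℂ) (e m)) := by
  cases nonempty_fintype H
  rw [coe_coef hF, classInner_ind (Char.IsIrrCharacter.isClassFunction χ.2)]

theorem coef_one_mul {F : M → ℤ} (hF : Adm H e A F) :
    coef H e F one * (Nat.card M : ℤ) = ∑ m, F m := by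
  have h := coe_coef_restrict hF (one : Cfsg.IrrCharacter G)
  simp only [one, Cfsg.classInner, map_one, mul_one] at h
  apply Int.cast_injective (α := ℂ)
  rw [Int.cast_mul, Int.cast_natCast, Int.cast_sum]
  simp only [one]
  rw [h]
  field_simp [Char.card_ne_zero (G := M)]

theorem ind_apply (hTI : IsTI H A) {F : M → ℤ} (hF : Adm H e A F) (m : M) (hm : A (e m)) :
    ind H e F (e m) = (F m : ℂ) := by
  classical
  cases nonempty_fintype H
  have hcf : Cfsg.IsClassFunction H (fun h : H => (F (e.symm h) : ℂ)) :=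
    Char.IsGeneralizedCharacter.isClassFunction (gen_comp hF.gen e.symm.toMonoidHom)
  have hterm : ∀ x : G, Cfsg.extendByZero H (fun h => (F (e.symm h) : ℂ)) (x⁻¹ * (e m : G) * x) =
      if x ∈ H then (F m : ℂ) else 0 := by
    intro x
    split_ifs with hx
    · have hmem : x⁻¹ * (e m : G) * x ∈ H := H.mul_mem (H.mul_mem (H.inv_mem hx) (e m).2) hx
      rw [Char.extendByZero_apply_mem H _ hmem]
      have h := hcf (e m) ⟨x⁻¹, H.inv_mem hx⟩
      simp only [e.symm_apply_apply] at h
      rw [← h]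
      congr 3
      exact Subtype.ext (by simp)
    · exact Char.extendByZero_apply_notMem H _ fun h => hx (hTI.mem_of_conj _ (e m).2 hm x h)
  rw [ind, Char.indFun_def, Finset.sum_congr rfl fun x _ => hterm x, ← Finset.sum_filter,
    Finset.sum_const, nsmul_eq_mul, ← Fintype.card_subtype, ← Nat.card_eq_fintype_card]
  exact inv_mul_cancel_left₀ Char.card_ne_zero _

theorem ind_one (hTI : IsTI H A) {F : M → ℤ} (hF : Adm H e A F) : ind H e F 1 = 0 := by
  rw [ind, Char.indFun_one]
  have : F (e.symm 1) = 0 := by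
    by_contra h
    have h' := hF.supp _ h
    simp only [map_one, OneMemClass.coe_one] at h'
    exact hTI.sq_ne_one 1 H.one_mem h' (one_mul 1)
  rw [this, Int.cast_zero, mul_zero]

theorem ind_invol (hTI : IsTI H A) {F : M → ℤ} (hF : Adm H e A F) {x : G} (hx : x * x = 1) :
    ind H e F x = 0 := by
  rw [ind, Char.indFun_def, Finset.sum_eq_zero, mul_zero]
  intro y _
  by_cases h : y⁻¹ * x * y ∈ H
  · rw [Char.extendByZero_apply_mem H _ h, Int.cast_eq_zero]
    by_contra h0
    have h' := hF.supp _ h0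
    rw [e.apply_symm_apply] at h'
    refine hTI.sq_ne_one _ h h' ?_
    rw [show y⁻¹ * x * y * (y⁻¹ * x * y) = y⁻¹ * (x * x) * y by group, hx]
    group
  · rw [Char.extendByZero_apply_notMem H _ h]

theorem ind_eq_sum {F : M → ℤ} (hF : Adm H e A F) (g : G) :
    ind H e F g = ∑ χ : Cfsg.IrrCharacter G, (coef H e F χ : ℂ) * (χ : G → ℂ) g := by
  have := congrFun (Char.IsClassFunction.eq_sum_irr
    (Char.IsGeneralizedCharacter.isClassFunction (gen_ind hF))) g
  rw [this, Finset.sum_apply]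
  exact Finset.sum_congr rfl fun χ _ => by rw [Pi.smul_apply, smul_eq_mul, coe_coef hF]

/-- The values on the set. -/
theorem sum_coef_apply (hTI : IsTI H A) {F : M → ℤ} (hF : Adm H e A F) (m : M) (hm : A (e m)) :
    ∑ χ : Cfsg.IrrCharacter G, (coef H e F χ : ℂ) * (χ : G → ℂ) (e m) = (F m : ℂ) := by
  rw [← ind_eq_sum hF, ind_apply hTI hF m hm]

/-- The isometry. -/
theorem sum_coef_mul (hTI : IsTI H A) {F F' : M → ℤ} (hF : Adm H e A F) (hF' : Adm H e A F') :
    (∑ χ : Cfsg.IrrCharacter G, coef H e F χ * coef H e F' χ) * (Nat.card M : ℤ) =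
      ∑ m, F m * F' m := by
  cases nonempty_fintype H
  have hcf := Char.IsGeneralizedCharacter.isClassFunction (gen_ind hF')
  have h1 : Cfsg.classInner (ind H e F) (ind H e F') =
      ∑ χ : Cfsg.IrrCharacter G, (coef H e F χ : ℂ) * (coef H e F' χ : ℂ) := by
    rw [Char.classInner_eq_sum_irr (Char.IsGeneralizedCharacter.isClassFunction (gen_ind hF))]
    refine Finset.sum_congr rfl fun χ _ => ?_
    rw [coe_coef hF, ← Char.classInner_conj_symm (ind H e F') (χ : G → ℂ), ← coe_coef hF',
      map_intCast]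
  have h2 : ∀ m, (F m : ℂ) * conj (ind H e F' (e m)) = (F m : ℂ) * (F' m : ℂ) := by
    intro m
    by_cases hm : F m = 0
    · simp [hm]
    · rw [ind_apply hTI hF' m (hF.supp m hm), map_intCast]
  apply Int.cast_injective (α := ℂ)
  push_cast
  rw [← h1, classInner_ind hcf, Cfsg.classInner, Finset.sum_congr rfl fun m _ => h2 m]
  field_simp [Char.card_ne_zero (G := M)]

theorem sum_coef_deg (hTI : IsTI H A) {F : M → ℤ} (hF : Adm H e A F) :
    ∑ χ : Cfsg.IrrCharacter G, (coef H e F χ : ℝ) * deg χ = 0 := by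
  apply Complex.ofReal_injective
  push_cast
  simp only [coe_deg]
  rw [← ind_eq_sum hF, ind_one hTI hF]

theorem sum_coef_invSum (hTI : IsTI H A) {F : M → ℤ} (hF : Adm H e A F) :
    ∑ χ : Cfsg.IrrCharacter G, (coef H e F χ : ℂ) * invSum (χ : G → ℂ) = 0 := by
  simp only [invSum, Finset.mul_sum]
  rw [Finset.sum_comm, Finset.sum_eq_zero]
  intro x hx
  rw [← ind_eq_sum hF, ind_invol hTI hF (mem_invols.mp hx).1]

theorem sum_coef_tee (hTI : IsTI H A) {F : M → ℤ} (hF : Adm H e A F) :
    ∑ χ : Cfsg.IrrCharacter G, (coef H e F χ : ℝ) * tee χ = 0 := by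
  apply Complex.ofReal_injective
  have hd : ∑ χ : Cfsg.IrrCharacter G, (coef H e F χ : ℂ) * (deg χ : ℂ) = 0 := by
    exact_mod_cast sum_coef_deg hTI hF
  simp only [tee]
  push_cast
  simp only [coe_invSum, mul_sub, Finset.sum_sub_distrib]
  rw [sum_coef_invSum hTI hF, zero_sub, neg_eq_zero]
  calc _ = ((invols G).card : ℂ) *
        ∑ χ : Cfsg.IrrCharacter G, (coef H e F χ : ℂ) * (deg χ : ℂ) := by
        rw [Finset.mul_sum]; exact Finset.sum_congr rfl fun χ _ => by ring
    _ = 0 := by rw [hd, mul_zero]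

theorem pairs_eq (hTI : IsTI H A) (m : M) (hm : A (e m)) :
    pairs (e m : G) = pairs m := by
  classical
  unfold pairs
  norm_cast
  symm
  have himg : ∀ x : M, (e x : G) ∈ invols G ↔ x ∈ invols M := by
    intro x
    simp only [mem_invols, ne_eq]
    rw [← Subgroup.coe_mul, ← map_mul, OneMemClass.coe_eq_one, map_eq_one_iff e e.injective,
      OneMemClass.coe_eq_one, map_eq_one_iff e e.injective]
  refine Finset.card_bij (fun x _ => (e x : G)) ?_ ?_ ?_
  · intro x hx
    simp only [Finset.mem_filter] at hx ⊢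
    refine ⟨(himg x).mpr hx.1, ?_⟩
    rw [← Subgroup.coe_mul, ← map_mul]
    exact (himg _).mpr hx.2
  · intro x _ y _ h
    exact e.injective (Subtype.ext h)
  · intro x hx
    simp only [Finset.mem_filter] at hx
    have hxx := (mem_invols.mp hx.1).1
    have hy := (mem_invols.mp hx.2).1
    have hxi : x⁻¹ = x := inv_eq_of_mul_eq_one_right hxx
    have hconj : x⁻¹ * (e m : G) * x = ((e m)⁻¹ : H) := by
      rw [Subgroup.coe_inv, hxi, eq_inv_iff_mul_eq_one]
      rw [show x * (e m : G) * x * (e m : G) = x * e m * (x * e m) by group, hy]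
    have hxH : x ∈ H := hTI.mem_of_conj _ (e m).2 hm x (hconj ▸ SetLike.coe_mem _)
    refine ⟨e.symm ⟨x, hxH⟩, ?_, by simp⟩
    simp only [Finset.mem_filter]
    refine ⟨(himg _).mp (by simpa using hx.1), (himg _).mp ?_⟩
    simpa using hx.2

/-- The counting identity. -/
theorem sum_coef_tee_sq [DecidableEq M] (hTI : IsTI H A) {F : M → ℤ} (hF : Adm H e A F) :
    (Nat.card M : ℝ) * ∑ χ : Cfsg.IrrCharacter G, (coef H e F χ : ℝ) * tee χ ^ 2 / deg χ =
      (Nat.card G : ℝ) * ((∑ x ∈ Finset.univ.filter (fun x : M => x * x = 1 ∧ x ≠ 1),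
        ∑ y ∈ Finset.univ.filter (fun y : M => y * y = 1 ∧ y ≠ 1), F (x * y) : ℤ) : ℝ) := by
  cases nonempty_fintype H
  have hI : invols M = Finset.univ.filter (fun x : M => x * x = 1 ∧ x ≠ 1) := by
    ext x; simp [mem_invols]
  rw [← hI]
  -- values inside the subgroup
  have hloc : Cfsg.classInner pairs (ind H e F) =
      (Nat.card M : ℂ)⁻¹ * ∑ x ∈ invols M, ∑ y ∈ invols M, (F (x * y) : ℂ) := by
    have hp : Cfsg.IsClassFunction G (pairs : G → ℂ) := by
      classical
      intro g h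
      unfold pairs
      norm_cast
      have hcm : ∀ x : G, h⁻¹ * x * h ∈ invols G ↔ x ∈ invols G := by
        intro x
        simp only [mem_invols, ne_eq]
        rw [show h⁻¹ * x * h * (h⁻¹ * x * h) = h⁻¹ * (x * x) * h by group]
        constructor
        · rintro ⟨a, b⟩
          refine ⟨?_, fun hx => b (by rw [hx]; group)⟩
          calc x * x = h * (h⁻¹ * (x * x) * h) * h⁻¹ := by group
            _ = 1 := by rw [a]; group
        · rintro ⟨a, b⟩
          refine ⟨by rw [a]; group, fun hx => b ?_⟩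
          calc x = h * (h⁻¹ * x * h) * h⁻¹ := by group
            _ = 1 := by rw [hx]; group
      refine Finset.card_nbij' (fun x => h⁻¹ * x * h) (fun x => h * x * h⁻¹) ?_ ?_ ?_ ?_
      · intro x hx
        simp only [Finset.coe_filter, Set.mem_ofPred_eq] at hx ⊢
        refine ⟨(hcm x).mpr hx.1, ?_⟩
        rw [show h⁻¹ * x * h * g = h⁻¹ * (x * (h * g * h⁻¹)) * h by group]
        exact (hcm _).mpr hx.2
      · intro x hx
        simp only [Finset.coe_filter, Set.mem_ofPred_eq] at hx ⊢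
        refine ⟨(hcm _).mp (by simpa [mul_assoc] using hx.1), (hcm _).mp ?_⟩
        simpa [mul_assoc] using hx.2
      · intro x _
        simp [mul_assoc]
      · intro x _
        simp [mul_assoc]
    rw [← Char.classInner_conj_symm (ind H e F) pairs, classInner_ind hp,
      Char.classInner_conj_symm, Cfsg.classInner]
    congr 1
    rw [← sum_pairs_mul (fun m => (F m : ℂ))]
    refine Finset.sum_congr rfl fun m _ => ?_
    rw [map_intCast]
    by_cases hm : F m = 0
    · simp [hm]
    · rw [pairs_eq hTI m (hF.supp m hm)]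
  -- expansion in the group
  have hexp : Cfsg.classInner pairs (ind H e F) =
      ∑ χ : Cfsg.IrrCharacter G,
        (coef H e F χ : ℂ) * (invSum (χ : G → ℂ) ^ 2 / ((Nat.card G : ℂ) * (χ : G → ℂ) 1)) := by
    rw [Char.IsClassFunction.eq_sum_irr
      (Char.IsGeneralizedCharacter.isClassFunction (gen_ind hF)), Char.classInner_sum_right]
    refine Finset.sum_congr rfl fun χ _ => ?_
    rw [Char.classInner_smul_right, classInner_pairs χ.2, ← coe_coef hF, map_intCast]
  have hG := Char.card_ne_zero (G := G)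
  have hM := Char.card_ne_zero (G := M)
  -- drop the shift
  have hsq : ∀ χ : Cfsg.IrrCharacter G, (coef H e F χ : ℝ) * tee χ ^ 2 / deg χ =
      (coef H e F χ : ℝ) * (invSum (χ : G → ℂ)).re ^ 2 / deg χ
        - 2 * ((invols G).card : ℝ) * ((coef H e F χ : ℝ) * tee χ)
        - ((invols G).card : ℝ) ^ 2 * ((coef H e F χ : ℝ) * deg χ) := by
    intro χ
    have := (deg_pos χ).ne'
    simp only [tee]
    field_simp
    ring
  rw [Finset.sum_congr rfl fun χ _ => hsq χ, Finset.sum_sub_distrib, Finset.sum_sub_distrib,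
    ← Finset.mul_sum, ← Finset.mul_sum, sum_coef_tee hTI hF, sum_coef_deg hTI hF]
  apply Complex.ofReal_injective
  push_cast
  simp only [coe_invSum, coe_deg, mul_zero, sub_zero]
  have key := hexp.symm.trans hloc
  calc (Nat.card M : ℂ) * ∑ χ : Cfsg.IrrCharacter G,
        (coef H e F χ : ℂ) * invSum (χ : G → ℂ) ^ 2 / (χ : G → ℂ) 1
      = (Nat.card M : ℂ) * ((Nat.card G : ℂ) * ∑ χ : Cfsg.IrrCharacter G,
        (coef H e F χ : ℂ) * (invSum (χ : G → ℂ) ^ 2 / ((Nat.card G : ℂ) * (χ : G → ℂ) 1))) := by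
        congr 1
        rw [Finset.mul_sum]
        refine Finset.sum_congr rfl fun χ _ => ?_
        field_simp
    _ = _ := by rw [key]; field_simp

end Setup

section Split

variable {ι : Type*} [DecidableEq ι] (c : ι → ℤ)

/-- An integer vector of norm one. -/
theorem split_one {s : Finset ι} (h : ∑ i ∈ s, c i * c i = 1) :
    ∃ x ∈ s, (c x = 1 ∨ c x = -1) ∧ ∀ i ∈ s, i ≠ x → c i = 0 := by
  have hex : ∃ x ∈ s, c x ≠ 0 := by
    by_contra hc
    push Not at hc
    rw [Finset.sum_eq_zero fun i hi => by simp [hc i hi]] at h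
    exact zero_ne_one h
  obtain ⟨x, hx, hcx⟩ := hex
  rw [← Finset.add_sum_erase _ _ hx] at h
  have h0 : 0 < c x * c x := mul_self_pos.2 hcx
  have h1 : 0 ≤ ∑ i ∈ s.erase x, c i * c i := Finset.sum_nonneg fun i _ => mul_self_nonneg _
  refine ⟨x, hx, Int.eq_one_or_neg_one_of_mul_eq_one (v := c x) (by omega), fun i hi hne => ?_⟩
  exact mul_self_eq_zero.1 ((Finset.sum_eq_zero_iff_of_nonneg fun i _ => mul_self_nonneg _).1
    (le_antisymm (by omega) h1) i (Finset.mem_erase.2 ⟨hne, hi⟩))

/-- An integer vector of norm two. -/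
theorem split_two {s : Finset ι} (h : ∑ i ∈ s, c i * c i = 2) :
    ∃ x ∈ s, ∃ y ∈ s, x ≠ y ∧ (c x = 1 ∨ c x = -1) ∧ (c y = 1 ∨ c y = -1) ∧
      ∀ i ∈ s, i ≠ x → i ≠ y → c i = 0 := by
  have hex : ∃ x ∈ s, c x ≠ 0 := by
    by_contra hc
    push Not at hc
    rw [Finset.sum_eq_zero fun i hi => by simp [hc i hi]] at h
    omega
  obtain ⟨x, hx, hcx⟩ := hex
  rw [← Finset.add_sum_erase _ _ hx] at h
  have h0 : 0 < c x * c x := mul_self_pos.2 hcx
  have h1 : 0 ≤ ∑ i ∈ s.erase x, c i * c i := Finset.sum_nonneg fun i _ => mul_self_nonneg _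
  have hcx1 : c x * c x = 1 := by
    have hlt : c x < 2 ∧ -2 < c x := by constructor <;> nlinarith
    obtain ⟨hl, hr⟩ := hlt
    have : c x = 1 ∨ c x = -1 := by omega
    rcases this with e | e <;> rw [e] <;> norm_num
  obtain ⟨y, hy, hcy, hrest⟩ := split_one c (s := s.erase x) (by omega)
  obtain ⟨hyx, hys⟩ := Finset.mem_erase.1 hy
  exact ⟨x, hx, y, hys, fun e => hyx e.symm, Int.eq_one_or_neg_one_of_mul_eq_one hcx1, hcy,
    fun i hi hix hiy => hrest i (Finset.mem_erase.2 ⟨hix, hi⟩) hiy⟩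

end Split

end CfsgLib.TIPairs
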