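import Cfsg.Agent.Lib.Derangements.TIPairs
import Cfsg.Agent.Lib.Char.FS

/-!
Exceptional characters over a subgroup with trivial intersection set, for real valued
functions, with the Frobenius-Schur indicator.
-/

set_option autoImplicit false
set_option linter.style.haveILetI false

namespace CfsgLib.TIReal

open scoped ComplexConjugate
open CfsgLib
open CfsgLib.TIPairs (IsTI invols pairs invSum deg tee one exists_deg deg_pos coe_deg coe_invSum
  deg_one tee_one gen_comp mem_invols sum_pairs_mul classInner_pairs)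

universe u v

variable {G : Type u} [Group G] [Fintype G] {M : Type v} [Group M] [Fintype M]
variable (H : Subgroup G) (e : M ≃* H) (A : G → Prop)

/-- Real valued generalized characters supported on the set. -/
structure Adm (F : M → ℂ) : Prop where
  gen : Cfsg.IsGeneralizedCharacter M F
  real : ∀ m, conj (F m) = F m
  supp : ∀ m, F m ≠ 0 → A (e m)

/-- The induced function. -/
noncomputable def ind (F : M → ℂ) : G → ℂ :=
  Cfsg.indFun H (fun h => F (e.symm h))

/-- The multiplicity of an irreducible character in the induced function. -/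
noncomputable def coef (F : M → ℂ) (χ : Cfsg.IrrCharacter G) : ℤ :=
  round (Cfsg.classInner (ind H e F) (χ : G → ℂ)).re

variable {H e A}

theorem gen_ind {F : M → ℂ} (hF : Adm H e A F) :
    Cfsg.IsGeneralizedCharacter G (ind H e F) :=
  Char.IsGeneralizedCharacter.indFun H (gen_comp hF.gen e.symm.toMonoidHom)

theorem coe_coef {F : M → ℂ} (hF : Adm H e A F) (χ : Cfsg.IrrCharacter G) :
    (coef H e F χ : ℂ) = Cfsg.classInner (ind H e F) (χ : G → ℂ) := by
  obtain ⟨-, h⟩ := Char.isGeneralizedCharacter_iff.mp (gen_ind hF)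
  obtain ⟨n, hn⟩ := h (χ : G → ℂ) χ.2
  rw [coef, hn, Complex.intCast_re, round_intCast]

theorem classInner_ind [Fintype H] {ψ : G → ℂ} (hψ : Cfsg.IsClassFunction G ψ) (F : M → ℂ) :
    Cfsg.classInner (ind H e F) ψ =
      Cfsg.classInner (F) (fun m => ψ (e m)) := by
  rw [ind, Char.classInner_indFun H _ hψ, ← Char.classInner_reindex e]
  simp [Function.comp_def]

theorem coe_coef_restrict {F : M → ℂ} (hF : Adm H e A F) (χ : Cfsg.IrrCharacter G) :
    (coef H e F χ : ℂ) =
      Cfsg.classInner (F) (fun m => (χ : G → ℂ) (e m)) := by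
  cases nonempty_fintype H
  rw [coe_coef hF, classInner_ind (Char.IsIrrCharacter.isClassFunction χ.2)]

theorem coef_one_mul {F : M → ℂ} (hF : Adm H e A F) :
    (coef H e F one : ℂ) * (Nat.card M : ℂ) = ∑ m, F m := by
  have h := coe_coef_restrict hF (one : Cfsg.IrrCharacter G)
  simp only [one, Cfsg.classInner, map_one, mul_one] at h
  simp only [one]
  rw [h]
  field_simp [Char.card_ne_zero (G := M)]

theorem ind_apply (hTI : IsTI H A) {F : M → ℂ} (hF : Adm H e A F) (m : M) (hm : A (e m)) :
    ind H e F (e m) = F m := by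
  classical
  cases nonempty_fintype H
  have hcf : Cfsg.IsClassFunction H (fun h : H => F (e.symm h)) :=
    Char.IsGeneralizedCharacter.isClassFunction (gen_comp hF.gen e.symm.toMonoidHom)
  have hterm : ∀ x : G, Cfsg.extendByZero H (fun h => F (e.symm h)) (x⁻¹ * (e m : G) * x) =
      if x ∈ H then F m else 0 := by
    intro x
    split_ifs with hx
    · have hmem : x⁻¹ * (e m : G) * x ∈ H := H.mul_mem (H.mul_mem (H.inv_mem hx) (e m).2) hx
      rw [Char.extendByZero_apply_mem H _ hmem]
      have h := hcf (e m) ⟨x⁻¹, H.inv_mem hx⟩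
      simp only [e.symm_apply_apply] at h
      rw [← h]
      congr 2
      exact Subtype.ext (by simp)
    · exact Char.extendByZero_apply_notMem H _ fun h => hx (hTI.mem_of_conj _ (e m).2 hm x h)
  rw [ind, Char.indFun_def, Finset.sum_congr rfl fun x _ => hterm x, ← Finset.sum_filter,
    Finset.sum_const, nsmul_eq_mul, ← Fintype.card_subtype, ← Nat.card_eq_fintype_card]
  exact inv_mul_cancel_left₀ Char.card_ne_zero _

theorem ind_one (hTI : IsTI H A) {F : M → ℂ} (hF : Adm H e A F) : ind H e F 1 = 0 := by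
  rw [ind, Char.indFun_one]
  have : F (e.symm 1) = 0 := by
    by_contra h
    have h' := hF.supp _ h
    simp only [map_one, OneMemClass.coe_one] at h'
    exact hTI.sq_ne_one 1 H.one_mem h' (one_mul 1)
  rw [this, mul_zero]

theorem ind_invol (hTI : IsTI H A) {F : M → ℂ} (hF : Adm H e A F) {x : G} (hx : x * x = 1) :
    ind H e F x = 0 := by
  rw [ind, Char.indFun_def, Finset.sum_eq_zero, mul_zero]
  intro y _
  by_cases h : y⁻¹ * x * y ∈ H
  · rw [Char.extendByZero_apply_mem H _ h]
    by_contra h0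
    have h' := hF.supp _ h0
    rw [e.apply_symm_apply] at h'
    refine hTI.sq_ne_one _ h h' ?_
    rw [show y⁻¹ * x * y * (y⁻¹ * x * y) = y⁻¹ * (x * x) * y by group, hx]
    group
  · rw [Char.extendByZero_apply_notMem H _ h]

theorem ind_eq_sum {F : M → ℂ} (hF : Adm H e A F) (g : G) :
    ind H e F g = ∑ χ : Cfsg.IrrCharacter G, (coef H e F χ : ℂ) * (χ : G → ℂ) g := by
  have := congrFun (Char.IsClassFunction.eq_sum_irr
    (Char.IsGeneralizedCharacter.isClassFunction (gen_ind hF))) g
  rw [this, Finset.sum_apply]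
  exact Finset.sum_congr rfl fun χ _ => by rw [Pi.smul_apply, smul_eq_mul, coe_coef hF]

/-- The values on the set. -/
theorem sum_coef_apply (hTI : IsTI H A) {F : M → ℂ} (hF : Adm H e A F) (m : M) (hm : A (e m)) :
    ∑ χ : Cfsg.IrrCharacter G, (coef H e F χ : ℂ) * (χ : G → ℂ) (e m) = F m := by
  rw [← ind_eq_sum hF, ind_apply hTI hF m hm]

/-- The isometry. -/
theorem sum_coef_mul (hTI : IsTI H A) {F F' : M → ℂ} (hF : Adm H e A F) (hF' : Adm H e A F') :
    (∑ χ : Cfsg.IrrCharacter G, (coef H e F χ : ℂ) * (coef H e F' χ : ℂ)) * (Nat.card M : ℂ) =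
      ∑ m, F m * F' m := by
  cases nonempty_fintype H
  have hcf := Char.IsGeneralizedCharacter.isClassFunction (gen_ind hF')
  have h1 : Cfsg.classInner (ind H e F) (ind H e F') =
      ∑ χ : Cfsg.IrrCharacter G, (coef H e F χ : ℂ) * (coef H e F' χ : ℂ) := by
    rw [Char.classInner_eq_sum_irr (Char.IsGeneralizedCharacter.isClassFunction (gen_ind hF))]
    refine Finset.sum_congr rfl fun χ _ => ?_
    rw [coe_coef hF, ← Char.classInner_conj_symm (ind H e F') (χ : G → ℂ), ← coe_coef hF',
      map_intCast]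
  have h2 : ∀ m, F m * conj (ind H e F' (e m)) = F m * F' m := by
    intro m
    by_cases hm : F m = 0
    · simp [hm]
    · rw [ind_apply hTI hF' m (hF.supp m hm), hF'.real]
  rw [← h1, classInner_ind hcf, Cfsg.classInner, Finset.sum_congr rfl fun m _ => h2 m]
  field_simp [Char.card_ne_zero (G := M)]

theorem sum_coef_deg (hTI : IsTI H A) {F : M → ℂ} (hF : Adm H e A F) :
    ∑ χ : Cfsg.IrrCharacter G, (coef H e F χ : ℝ) * deg χ = 0 := by
  apply Complex.ofReal_injective
  push_cast
  simp only [coe_deg]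
  rw [← ind_eq_sum hF, ind_one hTI hF]

theorem sum_coef_invSum (hTI : IsTI H A) {F : M → ℂ} (hF : Adm H e A F) :
    ∑ χ : Cfsg.IrrCharacter G, (coef H e F χ : ℂ) * invSum (χ : G → ℂ) = 0 := by
  simp only [invSum, Finset.mul_sum]
  rw [Finset.sum_comm, Finset.sum_eq_zero]
  intro x hx
  rw [← ind_eq_sum hF, ind_invol hTI hF (mem_invols.mp hx).1]

theorem sum_coef_tee (hTI : IsTI H A) {F : M → ℂ} (hF : Adm H e A F) :
    ∑ χ : Cfsg.IrrCharacter G, (coef H e F χ : ℝ) * tee χ = 0 := by
  apply Complex.ofReal_injective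
  have hd : ∑ χ : Cfsg.IrrCharacter G, (coef H e F χ : ℂ) * (deg χ : ℂ) = 0 := by
    exact_mod_cast sum_coef_deg hTI hF
  simp only [tee]
  push_cast
  simp only [coe_invSum, mul_sub, Finset.sum_sub_distrib]
  rw [sum_coef_invSum hTI hF, zero_sub, neg_eq_zero]
  calc _ = ((invols G).card : ℂ) *
        ∑ χ : Cfsg.IrrCharacter G, (coef H e F χ : ℂ) * (deg χ : ℂ) := by
        rw [Finset.mul_sum]; exact Finset.sum_congr rfl fun χ _ => by ring
    _ = 0 := by rw [hd, mul_zero]

/-- The counting identity. -/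
theorem sum_coef_tee_sq [DecidableEq M] (hTI : IsTI H A) {F : M → ℂ} (hF : Adm H e A F) :
    (Nat.card M : ℂ) *
        ((∑ χ : Cfsg.IrrCharacter G, (coef H e F χ : ℝ) * tee χ ^ 2 / deg χ : ℝ) : ℂ) =
      (Nat.card G : ℂ) * ∑ x ∈ Finset.univ.filter (fun x : M => x * x = 1 ∧ x ≠ 1),
        ∑ y ∈ Finset.univ.filter (fun y : M => y * y = 1 ∧ y ≠ 1), F (x * y) := by
  cases nonempty_fintype H
  have hI : invols M = Finset.univ.filter (fun x : M => x * x = 1 ∧ x ≠ 1) := by
    ext x; simp [mem_invols]
  rw [← hI]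
  -- values inside the subgroup
  have hloc : Cfsg.classInner pairs (ind H e F) =
      (Nat.card M : ℂ)⁻¹ * ∑ x ∈ invols M, ∑ y ∈ invols M, F (x * y) := by
    have hp : Cfsg.IsClassFunction G (pairs : G → ℂ) := by
      classical
      intro g h
      unfold pairs
      norm_cast
      have hcm : ∀ x : G, h⁻¹ * x * h ∈ invols G ↔ x ∈ invols G := by
        intro x
        simp only [mem_invols, ne_eq]
        rw [show h⁻¹ * x * h * (h⁻¹ * x * h) = h⁻¹ * (x * x) * h by group]
        constructor
        · rintro ⟨a, b⟩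
          refine ⟨?_, fun hx => b (by rw [hx]; group)⟩
          calc x * x = h * (h⁻¹ * (x * x) * h) * h⁻¹ := by group
            _ = 1 := by rw [a]; group
        · rintro ⟨a, b⟩
          refine ⟨by rw [a]; group, fun hx => b ?_⟩
          calc x = h * (h⁻¹ * x * h) * h⁻¹ := by group
            _ = 1 := by rw [hx]; group
      refine Finset.card_nbij' (fun x => h⁻¹ * x * h) (fun x => h * x * h⁻¹) ?_ ?_ ?_ ?_
      · intro x hx
        simp only [Finset.coe_filter, Set.mem_ofPred_eq] at hx ⊢
        refine ⟨(hcm x).mpr hx.1, ?_⟩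
        rw [show h⁻¹ * x * h * g = h⁻¹ * (x * (h * g * h⁻¹)) * h by group]
        exact (hcm _).mpr hx.2
      · intro x hx
        simp only [Finset.coe_filter, Set.mem_ofPred_eq] at hx ⊢
        refine ⟨(hcm _).mp (by simpa [mul_assoc] using hx.1), (hcm _).mp ?_⟩
        simpa [mul_assoc] using hx.2
      · intro x _
        simp [mul_assoc]
      · intro x _
        simp [mul_assoc]
    rw [← Char.classInner_conj_symm (ind H e F) pairs, classInner_ind hp,
      Char.classInner_conj_symm, Cfsg.classInner]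
    congr 1
    rw [← sum_pairs_mul (F)]
    refine Finset.sum_congr rfl fun m _ => ?_
    rw [hF.real]
    by_cases hm : F m = 0
    · simp [hm]
    · rw [TIPairs.pairs_eq hTI m (hF.supp m hm)]
  -- expansion in the group
  have hexp : Cfsg.classInner pairs (ind H e F) =
      ∑ χ : Cfsg.IrrCharacter G,
        (coef H e F χ : ℂ) * (invSum (χ : G → ℂ) ^ 2 / ((Nat.card G : ℂ) * (χ : G → ℂ) 1)) := by
    rw [Char.IsClassFunction.eq_sum_irr
      (Char.IsGeneralizedCharacter.isClassFunction (gen_ind hF)), Char.classInner_sum_right]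
    refine Finset.sum_congr rfl fun χ _ => ?_
    rw [Char.classInner_smul_right, classInner_pairs χ.2, ← coe_coef hF, map_intCast]
  have hG := Char.card_ne_zero (G := G)
  have hM := Char.card_ne_zero (G := M)
  -- drop the shift
  have hsq : ∀ χ : Cfsg.IrrCharacter G, (coef H e F χ : ℝ) * tee χ ^ 2 / deg χ =
      (coef H e F χ : ℝ) * (invSum (χ : G → ℂ)).re ^ 2 / deg χ
        - 2 * ((invols G).card : ℝ) * ((coef H e F χ : ℝ) * tee χ)
        - ((invols G).card : ℝ) ^ 2 * ((coef H e F χ : ℝ) * deg χ) := by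
    intro χ
    have := (deg_pos χ).ne'
    simp only [tee]
    field_simp
    ring
  rw [Finset.sum_congr rfl fun χ _ => hsq χ, Finset.sum_sub_distrib, Finset.sum_sub_distrib,
    ← Finset.mul_sum, ← Finset.mul_sum, sum_coef_tee hTI hF, sum_coef_deg hTI hF]
  push_cast
  simp only [coe_invSum, coe_deg, mul_zero, sub_zero]
  have key := hexp.symm.trans hloc
  calc (Nat.card M : ℂ) * ∑ χ : Cfsg.IrrCharacter G,
        (coef H e F χ : ℂ) * invSum (χ : G → ℂ) ^ 2 / (χ : G → ℂ) 1
      = (Nat.card M : ℂ) * ((Nat.card G : ℂ) * ∑ χ : Cfsg.IrrCharacter G,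
        (coef H e F χ : ℂ) * (invSum (χ : G → ℂ) ^ 2 / ((Nat.card G : ℂ) * (χ : G → ℂ) 1))) := by
        congr 1
        rw [Finset.mul_sum]
        refine Finset.sum_congr rfl fun χ _ => ?_
        field_simp
    _ = _ := by rw [key]; field_simp



/-- The Frobenius-Schur indicator. -/
noncomputable def nu (χ : G → ℂ) : ℂ := (Nat.card G : ℂ)⁻¹ * ∑ g, χ (g * g)

theorem nu_cases {χ : G → ℂ} (hχ : Cfsg.IsIrrCharacter G χ) :
    (nu χ = 0 ∧ (fun g => conj (χ g)) ≠ χ) ∨ nu χ = 1 ∨ nu χ = -1 := by
  obtain ⟨n, ρ, hρ, rfl⟩ := hχ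
  obtain ⟨h0 | h0 | h0, hiff⟩ := Char.frobeniusSchur ρ
  · refine Or.inl ⟨h0, fun h => ?_⟩
    obtain ⟨s, hs⟩ := hiff.mp h0
    exact hs (Complex.conj_eq_iff_im.mp (congrFun h s))
  · exact Or.inr (Or.inl h0)
  · exact Or.inr (Or.inr h0)

/-- The number of square roots. -/
noncomputable def rootCount (g : G) : ℂ :=
  haveI := Classical.decEq G
  ((Finset.univ.filter fun x : G => x * x = g).card : ℂ)

theorem classInner_rootCount (χ : G → ℂ) :
    Cfsg.classInner rootCount χ = conj (nu χ) := by
  classical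
  rw [nu, Cfsg.classInner, map_mul, map_inv₀, map_natCast, map_sum]
  congr 1
  simp only [rootCount, Finset.card_filter, Nat.cast_sum, Nat.cast_ite, Nat.cast_one,
    Nat.cast_zero, Finset.sum_mul, ite_mul, one_mul, zero_mul]
  rw [Finset.sum_comm]
  exact Finset.sum_congr rfl fun x _ => by simp

theorem rootCount_class : Cfsg.IsClassFunction G (rootCount : G → ℂ) := by
  classical
  intro g h
  unfold rootCount
  norm_cast
  refine Finset.card_nbij' (fun x => h⁻¹ * x * h) (fun x => h * x * h⁻¹) ?_ ?_ ?_ ?_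
  · intro x hx
    simp only [Finset.coe_filter, Set.mem_ofPred_eq, Finset.mem_univ, true_and] at hx ⊢
    rw [show h⁻¹ * x * h * (h⁻¹ * x * h) = h⁻¹ * (x * x) * h by group, hx]
    group
  · intro x hx
    simp only [Finset.coe_filter, Set.mem_ofPred_eq, Finset.mem_univ, true_and] at hx ⊢
    rw [show h * x * h⁻¹ * (h * x * h⁻¹) = h * (x * x) * h⁻¹ by group, hx]
  · intro x _
    simp [mul_assoc]
  · intro x _
    simp [mul_assoc]

/-- The indicators of the constituents. -/
theorem sum_coef_nu (hTI : IsTI H A) {F : M → ℂ} (hF : Adm H e A F) :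
    ∑ χ : Cfsg.IrrCharacter G, (coef H e F χ : ℂ) * nu (χ : G → ℂ) =
      (Nat.card M : ℂ)⁻¹ * ∑ m, F (m * m) := by
  classical
  cases nonempty_fintype H
  have h1 : Cfsg.classInner (ind H e F) rootCount =
      ∑ χ : Cfsg.IrrCharacter G, (coef H e F χ : ℂ) * nu (χ : G → ℂ) := by
    rw [Char.classInner_eq_sum_irr (Char.IsGeneralizedCharacter.isClassFunction (gen_ind hF))]
    refine Finset.sum_congr rfl fun χ _ => ?_
    rw [coe_coef hF, ← Char.classInner_conj_symm rootCount (χ : G → ℂ), classInner_rootCount,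
      Complex.conj_conj]
  have h2 : ∀ m : M, F m * conj (rootCount (e m : G)) =
      ∑ x : M, if x * x = m then F m else 0 := by
    intro m
    by_cases hm : F m = 0
    · simp [hm]
    rw [← Finset.sum_filter, Finset.sum_const, nsmul_eq_mul, mul_comm]
    congr 1
    unfold rootCount
    rw [map_natCast]
    norm_cast
    symm
    refine Finset.card_bij (fun x _ => (e x : G)) ?_ ?_ ?_
    · intro x hx
      simp only [Finset.mem_filter, Finset.mem_univ, true_and] at hx ⊢
      rw [← Subgroup.coe_mul, ← map_mul, hx]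
    · intro x _ y _ h
      exact e.injective (Subtype.ext h)
    · intro x hx
      simp only [Finset.mem_filter, Finset.mem_univ, true_and] at hx
      have hxH : x ∈ H := by
        refine hTI.mem_of_conj _ (e m).2 (hF.supp m hm) x ?_
        rw [← hx, show x⁻¹ * (x * x) * x = x * x by group, hx]
        exact (e m).2
      refine ⟨e.symm ⟨x, hxH⟩, ?_, by simp⟩
      simp only [Finset.mem_filter, Finset.mem_univ, true_and]
      apply e.injective
      rw [map_mul, e.apply_symm_apply]
      exact Subtype.ext hx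
  rw [← h1, classInner_ind rootCount_class, Cfsg.classInner,
    Finset.sum_congr rfl fun m _ => h2 m, Finset.sum_comm]
  simp

end CfsgLib.TIReal
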